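import Mathlib
import Cfsg.Agent.SF6.Ar

/-! Generated by tools/rec: subgroups of 2 x W(E6) -/

set_option autoImplicit false
set_option maxRecDepth 100000
set_option linter.unusedVariables false
set_option exponentiation.threshold 100000

namespace Cfsg.Agent.S38

open Cfsg.Agent.Spor Cfsg.Agent.Rec

universe u

open Cfsg.Agent.SF6

noncomputable def cX : List ℕ := [(nat_lit 0x1020408103), (nat_lit 0x10224dc182), (nat_lit 0x10a24fc182), (nat_lit 0x10a04bc182), (nat_lit 0x1020418182), (nat_lit 0x102048c102), (nat_lit 0x10a042a102), (nat_lit 0x10a04ae102), (nat_lit 0x10a246a102), (nat_lit 0x1120d08102), (nat_lit 0x1125d08102), (nat_lit 0x860408102), (nat_lit 0x850d08402), (nat_lit 0x1c20d08402), (nat_lit 0x1820402108), (nat_lit 0x10224dc183), (nat_lit 0x860218184)]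

noncomputable def cY : List ℕ := [(nat_lit 0x1820408102), (nat_lit 0x1920d08102), (nat_lit 0x1020408103), (nat_lit 0x10224dc182), (nat_lit 0x10a24fc182), (nat_lit 0x10a04bc182), (nat_lit 0x1020418182), (nat_lit 0x102048c102), (nat_lit 0x10a042a102), (nat_lit 0x10a04ae102), (nat_lit 0x10a246a102), (nat_lit 0x1120d08102), (nat_lit 0x1125d08102), (nat_lit 0x860408102), (nat_lit 0x850d08402), (nat_lit 0x1c20d08402), (nat_lit 0x1820402108), (nat_lit 0x10224dc183), (nat_lit 0x860218184)]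

noncomputable def cu : ℕ := (nat_lit 0x1820408102)

noncomputable def cv : ℕ := (nat_lit 0x1920d08102)

noncomputable def A_t : ST :=
(.node (nat_lit 0x10a042a102) (.node (nat_lit 0x102244a102) (.node (nat_lit 0x102048c102) (.node (nat_lit 0x1020418182) (.leaf (nat_lit 0x1020408102) (nat_lit 0))
 (.leaf (nat_lit 0x1020418182) (nat_lit 259))
) (.node (nat_lit 0x102049e182) (.leaf (nat_lit 0x102048c102) (nat_lit 1027))
 (.leaf (nat_lit 0x102049e182) (nat_lit 770))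
)) (.node (nat_lit 0x10224ce102) (.node (nat_lit 0x102245a182) (.leaf (nat_lit 0x102244a102) (nat_lit 514))
 (.leaf (nat_lit 0x102245a182) (nat_lit 771))
) (.node (nat_lit 0x10224dc182) (.leaf (nat_lit 0x10224ce102) (nat_lit 515))
 (.leaf (nat_lit 0x10224dc182) (nat_lit 256))
))) (.node (nat_lit 0x10a246a102) (.node (nat_lit 0x10a04ae102) (.node (nat_lit 0x10a043a182) (.leaf (nat_lit 0x10a042a102) (nat_lit 513))
 (.leaf (nat_lit 0x10a043a182) (nat_lit 771))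
) (.node (nat_lit 0x10a04bc182) (.leaf (nat_lit 0x10a04ae102) (nat_lit 515))
 (.leaf (nat_lit 0x10a04bc182) (nat_lit 258))
)) (.node (nat_lit 0x10a24ee102) (.node (nat_lit 0x10a247a182) (.leaf (nat_lit 0x10a246a102) (nat_lit 514))
 (.leaf (nat_lit 0x10a247a182) (nat_lit 771))
) (.node (nat_lit 0x10a24fc182) (.leaf (nat_lit 0x10a24ee102) (nat_lit 515))
 (.leaf (nat_lit 0x10a24fc182) (nat_lit 257))
))))

theorem A_ok : genOK A2 [(nat_lit 0x10224dc182), (nat_lit 0x10a24fc182), (nat_lit 0x10a04bc182), (nat_lit 0x1020418182)] A_t (nat_lit 16) = true := by decide +kernel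

noncomputable def A0_t : ST :=
(.node (nat_lit 0x10a042a102) (.node (nat_lit 0x102244a102) (.node (nat_lit 0x102048c102) (.leaf (nat_lit 0x1020408102) (nat_lit 0))
 (.leaf (nat_lit 0x102048c102) (nat_lit 513))
) (.node (nat_lit 0x10224ce102) (.leaf (nat_lit 0x102244a102) (nat_lit 514))
 (.leaf (nat_lit 0x10224ce102) (nat_lit 514))
)) (.node (nat_lit 0x10a246a102) (.node (nat_lit 0x10a04ae102) (.leaf (nat_lit 0x10a042a102) (nat_lit 256))
 (.leaf (nat_lit 0x10a04ae102) (nat_lit 257))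
) (.node (nat_lit 0x10a24ee102) (.leaf (nat_lit 0x10a246a102) (nat_lit 258))
 (.leaf (nat_lit 0x10a24ee102) (nat_lit 770))
)))

theorem A0_ok : genOK A2 [(nat_lit 0x10a042a102), (nat_lit 0x10a04ae102), (nat_lit 0x10a246a102)] A0_t (nat_lit 8) = true := by decide +kernel

noncomputable def B_t : ST :=
(.node (nat_lit 0x10a042a102) (.node (nat_lit 0x102244a102) (.node (nat_lit 0x102048c102) (.node (nat_lit 0x1020418182) (.node (nat_lit 0x1020408103) (.leaf (nat_lit 0x1020408102) (nat_lit 0))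
 (.leaf (nat_lit 0x1020408103) (nat_lit 256))
) (.node (nat_lit 0x1020418183) (.leaf (nat_lit 0x1020418182) (nat_lit 260))
 (.leaf (nat_lit 0x1020418183) (nat_lit 516))
)) (.node (nat_lit 0x102049e182) (.node (nat_lit 0x102048c103) (.leaf (nat_lit 0x102048c102) (nat_lit 1028))
 (.leaf (nat_lit 0x102048c103) (nat_lit 1284))
) (.node (nat_lit 0x102049e183) (.leaf (nat_lit 0x102049e182) (nat_lit 771))
 (.leaf (nat_lit 0x102049e183) (nat_lit 1027))
))) (.node (nat_lit 0x10224ce102) (.node (nat_lit 0x102245a182) (.node (nat_lit 0x102244a103) (.leaf (nat_lit 0x102244a102) (nat_lit 515))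
 (.leaf (nat_lit 0x102244a103) (nat_lit 771))
) (.node (nat_lit 0x102245a183) (.leaf (nat_lit 0x102245a182) (nat_lit 772))
 (.leaf (nat_lit 0x102245a183) (nat_lit 1028))
)) (.node (nat_lit 0x10224dc182) (.node (nat_lit 0x10224ce103) (.leaf (nat_lit 0x10224ce102) (nat_lit 516))
 (.leaf (nat_lit 0x10224ce103) (nat_lit 772))
) (.node (nat_lit 0x10224dc183) (.leaf (nat_lit 0x10224dc182) (nat_lit 257))
 (.leaf (nat_lit 0x10224dc183) (nat_lit 513))
)))) (.node (nat_lit 0x10a246a102) (.node (nat_lit 0x10a04ae102) (.node (nat_lit 0x10a043a182) (.node (nat_lit 0x10a042a103) (.leaf (nat_lit 0x10a042a102) (nat_lit 514))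
 (.leaf (nat_lit 0x10a042a103) (nat_lit 770))
) (.node (nat_lit 0x10a043a183) (.leaf (nat_lit 0x10a043a182) (nat_lit 772))
 (.leaf (nat_lit 0x10a043a183) (nat_lit 1028))
)) (.node (nat_lit 0x10a04bc182) (.node (nat_lit 0x10a04ae103) (.leaf (nat_lit 0x10a04ae102) (nat_lit 516))
 (.leaf (nat_lit 0x10a04ae103) (nat_lit 772))
) (.node (nat_lit 0x10a04bc183) (.leaf (nat_lit 0x10a04bc182) (nat_lit 259))
 (.leaf (nat_lit 0x10a04bc183) (nat_lit 515))
))) (.node (nat_lit 0x10a24ee102) (.node (nat_lit 0x10a247a182) (.node (nat_lit 0x10a246a103) (.leaf (nat_lit 0x10a246a102) (nat_lit 515))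
 (.leaf (nat_lit 0x10a246a103) (nat_lit 771))
) (.node (nat_lit 0x10a247a183) (.leaf (nat_lit 0x10a247a182) (nat_lit 772))
 (.leaf (nat_lit 0x10a247a183) (nat_lit 1028))
)) (.node (nat_lit 0x10a24fc182) (.node (nat_lit 0x10a24ee103) (.leaf (nat_lit 0x10a24ee102) (nat_lit 516))
 (.leaf (nat_lit 0x10a24ee103) (nat_lit 772))
) (.node (nat_lit 0x10a24fc183) (.leaf (nat_lit 0x10a24fc182) (nat_lit 258))
 (.leaf (nat_lit 0x10a24fc183) (nat_lit 514))
)))))

theorem B_ok : genOK A2 [(nat_lit 0x1020408103), (nat_lit 0x10224dc182), (nat_lit 0x10a24fc182), (nat_lit 0x10a04bc182), (nat_lit 0x1020418182)] B_t (nat_lit 32) = true := by decide +kernel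

noncomputable def ZT_t : ST :=
(.node (nat_lit 0x102048c102) (.node (nat_lit 0x1020408103) (.leaf (nat_lit 0x1020408102) (nat_lit 0))
 (.leaf (nat_lit 0x1020408103) (nat_lit 256))
) (.node (nat_lit 0x102048c103) (.leaf (nat_lit 0x102048c102) (nat_lit 257))
 (.leaf (nat_lit 0x102048c103) (nat_lit 513))
))

theorem ZT_ok : genOK A2 [(nat_lit 0x1020408103), (nat_lit 0x102048c102)] ZT_t (nat_lit 4) = true := by decide +kernel

noncomputable def J1_t : ST :=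
(.node (nat_lit 0x10a042a102) (.node (nat_lit 0x102048c102) (.leaf (nat_lit 0x1020408102) (nat_lit 0))
 (.leaf (nat_lit 0x102048c102) (nat_lit 513))
) (.node (nat_lit 0x10a04ae102) (.leaf (nat_lit 0x10a042a102) (nat_lit 256))
 (.leaf (nat_lit 0x10a04ae102) (nat_lit 257))
))

theorem J1_ok : genOK A2 [(nat_lit 0x10a042a102), (nat_lit 0x10a04ae102)] J1_t (nat_lit 4) = true := by decide +kernel

noncomputable def ZJ_t : ST :=
(.node (nat_lit 0x10a042a102) (.node (nat_lit 0x102048c102) (.node (nat_lit 0x1020408103) (.leaf (nat_lit 0x1020408102) (nat_lit 0))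
 (.leaf (nat_lit 0x1020408103) (nat_lit 256))
) (.node (nat_lit 0x102048c103) (.leaf (nat_lit 0x102048c102) (nat_lit 514))
 (.leaf (nat_lit 0x102048c103) (nat_lit 770))
)) (.node (nat_lit 0x10a04ae102) (.node (nat_lit 0x10a042a103) (.leaf (nat_lit 0x10a042a102) (nat_lit 257))
 (.leaf (nat_lit 0x10a042a103) (nat_lit 513))
) (.node (nat_lit 0x10a04ae103) (.leaf (nat_lit 0x10a04ae102) (nat_lit 258))
 (.leaf (nat_lit 0x10a04ae103) (nat_lit 514))
)))

theorem ZJ_ok : genOK A2 [(nat_lit 0x1020408103), (nat_lit 0x10a042a102), (nat_lit 0x10a04ae102)] ZJ_t (nat_lit 8) = true := by decide +kernel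

noncomputable def Q_t : ST :=
(.node (nat_lit 0x1120d08102) (.node (nat_lit 0x10a042a102) (.node (nat_lit 0x1025508102) (.node (nat_lit 0x102244a102) (.node (nat_lit 0x102048c102) (.leaf (nat_lit 0x1020408102) (nat_lit 0))
 (.leaf (nat_lit 0x102048c102) (nat_lit 1027))
) (.node (nat_lit 0x10224ce102) (.leaf (nat_lit 0x102244a102) (nat_lit 513))
 (.leaf (nat_lit 0x10224ce102) (nat_lit 1026))
)) (.node (nat_lit 0x102754a102) (.node (nat_lit 0x102558c102) (.leaf (nat_lit 0x1025508102) (nat_lit 515))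
 (.leaf (nat_lit 0x102558c102) (nat_lit 1024))
) (.node (nat_lit 0x10275ce102) (.leaf (nat_lit 0x102754a102) (nat_lit 1027))
 (.leaf (nat_lit 0x10275ce102) (nat_lit 1027))
))) (.node (nat_lit 0x10a552e102) (.node (nat_lit 0x10a246a102) (.node (nat_lit 0x10a04ae102) (.leaf (nat_lit 0x10a042a102) (nat_lit 256))
 (.leaf (nat_lit 0x10a04ae102) (nat_lit 771))
) (.node (nat_lit 0x10a24ee102) (.leaf (nat_lit 0x10a246a102) (nat_lit 257))
 (.leaf (nat_lit 0x10a24ee102) (nat_lit 770))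
)) (.node (nat_lit 0x10a756e102) (.node (nat_lit 0x10a55aa102) (.leaf (nat_lit 0x10a552e102) (nat_lit 768))
 (.leaf (nat_lit 0x10a55aa102) (nat_lit 771))
) (.node (nat_lit 0x10a75ea102) (.leaf (nat_lit 0x10a756e102) (nat_lit 771))
 (.leaf (nat_lit 0x10a75ea102) (nat_lit 771))
)))) (.node (nat_lit 0x11a0d2a102) (.node (nat_lit 0x1125d08102) (.node (nat_lit 0x1122d4e102) (.node (nat_lit 0x1120d8c102) (.leaf (nat_lit 0x1120d08102) (nat_lit 258))
 (.leaf (nat_lit 0x1120d8c102) (nat_lit 769))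
) (.node (nat_lit 0x1122dca102) (.leaf (nat_lit 0x1122d4e102) (nat_lit 769))
 (.leaf (nat_lit 0x1122dca102) (nat_lit 770))
)) (.node (nat_lit 0x1127d4e102) (.node (nat_lit 0x1125d8c102) (.leaf (nat_lit 0x1125d08102) (nat_lit 259))
 (.leaf (nat_lit 0x1125d8c102) (nat_lit 768))
) (.node (nat_lit 0x1127dca102) (.leaf (nat_lit 0x1127d4e102) (nat_lit 768))
 (.leaf (nat_lit 0x1127dca102) (nat_lit 771))
))) (.node (nat_lit 0x11a5d2e102) (.node (nat_lit 0x11a2d6e102) (.node (nat_lit 0x11a0dae102) (.leaf (nat_lit 0x11a0d2a102) (nat_lit 514))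
 (.leaf (nat_lit 0x11a0dae102) (nat_lit 1025))
) (.node (nat_lit 0x11a2dea102) (.leaf (nat_lit 0x11a2d6e102) (nat_lit 513))
 (.leaf (nat_lit 0x11a2dea102) (nat_lit 514))
)) (.node (nat_lit 0x11a7d6a102) (.node (nat_lit 0x11a5daa102) (.leaf (nat_lit 0x11a5d2e102) (nat_lit 512))
 (.leaf (nat_lit 0x11a5daa102) (nat_lit 515))
) (.node (nat_lit 0x11a7dee102) (.leaf (nat_lit 0x11a7d6a102) (nat_lit 515))
 (.leaf (nat_lit 0x11a7dee102) (nat_lit 1024))
)))))

theorem Q_ok : genOK A2 [(nat_lit 0x10a042a102), (nat_lit 0x10a246a102), (nat_lit 0x1120d08102), (nat_lit 0x1125d08102)] Q_t (nat_lit 32) = true := by decide +kernel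

noncomputable def U_t : ST :=
(.node (nat_lit 0x1120d08102) (.node (nat_lit 0x10a042a102) (.node (nat_lit 0x1025508102) (.node (nat_lit 0x102244a102) (.node (nat_lit 0x102048c102) (.node (nat_lit 0x1020418182) (.leaf (nat_lit 0x1020408102) (nat_lit 0))
 (.leaf (nat_lit 0x1020418182) (nat_lit 1282))
) (.node (nat_lit 0x102049e182) (.leaf (nat_lit 0x102048c102) (nat_lit 2050))
 (.leaf (nat_lit 0x102049e182) (nat_lit 1794))
)) (.node (nat_lit 0x10224ce102) (.node (nat_lit 0x102245a182) (.leaf (nat_lit 0x102244a102) (nat_lit 1538))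
 (.leaf (nat_lit 0x102245a182) (nat_lit 1794))
) (.node (nat_lit 0x10224dc182) (.leaf (nat_lit 0x10224ce102) (nat_lit 1538))
 (.leaf (nat_lit 0x10224dc182) (nat_lit 256))
))) (.node (nat_lit 0x102751e182) (.node (nat_lit 0x102558c102) (.node (nat_lit 0x102555c182) (.leaf (nat_lit 0x1025508102) (nat_lit 514))
 (.leaf (nat_lit 0x102555c182) (nat_lit 770))
) (.node (nat_lit 0x10255da182) (.leaf (nat_lit 0x102558c102) (nat_lit 2048))
 (.leaf (nat_lit 0x10255da182) (nat_lit 1792))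
)) (.node (nat_lit 0x1027598182) (.node (nat_lit 0x102754a102) (.leaf (nat_lit 0x102751e182) (nat_lit 1793))
 (.leaf (nat_lit 0x102754a102) (nat_lit 1537))
) (.node (nat_lit 0x10275ce102) (.leaf (nat_lit 0x1027598182) (nat_lit 768))
 (.leaf (nat_lit 0x10275ce102) (nat_lit 1024))
)))) (.node (nat_lit 0x10a552e102) (.node (nat_lit 0x10a246a102) (.node (nat_lit 0x10a04ae102) (.node (nat_lit 0x10a043a182) (.leaf (nat_lit 0x10a042a102) (nat_lit 1025))
 (.leaf (nat_lit 0x10a043a182) (nat_lit 1794))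
) (.node (nat_lit 0x10a04bc182) (.leaf (nat_lit 0x10a04ae102) (nat_lit 1538))
 (.leaf (nat_lit 0x10a04bc182) (nat_lit 770))
)) (.node (nat_lit 0x10a24ee102) (.node (nat_lit 0x10a247a182) (.leaf (nat_lit 0x10a246a102) (nat_lit 1026))
 (.leaf (nat_lit 0x10a247a182) (nat_lit 1794))
) (.node (nat_lit 0x10a24fc182) (.leaf (nat_lit 0x10a24ee102) (nat_lit 1538))
 (.leaf (nat_lit 0x10a24fc182) (nat_lit 769))
))) (.node (nat_lit 0x10a753a182) (.node (nat_lit 0x10a55aa102) (.node (nat_lit 0x10a557a182) (.leaf (nat_lit 0x10a552e102) (nat_lit 1024))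
 (.leaf (nat_lit 0x10a557a182) (nat_lit 1280))
) (.node (nat_lit 0x10a55fc182) (.leaf (nat_lit 0x10a55aa102) (nat_lit 1026))
 (.leaf (nat_lit 0x10a55fc182) (nat_lit 770))
)) (.node (nat_lit 0x10a75bc182) (.node (nat_lit 0x10a756e102) (.leaf (nat_lit 0x10a753a182) (nat_lit 1280))
 (.leaf (nat_lit 0x10a756e102) (nat_lit 1024))
) (.node (nat_lit 0x10a75ea102) (.leaf (nat_lit 0x10a75bc182) (nat_lit 769))
 (.leaf (nat_lit 0x10a75ea102) (nat_lit 1025))
))))) (.node (nat_lit 0x11a0d1e182) (.node (nat_lit 0x1125d08102) (.node (nat_lit 0x1122d4e102) (.node (nat_lit 0x1120d8c102) (.node (nat_lit 0x1120d3c182) (.leaf (nat_lit 0x1120d08102) (nat_lit 257))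
 (.leaf (nat_lit 0x1120d3c182) (nat_lit 1026))
) (.node (nat_lit 0x1120dba182) (.leaf (nat_lit 0x1120d8c102) (nat_lit 1792))
 (.leaf (nat_lit 0x1120dba182) (nat_lit 1538))
)) (.node (nat_lit 0x1122dca102) (.node (nat_lit 0x1122d7a182) (.leaf (nat_lit 0x1122d4e102) (nat_lit 1282))
 (.leaf (nat_lit 0x1122d7a182) (nat_lit 1538))
) (.node (nat_lit 0x1122dfc182) (.leaf (nat_lit 0x1122dca102) (nat_lit 1280))
 (.leaf (nat_lit 0x1122dfc182) (nat_lit 512))
))) (.node (nat_lit 0x1127d3a182) (.node (nat_lit 0x1125d8c102) (.node (nat_lit 0x1125d7c182) (.leaf (nat_lit 0x1125d08102) (nat_lit 258))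
 (.leaf (nat_lit 0x1125d7c182) (nat_lit 1026))
) (.node (nat_lit 0x1125dfa182) (.leaf (nat_lit 0x1125d8c102) (nat_lit 1792))
 (.leaf (nat_lit 0x1125dfa182) (nat_lit 1536))
)) (.node (nat_lit 0x1127dbc182) (.node (nat_lit 0x1127d4e102) (.leaf (nat_lit 0x1127d3a182) (nat_lit 1537))
 (.leaf (nat_lit 0x1127d4e102) (nat_lit 1281))
) (.node (nat_lit 0x1127dca102) (.leaf (nat_lit 0x1127dbc182) (nat_lit 512))
 (.leaf (nat_lit 0x1127dca102) (nat_lit 1280))
)))) (.node (nat_lit 0x11a5d2e102) (.node (nat_lit 0x11a2d5a182) (.node (nat_lit 0x11a0d98182) (.node (nat_lit 0x11a0d2a102) (.leaf (nat_lit 0x11a0d1e182) (nat_lit 1536))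
 (.leaf (nat_lit 0x11a0d2a102) (nat_lit 768))
) (.node (nat_lit 0x11a0dae102) (.leaf (nat_lit 0x11a0d98182) (nat_lit 1026))
 (.leaf (nat_lit 0x11a0dae102) (nat_lit 1282))
)) (.node (nat_lit 0x11a2ddc182) (.node (nat_lit 0x11a2d6e102) (.leaf (nat_lit 0x11a2d5a182) (nat_lit 1536))
 (.leaf (nat_lit 0x11a2d6e102) (nat_lit 1282))
) (.node (nat_lit 0x11a2dea102) (.leaf (nat_lit 0x11a2ddc182) (nat_lit 513))
 (.leaf (nat_lit 0x11a2dea102) (nat_lit 1282))
))) (.node (nat_lit 0x11a7d1e182) (.node (nat_lit 0x11a5daa102) (.node (nat_lit 0x11a5d5a182) (.leaf (nat_lit 0x11a5d2e102) (nat_lit 1280))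
 (.leaf (nat_lit 0x11a5d5a182) (nat_lit 1536))
) (.node (nat_lit 0x11a5ddc182) (.leaf (nat_lit 0x11a5daa102) (nat_lit 1282))
 (.leaf (nat_lit 0x11a5ddc182) (nat_lit 514))
)) (.node (nat_lit 0x11a7d98182) (.node (nat_lit 0x11a7d6a102) (.leaf (nat_lit 0x11a7d1e182) (nat_lit 1536))
 (.leaf (nat_lit 0x11a7d6a102) (nat_lit 768))
) (.node (nat_lit 0x11a7dee102) (.leaf (nat_lit 0x11a7d98182) (nat_lit 1025))
 (.leaf (nat_lit 0x11a7dee102) (nat_lit 1281))
))))))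

theorem U_ok : genOK A2 [(nat_lit 0x10224dc182), (nat_lit 0x1120d08102), (nat_lit 0x1125d08102)] U_t (nat_lit 64) = true := by decide +kernel

noncomputable def TU_t : ST :=
(.node (nat_lit 0x1120d08102) (.node (nat_lit 0x10a042a102) (.node (nat_lit 0x1025508102) (.node (nat_lit 0x102244a102) (.node (nat_lit 0x102048c102) (.node (nat_lit 0x1020418182) (.node (nat_lit 0x1020408103) (.leaf (nat_lit 0x1020408102) (nat_lit 0))
 (.leaf (nat_lit 0x1020408103) (nat_lit 256))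
) (.node (nat_lit 0x1020418183) (.leaf (nat_lit 0x1020418182) (nat_lit 1283))
 (.leaf (nat_lit 0x1020418183) (nat_lit 1539))
)) (.node (nat_lit 0x102049e182) (.node (nat_lit 0x102048c103) (.leaf (nat_lit 0x102048c102) (nat_lit 2051))
 (.leaf (nat_lit 0x102048c103) (nat_lit 2307))
) (.node (nat_lit 0x102049e183) (.leaf (nat_lit 0x102049e182) (nat_lit 1795))
 (.leaf (nat_lit 0x102049e183) (nat_lit 2051))
))) (.node (nat_lit 0x10224ce102) (.node (nat_lit 0x102245a182) (.node (nat_lit 0x102244a103) (.leaf (nat_lit 0x102244a102) (nat_lit 1539))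
 (.leaf (nat_lit 0x102244a103) (nat_lit 1795))
) (.node (nat_lit 0x102245a183) (.leaf (nat_lit 0x102245a182) (nat_lit 1795))
 (.leaf (nat_lit 0x102245a183) (nat_lit 2051))
)) (.node (nat_lit 0x10224dc182) (.node (nat_lit 0x10224ce103) (.leaf (nat_lit 0x10224ce102) (nat_lit 1539))
 (.leaf (nat_lit 0x10224ce103) (nat_lit 1795))
) (.node (nat_lit 0x10224dc183) (.leaf (nat_lit 0x10224dc182) (nat_lit 257))
 (.leaf (nat_lit 0x10224dc183) (nat_lit 513))
)))) (.node (nat_lit 0x102751e182) (.node (nat_lit 0x102558c102) (.node (nat_lit 0x102555c182) (.node (nat_lit 0x1025508103) (.leaf (nat_lit 0x1025508102) (nat_lit 515))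
 (.leaf (nat_lit 0x1025508103) (nat_lit 771))
) (.node (nat_lit 0x102555c183) (.leaf (nat_lit 0x102555c182) (nat_lit 771))
 (.leaf (nat_lit 0x102555c183) (nat_lit 1027))
)) (.node (nat_lit 0x10255da182) (.node (nat_lit 0x102558c103) (.leaf (nat_lit 0x102558c102) (nat_lit 2049))
 (.leaf (nat_lit 0x102558c103) (nat_lit 2305))
) (.node (nat_lit 0x10255da183) (.leaf (nat_lit 0x10255da182) (nat_lit 1793))
 (.leaf (nat_lit 0x10255da183) (nat_lit 2049))
))) (.node (nat_lit 0x1027598182) (.node (nat_lit 0x102754a102) (.node (nat_lit 0x102751e183) (.leaf (nat_lit 0x102751e182) (nat_lit 1794))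
 (.leaf (nat_lit 0x102751e183) (nat_lit 2050))
) (.node (nat_lit 0x102754a103) (.leaf (nat_lit 0x102754a102) (nat_lit 1538))
 (.leaf (nat_lit 0x102754a103) (nat_lit 1794))
)) (.node (nat_lit 0x10275ce102) (.node (nat_lit 0x1027598183) (.leaf (nat_lit 0x1027598182) (nat_lit 769))
 (.leaf (nat_lit 0x1027598183) (nat_lit 1025))
) (.node (nat_lit 0x10275ce103) (.leaf (nat_lit 0x10275ce102) (nat_lit 1025))
 (.leaf (nat_lit 0x10275ce103) (nat_lit 1281))
))))) (.node (nat_lit 0x10a552e102) (.node (nat_lit 0x10a246a102) (.node (nat_lit 0x10a04ae102) (.node (nat_lit 0x10a043a182) (.node (nat_lit 0x10a042a103) (.leaf (nat_lit 0x10a042a102) (nat_lit 1026))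
 (.leaf (nat_lit 0x10a042a103) (nat_lit 1282))
) (.node (nat_lit 0x10a043a183) (.leaf (nat_lit 0x10a043a182) (nat_lit 1795))
 (.leaf (nat_lit 0x10a043a183) (nat_lit 2051))
)) (.node (nat_lit 0x10a04bc182) (.node (nat_lit 0x10a04ae103) (.leaf (nat_lit 0x10a04ae102) (nat_lit 1539))
 (.leaf (nat_lit 0x10a04ae103) (nat_lit 1795))
) (.node (nat_lit 0x10a04bc183) (.leaf (nat_lit 0x10a04bc182) (nat_lit 771))
 (.leaf (nat_lit 0x10a04bc183) (nat_lit 1027))
))) (.node (nat_lit 0x10a24ee102) (.node (nat_lit 0x10a247a182) (.node (nat_lit 0x10a246a103) (.leaf (nat_lit 0x10a246a102) (nat_lit 1027))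
 (.leaf (nat_lit 0x10a246a103) (nat_lit 1283))
) (.node (nat_lit 0x10a247a183) (.leaf (nat_lit 0x10a247a182) (nat_lit 1795))
 (.leaf (nat_lit 0x10a247a183) (nat_lit 2051))
)) (.node (nat_lit 0x10a24fc182) (.node (nat_lit 0x10a24ee103) (.leaf (nat_lit 0x10a24ee102) (nat_lit 1539))
 (.leaf (nat_lit 0x10a24ee103) (nat_lit 1795))
) (.node (nat_lit 0x10a24fc183) (.leaf (nat_lit 0x10a24fc182) (nat_lit 770))
 (.leaf (nat_lit 0x10a24fc183) (nat_lit 1026))
)))) (.node (nat_lit 0x10a753a182) (.node (nat_lit 0x10a55aa102) (.node (nat_lit 0x10a557a182) (.node (nat_lit 0x10a552e103) (.leaf (nat_lit 0x10a552e102) (nat_lit 1025))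
 (.leaf (nat_lit 0x10a552e103) (nat_lit 1281))
) (.node (nat_lit 0x10a557a183) (.leaf (nat_lit 0x10a557a182) (nat_lit 1281))
 (.leaf (nat_lit 0x10a557a183) (nat_lit 1537))
)) (.node (nat_lit 0x10a55fc182) (.node (nat_lit 0x10a55aa103) (.leaf (nat_lit 0x10a55aa102) (nat_lit 1027))
 (.leaf (nat_lit 0x10a55aa103) (nat_lit 1283))
) (.node (nat_lit 0x10a55fc183) (.leaf (nat_lit 0x10a55fc182) (nat_lit 771))
 (.leaf (nat_lit 0x10a55fc183) (nat_lit 1027))
))) (.node (nat_lit 0x10a75bc182) (.node (nat_lit 0x10a756e102) (.node (nat_lit 0x10a753a183) (.leaf (nat_lit 0x10a753a182) (nat_lit 1281))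
 (.leaf (nat_lit 0x10a753a183) (nat_lit 1537))
) (.node (nat_lit 0x10a756e103) (.leaf (nat_lit 0x10a756e102) (nat_lit 1025))
 (.leaf (nat_lit 0x10a756e103) (nat_lit 1281))
)) (.node (nat_lit 0x10a75ea102) (.node (nat_lit 0x10a75bc183) (.leaf (nat_lit 0x10a75bc182) (nat_lit 770))
 (.leaf (nat_lit 0x10a75bc183) (nat_lit 1026))
) (.node (nat_lit 0x10a75ea103) (.leaf (nat_lit 0x10a75ea102) (nat_lit 1026))
 (.leaf (nat_lit 0x10a75ea103) (nat_lit 1282))
)))))) (.node (nat_lit 0x11a0d1e182) (.node (nat_lit 0x1125d08102) (.node (nat_lit 0x1122d4e102) (.node (nat_lit 0x1120d8c102) (.node (nat_lit 0x1120d3c182) (.node (nat_lit 0x1120d08103) (.leaf (nat_lit 0x1120d08102) (nat_lit 258))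
 (.leaf (nat_lit 0x1120d08103) (nat_lit 514))
) (.node (nat_lit 0x1120d3c183) (.leaf (nat_lit 0x1120d3c182) (nat_lit 1027))
 (.leaf (nat_lit 0x1120d3c183) (nat_lit 1283))
)) (.node (nat_lit 0x1120dba182) (.node (nat_lit 0x1120d8c103) (.leaf (nat_lit 0x1120d8c102) (nat_lit 1793))
 (.leaf (nat_lit 0x1120d8c103) (nat_lit 2049))
) (.node (nat_lit 0x1120dba183) (.leaf (nat_lit 0x1120dba182) (nat_lit 1539))
 (.leaf (nat_lit 0x1120dba183) (nat_lit 1795))
))) (.node (nat_lit 0x1122dca102) (.node (nat_lit 0x1122d7a182) (.node (nat_lit 0x1122d4e103) (.leaf (nat_lit 0x1122d4e102) (nat_lit 1283))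
 (.leaf (nat_lit 0x1122d4e103) (nat_lit 1539))
) (.node (nat_lit 0x1122d7a183) (.leaf (nat_lit 0x1122d7a182) (nat_lit 1539))
 (.leaf (nat_lit 0x1122d7a183) (nat_lit 1795))
)) (.node (nat_lit 0x1122dfc182) (.node (nat_lit 0x1122dca103) (.leaf (nat_lit 0x1122dca102) (nat_lit 1281))
 (.leaf (nat_lit 0x1122dca103) (nat_lit 1537))
) (.node (nat_lit 0x1122dfc183) (.leaf (nat_lit 0x1122dfc182) (nat_lit 513))
 (.leaf (nat_lit 0x1122dfc183) (nat_lit 769))
)))) (.node (nat_lit 0x1127d3a182) (.node (nat_lit 0x1125d8c102) (.node (nat_lit 0x1125d7c182) (.node (nat_lit 0x1125d08103) (.leaf (nat_lit 0x1125d08102) (nat_lit 259))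
 (.leaf (nat_lit 0x1125d08103) (nat_lit 515))
) (.node (nat_lit 0x1125d7c183) (.leaf (nat_lit 0x1125d7c182) (nat_lit 1027))
 (.leaf (nat_lit 0x1125d7c183) (nat_lit 1283))
)) (.node (nat_lit 0x1125dfa182) (.node (nat_lit 0x1125d8c103) (.leaf (nat_lit 0x1125d8c102) (nat_lit 1793))
 (.leaf (nat_lit 0x1125d8c103) (nat_lit 2049))
) (.node (nat_lit 0x1125dfa183) (.leaf (nat_lit 0x1125dfa182) (nat_lit 1537))
 (.leaf (nat_lit 0x1125dfa183) (nat_lit 1793))
))) (.node (nat_lit 0x1127dbc182) (.node (nat_lit 0x1127d4e102) (.node (nat_lit 0x1127d3a183) (.leaf (nat_lit 0x1127d3a182) (nat_lit 1538))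
 (.leaf (nat_lit 0x1127d3a183) (nat_lit 1794))
) (.node (nat_lit 0x1127d4e103) (.leaf (nat_lit 0x1127d4e102) (nat_lit 1282))
 (.leaf (nat_lit 0x1127d4e103) (nat_lit 1538))
)) (.node (nat_lit 0x1127dca102) (.node (nat_lit 0x1127dbc183) (.leaf (nat_lit 0x1127dbc182) (nat_lit 513))
 (.leaf (nat_lit 0x1127dbc183) (nat_lit 769))
) (.node (nat_lit 0x1127dca103) (.leaf (nat_lit 0x1127dca102) (nat_lit 1281))
 (.leaf (nat_lit 0x1127dca103) (nat_lit 1537))
))))) (.node (nat_lit 0x11a5d2e102) (.node (nat_lit 0x11a2d5a182) (.node (nat_lit 0x11a0d98182) (.node (nat_lit 0x11a0d2a102) (.node (nat_lit 0x11a0d1e183) (.leaf (nat_lit 0x11a0d1e182) (nat_lit 1537))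
 (.leaf (nat_lit 0x11a0d1e183) (nat_lit 1793))
) (.node (nat_lit 0x11a0d2a103) (.leaf (nat_lit 0x11a0d2a102) (nat_lit 769))
 (.leaf (nat_lit 0x11a0d2a103) (nat_lit 1025))
)) (.node (nat_lit 0x11a0dae102) (.node (nat_lit 0x11a0d98183) (.leaf (nat_lit 0x11a0d98182) (nat_lit 1027))
 (.leaf (nat_lit 0x11a0d98183) (nat_lit 1283))
) (.node (nat_lit 0x11a0dae103) (.leaf (nat_lit 0x11a0dae102) (nat_lit 1283))
 (.leaf (nat_lit 0x11a0dae103) (nat_lit 1539))
))) (.node (nat_lit 0x11a2ddc182) (.node (nat_lit 0x11a2d6e102) (.node (nat_lit 0x11a2d5a183) (.leaf (nat_lit 0x11a2d5a182) (nat_lit 1537))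
 (.leaf (nat_lit 0x11a2d5a183) (nat_lit 1793))
) (.node (nat_lit 0x11a2d6e103) (.leaf (nat_lit 0x11a2d6e102) (nat_lit 1283))
 (.leaf (nat_lit 0x11a2d6e103) (nat_lit 1539))
)) (.node (nat_lit 0x11a2dea102) (.node (nat_lit 0x11a2ddc183) (.leaf (nat_lit 0x11a2ddc182) (nat_lit 514))
 (.leaf (nat_lit 0x11a2ddc183) (nat_lit 770))
) (.node (nat_lit 0x11a2dea103) (.leaf (nat_lit 0x11a2dea102) (nat_lit 1283))
 (.leaf (nat_lit 0x11a2dea103) (nat_lit 1539))
)))) (.node (nat_lit 0x11a7d1e182) (.node (nat_lit 0x11a5daa102) (.node (nat_lit 0x11a5d5a182) (.node (nat_lit 0x11a5d2e103) (.leaf (nat_lit 0x11a5d2e102) (nat_lit 1281))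
 (.leaf (nat_lit 0x11a5d2e103) (nat_lit 1537))
) (.node (nat_lit 0x11a5d5a183) (.leaf (nat_lit 0x11a5d5a182) (nat_lit 1537))
 (.leaf (nat_lit 0x11a5d5a183) (nat_lit 1793))
)) (.node (nat_lit 0x11a5ddc182) (.node (nat_lit 0x11a5daa103) (.leaf (nat_lit 0x11a5daa102) (nat_lit 1283))
 (.leaf (nat_lit 0x11a5daa103) (nat_lit 1539))
) (.node (nat_lit 0x11a5ddc183) (.leaf (nat_lit 0x11a5ddc182) (nat_lit 515))
 (.leaf (nat_lit 0x11a5ddc183) (nat_lit 771))
))) (.node (nat_lit 0x11a7d98182) (.node (nat_lit 0x11a7d6a102) (.node (nat_lit 0x11a7d1e183) (.leaf (nat_lit 0x11a7d1e182) (nat_lit 1537))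
 (.leaf (nat_lit 0x11a7d1e183) (nat_lit 1793))
) (.node (nat_lit 0x11a7d6a103) (.leaf (nat_lit 0x11a7d6a102) (nat_lit 769))
 (.leaf (nat_lit 0x11a7d6a103) (nat_lit 1025))
)) (.node (nat_lit 0x11a7dee102) (.node (nat_lit 0x11a7d98183) (.leaf (nat_lit 0x11a7d98182) (nat_lit 1026))
 (.leaf (nat_lit 0x11a7d98183) (nat_lit 1282))
) (.node (nat_lit 0x11a7dee103) (.leaf (nat_lit 0x11a7dee102) (nat_lit 1282))
 (.leaf (nat_lit 0x11a7dee103) (nat_lit 1538))
)))))))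

theorem TU_ok : genOK A2 [(nat_lit 0x1020408103), (nat_lit 0x10224dc182), (nat_lit 0x1120d08102), (nat_lit 0x1125d08102)] TU_t (nat_lit 128) = true := by decide +kernel

noncomputable def A5_t : ST :=
(.node (nat_lit 0x1114d09d02) (.node (nat_lit 0x944109d02) (.node (nat_lit 0x844108d02) (.node (nat_lit 0x550d09d02) (.node (nat_lit 0x531d09502) (.leaf (nat_lit 0x525509d02) (nat_lit 769))
 (.node (nat_lit 0x545d08d02) (.leaf (nat_lit 0x531d09502) (nat_lit 1281))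
 (.leaf (nat_lit 0x545d08d02) (nat_lit 768))
)) (.node (nat_lit 0x571508d02) (.node (nat_lit 0x564d09502) (.leaf (nat_lit 0x550d09d02) (nat_lit 1536))
 (.leaf (nat_lit 0x564d09502) (nat_lit 1025))
) (.node (nat_lit 0x840108402) (.leaf (nat_lit 0x571508d02) (nat_lit 1280))
 (.leaf (nat_lit 0x840108402) (nat_lit 2049))
))) (.node (nat_lit 0x870408d02) (.node (nat_lit 0x860408102) (.node (nat_lit 0x850d08402) (.leaf (nat_lit 0x844108d02) (nat_lit 1025))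
 (.leaf (nat_lit 0x850d08402) (nat_lit 257))
) (.node (nat_lit 0x864d08102) (.leaf (nat_lit 0x860408102) (nat_lit 256))
 (.leaf (nat_lit 0x864d08102) (nat_lit 2048))
)) (.node (nat_lit 0x931509d02) (.node (nat_lit 0x915d09502) (.leaf (nat_lit 0x870408d02) (nat_lit 2049))
 (.leaf (nat_lit 0x915d09502) (nat_lit 1536))
) (.node (nat_lit 0x940109502) (.leaf (nat_lit 0x931509d02) (nat_lit 1024))
 (.leaf (nat_lit 0x940109502) (nat_lit 1025))
)))) (.node (nat_lit 0xc60409d02) (.node (nat_lit 0xc15509d02) (.node (nat_lit 0x961d08102) (.leaf (nat_lit 0x944109d02) (nat_lit 1537))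
 (.node (nat_lit 0x965508102) (.leaf (nat_lit 0x961d08102) (nat_lit 1281))
 (.leaf (nat_lit 0x965508102) (nat_lit 1537))
)) (.node (nat_lit 0xc41508402) (.node (nat_lit 0xc25d09502) (.leaf (nat_lit 0xc15509d02) (nat_lit 769))
 (.leaf (nat_lit 0xc25d09502) (nat_lit 1281))
) (.node (nat_lit 0xc51d08402) (.leaf (nat_lit 0xc41508402) (nat_lit 1280))
 (.leaf (nat_lit 0xc51d08402) (nat_lit 768))
))) (.node (nat_lit 0x1030409502) (.node (nat_lit 0x1020408102) (.node (nat_lit 0xc70409502) (.leaf (nat_lit 0xc60409d02) (nat_lit 1537))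
 (.leaf (nat_lit 0xc70409502) (nat_lit 1281))
) (.node (nat_lit 0x1025508102) (.leaf (nat_lit 0x1020408102) (nat_lit 0))
 (.leaf (nat_lit 0x1025508102) (nat_lit 1792))
)) (.node (nat_lit 0x1064109502) (.node (nat_lit 0x1060108402) (.leaf (nat_lit 0x1030409502) (nat_lit 1793))
 (.leaf (nat_lit 0x1060108402) (nat_lit 1793))
) (.node (nat_lit 0x1071508402) (.leaf (nat_lit 0x1064109502) (nat_lit 1280))
 (.leaf (nat_lit 0x1071508402) (nat_lit 769))
))))) (.node (nat_lit 0x1840408102) (.node (nat_lit 0x1420408d02) (.node (nat_lit 0x1151d08d02) (.node (nat_lit 0x1120d08102) (.leaf (nat_lit 0x1114d09d02) (nat_lit 1280))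
 (.node (nat_lit 0x1125d08102) (.leaf (nat_lit 0x1120d08102) (nat_lit 1793))
 (.leaf (nat_lit 0x1125d08102) (nat_lit 1281))
)) (.node (nat_lit 0x1164108d02) (.node (nat_lit 0x1160109d02) (.leaf (nat_lit 0x1151d08d02) (nat_lit 1024))
 (.leaf (nat_lit 0x1160109d02) (nat_lit 1025))
) (.node (nat_lit 0x1415d08d02) (.leaf (nat_lit 0x1164108d02) (nat_lit 1281))
 (.leaf (nat_lit 0x1415d08d02) (nat_lit 513))
))) (.node (nat_lit 0x1470d08402) (.node (nat_lit 0x1444d09d02) (.node (nat_lit 0x1430409d02) (.leaf (nat_lit 0x1420408d02) (nat_lit 1793))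
 (.leaf (nat_lit 0x1430409d02) (nat_lit 1281))
) (.node (nat_lit 0x1461d08402) (.leaf (nat_lit 0x1444d09d02) (nat_lit 1025))
 (.leaf (nat_lit 0x1461d08402) (nat_lit 1024))
)) (.node (nat_lit 0x1824109d02) (.node (nat_lit 0x1820108402) (.leaf (nat_lit 0x1470d08402) (nat_lit 512))
 (.leaf (nat_lit 0x1820108402) (nat_lit 1793))
) (.node (nat_lit 0x1831d08402) (.leaf (nat_lit 0x1824109d02) (nat_lit 1281))
 (.leaf (nat_lit 0x1831d08402) (nat_lit 513))
)))) (.node (nat_lit 0x1944d08102) (.node (nat_lit 0x1915508d02) (.node (nat_lit 0x1845d08102) (.leaf (nat_lit 0x1840408102) (nat_lit 512))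
 (.node (nat_lit 0x1850409d02) (.leaf (nat_lit 0x1845d08102) (nat_lit 1536))
 (.leaf (nat_lit 0x1850409d02) (nat_lit 1537))
)) (.node (nat_lit 0x1924109502) (.node (nat_lit 0x1920108d02) (.leaf (nat_lit 0x1915508d02) (nat_lit 1024))
 (.leaf (nat_lit 0x1920108d02) (nat_lit 1281))
) (.node (nat_lit 0x1941508102) (.leaf (nat_lit 0x1924109502) (nat_lit 1025))
 (.leaf (nat_lit 0x1941508102) (nat_lit 1537))
))) (.node (nat_lit 0x1c31508402) (.node (nat_lit 0x1c14d09502) (.node (nat_lit 0x1970d09502) (.leaf (nat_lit 0x1944d08102) (nat_lit 1537))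
 (.leaf (nat_lit 0x1970d09502) (nat_lit 1280))
) (.node (nat_lit 0x1c20d08402) (.leaf (nat_lit 0x1c14d09502) (nat_lit 1025))
 (.leaf (nat_lit 0x1c20d08402) (nat_lit 768))
)) (.node (nat_lit 0x1c50408d02) (.node (nat_lit 0x1c40409502) (.leaf (nat_lit 0x1c31508402) (nat_lit 1024))
 (.leaf (nat_lit 0x1c40409502) (nat_lit 1537))
) (.node (nat_lit 0x1c65508d02) (.leaf (nat_lit 0x1c50408d02) (nat_lit 1537))
 (.leaf (nat_lit 0x1c65508d02) (nat_lit 769))
))))))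

theorem A5_ok : genOK A2 [(nat_lit 0x860408102), (nat_lit 0x850d08402)] A5_t (nat_lit 60) = true := by decide +kernel

noncomputable def NA_t : ST :=
(.node (nat_lit 0x1114d09d02) (.node (nat_lit 0x995d1f502) (.node (nat_lit 0x860408102) (.node (nat_lit 0x5b3d2f502) (.node (nat_lit 0x552dddd82) (.node (nat_lit 0x533dcb502) (.node (nat_lit 0x5275ebd02) (.node (nat_lit 0x5255fdd02) (.node (nat_lit 0x52555dd82) (.leaf (nat_lit 0x525509d02) (nat_lit 770))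
 (.node (nat_lit 0x5255abd82) (.leaf (nat_lit 0x52555dd82) (nat_lit 1026))
 (.leaf (nat_lit 0x5255abd82) (nat_lit 1536))
)) (.node (nat_lit 0x52754bd82) (.node (nat_lit 0x52751fd02) (.leaf (nat_lit 0x5255fdd02) (nat_lit 1792))
 (.leaf (nat_lit 0x52751fd02) (nat_lit 1282))
) (.node (nat_lit 0x5275bdd82) (.leaf (nat_lit 0x52754bd82) (nat_lit 1538))
 (.leaf (nat_lit 0x5275bdd82) (nat_lit 1024))
))) (.node (nat_lit 0x531ddd502) (.node (nat_lit 0x531d7d582) (.node (nat_lit 0x531d09502) (.leaf (nat_lit 0x5275ebd02) (nat_lit 1280))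
 (.leaf (nat_lit 0x531d09502) (nat_lit 1282))
) (.node (nat_lit 0x531dab582) (.leaf (nat_lit 0x531d7d582) (nat_lit 1538))
 (.leaf (nat_lit 0x531dab582) (nat_lit 1794))
)) (.node (nat_lit 0x533d6b582) (.node (nat_lit 0x533d1f502) (.leaf (nat_lit 0x531ddd502) (nat_lit 1538))
 (.leaf (nat_lit 0x533d1f502) (nat_lit 1794))
) (.node (nat_lit 0x533dbd582) (.leaf (nat_lit 0x533d6b582) (nat_lit 1792))
 (.leaf (nat_lit 0x533dbd582) (nat_lit 1536))
)))) (.node (nat_lit 0x547daad02) (.node (nat_lit 0x545dbcd02) (.node (nat_lit 0x545d08d02) (.leaf (nat_lit 0x533dcb502) (nat_lit 1792))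
 (.node (nat_lit 0x545d7cd82) (.leaf (nat_lit 0x545d08d02) (nat_lit 769))
 (.leaf (nat_lit 0x545d7cd82) (nat_lit 1538))
)) (.node (nat_lit 0x547d1ed02) (.node (nat_lit 0x545dcad82) (.leaf (nat_lit 0x545dbcd02) (nat_lit 1538))
 (.leaf (nat_lit 0x545dcad82) (nat_lit 1537))
) (.node (nat_lit 0x547d6ad82) (.leaf (nat_lit 0x547d1ed02) (nat_lit 1281))
 (.leaf (nat_lit 0x547d6ad82) (nat_lit 1794))
))) (.node (nat_lit 0x550dcbd82) (.node (nat_lit 0x550d09d02) (.node (nat_lit 0x547ddcd82) (.leaf (nat_lit 0x547daad02) (nat_lit 1794))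
 (.leaf (nat_lit 0x547ddcd82) (nat_lit 1025))
) (.node (nat_lit 0x550d3dd82) (.leaf (nat_lit 0x550d09d02) (nat_lit 1537))
 (.leaf (nat_lit 0x550d3dd82) (nat_lit 1793))
)) (.node (nat_lit 0x552d1fd02) (.node (nat_lit 0x550dfdd02) (.leaf (nat_lit 0x550dcbd82) (nat_lit 2305))
 (.leaf (nat_lit 0x550dfdd02) (nat_lit 2050))
) (.node (nat_lit 0x552d2bd82) (.leaf (nat_lit 0x552d1fd02) (nat_lit 2049))
 (.leaf (nat_lit 0x552d2bd82) (nat_lit 2306))
))))) (.node (nat_lit 0x57354ad82) (.node (nat_lit 0x566d2b582) (.node (nat_lit 0x564d3d582) (.node (nat_lit 0x552debd02) (.leaf (nat_lit 0x552dddd82) (nat_lit 1793))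
 (.node (nat_lit 0x564d09502) (.leaf (nat_lit 0x552debd02) (nat_lit 2049))
 (.leaf (nat_lit 0x564d09502) (nat_lit 1026))
)) (.node (nat_lit 0x564deb582) (.node (nat_lit 0x564ddd502) (.leaf (nat_lit 0x564d3d582) (nat_lit 1282))
 (.leaf (nat_lit 0x564ddd502) (nat_lit 1282))
) (.node (nat_lit 0x566d1f502) (.leaf (nat_lit 0x564deb582) (nat_lit 1538))
 (.leaf (nat_lit 0x566d1f502) (nat_lit 1538))
))) (.node (nat_lit 0x57155cd82) (.node (nat_lit 0x566dfd582) (.node (nat_lit 0x566dcb502) (.leaf (nat_lit 0x566d2b582) (nat_lit 1536))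
 (.leaf (nat_lit 0x566dcb502) (nat_lit 1536))
) (.node (nat_lit 0x571508d02) (.leaf (nat_lit 0x566dfd582) (nat_lit 1280))
 (.leaf (nat_lit 0x571508d02) (nat_lit 1281))
)) (.node (nat_lit 0x5715ead82) (.node (nat_lit 0x5715bcd02) (.leaf (nat_lit 0x57155cd82) (nat_lit 1537))
 (.leaf (nat_lit 0x5715bcd02) (nat_lit 1794))
) (.node (nat_lit 0x57351ed02) (.leaf (nat_lit 0x5715ead82) (nat_lit 2050))
 (.leaf (nat_lit 0x57351ed02) (nat_lit 1793))
)))) (.node (nat_lit 0x5a753bd02) (.node (nat_lit 0x5a552fd02) (.node (nat_lit 0x5735aad02) (.leaf (nat_lit 0x57354ad82) (nat_lit 2049))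
 (.node (nat_lit 0x5735fcd82) (.leaf (nat_lit 0x5735aad02) (nat_lit 1793))
 (.leaf (nat_lit 0x5735fcd82) (nat_lit 1537))
)) (.node (nat_lit 0x5a558dd82) (.node (nat_lit 0x5a557bd82) (.leaf (nat_lit 0x5a552fd02) (nat_lit 1280))
 (.leaf (nat_lit 0x5a557bd82) (nat_lit 1536))
) (.node (nat_lit 0x5a55dbd02) (.leaf (nat_lit 0x5a558dd82) (nat_lit 1026))
 (.leaf (nat_lit 0x5a55dbd02) (nat_lit 1282))
))) (.node (nat_lit 0x5b1d3b502) (.node (nat_lit 0x5a7599d82) (.node (nat_lit 0x5a756fd82) (.leaf (nat_lit 0x5a753bd02) (nat_lit 1280))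
 (.leaf (nat_lit 0x5a756fd82) (nat_lit 1536))
) (.node (nat_lit 0x5a75cfd02) (.leaf (nat_lit 0x5a7599d82) (nat_lit 1026))
 (.leaf (nat_lit 0x5a75cfd02) (nat_lit 1282))
)) (.node (nat_lit 0x5b1d99582) (.node (nat_lit 0x5b1d4f582) (.leaf (nat_lit 0x5b1d3b502) (nat_lit 1792))
 (.leaf (nat_lit 0x5b1d4f582) (nat_lit 1794))
) (.node (nat_lit 0x5b1def502) (.leaf (nat_lit 0x5b1d99582) (nat_lit 1538))
 (.leaf (nat_lit 0x5b1def502) (nat_lit 1794))
)))))) (.node (nat_lit 0x5f1598d82) (.node (nat_lit 0x5d0dafd02) (.node (nat_lit 0x5c5dfad02) (.node (nat_lit 0x5b3dfb502) (.node (nat_lit 0x5b3d5b582) (.leaf (nat_lit 0x5b3d2f502) (nat_lit 1792))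
 (.node (nat_lit 0x5b3d8d582) (.leaf (nat_lit 0x5b3d5b582) (nat_lit 1794))
 (.leaf (nat_lit 0x5b3d8d582) (nat_lit 1538))
)) (.node (nat_lit 0x5c5d4ed02) (.node (nat_lit 0x5c5d3ad82) (.leaf (nat_lit 0x5b3dfb502) (nat_lit 1794))
 (.leaf (nat_lit 0x5c5d3ad82) (nat_lit 1794))
) (.node (nat_lit 0x5c5d8cd82) (.leaf (nat_lit 0x5c5d4ed02) (nat_lit 1281))
 (.leaf (nat_lit 0x5c5d8cd82) (nat_lit 1025))
))) (.node (nat_lit 0x5c7deed02) (.node (nat_lit 0x5c7d5ad02) (.node (nat_lit 0x5c7d2ed82) (.leaf (nat_lit 0x5c5dfad02) (nat_lit 1794))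
 (.leaf (nat_lit 0x5c7d2ed82) (nat_lit 1794))
) (.node (nat_lit 0x5c7d98d82) (.leaf (nat_lit 0x5c7d5ad02) (nat_lit 1281))
 (.leaf (nat_lit 0x5c7d98d82) (nat_lit 1025))
)) (.node (nat_lit 0x5d0d6fd82) (.node (nat_lit 0x5d0d5bd02) (.leaf (nat_lit 0x5c7deed02) (nat_lit 1794))
 (.leaf (nat_lit 0x5d0d5bd02) (nat_lit 2049))
) (.node (nat_lit 0x5d0d99d82) (.leaf (nat_lit 0x5d0d6fd82) (nat_lit 2305))
 (.leaf (nat_lit 0x5d0d99d82) (nat_lit 1793))
)))) (.node (nat_lit 0x5e4d8d582) (.node (nat_lit 0x5d2d8dd82) (.node (nat_lit 0x5d2d4fd02) (.leaf (nat_lit 0x5d0dafd02) (nat_lit 2049))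
 (.node (nat_lit 0x5d2d7bd82) (.leaf (nat_lit 0x5d2d4fd02) (nat_lit 2049))
 (.leaf (nat_lit 0x5d2d7bd82) (nat_lit 2305))
)) (.node (nat_lit 0x5e4d5b582) (.node (nat_lit 0x5d2dbbd02) (.leaf (nat_lit 0x5d2d8dd82) (nat_lit 1793))
 (.leaf (nat_lit 0x5d2dbbd02) (nat_lit 2049))
) (.node (nat_lit 0x5e4d6f502) (.leaf (nat_lit 0x5e4d5b582) (nat_lit 1538))
 (.leaf (nat_lit 0x5e4d6f502) (nat_lit 1536))
))) (.node (nat_lit 0x5e6d99582) (.node (nat_lit 0x5e6d4f582) (.node (nat_lit 0x5e4dbb502) (.leaf (nat_lit 0x5e4d8d582) (nat_lit 1282))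
 (.leaf (nat_lit 0x5e4dbb502) (nat_lit 1538))
) (.node (nat_lit 0x5e6d7b502) (.leaf (nat_lit 0x5e6d4f582) (nat_lit 1538))
 (.leaf (nat_lit 0x5e6d7b502) (nat_lit 1536))
)) (.node (nat_lit 0x5f152ed82) (.node (nat_lit 0x5e6daf502) (.leaf (nat_lit 0x5e6d99582) (nat_lit 1282))
 (.leaf (nat_lit 0x5e6daf502) (nat_lit 1538))
) (.node (nat_lit 0x5f157ad02) (.leaf (nat_lit 0x5f152ed82) (nat_lit 2049))
 (.leaf (nat_lit 0x5f157ad02) (nat_lit 1793))
))))) (.node (nat_lit 0x84410cd82) (.node (nat_lit 0x84010c482) (.node (nat_lit 0x5f356ed02) (.node (nat_lit 0x5f15ced02) (.leaf (nat_lit 0x5f1598d82) (nat_lit 1537))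
 (.node (nat_lit 0x5f353ad82) (.leaf (nat_lit 0x5f15ced02) (nat_lit 1793))
 (.leaf (nat_lit 0x5f353ad82) (nat_lit 2049))
)) (.node (nat_lit 0x5f35dad02) (.node (nat_lit 0x5f358cd82) (.leaf (nat_lit 0x5f356ed02) (nat_lit 1793))
 (.leaf (nat_lit 0x5f358cd82) (nat_lit 1537))
) (.node (nat_lit 0x840108402) (.leaf (nat_lit 0x5f35dad02) (nat_lit 1793))
 (.leaf (nat_lit 0x840108402) (nat_lit 2050))
))) (.node (nat_lit 0x84212e482) (.node (nat_lit 0x84019e482) (.node (nat_lit 0x840198402) (.leaf (nat_lit 0x84010c482) (nat_lit 2306))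
 (.leaf (nat_lit 0x840198402) (nat_lit 2306))
) (.node (nat_lit 0x84212a402) (.leaf (nat_lit 0x84019e482) (nat_lit 2562))
 (.leaf (nat_lit 0x84212a402) (nat_lit 2562))
)) (.node (nat_lit 0x8421bc482) (.node (nat_lit 0x8421ba402) (.leaf (nat_lit 0x84212e482) (nat_lit 2562))
 (.leaf (nat_lit 0x8421ba402) (nat_lit 2562))
) (.node (nat_lit 0x844108d02) (.leaf (nat_lit 0x8421bc482) (nat_lit 2306))
 (.leaf (nat_lit 0x844108d02) (nat_lit 1026))
)))) (.node (nat_lit 0x850d08402) (.node (nat_lit 0x84612ad02) (.node (nat_lit 0x8441bad82) (.leaf (nat_lit 0x84410cd82) (nat_lit 1282))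
 (.node (nat_lit 0x8441bcd02) (.leaf (nat_lit 0x8441bad82) (nat_lit 1792))
 (.leaf (nat_lit 0x8441bcd02) (nat_lit 1793))
)) (.node (nat_lit 0x846198d82) (.node (nat_lit 0x84612ed82) (.leaf (nat_lit 0x84612ad02) (nat_lit 1538))
 (.leaf (nat_lit 0x84612ed82) (nat_lit 1794))
) (.node (nat_lit 0x84619ed02) (.leaf (nat_lit 0x846198d82) (nat_lit 1280))
 (.leaf (nat_lit 0x84619ed02) (nat_lit 1536))
))) (.node (nat_lit 0x852d1e482) (.node (nat_lit 0x850d98402) (.node (nat_lit 0x850d3c482) (.leaf (nat_lit 0x850d08402) (nat_lit 258))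
 (.leaf (nat_lit 0x850d3c482) (nat_lit 1282))
) (.node (nat_lit 0x850dae482) (.leaf (nat_lit 0x850d98402) (nat_lit 1794))
 (.leaf (nat_lit 0x850dae482) (nat_lit 1792))
)) (.node (nat_lit 0x852d8c482) (.node (nat_lit 0x852d2a402) (.leaf (nat_lit 0x852d1e482) (nat_lit 1794))
 (.leaf (nat_lit 0x852d2a402) (nat_lit 1538))
) (.node (nat_lit 0x852dba402) (.leaf (nat_lit 0x852d8c482) (nat_lit 512))
 (.leaf (nat_lit 0x852dba402) (nat_lit 1536))
))))))) (.node (nat_lit 0x8e6d4e102) (.node (nat_lit 0x8c21fa402) (.node (nat_lit 0x866dae102) (.node (nat_lit 0x8624bc182) (.node (nat_lit 0x86049e182) (.node (nat_lit 0x860418182) (.leaf (nat_lit 0x860408102) (nat_lit 257))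
 (.node (nat_lit 0x86048c102) (.leaf (nat_lit 0x860418182) (nat_lit 1794))
 (.leaf (nat_lit 0x86048c102) (nat_lit 1794))
)) (.node (nat_lit 0x86243a182) (.node (nat_lit 0x86242a102) (.leaf (nat_lit 0x86049e182) (nat_lit 1793))
 (.leaf (nat_lit 0x86242a102) (nat_lit 1537))
) (.node (nat_lit 0x8624ae102) (.leaf (nat_lit 0x86243a182) (nat_lit 2050))
 (.leaf (nat_lit 0x8624ae102) (nat_lit 2050))
))) (.node (nat_lit 0x864dba182) (.node (nat_lit 0x864d3c182) (.node (nat_lit 0x864d08102) (.leaf (nat_lit 0x8624bc182) (nat_lit 512))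
 (.leaf (nat_lit 0x864d08102) (nat_lit 2049))
) (.node (nat_lit 0x864d8c102) (.leaf (nat_lit 0x864d3c182) (nat_lit 2305))
 (.leaf (nat_lit 0x864d8c102) (nat_lit 2305))
)) (.node (nat_lit 0x866d2a102) (.node (nat_lit 0x866d1e182) (.leaf (nat_lit 0x864dba182) (nat_lit 2561))
 (.leaf (nat_lit 0x866d1e182) (nat_lit 2561))
) (.node (nat_lit 0x866d98182) (.leaf (nat_lit 0x866d2a102) (nat_lit 2561))
 (.leaf (nat_lit 0x866d98182) (nat_lit 2305))
)))) (.node (nat_lit 0x87248cd82) (.node (nat_lit 0x8704aed82) (.node (nat_lit 0x870408d02) (.leaf (nat_lit 0x866dae102) (nat_lit 2561))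
 (.node (nat_lit 0x870418d82) (.leaf (nat_lit 0x870408d02) (nat_lit 2050))
 (.leaf (nat_lit 0x870418d82) (nat_lit 2306))
)) (.node (nat_lit 0x87242ad02) (.node (nat_lit 0x8704bcd02) (.leaf (nat_lit 0x8704aed82) (nat_lit 2562))
 (.leaf (nat_lit 0x8704bcd02) (nat_lit 2306))
) (.node (nat_lit 0x87243ad82) (.leaf (nat_lit 0x87242ad02) (nat_lit 2562))
 (.leaf (nat_lit 0x87243ad82) (nat_lit 2562))
))) (.node (nat_lit 0x8c01da402) (.node (nat_lit 0x8c014a402) (.node (nat_lit 0x87249ed02) (.leaf (nat_lit 0x87248cd82) (nat_lit 2306))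
 (.leaf (nat_lit 0x87249ed02) (nat_lit 2562))
) (.node (nat_lit 0x8c014e482) (.leaf (nat_lit 0x8c014a402) (nat_lit 2562))
 (.leaf (nat_lit 0x8c014e482) (nat_lit 2562))
)) (.node (nat_lit 0x8c216a402) (.node (nat_lit 0x8c01dc482) (.leaf (nat_lit 0x8c01da402) (nat_lit 2562))
 (.leaf (nat_lit 0x8c01dc482) (nat_lit 2306))
) (.node (nat_lit 0x8c216e482) (.leaf (nat_lit 0x8c216a402) (nat_lit 2562))
 (.leaf (nat_lit 0x8c216e482) (nat_lit 2562))
))))) (.node (nat_lit 0x8d2d7a402) (.node (nat_lit 0x8c616ed02) (.node (nat_lit 0x8c414ed02) (.node (nat_lit 0x8c21fc482) (.leaf (nat_lit 0x8c21fa402) (nat_lit 2562))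
 (.node (nat_lit 0x8c414ad82) (.leaf (nat_lit 0x8c21fc482) (nat_lit 2306))
 (.leaf (nat_lit 0x8c414ad82) (nat_lit 1792))
)) (.node (nat_lit 0x8c41fcd82) (.node (nat_lit 0x8c41fad02) (.leaf (nat_lit 0x8c414ed02) (nat_lit 1536))
 (.leaf (nat_lit 0x8c41fad02) (nat_lit 1538))
) (.node (nat_lit 0x8c616ad82) (.leaf (nat_lit 0x8c41fcd82) (nat_lit 1282))
 (.leaf (nat_lit 0x8c616ad82) (nat_lit 1792))
))) (.node (nat_lit 0x8d0d6e482) (.node (nat_lit 0x8c61dcd82) (.node (nat_lit 0x8c61dad02) (.leaf (nat_lit 0x8c616ed02) (nat_lit 1536))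
 (.leaf (nat_lit 0x8c61dad02) (nat_lit 1538))
) (.node (nat_lit 0x8d0d5a402) (.leaf (nat_lit 0x8c61dcd82) (nat_lit 1282))
 (.leaf (nat_lit 0x8d0d5a402) (nat_lit 768))
)) (.node (nat_lit 0x8d0dfc482) (.node (nat_lit 0x8d0dca402) (.leaf (nat_lit 0x8d0d6e482) (nat_lit 1792))
 (.leaf (nat_lit 0x8d0dca402) (nat_lit 1538))
) (.node (nat_lit 0x8d2d4e482) (.leaf (nat_lit 0x8d0dfc482) (nat_lit 1282))
 (.leaf (nat_lit 0x8d2d4e482) (nat_lit 1792))
)))) (.node (nat_lit 0x8e244a102) (.node (nat_lit 0x8e046a102) (.node (nat_lit 0x8d2ddc482) (.leaf (nat_lit 0x8d2d7a402) (nat_lit 1536))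
 (.node (nat_lit 0x8d2dea402) (.leaf (nat_lit 0x8d2ddc482) (nat_lit 514))
 (.leaf (nat_lit 0x8d2dea402) (nat_lit 1538))
)) (.node (nat_lit 0x8e04ee102) (.node (nat_lit 0x8e047a182) (.leaf (nat_lit 0x8e046a102) (nat_lit 768))
 (.leaf (nat_lit 0x8e047a182) (nat_lit 2050))
) (.node (nat_lit 0x8e04fc182) (.leaf (nat_lit 0x8e04ee102) (nat_lit 2050))
 (.leaf (nat_lit 0x8e04fc182) (nat_lit 1281))
))) (.node (nat_lit 0x8e4d5a182) (.node (nat_lit 0x8e24ce102) (.node (nat_lit 0x8e245a182) (.leaf (nat_lit 0x8e244a102) (nat_lit 1537))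
 (.leaf (nat_lit 0x8e245a182) (nat_lit 2050))
) (.node (nat_lit 0x8e24dc182) (.leaf (nat_lit 0x8e24ce102) (nat_lit 2050))
 (.leaf (nat_lit 0x8e24dc182) (nat_lit 513))
)) (.node (nat_lit 0x8e4ddc182) (.node (nat_lit 0x8e4d6e102) (.leaf (nat_lit 0x8e4d5a182) (nat_lit 2561))
 (.leaf (nat_lit 0x8e4d6e102) (nat_lit 2561))
) (.node (nat_lit 0x8e4dea102) (.leaf (nat_lit 0x8e4ddc182) (nat_lit 2305))
 (.leaf (nat_lit 0x8e4dea102) (nat_lit 2561))
)))))) (.node (nat_lit 0x9401db582) (.node (nat_lit 0x915ddd502) (.node (nat_lit 0x8f04dcd82) (.node (nat_lit 0x8e6dfc182) (.node (nat_lit 0x8e6d7a182) (.leaf (nat_lit 0x8e6d4e102) (nat_lit 2561))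
 (.node (nat_lit 0x8e6dca102) (.leaf (nat_lit 0x8e6d7a182) (nat_lit 2561))
 (.leaf (nat_lit 0x8e6dca102) (nat_lit 2561))
)) (.node (nat_lit 0x8f047ad02) (.node (nat_lit 0x8f046ad82) (.leaf (nat_lit 0x8e6dfc182) (nat_lit 2305))
 (.leaf (nat_lit 0x8f046ad82) (nat_lit 2562))
) (.node (nat_lit 0x8f04ced02) (.leaf (nat_lit 0x8f047ad02) (nat_lit 2562))
 (.leaf (nat_lit 0x8f04ced02) (nat_lit 2562))
))) (.node (nat_lit 0x8f24fcd82) (.node (nat_lit 0x8f245ad02) (.node (nat_lit 0x8f244ad82) (.leaf (nat_lit 0x8f04dcd82) (nat_lit 2306))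
 (.leaf (nat_lit 0x8f244ad82) (nat_lit 2562))
) (.node (nat_lit 0x8f24eed02) (.leaf (nat_lit 0x8f245ad02) (nat_lit 2562))
 (.leaf (nat_lit 0x8f24eed02) (nat_lit 2562))
)) (.node (nat_lit 0x915d7d582) (.node (nat_lit 0x915d09502) (.leaf (nat_lit 0x8f24fcd82) (nat_lit 2306))
 (.leaf (nat_lit 0x915d09502) (nat_lit 1537))
) (.node (nat_lit 0x915dab582) (.leaf (nat_lit 0x915d7d582) (nat_lit 1793))
 (.leaf (nat_lit 0x915dab582) (nat_lit 2049))
)))) (.node (nat_lit 0x9315abd82) (.node (nat_lit 0x917d8d582) (.node (nat_lit 0x917d2f502) (.leaf (nat_lit 0x915ddd502) (nat_lit 1793))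
 (.node (nat_lit 0x917d5b582) (.leaf (nat_lit 0x917d2f502) (nat_lit 2049))
 (.leaf (nat_lit 0x917d5b582) (nat_lit 2049))
)) (.node (nat_lit 0x931509d02) (.node (nat_lit 0x917dfb502) (.leaf (nat_lit 0x917d8d582) (nat_lit 1793))
 (.leaf (nat_lit 0x917dfb502) (nat_lit 2049))
) (.node (nat_lit 0x93155dd82) (.leaf (nat_lit 0x931509d02) (nat_lit 1025))
 (.leaf (nat_lit 0x93155dd82) (nat_lit 1281))
))) (.node (nat_lit 0x93358dd82) (.node (nat_lit 0x93352fd02) (.node (nat_lit 0x9315fdd02) (.leaf (nat_lit 0x9315abd82) (nat_lit 1793))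
 (.leaf (nat_lit 0x9315fdd02) (nat_lit 1794))
) (.node (nat_lit 0x93357bd82) (.leaf (nat_lit 0x93352fd02) (nat_lit 1537))
 (.leaf (nat_lit 0x93357bd82) (nat_lit 1793))
)) (.node (nat_lit 0x940109502) (.node (nat_lit 0x9335dbd02) (.leaf (nat_lit 0x93358dd82) (nat_lit 1281))
 (.leaf (nat_lit 0x9335dbd02) (nat_lit 1537))
) (.node (nat_lit 0x94010d582) (.leaf (nat_lit 0x940109502) (nat_lit 1026))
 (.leaf (nat_lit 0x94010d582) (nat_lit 1282))
))))) (.node (nat_lit 0x961d7c182) (.node (nat_lit 0x94410dd82) (.node (nat_lit 0x94212f502) (.node (nat_lit 0x9401dd502) (.leaf (nat_lit 0x9401db582) (nat_lit 1538))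
 (.node (nat_lit 0x94212b582) (.leaf (nat_lit 0x9401dd502) (nat_lit 1282))
 (.leaf (nat_lit 0x94212b582) (nat_lit 1536))
)) (.node (nat_lit 0x9421fd582) (.node (nat_lit 0x9421fb502) (.leaf (nat_lit 0x94212f502) (nat_lit 1538))
 (.leaf (nat_lit 0x9421fb502) (nat_lit 1536))
) (.node (nat_lit 0x944109d02) (.leaf (nat_lit 0x9421fd582) (nat_lit 1280))
 (.leaf (nat_lit 0x944109d02) (nat_lit 1538))
))) (.node (nat_lit 0x94612fd02) (.node (nat_lit 0x9441fdd02) (.node (nat_lit 0x9441fbd82) (.leaf (nat_lit 0x94410dd82) (nat_lit 1794))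
 (.leaf (nat_lit 0x9441fbd82) (nat_lit 2050))
) (.node (nat_lit 0x94612bd82) (.leaf (nat_lit 0x9441fdd02) (nat_lit 1794))
 (.leaf (nat_lit 0x94612bd82) (nat_lit 2050))
)) (.node (nat_lit 0x9461ddd82) (.node (nat_lit 0x9461dbd02) (.leaf (nat_lit 0x94612fd02) (nat_lit 2050))
 (.leaf (nat_lit 0x9461dbd02) (nat_lit 2050))
) (.node (nat_lit 0x961d08102) (.leaf (nat_lit 0x9461ddd82) (nat_lit 1794))
 (.leaf (nat_lit 0x961d08102) (nat_lit 1282))
)))) (.node (nat_lit 0x965508102) (.node (nat_lit 0x963d2e102) (.node (nat_lit 0x961d8c102) (.leaf (nat_lit 0x961d7c182) (nat_lit 1538))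
 (.node (nat_lit 0x961dfa182) (.leaf (nat_lit 0x961d8c102) (nat_lit 1538))
 (.leaf (nat_lit 0x961dfa182) (nat_lit 1794))
)) (.node (nat_lit 0x963daa102) (.node (nat_lit 0x963d5a182) (.leaf (nat_lit 0x963d2e102) (nat_lit 1794))
 (.leaf (nat_lit 0x963d5a182) (nat_lit 1794))
) (.node (nat_lit 0x963ddc182) (.leaf (nat_lit 0x963daa102) (nat_lit 1794))
 (.leaf (nat_lit 0x963ddc182) (nat_lit 1538))
))) (.node (nat_lit 0x96752e102) (.node (nat_lit 0x96558c102) (.node (nat_lit 0x96555c182) (.leaf (nat_lit 0x965508102) (nat_lit 1538))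
 (.leaf (nat_lit 0x96555c182) (nat_lit 1794))
) (.node (nat_lit 0x9655da182) (.leaf (nat_lit 0x96558c102) (nat_lit 1794))
 (.leaf (nat_lit 0x9655da182) (nat_lit 2050))
)) (.node (nat_lit 0x9675aa102) (.node (nat_lit 0x96757a182) (.leaf (nat_lit 0x96752e102) (nat_lit 2050))
 (.leaf (nat_lit 0x96757a182) (nat_lit 2048))
) (.node (nat_lit 0x9675fc182) (.leaf (nat_lit 0x9675aa102) (nat_lit 2048))
 (.leaf (nat_lit 0x9675fc182) (nat_lit 1792))
)))))))) (.node (nat_lit 0xcd1d2e482) (.node (nat_lit 0xc27d3b502) (.node (nat_lit 0x9c6199d82) (.node (nat_lit 0x9b35ebd02) (.node (nat_lit 0x997def502) (.node (nat_lit 0x995dcb502) (.node (nat_lit 0x995d6b582) (.leaf (nat_lit 0x995d1f502) (nat_lit 2049))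
 (.node (nat_lit 0x995dbd582) (.leaf (nat_lit 0x995d6b582) (nat_lit 2049))
 (.leaf (nat_lit 0x995dbd582) (nat_lit 1793))
)) (.node (nat_lit 0x997d4f582) (.node (nat_lit 0x997d3b502) (.leaf (nat_lit 0x995dcb502) (nat_lit 2049))
 (.leaf (nat_lit 0x997d3b502) (nat_lit 2049))
) (.node (nat_lit 0x997d99582) (.leaf (nat_lit 0x997d4f582) (nat_lit 2049))
 (.leaf (nat_lit 0x997d99582) (nat_lit 1793))
))) (.node (nat_lit 0x9b15cfd02) (.node (nat_lit 0x9b156fd82) (.node (nat_lit 0x9b153bd02) (.leaf (nat_lit 0x997def502) (nat_lit 2049))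
 (.leaf (nat_lit 0x9b153bd02) (nat_lit 1537))
) (.node (nat_lit 0x9b1599d82) (.leaf (nat_lit 0x9b156fd82) (nat_lit 1793))
 (.leaf (nat_lit 0x9b1599d82) (nat_lit 1281))
)) (.node (nat_lit 0x9b354bd82) (.node (nat_lit 0x9b351fd02) (.leaf (nat_lit 0x9b15cfd02) (nat_lit 1537))
 (.leaf (nat_lit 0x9b351fd02) (nat_lit 1537))
) (.node (nat_lit 0x9b35bdd82) (.leaf (nat_lit 0x9b354bd82) (nat_lit 1793))
 (.leaf (nat_lit 0x9b35bdd82) (nat_lit 1281))
)))) (.node (nat_lit 0x9c21bb502) (.node (nat_lit 0x9c0199582) (.node (nat_lit 0x9c014b502) (.leaf (nat_lit 0x9b35ebd02) (nat_lit 1537))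
 (.node (nat_lit 0x9c014f582) (.leaf (nat_lit 0x9c014b502) (nat_lit 1536))
 (.leaf (nat_lit 0x9c014f582) (nat_lit 1538))
)) (.node (nat_lit 0x9c216b582) (.node (nat_lit 0x9c019f502) (.leaf (nat_lit 0x9c0199582) (nat_lit 1282))
 (.leaf (nat_lit 0x9c019f502) (nat_lit 1538))
) (.node (nat_lit 0x9c216f502) (.leaf (nat_lit 0x9c216b582) (nat_lit 1538))
 (.leaf (nat_lit 0x9c216f502) (nat_lit 1536))
))) (.node (nat_lit 0x9c41bbd02) (.node (nat_lit 0x9c414bd82) (.node (nat_lit 0x9c21bd582) (.leaf (nat_lit 0x9c21bb502) (nat_lit 1538))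
 (.leaf (nat_lit 0x9c21bd582) (nat_lit 1282))
) (.node (nat_lit 0x9c414fd02) (.leaf (nat_lit 0x9c414bd82) (nat_lit 2050))
 (.leaf (nat_lit 0x9c414fd02) (nat_lit 2050))
)) (.node (nat_lit 0x9c616bd02) (.node (nat_lit 0x9c41bdd82) (.leaf (nat_lit 0x9c41bbd02) (nat_lit 2050))
 (.leaf (nat_lit 0x9c41bdd82) (nat_lit 1794))
) (.node (nat_lit 0x9c616fd82) (.leaf (nat_lit 0x9c616bd02) (nat_lit 2050))
 (.leaf (nat_lit 0x9c616fd82) (nat_lit 2050))
))))) (.node (nat_lit 0x9e754a102) (.node (nat_lit 0x9e3d4e102) (.node (nat_lit 0x9e1d6a102) (.node (nat_lit 0x9c619fd02) (.leaf (nat_lit 0x9c6199d82) (nat_lit 1794))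
 (.node (nat_lit 0x9e1d1e182) (.leaf (nat_lit 0x9c619fd02) (nat_lit 2050))
 (.leaf (nat_lit 0x9e1d1e182) (nat_lit 1794))
)) (.node (nat_lit 0x9e1dee102) (.node (nat_lit 0x9e1d98182) (.leaf (nat_lit 0x9e1d6a102) (nat_lit 1794))
 (.leaf (nat_lit 0x9e1d98182) (nat_lit 1538))
) (.node (nat_lit 0x9e3d3a182) (.leaf (nat_lit 0x9e1dee102) (nat_lit 1794))
 (.leaf (nat_lit 0x9e3d3a182) (nat_lit 1794))
))) (.node (nat_lit 0x9e556e102) (.node (nat_lit 0x9e3dca102) (.node (nat_lit 0x9e3dbc182) (.leaf (nat_lit 0x9e3d4e102) (nat_lit 1794))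
 (.leaf (nat_lit 0x9e3dbc182) (nat_lit 1538))
) (.node (nat_lit 0x9e553a182) (.leaf (nat_lit 0x9e3dca102) (nat_lit 1794))
 (.leaf (nat_lit 0x9e553a182) (nat_lit 2050))
)) (.node (nat_lit 0x9e55ea102) (.node (nat_lit 0x9e55bc182) (.leaf (nat_lit 0x9e556e102) (nat_lit 2048))
 (.leaf (nat_lit 0x9e55bc182) (nat_lit 1794))
) (.node (nat_lit 0x9e751e182) (.leaf (nat_lit 0x9e55ea102) (nat_lit 2050))
 (.leaf (nat_lit 0x9e751e182) (nat_lit 2050))
)))) (.node (nat_lit 0xc1753bd02) (.node (nat_lit 0xc15509d02) (.node (nat_lit 0x9e7598182) (.leaf (nat_lit 0x9e754a102) (nat_lit 2048))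
 (.node (nat_lit 0x9e75ce102) (.leaf (nat_lit 0x9e7598182) (nat_lit 1794))
 (.leaf (nat_lit 0x9e75ce102) (nat_lit 2050))
)) (.node (nat_lit 0xc155abd82) (.node (nat_lit 0xc1555dd82) (.leaf (nat_lit 0xc15509d02) (nat_lit 770))
 (.leaf (nat_lit 0xc1555dd82) (nat_lit 1026))
) (.node (nat_lit 0xc155fdd02) (.leaf (nat_lit 0xc155abd82) (nat_lit 1536))
 (.leaf (nat_lit 0xc155fdd02) (nat_lit 1792))
))) (.node (nat_lit 0xc25d09502) (.node (nat_lit 0xc17599d82) (.node (nat_lit 0xc1756fd82) (.leaf (nat_lit 0xc1753bd02) (nat_lit 1282))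
 (.leaf (nat_lit 0xc1756fd82) (nat_lit 1538))
) (.node (nat_lit 0xc175cfd02) (.leaf (nat_lit 0xc17599d82) (nat_lit 1024))
 (.leaf (nat_lit 0xc175cfd02) (nat_lit 1280))
)) (.node (nat_lit 0xc25dab582) (.node (nat_lit 0xc25d7d582) (.leaf (nat_lit 0xc25d09502) (nat_lit 1282))
 (.leaf (nat_lit 0xc25d7d582) (nat_lit 1538))
) (.node (nat_lit 0xc25ddd502) (.leaf (nat_lit 0xc25dab582) (nat_lit 1794))
 (.leaf (nat_lit 0xc25ddd502) (nat_lit 1538))
)))))) (.node (nat_lit 0xc704cf582) (.node (nat_lit 0xc51dee482) (.node (nat_lit 0xc415ce482) (.node (nat_lit 0xc27def502) (.node (nat_lit 0xc27d4f582) (.leaf (nat_lit 0xc27d3b502) (nat_lit 1794))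
 (.node (nat_lit 0xc27d99582) (.leaf (nat_lit 0xc27d4f582) (nat_lit 1792))
 (.leaf (nat_lit 0xc27d99582) (nat_lit 1536))
)) (.node (nat_lit 0xc4155c482) (.node (nat_lit 0xc41508402) (.leaf (nat_lit 0xc27def502) (nat_lit 1792))
 (.leaf (nat_lit 0xc41508402) (nat_lit 1281))
) (.node (nat_lit 0xc41598402) (.leaf (nat_lit 0xc4155c482) (nat_lit 1537))
 (.leaf (nat_lit 0xc41598402) (nat_lit 1794))
))) (.node (nat_lit 0xc435fc482) (.node (nat_lit 0xc4356e482) (.node (nat_lit 0xc4353a402) (.leaf (nat_lit 0xc415ce482) (nat_lit 2050))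
 (.leaf (nat_lit 0xc4353a402) (nat_lit 1793))
) (.node (nat_lit 0xc435aa402) (.leaf (nat_lit 0xc4356e482) (nat_lit 2049))
 (.leaf (nat_lit 0xc435aa402) (nat_lit 1793))
)) (.node (nat_lit 0xc51d7c482) (.node (nat_lit 0xc51d08402) (.leaf (nat_lit 0xc435fc482) (nat_lit 1537))
 (.leaf (nat_lit 0xc51d08402) (nat_lit 769))
) (.node (nat_lit 0xc51d98402) (.leaf (nat_lit 0xc51d7c482) (nat_lit 1793))
 (.leaf (nat_lit 0xc51d98402) (nat_lit 2306))
)))) (.node (nat_lit 0xc604efd82) (.node (nat_lit 0xc53daa402) (.node (nat_lit 0xc53d3a402) (.leaf (nat_lit 0xc51dee482) (nat_lit 1537))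
 (.node (nat_lit 0xc53d4e482) (.leaf (nat_lit 0xc53d3a402) (nat_lit 1281))
 (.leaf (nat_lit 0xc53d4e482) (nat_lit 2305))
)) (.node (nat_lit 0xc60409d02) (.node (nat_lit 0xc53ddc482) (.leaf (nat_lit 0xc53daa402) (nat_lit 2049))
 (.leaf (nat_lit 0xc53ddc482) (nat_lit 1025))
) (.node (nat_lit 0xc60419d82) (.leaf (nat_lit 0xc60409d02) (nat_lit 1538))
 (.leaf (nat_lit 0xc60419d82) (nat_lit 1794))
))) (.node (nat_lit 0xc624cfd02) (.node (nat_lit 0xc6242bd82) (.node (nat_lit 0xc604fdd02) (.leaf (nat_lit 0xc604efd82) (nat_lit 2050))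
 (.leaf (nat_lit 0xc604fdd02) (nat_lit 1794))
) (.node (nat_lit 0xc6243bd02) (.leaf (nat_lit 0xc6242bd82) (nat_lit 2050))
 (.leaf (nat_lit 0xc6243bd02) (nat_lit 2050))
)) (.node (nat_lit 0xc70409502) (.node (nat_lit 0xc624ddd82) (.leaf (nat_lit 0xc624cfd02) (nat_lit 2050))
 (.leaf (nat_lit 0xc624ddd82) (nat_lit 1794))
) (.node (nat_lit 0xc70419582) (.leaf (nat_lit 0xc70409502) (nat_lit 1282))
 (.leaf (nat_lit 0xc70419582) (nat_lit 1538))
))))) (.node (nat_lit 0xca5d5b582) (.node (nat_lit 0xc9554bd82) (.node (nat_lit 0xc7243b502) (.node (nat_lit 0xc704dd502) (.leaf (nat_lit 0xc704cf582) (nat_lit 1794))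
 (.node (nat_lit 0xc7242b582) (.leaf (nat_lit 0xc704dd502) (nat_lit 1538))
 (.leaf (nat_lit 0xc7242b582) (nat_lit 1792))
)) (.node (nat_lit 0xc724fd582) (.node (nat_lit 0xc724ef502) (.leaf (nat_lit 0xc7243b502) (nat_lit 1794))
 (.leaf (nat_lit 0xc724ef502) (nat_lit 1792))
) (.node (nat_lit 0xc9551fd02) (.leaf (nat_lit 0xc724fd582) (nat_lit 1536))
 (.leaf (nat_lit 0xc9551fd02) (nat_lit 1280))
))) (.node (nat_lit 0xc9757bd82) (.node (nat_lit 0xc955ebd02) (.node (nat_lit 0xc955bdd82) (.leaf (nat_lit 0xc9554bd82) (nat_lit 1536))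
 (.leaf (nat_lit 0xc955bdd82) (nat_lit 1026))
) (.node (nat_lit 0xc9752fd02) (.leaf (nat_lit 0xc955ebd02) (nat_lit 1282))
 (.leaf (nat_lit 0xc9752fd02) (nat_lit 1280))
)) (.node (nat_lit 0xc975dbd02) (.node (nat_lit 0xc9758dd82) (.leaf (nat_lit 0xc9757bd82) (nat_lit 1536))
 (.leaf (nat_lit 0xc9758dd82) (nat_lit 1026))
) (.node (nat_lit 0xca5d2f502) (.leaf (nat_lit 0xc975dbd02) (nat_lit 1282))
 (.leaf (nat_lit 0xca5d2f502) (nat_lit 1792))
)))) (.node (nat_lit 0xcc151e482) (.node (nat_lit 0xca7d1f502) (.node (nat_lit 0xca5d8d582) (.leaf (nat_lit 0xca5d5b582) (nat_lit 1794))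
 (.node (nat_lit 0xca5dfb502) (.leaf (nat_lit 0xca5d8d582) (nat_lit 1538))
 (.leaf (nat_lit 0xca5dfb502) (nat_lit 1794))
)) (.node (nat_lit 0xca7dbd582) (.node (nat_lit 0xca7d6b582) (.leaf (nat_lit 0xca7d1f502) (nat_lit 1792))
 (.leaf (nat_lit 0xca7d6b582) (nat_lit 1794))
) (.node (nat_lit 0xca7dcb502) (.leaf (nat_lit 0xca7dbd582) (nat_lit 1538))
 (.leaf (nat_lit 0xca7dcb502) (nat_lit 1794))
))) (.node (nat_lit 0xcc352e482) (.node (nat_lit 0xcc158c482) (.node (nat_lit 0xcc154a402) (.leaf (nat_lit 0xcc151e482) (nat_lit 2049))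
 (.leaf (nat_lit 0xcc154a402) (nat_lit 1793))
) (.node (nat_lit 0xcc15da402) (.leaf (nat_lit 0xcc158c482) (nat_lit 1537))
 (.leaf (nat_lit 0xcc15da402) (nat_lit 1793))
)) (.node (nat_lit 0xcc35bc482) (.node (nat_lit 0xcc357a402) (.leaf (nat_lit 0xcc352e482) (nat_lit 2049))
 (.leaf (nat_lit 0xcc357a402) (nat_lit 1793))
) (.node (nat_lit 0xcc35ea402) (.leaf (nat_lit 0xcc35bc482) (nat_lit 1537))
 (.leaf (nat_lit 0xcc35ea402) (nat_lit 1793))
))))))) (.node (nat_lit 0x106614b502) (.node (nat_lit 0x10224ce102) (.node (nat_lit 0xce24bdd82) (.node (nat_lit 0xcd3dfa402) (.node (nat_lit 0xcd1dca402) (.node (nat_lit 0xcd1d5a402) (.leaf (nat_lit 0xcd1d2e482) (nat_lit 2305))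
 (.node (nat_lit 0xcd1dbc482) (.leaf (nat_lit 0xcd1d5a402) (nat_lit 1281))
 (.leaf (nat_lit 0xcd1dbc482) (nat_lit 1025))
)) (.node (nat_lit 0xcd3d6a402) (.node (nat_lit 0xcd3d1e482) (.leaf (nat_lit 0xcd1dca402) (nat_lit 2049))
 (.leaf (nat_lit 0xcd3d1e482) (nat_lit 2305))
) (.node (nat_lit 0xcd3d8c482) (.leaf (nat_lit 0xcd3d6a402) (nat_lit 1281))
 (.leaf (nat_lit 0xcd3d8c482) (nat_lit 1025))
))) (.node (nat_lit 0xce049fd02) (.node (nat_lit 0xce047bd82) (.node (nat_lit 0xce046bd02) (.leaf (nat_lit 0xcd3dfa402) (nat_lit 2049))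
 (.leaf (nat_lit 0xce046bd02) (nat_lit 2050))
) (.node (nat_lit 0xce048dd82) (.leaf (nat_lit 0xce047bd82) (nat_lit 2050))
 (.leaf (nat_lit 0xce048dd82) (nat_lit 1794))
)) (.node (nat_lit 0xce245bd02) (.node (nat_lit 0xce244bd82) (.leaf (nat_lit 0xce049fd02) (nat_lit 2050))
 (.leaf (nat_lit 0xce244bd82) (nat_lit 2050))
) (.node (nat_lit 0xce24afd02) (.leaf (nat_lit 0xce245bd02) (nat_lit 2050))
 (.leaf (nat_lit 0xce24afd02) (nat_lit 2050))
)))) (.node (nat_lit 0xcf248d582) (.node (nat_lit 0xcf04af502) (.node (nat_lit 0xcf046b582) (.leaf (nat_lit 0xce24bdd82) (nat_lit 1794))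
 (.node (nat_lit 0xcf047b502) (.leaf (nat_lit 0xcf046b582) (nat_lit 1794))
 (.leaf (nat_lit 0xcf047b502) (nat_lit 1792))
)) (.node (nat_lit 0xcf244b502) (.node (nat_lit 0xcf04bd582) (.leaf (nat_lit 0xcf04af502) (nat_lit 1794))
 (.leaf (nat_lit 0xcf04bd582) (nat_lit 1538))
) (.node (nat_lit 0xcf245b582) (.leaf (nat_lit 0xcf244b502) (nat_lit 1792))
 (.leaf (nat_lit 0xcf245b582) (nat_lit 1794))
))) (.node (nat_lit 0x102048c102) (.node (nat_lit 0x1020408102) (.node (nat_lit 0xcf249f502) (.leaf (nat_lit 0xcf248d582) (nat_lit 1538))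
 (.leaf (nat_lit 0xcf249f502) (nat_lit 1794))
) (.node (nat_lit 0x1020418182) (.leaf (nat_lit 0x1020408102) (nat_lit 0))
 (.leaf (nat_lit 0x1020418182) (nat_lit 1538))
)) (.node (nat_lit 0x102244a102) (.node (nat_lit 0x102049e182) (.leaf (nat_lit 0x102048c102) (nat_lit 1538))
 (.leaf (nat_lit 0x102049e182) (nat_lit 1537))
) (.node (nat_lit 0x102245a182) (.leaf (nat_lit 0x102244a102) (nat_lit 1281))
 (.leaf (nat_lit 0x102245a182) (nat_lit 1794))
))))) (.node (nat_lit 0x103245b582) (.node (nat_lit 0x102754a102) (.node (nat_lit 0x102555c182) (.node (nat_lit 0x10224dc182) (.leaf (nat_lit 0x10224ce102) (nat_lit 1794))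
 (.node (nat_lit 0x1025508102) (.leaf (nat_lit 0x10224dc182) (nat_lit 256))
 (.leaf (nat_lit 0x1025508102) (nat_lit 1793))
)) (.node (nat_lit 0x10255da182) (.node (nat_lit 0x102558c102) (.leaf (nat_lit 0x102555c182) (nat_lit 2049))
 (.leaf (nat_lit 0x102558c102) (nat_lit 2049))
) (.node (nat_lit 0x102751e182) (.leaf (nat_lit 0x10255da182) (nat_lit 2305))
 (.leaf (nat_lit 0x102751e182) (nat_lit 2305))
))) (.node (nat_lit 0x1030419582) (.node (nat_lit 0x10275ce102) (.node (nat_lit 0x1027598182) (.leaf (nat_lit 0x102754a102) (nat_lit 2305))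
 (.leaf (nat_lit 0x1027598182) (nat_lit 2049))
) (.node (nat_lit 0x1030409502) (.leaf (nat_lit 0x10275ce102) (nat_lit 2305))
 (.leaf (nat_lit 0x1030409502) (nat_lit 1794))
)) (.node (nat_lit 0x10304dd502) (.node (nat_lit 0x10304cf582) (.leaf (nat_lit 0x1030419582) (nat_lit 2050))
 (.leaf (nat_lit 0x10304cf582) (nat_lit 2306))
) (.node (nat_lit 0x103244b502) (.leaf (nat_lit 0x10304dd502) (nat_lit 2050))
 (.leaf (nat_lit 0x103244b502) (nat_lit 2306))
)))) (.node (nat_lit 0x106214a402) (.node (nat_lit 0x1060108402) (.node (nat_lit 0x103248d582) (.leaf (nat_lit 0x103245b582) (nat_lit 2306))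
 (.node (nat_lit 0x103249f502) (.leaf (nat_lit 0x103248d582) (nat_lit 2050))
 (.leaf (nat_lit 0x103249f502) (nat_lit 2306))
)) (.node (nat_lit 0x1060198402) (.node (nat_lit 0x106010c482) (.leaf (nat_lit 0x1060108402) (nat_lit 1794))
 (.leaf (nat_lit 0x106010c482) (nat_lit 2050))
) (.node (nat_lit 0x106019e482) (.leaf (nat_lit 0x1060198402) (nat_lit 2050))
 (.leaf (nat_lit 0x106019e482) (nat_lit 2306))
))) (.node (nat_lit 0x1064109502) (.node (nat_lit 0x10621da402) (.node (nat_lit 0x106214e482) (.leaf (nat_lit 0x106214a402) (nat_lit 2306))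
 (.leaf (nat_lit 0x106214e482) (nat_lit 2306))
) (.node (nat_lit 0x10621dc482) (.leaf (nat_lit 0x10621da402) (nat_lit 2306))
 (.leaf (nat_lit 0x10621dc482) (nat_lit 2050))
)) (.node (nat_lit 0x10641db582) (.node (nat_lit 0x106410d582) (.leaf (nat_lit 0x1064109502) (nat_lit 1281))
 (.leaf (nat_lit 0x106410d582) (nat_lit 1537))
) (.node (nat_lit 0x10641dd502) (.leaf (nat_lit 0x10641db582) (nat_lit 1793))
 (.leaf (nat_lit 0x10641dd502) (nat_lit 1537))
)))))) (.node (nat_lit 0x10b04ef502) (.node (nat_lit 0x10a04bc182) (.node (nat_lit 0x10715ce482) (.node (nat_lit 0x106619f502) (.node (nat_lit 0x106614f582) (.leaf (nat_lit 0x106614b502) (nat_lit 1793))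
 (.node (nat_lit 0x1066199582) (.leaf (nat_lit 0x106614f582) (nat_lit 1793))
 (.leaf (nat_lit 0x1066199582) (nat_lit 1537))
)) (.node (nat_lit 0x107155c482) (.node (nat_lit 0x1071508402) (.leaf (nat_lit 0x106619f502) (nat_lit 1793))
 (.leaf (nat_lit 0x1071508402) (nat_lit 770))
) (.node (nat_lit 0x1071598402) (.leaf (nat_lit 0x107155c482) (nat_lit 1026))
 (.leaf (nat_lit 0x1071598402) (nat_lit 1792))
))) (.node (nat_lit 0x10735da402) (.node (nat_lit 0x107354a402) (.node (nat_lit 0x107351e482) (.leaf (nat_lit 0x10715ce482) (nat_lit 1536))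
 (.leaf (nat_lit 0x107351e482) (nat_lit 1538))
) (.node (nat_lit 0x107358c482) (.leaf (nat_lit 0x107354a402) (nat_lit 1282))
 (.leaf (nat_lit 0x107358c482) (nat_lit 1024))
)) (.node (nat_lit 0x10a043a182) (.node (nat_lit 0x10a042a102) (.leaf (nat_lit 0x10735da402) (nat_lit 1280))
 (.leaf (nat_lit 0x10a042a102) (nat_lit 1281))
) (.node (nat_lit 0x10a04ae102) (.leaf (nat_lit 0x10a043a182) (nat_lit 1794))
 (.leaf (nat_lit 0x10a04ae102) (nat_lit 1794))
)))) (.node (nat_lit 0x10a55aa102) (.node (nat_lit 0x10a24ee102) (.node (nat_lit 0x10a246a102) (.leaf (nat_lit 0x10a04bc182) (nat_lit 1025))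
 (.node (nat_lit 0x10a247a182) (.leaf (nat_lit 0x10a246a102) (nat_lit 1281))
 (.leaf (nat_lit 0x10a247a182) (nat_lit 1794))
)) (.node (nat_lit 0x10a552e102) (.node (nat_lit 0x10a24fc182) (.leaf (nat_lit 0x10a24ee102) (nat_lit 1794))
 (.leaf (nat_lit 0x10a24fc182) (nat_lit 1025))
) (.node (nat_lit 0x10a557a182) (.leaf (nat_lit 0x10a552e102) (nat_lit 2305))
 (.leaf (nat_lit 0x10a557a182) (nat_lit 2305))
))) (.node (nat_lit 0x10a75bc182) (.node (nat_lit 0x10a753a182) (.node (nat_lit 0x10a55fc182) (.leaf (nat_lit 0x10a55aa102) (nat_lit 2305))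
 (.leaf (nat_lit 0x10a55fc182) (nat_lit 2049))
) (.node (nat_lit 0x10a756e102) (.leaf (nat_lit 0x10a753a182) (nat_lit 2305))
 (.leaf (nat_lit 0x10a756e102) (nat_lit 2305))
)) (.node (nat_lit 0x10b042b582) (.node (nat_lit 0x10a75ea102) (.leaf (nat_lit 0x10a75bc182) (nat_lit 2049))
 (.leaf (nat_lit 0x10a75ea102) (nat_lit 2305))
) (.node (nat_lit 0x10b043b502) (.leaf (nat_lit 0x10b042b582) (nat_lit 2306))
 (.leaf (nat_lit 0x10b043b502) (nat_lit 2306))
))))) (.node (nat_lit 0x10e416f502) (.node (nat_lit 0x10e016e482) (.node (nat_lit 0x10b247b502) (.node (nat_lit 0x10b04fd582) (.leaf (nat_lit 0x10b04ef502) (nat_lit 2306))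
 (.node (nat_lit 0x10b246b582) (.leaf (nat_lit 0x10b04fd582) (nat_lit 2050))
 (.leaf (nat_lit 0x10b246b582) (nat_lit 2306))
)) (.node (nat_lit 0x10b24bd582) (.node (nat_lit 0x10b24af502) (.leaf (nat_lit 0x10b247b502) (nat_lit 2306))
 (.leaf (nat_lit 0x10b24af502) (nat_lit 2306))
) (.node (nat_lit 0x10e016a402) (.leaf (nat_lit 0x10b24bd582) (nat_lit 2050))
 (.leaf (nat_lit 0x10e016a402) (nat_lit 2306))
))) (.node (nat_lit 0x10e212e482) (.node (nat_lit 0x10e01fc482) (.node (nat_lit 0x10e01fa402) (.leaf (nat_lit 0x10e016e482) (nat_lit 2306))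
 (.leaf (nat_lit 0x10e01fa402) (nat_lit 2306))
) (.node (nat_lit 0x10e212a402) (.leaf (nat_lit 0x10e01fc482) (nat_lit 2050))
 (.leaf (nat_lit 0x10e212a402) (nat_lit 2306))
)) (.node (nat_lit 0x10e21bc482) (.node (nat_lit 0x10e21ba402) (.leaf (nat_lit 0x10e212e482) (nat_lit 2306))
 (.leaf (nat_lit 0x10e21ba402) (nat_lit 2306))
) (.node (nat_lit 0x10e416b582) (.leaf (nat_lit 0x10e21bc482) (nat_lit 2050))
 (.leaf (nat_lit 0x10e416b582) (nat_lit 1793))
)))) (.node (nat_lit 0x10f152e482) (.node (nat_lit 0x10e612b582) (.node (nat_lit 0x10e41bb502) (.leaf (nat_lit 0x10e416f502) (nat_lit 1793))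
 (.node (nat_lit 0x10e41bd582) (.leaf (nat_lit 0x10e41bb502) (nat_lit 1793))
 (.leaf (nat_lit 0x10e41bd582) (nat_lit 1537))
)) (.node (nat_lit 0x10e61fb502) (.node (nat_lit 0x10e612f502) (.leaf (nat_lit 0x10e612b582) (nat_lit 1793))
 (.leaf (nat_lit 0x10e612f502) (nat_lit 1793))
) (.node (nat_lit 0x10e61fd582) (.leaf (nat_lit 0x10e61fb502) (nat_lit 1793))
 (.leaf (nat_lit 0x10e61fd582) (nat_lit 1537))
))) (.node (nat_lit 0x10f353a402) (.node (nat_lit 0x10f15bc482) (.node (nat_lit 0x10f157a402) (.leaf (nat_lit 0x10f152e482) (nat_lit 1536))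
 (.leaf (nat_lit 0x10f157a402) (nat_lit 1280))
) (.node (nat_lit 0x10f15ea402) (.leaf (nat_lit 0x10f15bc482) (nat_lit 1026))
 (.leaf (nat_lit 0x10f15ea402) (nat_lit 1282))
)) (.node (nat_lit 0x10f35aa402) (.node (nat_lit 0x10f356e482) (.leaf (nat_lit 0x10f353a402) (nat_lit 1280))
 (.leaf (nat_lit 0x10f356e482) (nat_lit 1536))
) (.node (nat_lit 0x10f35fc482) (.leaf (nat_lit 0x10f35aa402) (nat_lit 1282))
 (.leaf (nat_lit 0x10f35fc482) (nat_lit 1026))
))))))))) (.node (nat_lit 0x18a012a402) (.node (nat_lit 0x1444d09d02) (.node (nat_lit 0x11a2d5a182) (.node (nat_lit 0x1153d8cd82) (.node (nat_lit 0x1122dfc182) (.node (nat_lit 0x1116dbbd02) (.node (nat_lit 0x1114dfdd02) (.node (nat_lit 0x1114d3dd82) (.leaf (nat_lit 0x1114d09d02) (nat_lit 1281))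
 (.node (nat_lit 0x1114dcbd82) (.leaf (nat_lit 0x1114d3dd82) (nat_lit 1537))
 (.leaf (nat_lit 0x1114dcbd82) (nat_lit 2049))
)) (.node (nat_lit 0x1116d7bd82) (.node (nat_lit 0x1116d4fd02) (.leaf (nat_lit 0x1114dfdd02) (nat_lit 2050))
 (.leaf (nat_lit 0x1116d4fd02) (nat_lit 1793))
) (.node (nat_lit 0x1116d8dd82) (.leaf (nat_lit 0x1116d7bd82) (nat_lit 2049))
 (.leaf (nat_lit 0x1116d8dd82) (nat_lit 1537))
))) (.node (nat_lit 0x1120dba182) (.node (nat_lit 0x1120d3c182) (.node (nat_lit 0x1120d08102) (.leaf (nat_lit 0x1116dbbd02) (nat_lit 1793))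
 (.leaf (nat_lit 0x1120d08102) (nat_lit 1794))
) (.node (nat_lit 0x1120d8c102) (.leaf (nat_lit 0x1120d3c182) (nat_lit 2050))
 (.leaf (nat_lit 0x1120d8c102) (nat_lit 2050))
)) (.node (nat_lit 0x1122d7a182) (.node (nat_lit 0x1122d4e102) (.leaf (nat_lit 0x1120dba182) (nat_lit 2306))
 (.leaf (nat_lit 0x1122d4e102) (nat_lit 2306))
) (.node (nat_lit 0x1122dca102) (.leaf (nat_lit 0x1122d7a182) (nat_lit 2306))
 (.leaf (nat_lit 0x1122dca102) (nat_lit 2306))
)))) (.node (nat_lit 0x1127dbc182) (.node (nat_lit 0x1125d8c102) (.node (nat_lit 0x1125d08102) (.leaf (nat_lit 0x1122dfc182) (nat_lit 2050))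
 (.node (nat_lit 0x1125d7c182) (.leaf (nat_lit 0x1125d08102) (nat_lit 1282))
 (.leaf (nat_lit 0x1125d7c182) (nat_lit 1538))
)) (.node (nat_lit 0x1127d3a182) (.node (nat_lit 0x1125dfa182) (.leaf (nat_lit 0x1125d8c102) (nat_lit 1538))
 (.leaf (nat_lit 0x1125dfa182) (nat_lit 1794))
) (.node (nat_lit 0x1127d4e102) (.leaf (nat_lit 0x1127d3a182) (nat_lit 1792))
 (.leaf (nat_lit 0x1127d4e102) (nat_lit 1794))
))) (.node (nat_lit 0x1151dbcd02) (.node (nat_lit 0x1151d08d02) (.node (nat_lit 0x1127dca102) (.leaf (nat_lit 0x1127dbc182) (nat_lit 1536))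
 (.leaf (nat_lit 0x1127dca102) (nat_lit 1792))
) (.node (nat_lit 0x1151d7cd82) (.leaf (nat_lit 0x1151d08d02) (nat_lit 1025))
 (.leaf (nat_lit 0x1151d7cd82) (nat_lit 1793))
)) (.node (nat_lit 0x1153d3ad82) (.node (nat_lit 0x1151dcad82) (.leaf (nat_lit 0x1151dbcd02) (nat_lit 1793))
 (.leaf (nat_lit 0x1151dcad82) (nat_lit 1793))
) (.node (nat_lit 0x1153d4ed02) (.leaf (nat_lit 0x1153d3ad82) (nat_lit 2049))
 (.leaf (nat_lit 0x1153d4ed02) (nat_lit 1537))
))))) (.node (nat_lit 0x116614ed02) (.node (nat_lit 0x116214fd02) (.node (nat_lit 0x116010dd82) (.node (nat_lit 0x1153dfad02) (.leaf (nat_lit 0x1153d8cd82) (nat_lit 1281))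
 (.node (nat_lit 0x1160109d02) (.leaf (nat_lit 0x1153dfad02) (nat_lit 2049))
 (.leaf (nat_lit 0x1160109d02) (nat_lit 1026))
)) (.node (nat_lit 0x11601fdd02) (.node (nat_lit 0x11601fbd82) (.leaf (nat_lit 0x116010dd82) (nat_lit 1282))
 (.leaf (nat_lit 0x11601fbd82) (nat_lit 1792))
) (.node (nat_lit 0x116214bd82) (.leaf (nat_lit 0x11601fdd02) (nat_lit 1794))
 (.leaf (nat_lit 0x116214bd82) (nat_lit 1794))
))) (.node (nat_lit 0x116410cd82) (.node (nat_lit 0x11621bdd82) (.node (nat_lit 0x11621bbd02) (.leaf (nat_lit 0x116214fd02) (nat_lit 1538))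
 (.leaf (nat_lit 0x11621bbd02) (nat_lit 1536))
) (.node (nat_lit 0x1164108d02) (.leaf (nat_lit 0x11621bdd82) (nat_lit 1280))
 (.leaf (nat_lit 0x1164108d02) (nat_lit 1282))
)) (.node (nat_lit 0x11641bcd02) (.node (nat_lit 0x11641bad82) (.leaf (nat_lit 0x116410cd82) (nat_lit 1538))
 (.leaf (nat_lit 0x11641bad82) (nat_lit 1794))
) (.node (nat_lit 0x116614ad82) (.leaf (nat_lit 0x11641bcd02) (nat_lit 1538))
 (.leaf (nat_lit 0x116614ad82) (nat_lit 1792))
)))) (.node (nat_lit 0x1196d5bd02) (.node (nat_lit 0x1194d1fd02) (.node (nat_lit 0x11661fad02) (.leaf (nat_lit 0x116614ed02) (nat_lit 1794))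
 (.node (nat_lit 0x11661fcd82) (.leaf (nat_lit 0x11661fad02) (nat_lit 1792))
 (.leaf (nat_lit 0x11661fcd82) (nat_lit 1536))
)) (.node (nat_lit 0x1194dddd82) (.node (nat_lit 0x1194d2bd82) (.leaf (nat_lit 0x1194d1fd02) (nat_lit 1793))
 (.leaf (nat_lit 0x1194d2bd82) (nat_lit 2049))
) (.node (nat_lit 0x1194debd02) (.leaf (nat_lit 0x1194dddd82) (nat_lit 1537))
 (.leaf (nat_lit 0x1194debd02) (nat_lit 1793))
))) (.node (nat_lit 0x11a0d1e182) (.node (nat_lit 0x1196d99d82) (.node (nat_lit 0x1196d6fd82) (.leaf (nat_lit 0x1196d5bd02) (nat_lit 1793))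
 (.leaf (nat_lit 0x1196d6fd82) (nat_lit 2049))
) (.node (nat_lit 0x1196dafd02) (.leaf (nat_lit 0x1196d99d82) (nat_lit 1537))
 (.leaf (nat_lit 0x1196dafd02) (nat_lit 1793))
)) (.node (nat_lit 0x11a0d98182) (.node (nat_lit 0x11a0d2a102) (.leaf (nat_lit 0x11a0d1e182) (nat_lit 2306))
 (.leaf (nat_lit 0x11a0d2a102) (nat_lit 2306))
) (.node (nat_lit 0x11a0dae102) (.leaf (nat_lit 0x11a0d98182) (nat_lit 2050))
 (.leaf (nat_lit 0x11a0dae102) (nat_lit 2306))
)))))) (.node (nat_lit 0x11e41dad02) (.node (nat_lit 0x11d1deed02) (.node (nat_lit 0x11a5ddc182) (.node (nat_lit 0x11a2dea102) (.node (nat_lit 0x11a2d6e102) (.leaf (nat_lit 0x11a2d5a182) (nat_lit 2306))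
 (.node (nat_lit 0x11a2ddc182) (.leaf (nat_lit 0x11a2d6e102) (nat_lit 2306))
 (.leaf (nat_lit 0x11a2ddc182) (nat_lit 2050))
)) (.node (nat_lit 0x11a5d5a182) (.node (nat_lit 0x11a5d2e102) (.leaf (nat_lit 0x11a2dea102) (nat_lit 2306))
 (.leaf (nat_lit 0x11a5d2e102) (nat_lit 1792))
) (.node (nat_lit 0x11a5daa102) (.leaf (nat_lit 0x11a5d5a182) (nat_lit 1794))
 (.leaf (nat_lit 0x11a5daa102) (nat_lit 1794))
))) (.node (nat_lit 0x11a7dee102) (.node (nat_lit 0x11a7d6a102) (.node (nat_lit 0x11a7d1e182) (.leaf (nat_lit 0x11a5ddc182) (nat_lit 1538))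
 (.leaf (nat_lit 0x11a7d1e182) (nat_lit 1794))
) (.node (nat_lit 0x11a7d98182) (.leaf (nat_lit 0x11a7d6a102) (nat_lit 1792))
 (.leaf (nat_lit 0x11a7d98182) (nat_lit 1538))
)) (.node (nat_lit 0x11d1d5ad02) (.node (nat_lit 0x11d1d2ed82) (.leaf (nat_lit 0x11a7dee102) (nat_lit 1794))
 (.leaf (nat_lit 0x11d1d2ed82) (nat_lit 2049))
) (.node (nat_lit 0x11d1d98d82) (.leaf (nat_lit 0x11d1d5ad02) (nat_lit 1537))
 (.leaf (nat_lit 0x11d1d98d82) (nat_lit 1281))
)))) (.node (nat_lit 0x11e0199d82) (.node (nat_lit 0x11d3daad02) (.node (nat_lit 0x11d3d1ed02) (.leaf (nat_lit 0x11d1deed02) (nat_lit 2049))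
 (.node (nat_lit 0x11d3d6ad82) (.leaf (nat_lit 0x11d3d1ed02) (nat_lit 1537))
 (.leaf (nat_lit 0x11d3d6ad82) (nat_lit 2049))
)) (.node (nat_lit 0x11e016bd02) (.node (nat_lit 0x11d3ddcd82) (.leaf (nat_lit 0x11d3daad02) (nat_lit 2049))
 (.leaf (nat_lit 0x11d3ddcd82) (nat_lit 1281))
) (.node (nat_lit 0x11e016fd82) (.leaf (nat_lit 0x11e016bd02) (nat_lit 1536))
 (.leaf (nat_lit 0x11e016fd82) (nat_lit 1792))
))) (.node (nat_lit 0x11e21dbd02) (.node (nat_lit 0x11e212bd82) (.node (nat_lit 0x11e019fd02) (.leaf (nat_lit 0x11e0199d82) (nat_lit 1282))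
 (.leaf (nat_lit 0x11e019fd02) (nat_lit 1538))
) (.node (nat_lit 0x11e212fd02) (.leaf (nat_lit 0x11e212bd82) (nat_lit 1792))
 (.leaf (nat_lit 0x11e212fd02) (nat_lit 1536))
)) (.node (nat_lit 0x11e416ad82) (.node (nat_lit 0x11e21ddd82) (.leaf (nat_lit 0x11e21dbd02) (nat_lit 1538))
 (.leaf (nat_lit 0x11e21ddd82) (nat_lit 1282))
) (.node (nat_lit 0x11e416ed02) (.leaf (nat_lit 0x11e416ad82) (nat_lit 1794))
 (.leaf (nat_lit 0x11e416ed02) (nat_lit 1792))
))))) (.node (nat_lit 0x1420418d82) (.node (nat_lit 0x1415d7cd82) (.node (nat_lit 0x11e612ed82) (.node (nat_lit 0x11e41dcd82) (.leaf (nat_lit 0x11e41dad02) (nat_lit 1794))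
 (.node (nat_lit 0x11e612ad02) (.leaf (nat_lit 0x11e41dcd82) (nat_lit 1538))
 (.leaf (nat_lit 0x11e612ad02) (nat_lit 1792))
)) (.node (nat_lit 0x11e619ed02) (.node (nat_lit 0x11e6198d82) (.leaf (nat_lit 0x11e612ed82) (nat_lit 1794))
 (.leaf (nat_lit 0x11e6198d82) (nat_lit 1538))
) (.node (nat_lit 0x1415d08d02) (.leaf (nat_lit 0x11e619ed02) (nat_lit 1794))
 (.leaf (nat_lit 0x1415d08d02) (nat_lit 514))
))) (.node (nat_lit 0x1417d5ad02) (.node (nat_lit 0x1415dcad82) (.node (nat_lit 0x1415dbcd02) (.leaf (nat_lit 0x1415d7cd82) (nat_lit 1538))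
 (.leaf (nat_lit 0x1415dbcd02) (nat_lit 1538))
) (.node (nat_lit 0x1417d2ed82) (.leaf (nat_lit 0x1415dcad82) (nat_lit 1280))
 (.leaf (nat_lit 0x1417d2ed82) (nat_lit 1792))
)) (.node (nat_lit 0x1417deed02) (.node (nat_lit 0x1417d98d82) (.leaf (nat_lit 0x1417d5ad02) (nat_lit 1026))
 (.leaf (nat_lit 0x1417d98d82) (nat_lit 768))
) (.node (nat_lit 0x1420408d02) (.leaf (nat_lit 0x1417deed02) (nat_lit 1792))
 (.leaf (nat_lit 0x1420408d02) (nat_lit 1794))
)))) (.node (nat_lit 0x1430409d02) (.node (nat_lit 0x142244ad82) (.node (nat_lit 0x14204aed82) (.leaf (nat_lit 0x1420418d82) (nat_lit 2050))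
 (.node (nat_lit 0x14204bcd02) (.leaf (nat_lit 0x14204aed82) (nat_lit 2306))
 (.leaf (nat_lit 0x14204bcd02) (nat_lit 2050))
)) (.node (nat_lit 0x14224eed02) (.node (nat_lit 0x142245ad02) (.leaf (nat_lit 0x142244ad82) (nat_lit 2304))
 (.leaf (nat_lit 0x142245ad02) (nat_lit 2306))
) (.node (nat_lit 0x14224fcd82) (.leaf (nat_lit 0x14224eed02) (nat_lit 2304))
 (.leaf (nat_lit 0x14224fcd82) (nat_lit 2048))
))) (.node (nat_lit 0x143244bd82) (.node (nat_lit 0x14304efd82) (.node (nat_lit 0x1430419d82) (.leaf (nat_lit 0x1430409d02) (nat_lit 1282))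
 (.leaf (nat_lit 0x1430419d82) (nat_lit 1538))
) (.node (nat_lit 0x14304fdd02) (.leaf (nat_lit 0x14304efd82) (nat_lit 2048))
 (.leaf (nat_lit 0x14304fdd02) (nat_lit 2050))
)) (.node (nat_lit 0x14324afd02) (.node (nat_lit 0x143245bd02) (.leaf (nat_lit 0x143244bd82) (nat_lit 2050))
 (.leaf (nat_lit 0x143245bd02) (nat_lit 1794))
) (.node (nat_lit 0x14324bdd82) (.leaf (nat_lit 0x14324afd02) (nat_lit 1792))
 (.leaf (nat_lit 0x14324bdd82) (nat_lit 1536))
))))))) (.node (nat_lit 0x14e3d3a402) (.node (nat_lit 0x1497d8cd82) (.node (nat_lit 0x1463dca402) (.node (nat_lit 0x1446dafd02) (.node (nat_lit 0x1444dfdd02) (.node (nat_lit 0x1444d3dd82) (.leaf (nat_lit 0x1444d09d02) (nat_lit 1026))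
 (.node (nat_lit 0x1444dcbd82) (.leaf (nat_lit 0x1444d3dd82) (nat_lit 1282))
 (.leaf (nat_lit 0x1444dcbd82) (nat_lit 1792))
)) (.node (nat_lit 0x1446d6fd82) (.node (nat_lit 0x1446d5bd02) (.leaf (nat_lit 0x1444dfdd02) (nat_lit 2048))
 (.leaf (nat_lit 0x1446d5bd02) (nat_lit 1538))
) (.node (nat_lit 0x1446d99d82) (.leaf (nat_lit 0x1446d6fd82) (nat_lit 1794))
 (.leaf (nat_lit 0x1446d99d82) (nat_lit 1280))
))) (.node (nat_lit 0x1461dee482) (.node (nat_lit 0x1461d7c482) (.node (nat_lit 0x1461d08402) (.leaf (nat_lit 0x1446dafd02) (nat_lit 1536))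
 (.leaf (nat_lit 0x1461d08402) (nat_lit 1025))
) (.node (nat_lit 0x1461d98402) (.leaf (nat_lit 0x1461d7c482) (nat_lit 2049))
 (.leaf (nat_lit 0x1461d98402) (nat_lit 2050))
)) (.node (nat_lit 0x1463d5a402) (.node (nat_lit 0x1463d2e482) (.leaf (nat_lit 0x1461dee482) (nat_lit 1793))
 (.leaf (nat_lit 0x1463d2e482) (nat_lit 2306))
) (.node (nat_lit 0x1463dbc482) (.leaf (nat_lit 0x1463d5a402) (nat_lit 1537))
 (.leaf (nat_lit 0x1463dbc482) (nat_lit 1281))
)))) (.node (nat_lit 0x1472dca402) (.node (nat_lit 0x1470d98402) (.node (nat_lit 0x1470d08402) (.leaf (nat_lit 0x1463dca402) (nat_lit 2305))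
 (.node (nat_lit 0x1470d3c482) (.leaf (nat_lit 0x1470d08402) (nat_lit 513))
 (.leaf (nat_lit 0x1470d3c482) (nat_lit 1537))
)) (.node (nat_lit 0x1472d5a402) (.node (nat_lit 0x1470dae482) (.leaf (nat_lit 0x1470d98402) (nat_lit 2050))
 (.leaf (nat_lit 0x1470dae482) (nat_lit 1280))
) (.node (nat_lit 0x1472d6e482) (.leaf (nat_lit 0x1472d5a402) (nat_lit 1025))
 (.leaf (nat_lit 0x1472d6e482) (nat_lit 2049))
))) (.node (nat_lit 0x1495daad02) (.node (nat_lit 0x1495d1ed02) (.node (nat_lit 0x1472dfc482) (.leaf (nat_lit 0x1472dca402) (nat_lit 1793))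
 (.leaf (nat_lit 0x1472dfc482) (nat_lit 768))
) (.node (nat_lit 0x1495d6ad82) (.leaf (nat_lit 0x1495d1ed02) (nat_lit 1024))
 (.leaf (nat_lit 0x1495d6ad82) (nat_lit 1794))
)) (.node (nat_lit 0x1497d3ad82) (.node (nat_lit 0x1495ddcd82) (.leaf (nat_lit 0x1495daad02) (nat_lit 1794))
 (.leaf (nat_lit 0x1495ddcd82) (nat_lit 770))
) (.node (nat_lit 0x1497d4ed02) (.leaf (nat_lit 0x1497d3ad82) (nat_lit 1794))
 (.leaf (nat_lit 0x1497d4ed02) (nat_lit 1024))
))))) (.node (nat_lit 0x14b247bd82) (.node (nat_lit 0x14a247ad02) (.node (nat_lit 0x14a043ad82) (.node (nat_lit 0x1497dfad02) (.leaf (nat_lit 0x1497d8cd82) (nat_lit 770))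
 (.node (nat_lit 0x14a042ad02) (.leaf (nat_lit 0x1497dfad02) (nat_lit 1794))
 (.leaf (nat_lit 0x14a042ad02) (nat_lit 2304))
)) (.node (nat_lit 0x14a049ed02) (.node (nat_lit 0x14a048cd82) (.leaf (nat_lit 0x14a043ad82) (nat_lit 2306))
 (.leaf (nat_lit 0x14a048cd82) (nat_lit 2050))
) (.node (nat_lit 0x14a246ad82) (.leaf (nat_lit 0x14a049ed02) (nat_lit 2306))
 (.leaf (nat_lit 0x14a246ad82) (nat_lit 2306))
))) (.node (nat_lit 0x14b043bd02) (.node (nat_lit 0x14a24dcd82) (.node (nat_lit 0x14a24ced02) (.leaf (nat_lit 0x14a247ad02) (nat_lit 2304))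
 (.leaf (nat_lit 0x14a24ced02) (nat_lit 2306))
) (.node (nat_lit 0x14b042bd82) (.leaf (nat_lit 0x14a24dcd82) (nat_lit 2050))
 (.leaf (nat_lit 0x14b042bd82) (nat_lit 2048))
)) (.node (nat_lit 0x14b04ddd82) (.node (nat_lit 0x14b04cfd02) (.leaf (nat_lit 0x14b043bd02) (nat_lit 1792))
 (.leaf (nat_lit 0x14b04cfd02) (nat_lit 1794))
) (.node (nat_lit 0x14b246bd02) (.leaf (nat_lit 0x14b04ddd82) (nat_lit 1538))
 (.leaf (nat_lit 0x14b246bd02) (nat_lit 1792))
)))) (.node (nat_lit 0x14c6d1fd02) (.node (nat_lit 0x14c4d4fd02) (.node (nat_lit 0x14b248dd82) (.leaf (nat_lit 0x14b247bd82) (nat_lit 2048))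
 (.node (nat_lit 0x14b249fd02) (.leaf (nat_lit 0x14b248dd82) (nat_lit 1538))
 (.leaf (nat_lit 0x14b249fd02) (nat_lit 1794))
)) (.node (nat_lit 0x14c4d8dd82) (.node (nat_lit 0x14c4d7bd82) (.leaf (nat_lit 0x14c4d4fd02) (nat_lit 1536))
 (.leaf (nat_lit 0x14c4d7bd82) (nat_lit 1792))
) (.node (nat_lit 0x14c4dbbd02) (.leaf (nat_lit 0x14c4d8dd82) (nat_lit 1282))
 (.leaf (nat_lit 0x14c4dbbd02) (nat_lit 1538))
))) (.node (nat_lit 0x14e1d1e482) (.node (nat_lit 0x14c6dddd82) (.node (nat_lit 0x14c6d2bd82) (.leaf (nat_lit 0x14c6d1fd02) (nat_lit 1536))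
 (.leaf (nat_lit 0x14c6d2bd82) (nat_lit 1792))
) (.node (nat_lit 0x14c6debd02) (.leaf (nat_lit 0x14c6dddd82) (nat_lit 1282))
 (.leaf (nat_lit 0x14c6debd02) (nat_lit 1538))
)) (.node (nat_lit 0x14e1d8c482) (.node (nat_lit 0x14e1d6a402) (.leaf (nat_lit 0x14e1d1e482) (nat_lit 2306))
 (.leaf (nat_lit 0x14e1d6a402) (nat_lit 1537))
) (.node (nat_lit 0x14e1dfa402) (.leaf (nat_lit 0x14e1d8c482) (nat_lit 1281))
 (.leaf (nat_lit 0x14e1dfa402) (nat_lit 2305))
)))))) (.node (nat_lit 0x1831d98402) (.node (nat_lit 0x182019e482) (.node (nat_lit 0x14f0dea402) (.node (nat_lit 0x14e3ddc482) (.node (nat_lit 0x14e3d4e482) (.leaf (nat_lit 0x14e3d3a402) (nat_lit 1537))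
 (.node (nat_lit 0x14e3daa402) (.leaf (nat_lit 0x14e3d4e482) (nat_lit 2306))
 (.leaf (nat_lit 0x14e3daa402) (nat_lit 2305))
)) (.node (nat_lit 0x14f0d7a402) (.node (nat_lit 0x14f0d4e482) (.leaf (nat_lit 0x14e3ddc482) (nat_lit 1281))
 (.leaf (nat_lit 0x14f0d4e482) (nat_lit 2049))
) (.node (nat_lit 0x14f0ddc482) (.leaf (nat_lit 0x14f0d7a402) (nat_lit 1024))
 (.leaf (nat_lit 0x14f0ddc482) (nat_lit 769))
))) (.node (nat_lit 0x14f2dba402) (.node (nat_lit 0x14f2d2a402) (.node (nat_lit 0x14f2d1e482) (.leaf (nat_lit 0x14f0dea402) (nat_lit 1793))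
 (.leaf (nat_lit 0x14f2d1e482) (nat_lit 2049))
) (.node (nat_lit 0x14f2d8c482) (.leaf (nat_lit 0x14f2d2a402) (nat_lit 1024))
 (.leaf (nat_lit 0x14f2d8c482) (nat_lit 769))
)) (.node (nat_lit 0x182010c482) (.node (nat_lit 0x1820108402) (.leaf (nat_lit 0x14f2dba402) (nat_lit 1793))
 (.leaf (nat_lit 0x1820108402) (nat_lit 1794))
) (.node (nat_lit 0x1820198402) (.leaf (nat_lit 0x182010c482) (nat_lit 2050))
 (.leaf (nat_lit 0x1820198402) (nat_lit 2050))
)))) (.node (nat_lit 0x18241fbd82) (.node (nat_lit 0x18221fa402) (.node (nat_lit 0x182216a402) (.leaf (nat_lit 0x182019e482) (nat_lit 2306))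
 (.node (nat_lit 0x182216e482) (.leaf (nat_lit 0x182216a402) (nat_lit 2306))
 (.leaf (nat_lit 0x182216e482) (nat_lit 2306))
)) (.node (nat_lit 0x1824109d02) (.node (nat_lit 0x18221fc482) (.leaf (nat_lit 0x18221fa402) (nat_lit 2306))
 (.leaf (nat_lit 0x18221fc482) (nat_lit 2050))
) (.node (nat_lit 0x182410dd82) (.leaf (nat_lit 0x1824109d02) (nat_lit 1282))
 (.leaf (nat_lit 0x182410dd82) (nat_lit 1538))
))) (.node (nat_lit 0x1826199d82) (.node (nat_lit 0x182616bd02) (.node (nat_lit 0x18241fdd02) (.leaf (nat_lit 0x18241fbd82) (nat_lit 2048))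
 (.leaf (nat_lit 0x18241fdd02) (nat_lit 2049))
) (.node (nat_lit 0x182616fd82) (.leaf (nat_lit 0x182616bd02) (nat_lit 1794))
 (.leaf (nat_lit 0x182616fd82) (nat_lit 2050))
)) (.node (nat_lit 0x1831d08402) (.node (nat_lit 0x182619fd02) (.leaf (nat_lit 0x1826199d82) (nat_lit 1536))
 (.leaf (nat_lit 0x182619fd02) (nat_lit 1792))
) (.node (nat_lit 0x1831d7c482) (.leaf (nat_lit 0x1831d08402) (nat_lit 514))
 (.leaf (nat_lit 0x1831d7c482) (nat_lit 1538))
))))) (.node (nat_lit 0x1845d7c182) (.node (nat_lit 0x1840418182) (.node (nat_lit 0x1833d6a402) (.node (nat_lit 0x1831dee482) (.leaf (nat_lit 0x1831d98402) (nat_lit 2050))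
 (.node (nat_lit 0x1833d1e482) (.leaf (nat_lit 0x1831dee482) (nat_lit 1280))
 (.leaf (nat_lit 0x1833d1e482) (nat_lit 2050))
)) (.node (nat_lit 0x1833dfa402) (.node (nat_lit 0x1833d8c482) (.leaf (nat_lit 0x1833d6a402) (nat_lit 1026))
 (.leaf (nat_lit 0x1833d8c482) (nat_lit 768))
) (.node (nat_lit 0x1840408102) (.leaf (nat_lit 0x1833dfa402) (nat_lit 1792))
 (.leaf (nat_lit 0x1840408102) (nat_lit 513))
))) (.node (nat_lit 0x184247a182) (.node (nat_lit 0x184049e182) (.node (nat_lit 0x184048c102) (.leaf (nat_lit 0x1840418182) (nat_lit 1538))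
 (.leaf (nat_lit 0x184048c102) (nat_lit 1538))
) (.node (nat_lit 0x184246a102) (.leaf (nat_lit 0x184049e182) (nat_lit 1280))
 (.leaf (nat_lit 0x184246a102) (nat_lit 1025))
)) (.node (nat_lit 0x18424fc182) (.node (nat_lit 0x18424ee102) (.leaf (nat_lit 0x184247a182) (nat_lit 1792))
 (.leaf (nat_lit 0x18424ee102) (nat_lit 1792))
) (.node (nat_lit 0x1845d08102) (.leaf (nat_lit 0x18424fc182) (nat_lit 768))
 (.leaf (nat_lit 0x1845d08102) (nat_lit 1537))
)))) (.node (nat_lit 0x1850409d02) (.node (nat_lit 0x1847d1e182) (.node (nat_lit 0x1845d8c102) (.leaf (nat_lit 0x1845d7c182) (nat_lit 1793))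
 (.node (nat_lit 0x1845dfa182) (.leaf (nat_lit 0x1845d8c102) (nat_lit 1793))
 (.leaf (nat_lit 0x1845dfa182) (nat_lit 2049))
)) (.node (nat_lit 0x1847d98182) (.node (nat_lit 0x1847d6a102) (.leaf (nat_lit 0x1847d1e182) (nat_lit 2049))
 (.leaf (nat_lit 0x1847d6a102) (nat_lit 2049))
) (.node (nat_lit 0x1847dee102) (.leaf (nat_lit 0x1847d98182) (nat_lit 1793))
 (.leaf (nat_lit 0x1847dee102) (nat_lit 2049))
))) (.node (nat_lit 0x185246bd02) (.node (nat_lit 0x18504efd82) (.node (nat_lit 0x1850419d82) (.leaf (nat_lit 0x1850409d02) (nat_lit 1538))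
 (.leaf (nat_lit 0x1850419d82) (nat_lit 1794))
) (.node (nat_lit 0x18504fdd02) (.leaf (nat_lit 0x18504efd82) (nat_lit 2050))
 (.leaf (nat_lit 0x18504fdd02) (nat_lit 1794))
)) (.node (nat_lit 0x185248dd82) (.node (nat_lit 0x185247bd82) (.leaf (nat_lit 0x185246bd02) (nat_lit 2050))
 (.leaf (nat_lit 0x185247bd82) (nat_lit 2050))
) (.node (nat_lit 0x185249fd02) (.leaf (nat_lit 0x185248dd82) (nat_lit 1794))
 (.leaf (nat_lit 0x185249fd02) (nat_lit 2050))
)))))))) (.node (nat_lit 0x19c151e182) (.node (nat_lit 0x192216ad82) (.node (nat_lit 0x18c24ae102) (.node (nat_lit 0x18a61bdd82) (.node (nat_lit 0x18a21dc482) (.node (nat_lit 0x18a01bc482) (.node (nat_lit 0x18a012e482) (.leaf (nat_lit 0x18a012a402) (nat_lit 2306))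
 (.node (nat_lit 0x18a01ba402) (.leaf (nat_lit 0x18a012e482) (nat_lit 2306))
 (.leaf (nat_lit 0x18a01ba402) (nat_lit 2306))
)) (.node (nat_lit 0x18a214e482) (.node (nat_lit 0x18a214a402) (.leaf (nat_lit 0x18a01bc482) (nat_lit 2050))
 (.leaf (nat_lit 0x18a214a402) (nat_lit 2306))
) (.node (nat_lit 0x18a21da402) (.leaf (nat_lit 0x18a214e482) (nat_lit 2306))
 (.leaf (nat_lit 0x18a21da402) (nat_lit 2306))
))) (.node (nat_lit 0x18a41ddd82) (.node (nat_lit 0x18a412fd02) (.node (nat_lit 0x18a412bd82) (.leaf (nat_lit 0x18a21dc482) (nat_lit 2050))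
 (.leaf (nat_lit 0x18a412bd82) (nat_lit 2048))
) (.node (nat_lit 0x18a41dbd02) (.leaf (nat_lit 0x18a412fd02) (nat_lit 1792))
 (.leaf (nat_lit 0x18a41dbd02) (nat_lit 1794))
)) (.node (nat_lit 0x18a614fd02) (.node (nat_lit 0x18a614bd82) (.leaf (nat_lit 0x18a41ddd82) (nat_lit 1538))
 (.leaf (nat_lit 0x18a614bd82) (nat_lit 2048))
) (.node (nat_lit 0x18a61bbd02) (.leaf (nat_lit 0x18a614fd02) (nat_lit 1792))
 (.leaf (nat_lit 0x18a61bbd02) (nat_lit 1794))
)))) (.node (nat_lit 0x18b3dbc482) (.node (nat_lit 0x18b1daa402) (.node (nat_lit 0x18b1d3a402) (.leaf (nat_lit 0x18a61bdd82) (nat_lit 1538))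
 (.node (nat_lit 0x18b1d4e482) (.leaf (nat_lit 0x18b1d3a402) (nat_lit 1024))
 (.leaf (nat_lit 0x18b1d4e482) (nat_lit 2048))
)) (.node (nat_lit 0x18b3d2e482) (.node (nat_lit 0x18b1ddc482) (.leaf (nat_lit 0x18b1daa402) (nat_lit 1794))
 (.leaf (nat_lit 0x18b1ddc482) (nat_lit 770))
) (.node (nat_lit 0x18b3d5a402) (.leaf (nat_lit 0x18b3d2e482) (nat_lit 2048))
 (.leaf (nat_lit 0x18b3d5a402) (nat_lit 1024))
))) (.node (nat_lit 0x18c04ce102) (.node (nat_lit 0x18c044a102) (.node (nat_lit 0x18b3dca402) (.leaf (nat_lit 0x18b3dbc482) (nat_lit 770))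
 (.leaf (nat_lit 0x18b3dca402) (nat_lit 1794))
) (.node (nat_lit 0x18c045a182) (.leaf (nat_lit 0x18c044a102) (nat_lit 1024))
 (.leaf (nat_lit 0x18c045a182) (nat_lit 1794))
)) (.node (nat_lit 0x18c242a102) (.node (nat_lit 0x18c04dc182) (.leaf (nat_lit 0x18c04ce102) (nat_lit 1794))
 (.leaf (nat_lit 0x18c04dc182) (nat_lit 769))
) (.node (nat_lit 0x18c243a182) (.leaf (nat_lit 0x18c242a102) (nat_lit 1024))
 (.leaf (nat_lit 0x18c243a182) (nat_lit 1794))
))))) (.node (nat_lit 0x18d243bd02) (.node (nat_lit 0x18c7d5a182) (.node (nat_lit 0x18c5d4e102) (.node (nat_lit 0x18c24bc182) (.leaf (nat_lit 0x18c24ae102) (nat_lit 1794))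
 (.node (nat_lit 0x18c5d3a182) (.leaf (nat_lit 0x18c24bc182) (nat_lit 769))
 (.leaf (nat_lit 0x18c5d3a182) (nat_lit 2049))
)) (.node (nat_lit 0x18c5dca102) (.node (nat_lit 0x18c5dbc182) (.leaf (nat_lit 0x18c5d4e102) (nat_lit 2049))
 (.leaf (nat_lit 0x18c5dbc182) (nat_lit 1793))
) (.node (nat_lit 0x18c7d2e102) (.leaf (nat_lit 0x18c5dca102) (nat_lit 2049))
 (.leaf (nat_lit 0x18c7d2e102) (nat_lit 2049))
))) (.node (nat_lit 0x18d045bd02) (.node (nat_lit 0x18c7ddc182) (.node (nat_lit 0x18c7daa102) (.leaf (nat_lit 0x18c7d5a182) (nat_lit 2049))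
 (.leaf (nat_lit 0x18c7daa102) (nat_lit 2049))
) (.node (nat_lit 0x18d044bd82) (.leaf (nat_lit 0x18c7ddc182) (nat_lit 1793))
 (.leaf (nat_lit 0x18d044bd82) (nat_lit 2050))
)) (.node (nat_lit 0x18d04bdd82) (.node (nat_lit 0x18d04afd02) (.leaf (nat_lit 0x18d045bd02) (nat_lit 2050))
 (.leaf (nat_lit 0x18d04afd02) (nat_lit 2050))
) (.node (nat_lit 0x18d242bd82) (.leaf (nat_lit 0x18d04bdd82) (nat_lit 1794))
 (.leaf (nat_lit 0x18d242bd82) (nat_lit 2050))
)))) (.node (nat_lit 0x191753ad82) (.node (nat_lit 0x1915508d02) (.node (nat_lit 0x18d24cfd02) (.leaf (nat_lit 0x18d243bd02) (nat_lit 2050))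
 (.node (nat_lit 0x18d24ddd82) (.leaf (nat_lit 0x18d24cfd02) (nat_lit 2050))
 (.leaf (nat_lit 0x18d24ddd82) (nat_lit 1794))
)) (.node (nat_lit 0x19155bcd02) (.node (nat_lit 0x191555cd82) (.leaf (nat_lit 0x1915508d02) (nat_lit 1025))
 (.leaf (nat_lit 0x191555cd82) (nat_lit 1281))
) (.node (nat_lit 0x19155ead82) (.leaf (nat_lit 0x19155bcd02) (nat_lit 2049))
 (.leaf (nat_lit 0x19155ead82) (nat_lit 1793))
))) (.node (nat_lit 0x1920108d02) (.node (nat_lit 0x191758cd82) (.node (nat_lit 0x191756ed02) (.leaf (nat_lit 0x191753ad82) (nat_lit 1793))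
 (.leaf (nat_lit 0x191756ed02) (nat_lit 1537))
) (.node (nat_lit 0x19175dad02) (.leaf (nat_lit 0x191758cd82) (nat_lit 1281))
 (.leaf (nat_lit 0x19175dad02) (nat_lit 1537))
)) (.node (nat_lit 0x19201bad82) (.node (nat_lit 0x192010cd82) (.leaf (nat_lit 0x1920108d02) (nat_lit 1282))
 (.leaf (nat_lit 0x192010cd82) (nat_lit 1538))
) (.node (nat_lit 0x19201bcd02) (.leaf (nat_lit 0x19201bad82) (nat_lit 1794))
 (.leaf (nat_lit 0x19201bcd02) (nat_lit 1538))
)))))) (.node (nat_lit 0x1970ddd502) (.node (nat_lit 0x19415da182) (.node (nat_lit 0x19241dd502) (.node (nat_lit 0x19221dcd82) (.node (nat_lit 0x192216ed02) (.leaf (nat_lit 0x192216ad82) (nat_lit 1794))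
 (.node (nat_lit 0x19221dad02) (.leaf (nat_lit 0x192216ed02) (nat_lit 1794))
 (.leaf (nat_lit 0x19221dad02) (nat_lit 1794))
)) (.node (nat_lit 0x192410d582) (.node (nat_lit 0x1924109502) (.leaf (nat_lit 0x19221dcd82) (nat_lit 1538))
 (.leaf (nat_lit 0x1924109502) (nat_lit 1026))
) (.node (nat_lit 0x19241db582) (.leaf (nat_lit 0x192410d582) (nat_lit 1282))
 (.leaf (nat_lit 0x19241db582) (nat_lit 1538))
))) (.node (nat_lit 0x19261bd582) (.node (nat_lit 0x192616f502) (.node (nat_lit 0x192616b582) (.leaf (nat_lit 0x19241dd502) (nat_lit 1282))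
 (.leaf (nat_lit 0x192616b582) (nat_lit 1536))
) (.node (nat_lit 0x19261bb502) (.leaf (nat_lit 0x192616f502) (nat_lit 1538))
 (.leaf (nat_lit 0x19261bb502) (nat_lit 1536))
)) (.node (nat_lit 0x194155c182) (.node (nat_lit 0x1941508102) (.leaf (nat_lit 0x19261bd582) (nat_lit 1280))
 (.leaf (nat_lit 0x1941508102) (nat_lit 1538))
) (.node (nat_lit 0x194158c102) (.leaf (nat_lit 0x194155c182) (nat_lit 1794))
 (.leaf (nat_lit 0x194158c102) (nat_lit 1794))
)))) (.node (nat_lit 0x1944d8c102) (.node (nat_lit 0x19435bc182) (.node (nat_lit 0x194353a182) (.leaf (nat_lit 0x19415da182) (nat_lit 2050))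
 (.node (nat_lit 0x194356e102) (.leaf (nat_lit 0x194353a182) (nat_lit 2050))
 (.leaf (nat_lit 0x194356e102) (nat_lit 2050))
)) (.node (nat_lit 0x1944d08102) (.node (nat_lit 0x19435ea102) (.leaf (nat_lit 0x19435bc182) (nat_lit 1794))
 (.leaf (nat_lit 0x19435ea102) (nat_lit 2050))
) (.node (nat_lit 0x1944d3c182) (.leaf (nat_lit 0x1944d08102) (nat_lit 1538))
 (.leaf (nat_lit 0x1944d3c182) (nat_lit 1794))
))) (.node (nat_lit 0x1946ddc182) (.node (nat_lit 0x1946d5a182) (.node (nat_lit 0x1944dba182) (.leaf (nat_lit 0x1944d8c102) (nat_lit 1794))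
 (.leaf (nat_lit 0x1944dba182) (nat_lit 2050))
) (.node (nat_lit 0x1946d6e102) (.leaf (nat_lit 0x1946d5a182) (nat_lit 2050))
 (.leaf (nat_lit 0x1946d6e102) (nat_lit 2050))
)) (.node (nat_lit 0x1970d09502) (.node (nat_lit 0x1946dea102) (.leaf (nat_lit 0x1946ddc182) (nat_lit 1794))
 (.leaf (nat_lit 0x1946dea102) (nat_lit 2050))
) (.node (nat_lit 0x1970d3d582) (.leaf (nat_lit 0x1970d09502) (nat_lit 1281))
 (.leaf (nat_lit 0x1970d3d582) (nat_lit 1537))
))))) (.node (nat_lit 0x19a012ed82) (.node (nat_lit 0x199554ad82) (.node (nat_lit 0x1972d6f502) (.node (nat_lit 0x1970deb582) (.leaf (nat_lit 0x1970ddd502) (nat_lit 1537))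
 (.node (nat_lit 0x1972d5b582) (.leaf (nat_lit 0x1970deb582) (nat_lit 1793))
 (.leaf (nat_lit 0x1972d5b582) (nat_lit 1793))
)) (.node (nat_lit 0x1972dbb502) (.node (nat_lit 0x1972d8d582) (.leaf (nat_lit 0x1972d6f502) (nat_lit 1793))
 (.leaf (nat_lit 0x1972d8d582) (nat_lit 1537))
) (.node (nat_lit 0x199551ed02) (.leaf (nat_lit 0x1972dbb502) (nat_lit 1793))
 (.leaf (nat_lit 0x199551ed02) (nat_lit 1537))
))) (.node (nat_lit 0x199757ad02) (.node (nat_lit 0x19955fcd82) (.node (nat_lit 0x19955aad02) (.leaf (nat_lit 0x199554ad82) (nat_lit 1793))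
 (.leaf (nat_lit 0x19955aad02) (nat_lit 1537))
) (.node (nat_lit 0x199752ed82) (.leaf (nat_lit 0x19955fcd82) (nat_lit 1281))
 (.leaf (nat_lit 0x199752ed82) (nat_lit 1793))
)) (.node (nat_lit 0x19975ced02) (.node (nat_lit 0x1997598d82) (.leaf (nat_lit 0x199757ad02) (nat_lit 1537))
 (.leaf (nat_lit 0x1997598d82) (nat_lit 1281))
) (.node (nat_lit 0x19a012ad02) (.leaf (nat_lit 0x19975ced02) (nat_lit 1537))
 (.leaf (nat_lit 0x19a012ad02) (nat_lit 1794))
)))) (.node (nat_lit 0x19a412b582) (.node (nat_lit 0x19a214ad82) (.node (nat_lit 0x19a0198d82) (.leaf (nat_lit 0x19a012ed82) (nat_lit 1794))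
 (.node (nat_lit 0x19a019ed02) (.leaf (nat_lit 0x19a0198d82) (nat_lit 1538))
 (.leaf (nat_lit 0x19a019ed02) (nat_lit 1794))
)) (.node (nat_lit 0x19a21fad02) (.node (nat_lit 0x19a214ed02) (.leaf (nat_lit 0x19a214ad82) (nat_lit 1794))
 (.leaf (nat_lit 0x19a214ed02) (nat_lit 1794))
) (.node (nat_lit 0x19a21fcd82) (.leaf (nat_lit 0x19a21fad02) (nat_lit 1794))
 (.leaf (nat_lit 0x19a21fcd82) (nat_lit 1538))
))) (.node (nat_lit 0x19a614b502) (.node (nat_lit 0x19a41fb502) (.node (nat_lit 0x19a412f502) (.leaf (nat_lit 0x19a412b582) (nat_lit 1538))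
 (.leaf (nat_lit 0x19a412f502) (nat_lit 1536))
) (.node (nat_lit 0x19a41fd582) (.leaf (nat_lit 0x19a41fb502) (nat_lit 1538))
 (.leaf (nat_lit 0x19a41fd582) (nat_lit 1282))
)) (.node (nat_lit 0x19a6199582) (.node (nat_lit 0x19a614f582) (.leaf (nat_lit 0x19a614b502) (nat_lit 1536))
 (.leaf (nat_lit 0x19a614f582) (nat_lit 1538))
) (.node (nat_lit 0x19a619f502) (.leaf (nat_lit 0x19a6199582) (nat_lit 1282))
 (.leaf (nat_lit 0x19a619f502) (nat_lit 1538))
))))))) (.node (nat_lit 0x1c5246ad82) (.node (nat_lit 0x1c16d99582) (.node (nat_lit 0x19c6dae102) (.node (nat_lit 0x19c35fc182) (.node (nat_lit 0x19c15ce102) (.node (nat_lit 0x19c154a102) (.leaf (nat_lit 0x19c151e182) (nat_lit 2050))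
 (.node (nat_lit 0x19c1598182) (.leaf (nat_lit 0x19c154a102) (nat_lit 2050))
 (.leaf (nat_lit 0x19c1598182) (nat_lit 1794))
)) (.node (nat_lit 0x19c357a182) (.node (nat_lit 0x19c352e102) (.leaf (nat_lit 0x19c15ce102) (nat_lit 2050))
 (.leaf (nat_lit 0x19c352e102) (nat_lit 2050))
) (.node (nat_lit 0x19c35aa102) (.leaf (nat_lit 0x19c357a182) (nat_lit 2050))
 (.leaf (nat_lit 0x19c35aa102) (nat_lit 2050))
))) (.node (nat_lit 0x19c4dfc182) (.node (nat_lit 0x19c4d7a182) (.node (nat_lit 0x19c4d4e102) (.leaf (nat_lit 0x19c35fc182) (nat_lit 1794))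
 (.leaf (nat_lit 0x19c4d4e102) (nat_lit 2050))
) (.node (nat_lit 0x19c4dca102) (.leaf (nat_lit 0x19c4d7a182) (nat_lit 2050))
 (.leaf (nat_lit 0x19c4dca102) (nat_lit 2050))
)) (.node (nat_lit 0x19c6d2a102) (.node (nat_lit 0x19c6d1e182) (.leaf (nat_lit 0x19c4dfc182) (nat_lit 1794))
 (.leaf (nat_lit 0x19c6d1e182) (nat_lit 2050))
) (.node (nat_lit 0x19c6d98182) (.leaf (nat_lit 0x19c6d2a102) (nat_lit 2050))
 (.leaf (nat_lit 0x19c6d98182) (nat_lit 1794))
)))) (.node (nat_lit 0x19f2dcb502) (.node (nat_lit 0x19f0d99582) (.node (nat_lit 0x19f0d4f582) (.leaf (nat_lit 0x19c6dae102) (nat_lit 2050))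
 (.node (nat_lit 0x19f0d7b502) (.leaf (nat_lit 0x19f0d4f582) (nat_lit 1793))
 (.leaf (nat_lit 0x19f0d7b502) (nat_lit 1793))
)) (.node (nat_lit 0x19f2d1f502) (.node (nat_lit 0x19f0daf502) (.leaf (nat_lit 0x19f0d99582) (nat_lit 1537))
 (.leaf (nat_lit 0x19f0daf502) (nat_lit 1793))
) (.node (nat_lit 0x19f2d2b582) (.leaf (nat_lit 0x19f2d1f502) (nat_lit 1793))
 (.leaf (nat_lit 0x19f2d2b582) (nat_lit 1793))
))) (.node (nat_lit 0x1c14ddd502) (.node (nat_lit 0x1c14d09502) (.node (nat_lit 0x19f2dfd582) (.leaf (nat_lit 0x19f2dcb502) (nat_lit 1793))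
 (.leaf (nat_lit 0x19f2dfd582) (nat_lit 1537))
) (.node (nat_lit 0x1c14d3d582) (.leaf (nat_lit 0x1c14d09502) (nat_lit 1026))
 (.leaf (nat_lit 0x1c14d3d582) (nat_lit 1282))
)) (.node (nat_lit 0x1c16d4f582) (.node (nat_lit 0x1c14deb582) (.leaf (nat_lit 0x1c14ddd502) (nat_lit 1282))
 (.leaf (nat_lit 0x1c14deb582) (nat_lit 1538))
) (.node (nat_lit 0x1c16d7b502) (.leaf (nat_lit 0x1c16d4f582) (nat_lit 1536))
 (.leaf (nat_lit 0x1c16d7b502) (nat_lit 1538))
))))) (.node (nat_lit 0x1c3357a402) (.node (nat_lit 0x1c22d7a402) (.node (nat_lit 0x1c20d3c482) (.node (nat_lit 0x1c16daf502) (.leaf (nat_lit 0x1c16d99582) (nat_lit 1280))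
 (.node (nat_lit 0x1c20d08402) (.leaf (nat_lit 0x1c16daf502) (nat_lit 1536))
 (.leaf (nat_lit 0x1c20d08402) (nat_lit 769))
)) (.node (nat_lit 0x1c20dae482) (.node (nat_lit 0x1c20d98402) (.leaf (nat_lit 0x1c20d3c482) (nat_lit 1793))
 (.leaf (nat_lit 0x1c20d98402) (nat_lit 1794))
) (.node (nat_lit 0x1c22d4e482) (.leaf (nat_lit 0x1c20dae482) (nat_lit 1537))
 (.leaf (nat_lit 0x1c22d4e482) (nat_lit 2050))
))) (.node (nat_lit 0x1c3155c482) (.node (nat_lit 0x1c22dea402) (.node (nat_lit 0x1c22ddc482) (.leaf (nat_lit 0x1c22d7a402) (nat_lit 1281))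
 (.leaf (nat_lit 0x1c22ddc482) (nat_lit 1025))
) (.node (nat_lit 0x1c31508402) (.leaf (nat_lit 0x1c22dea402) (nat_lit 2049))
 (.leaf (nat_lit 0x1c31508402) (nat_lit 1025))
)) (.node (nat_lit 0x1c315ce482) (.node (nat_lit 0x1c31598402) (.leaf (nat_lit 0x1c3155c482) (nat_lit 1281))
 (.leaf (nat_lit 0x1c31598402) (nat_lit 2049))
) (.node (nat_lit 0x1c3352e482) (.leaf (nat_lit 0x1c315ce482) (nat_lit 1793))
 (.leaf (nat_lit 0x1c3352e482) (nat_lit 1793))
)))) (.node (nat_lit 0x1c4246b582) (.node (nat_lit 0x1c40409502) (.node (nat_lit 0x1c335bc482) (.leaf (nat_lit 0x1c3357a402) (nat_lit 1537))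
 (.node (nat_lit 0x1c335ea402) (.leaf (nat_lit 0x1c335bc482) (nat_lit 1281))
 (.leaf (nat_lit 0x1c335ea402) (nat_lit 1537))
)) (.node (nat_lit 0x1c404cf582) (.node (nat_lit 0x1c40419582) (.leaf (nat_lit 0x1c40409502) (nat_lit 1538))
 (.leaf (nat_lit 0x1c40419582) (nat_lit 1794))
) (.node (nat_lit 0x1c404dd502) (.leaf (nat_lit 0x1c404cf582) (nat_lit 2050))
 (.leaf (nat_lit 0x1c404dd502) (nat_lit 1794))
))) (.node (nat_lit 0x1c50408d02) (.node (nat_lit 0x1c424af502) (.node (nat_lit 0x1c4247b502) (.leaf (nat_lit 0x1c4246b582) (nat_lit 2048))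
 (.leaf (nat_lit 0x1c4247b502) (nat_lit 2050))
) (.node (nat_lit 0x1c424bd582) (.leaf (nat_lit 0x1c424af502) (nat_lit 2048))
 (.leaf (nat_lit 0x1c424bd582) (nat_lit 1792))
)) (.node (nat_lit 0x1c504aed82) (.node (nat_lit 0x1c50418d82) (.leaf (nat_lit 0x1c50408d02) (nat_lit 1538))
 (.leaf (nat_lit 0x1c50418d82) (nat_lit 1794))
) (.node (nat_lit 0x1c504bcd02) (.leaf (nat_lit 0x1c504aed82) (nat_lit 2050))
 (.leaf (nat_lit 0x1c504bcd02) (nat_lit 1794))
)))))) (.node (nat_lit 0x1cb15aa402) (.node (nat_lit 0x1c94dfd582) (.node (nat_lit 0x1c655ead82) (.node (nat_lit 0x1c524dcd82) (.node (nat_lit 0x1c5247ad02) (.leaf (nat_lit 0x1c5246ad82) (nat_lit 2050))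
 (.node (nat_lit 0x1c524ced02) (.leaf (nat_lit 0x1c5247ad02) (nat_lit 2050))
 (.leaf (nat_lit 0x1c524ced02) (nat_lit 2050))
)) (.node (nat_lit 0x1c6555cd82) (.node (nat_lit 0x1c65508d02) (.leaf (nat_lit 0x1c524dcd82) (nat_lit 1794))
 (.leaf (nat_lit 0x1c65508d02) (nat_lit 770))
) (.node (nat_lit 0x1c655bcd02) (.leaf (nat_lit 0x1c6555cd82) (nat_lit 1026))
 (.leaf (nat_lit 0x1c655bcd02) (nat_lit 1792))
))) (.node (nat_lit 0x1c675ced02) (.node (nat_lit 0x1c6757ad02) (.node (nat_lit 0x1c6752ed82) (.leaf (nat_lit 0x1c655ead82) (nat_lit 1536))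
 (.leaf (nat_lit 0x1c6752ed82) (nat_lit 1538))
) (.node (nat_lit 0x1c67598d82) (.leaf (nat_lit 0x1c6757ad02) (nat_lit 1282))
 (.leaf (nat_lit 0x1c67598d82) (nat_lit 1024))
)) (.node (nat_lit 0x1c94d2b582) (.node (nat_lit 0x1c94d1f502) (.leaf (nat_lit 0x1c675ced02) (nat_lit 1280))
 (.leaf (nat_lit 0x1c94d1f502) (nat_lit 1536))
) (.node (nat_lit 0x1c94dcb502) (.leaf (nat_lit 0x1c94d2b582) (nat_lit 1538))
 (.leaf (nat_lit 0x1c94dcb502) (nat_lit 1538))
)))) (.node (nat_lit 0x1ca0d8c482) (.node (nat_lit 0x1c96d8d582) (.node (nat_lit 0x1c96d5b582) (.leaf (nat_lit 0x1c94dfd582) (nat_lit 1282))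
 (.node (nat_lit 0x1c96d6f502) (.leaf (nat_lit 0x1c96d5b582) (nat_lit 1538))
 (.leaf (nat_lit 0x1c96d6f502) (nat_lit 1536))
)) (.node (nat_lit 0x1ca0d1e482) (.node (nat_lit 0x1c96dbb502) (.leaf (nat_lit 0x1c96d8d582) (nat_lit 1282))
 (.leaf (nat_lit 0x1c96dbb502) (nat_lit 1538))
) (.node (nat_lit 0x1ca0d2a402) (.leaf (nat_lit 0x1ca0d1e482) (nat_lit 2050))
 (.leaf (nat_lit 0x1ca0d2a402) (nat_lit 1281))
))) (.node (nat_lit 0x1ca2dca402) (.node (nat_lit 0x1ca2d5a402) (.node (nat_lit 0x1ca0dba402) (.leaf (nat_lit 0x1ca0d8c482) (nat_lit 1025))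
 (.leaf (nat_lit 0x1ca0dba402) (nat_lit 2049))
) (.node (nat_lit 0x1ca2d6e482) (.leaf (nat_lit 0x1ca2d5a402) (nat_lit 1281))
 (.leaf (nat_lit 0x1ca2d6e482) (nat_lit 2050))
)) (.node (nat_lit 0x1cb153a402) (.node (nat_lit 0x1ca2dfc482) (.leaf (nat_lit 0x1ca2dca402) (nat_lit 2049))
 (.leaf (nat_lit 0x1ca2dfc482) (nat_lit 1025))
) (.node (nat_lit 0x1cb156e482) (.leaf (nat_lit 0x1cb153a402) (nat_lit 1537))
 (.leaf (nat_lit 0x1cb156e482) (nat_lit 1793))
))))) (.node (nat_lit 0x1cd045ad02) (.node (nat_lit 0x1cc045b582) (.node (nat_lit 0x1cb354a402) (.node (nat_lit 0x1cb15fc482) (.leaf (nat_lit 0x1cb15aa402) (nat_lit 1537))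
 (.node (nat_lit 0x1cb351e482) (.leaf (nat_lit 0x1cb15fc482) (nat_lit 1281))
 (.leaf (nat_lit 0x1cb351e482) (nat_lit 1793))
)) (.node (nat_lit 0x1cb35da402) (.node (nat_lit 0x1cb358c482) (.leaf (nat_lit 0x1cb354a402) (nat_lit 1537))
 (.leaf (nat_lit 0x1cb358c482) (nat_lit 1281))
) (.node (nat_lit 0x1cc044b502) (.leaf (nat_lit 0x1cb35da402) (nat_lit 1537))
 (.leaf (nat_lit 0x1cc044b502) (nat_lit 2048))
))) (.node (nat_lit 0x1cc243b502) (.node (nat_lit 0x1cc049f502) (.node (nat_lit 0x1cc048d582) (.leaf (nat_lit 0x1cc045b582) (nat_lit 2050))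
 (.leaf (nat_lit 0x1cc048d582) (nat_lit 1794))
) (.node (nat_lit 0x1cc242b582) (.leaf (nat_lit 0x1cc049f502) (nat_lit 2050))
 (.leaf (nat_lit 0x1cc242b582) (nat_lit 2050))
)) (.node (nat_lit 0x1cc24fd582) (.node (nat_lit 0x1cc24ef502) (.leaf (nat_lit 0x1cc243b502) (nat_lit 2048))
 (.leaf (nat_lit 0x1cc24ef502) (nat_lit 2050))
) (.node (nat_lit 0x1cd044ad82) (.leaf (nat_lit 0x1cc24fd582) (nat_lit 1794))
 (.leaf (nat_lit 0x1cd044ad82) (nat_lit 2050))
)))) (.node (nat_lit 0x1ce553ad82) (.node (nat_lit 0x1cd242ad02) (.node (nat_lit 0x1cd04eed02) (.leaf (nat_lit 0x1cd045ad02) (nat_lit 2050))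
 (.node (nat_lit 0x1cd04fcd82) (.leaf (nat_lit 0x1cd04eed02) (nat_lit 2050))
 (.leaf (nat_lit 0x1cd04fcd82) (nat_lit 1794))
)) (.node (nat_lit 0x1cd248cd82) (.node (nat_lit 0x1cd243ad82) (.leaf (nat_lit 0x1cd242ad02) (nat_lit 2050))
 (.leaf (nat_lit 0x1cd243ad82) (nat_lit 2050))
) (.node (nat_lit 0x1cd249ed02) (.leaf (nat_lit 0x1cd248cd82) (nat_lit 1794))
 (.leaf (nat_lit 0x1cd249ed02) (nat_lit 2050))
))) (.node (nat_lit 0x1ce751ed02) (.node (nat_lit 0x1ce558cd82) (.node (nat_lit 0x1ce556ed02) (.leaf (nat_lit 0x1ce553ad82) (nat_lit 1536))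
 (.leaf (nat_lit 0x1ce556ed02) (nat_lit 1280))
) (.node (nat_lit 0x1ce55dad02) (.leaf (nat_lit 0x1ce558cd82) (nat_lit 1026))
 (.leaf (nat_lit 0x1ce55dad02) (nat_lit 1282))
)) (.node (nat_lit 0x1ce75aad02) (.node (nat_lit 0x1ce754ad82) (.leaf (nat_lit 0x1ce751ed02) (nat_lit 1280))
 (.leaf (nat_lit 0x1ce754ad82) (nat_lit 1536))
) (.node (nat_lit 0x1ce75fcd82) (.leaf (nat_lit 0x1ce75aad02) (nat_lit 1282))
 (.leaf (nat_lit 0x1ce75fcd82) (nat_lit 1026))
))))))))))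

theorem NA_ok : genOK A2 [(nat_lit 0x10224dc182), (nat_lit 0x860408102), (nat_lit 0x850d08402)] NA_t (nat_lit 960) = true := by decide +kernel

noncomputable def CZ_t : ST :=
(.node (nat_lit 0x1120234084) (.node (nat_lit 0x9e066e106) (.node (nat_lit 0x8e4d5a182) (.node (nat_lit 0x86662e106) (.node (nat_lit 0x862b92084) (.node (nat_lit 0x860610086) (.node (nat_lit 0x860408102) (.node (nat_lit 0x860312084) (.node (nat_lit 0x860218184) (.leaf (nat_lit 0x860210084) (nat_lit 1538))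
 (.leaf (nat_lit 0x860218184) (nat_lit 260))
) (.node (nat_lit 0x86031e184) (.leaf (nat_lit 0x860312084) (nat_lit 768))
 (.leaf (nat_lit 0x86031e184) (nat_lit 1281))
)) (.node (nat_lit 0x86048c102) (.node (nat_lit 0x860418182) (.leaf (nat_lit 0x860408102) (nat_lit 259))
 (.leaf (nat_lit 0x860418182) (nat_lit 1282))
) (.node (nat_lit 0x86049e182) (.leaf (nat_lit 0x86048c102) (nat_lit 1794))
 (.node (nat_lit 0x860608106) (.leaf (nat_lit 0x86049e182) (nat_lit 1536))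
 (.leaf (nat_lit 0x860608106) (nat_lit 1282))
)))) (.node (nat_lit 0x86243a182) (.node (nat_lit 0x860792086) (.node (nat_lit 0x86078c106) (.leaf (nat_lit 0x860610086) (nat_lit 1028))
 (.leaf (nat_lit 0x86078c106) (nat_lit 1540))
) (.node (nat_lit 0x86242a102) (.leaf (nat_lit 0x860792086) (nat_lit 1537))
 (.leaf (nat_lit 0x86242a102) (nat_lit 1283))
)) (.node (nat_lit 0x8624bc182) (.node (nat_lit 0x8624ae102) (.leaf (nat_lit 0x86243a182) (nat_lit 1539))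
 (.leaf (nat_lit 0x8624ae102) (nat_lit 1536))
) (.node (nat_lit 0x862a90084) (.leaf (nat_lit 0x8624bc182) (nat_lit 512))
 (.node (nat_lit 0x862aba184) (.leaf (nat_lit 0x862a90084) (nat_lit 1024))
 (.leaf (nat_lit 0x862aba184) (nat_lit 1284))
))))) (.node (nat_lit 0x86433a184) (.node (nat_lit 0x862f12086) (.node (nat_lit 0x862e90086) (.node (nat_lit 0x862bbc184) (.leaf (nat_lit 0x862b92084) (nat_lit 1280))
 (.leaf (nat_lit 0x862bbc184) (nat_lit 1026))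
) (.node (nat_lit 0x862eaa106) (.leaf (nat_lit 0x862e90086) (nat_lit 1281))
 (.leaf (nat_lit 0x862eaa106) (nat_lit 1025))
)) (.node (nat_lit 0x864234084) (.node (nat_lit 0x862f2e106) (.leaf (nat_lit 0x862f12086) (nat_lit 1538))
 (.leaf (nat_lit 0x862f2e106) (nat_lit 1028))
) (.node (nat_lit 0x86423c184) (.leaf (nat_lit 0x864234084) (nat_lit 1536))
 (.node (nat_lit 0x864336084) (.leaf (nat_lit 0x86423c184) (nat_lit 516))
 (.leaf (nat_lit 0x864336084) (nat_lit 512))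
)))) (.node (nat_lit 0x864dba182) (.node (nat_lit 0x864d3c182) (.node (nat_lit 0x864d08102) (.leaf (nat_lit 0x86433a184) (nat_lit 1537))
 (.leaf (nat_lit 0x864d08102) (nat_lit 515))
) (.node (nat_lit 0x864d8c102) (.leaf (nat_lit 0x864d3c182) (nat_lit 1026))
 (.leaf (nat_lit 0x864d8c102) (nat_lit 1540))
)) (.node (nat_lit 0x864eb6086) (.node (nat_lit 0x864e8c106) (.leaf (nat_lit 0x864dba182) (nat_lit 1280))
 (.leaf (nat_lit 0x864e8c106) (nat_lit 1284))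
) (.node (nat_lit 0x864f08106) (.leaf (nat_lit 0x864eb6086) (nat_lit 1280))
 (.node (nat_lit 0x864f34086) (.leaf (nat_lit 0x864f08106) (nat_lit 1281))
 (.leaf (nat_lit 0x864f34086) (nat_lit 1025))
)))))) (.node (nat_lit 0x8e1b92084) (.node (nat_lit 0x866d2a102) (.node (nat_lit 0x866a9e184) (.node (nat_lit 0x8667aa106) (.node (nat_lit 0x866636086) (.leaf (nat_lit 0x86662e106) (nat_lit 1284))
 (.leaf (nat_lit 0x866636086) (nat_lit 1284))
) (.node (nat_lit 0x8667b4086) (.leaf (nat_lit 0x8667aa106) (nat_lit 1026))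
 (.leaf (nat_lit 0x8667b4086) (nat_lit 1026))
)) (.node (nat_lit 0x866b98184) (.node (nat_lit 0x866ab4084) (.leaf (nat_lit 0x866a9e184) (nat_lit 1028))
 (.leaf (nat_lit 0x866ab4084) (nat_lit 1280))
) (.node (nat_lit 0x866bb6084) (.leaf (nat_lit 0x866b98184) (nat_lit 770))
 (.node (nat_lit 0x866d1e182) (.leaf (nat_lit 0x866bb6084) (nat_lit 1026))
 (.leaf (nat_lit 0x866d1e182) (nat_lit 1537))
)))) (.node (nat_lit 0x8e047a182) (.node (nat_lit 0x866dae102) (.node (nat_lit 0x866d98182) (.leaf (nat_lit 0x866d2a102) (nat_lit 1027))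
 (.leaf (nat_lit 0x866d98182) (nat_lit 768))
) (.node (nat_lit 0x8e046a102) (.leaf (nat_lit 0x866dae102) (nat_lit 1280))
 (.leaf (nat_lit 0x8e046a102) (nat_lit 768))
)) (.node (nat_lit 0x8e04fc182) (.node (nat_lit 0x8e04ee102) (.leaf (nat_lit 0x8e047a182) (nat_lit 1540))
 (.leaf (nat_lit 0x8e04ee102) (nat_lit 1538))
) (.node (nat_lit 0x8e1a90084) (.leaf (nat_lit 0x8e04fc182) (nat_lit 1027))
 (.node (nat_lit 0x8e1afa184) (.leaf (nat_lit 0x8e1a90084) (nat_lit 1282))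
 (.leaf (nat_lit 0x8e1afa184) (nat_lit 1284))
))))) (.node (nat_lit 0x8e24dc182) (.node (nat_lit 0x8e1f12086) (.node (nat_lit 0x8e1e90086) (.node (nat_lit 0x8e1bfc184) (.leaf (nat_lit 0x8e1b92084) (nat_lit 1025))
 (.leaf (nat_lit 0x8e1bfc184) (nat_lit 769))
) (.node (nat_lit 0x8e1eea106) (.leaf (nat_lit 0x8e1e90086) (nat_lit 1024))
 (.leaf (nat_lit 0x8e1eea106) (nat_lit 1282))
)) (.node (nat_lit 0x8e244a102) (.node (nat_lit 0x8e1f6e106) (.leaf (nat_lit 0x8e1f12086) (nat_lit 1280))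
 (.leaf (nat_lit 0x8e1f6e106) (nat_lit 1028))
) (.node (nat_lit 0x8e245a182) (.leaf (nat_lit 0x8e244a102) (nat_lit 1280))
 (.node (nat_lit 0x8e24ce102) (.leaf (nat_lit 0x8e245a182) (nat_lit 1538))
 (.leaf (nat_lit 0x8e24ce102) (nat_lit 1538))
)))) (.node (nat_lit 0x8e33dc184) (.node (nat_lit 0x8e32da184) (.node (nat_lit 0x8e3290084) (.leaf (nat_lit 0x8e24dc182) (nat_lit 515))
 (.leaf (nat_lit 0x8e3290084) (nat_lit 1281))
) (.node (nat_lit 0x8e3392084) (.leaf (nat_lit 0x8e32da184) (nat_lit 1284))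
 (.leaf (nat_lit 0x8e3392084) (nat_lit 1026))
)) (.node (nat_lit 0x8e36ca106) (.node (nat_lit 0x8e3690086) (.leaf (nat_lit 0x8e33dc184) (nat_lit 1026))
 (.leaf (nat_lit 0x8e3690086) (nat_lit 1024))
) (.node (nat_lit 0x8e3712086) (.leaf (nat_lit 0x8e36ca106) (nat_lit 1025))
 (.node (nat_lit 0x8e374e106) (.leaf (nat_lit 0x8e3712086) (nat_lit 1540))
 (.leaf (nat_lit 0x8e374e106) (nat_lit 516))
))))))) (.node (nat_lit 0x962adc184) (.node (nat_lit 0x8e73b4084) (.node (nat_lit 0x8e5adc184) (.node (nat_lit 0x8e56b4086) (.node (nat_lit 0x8e4ddc182) (.node (nat_lit 0x8e4d6e102) (.leaf (nat_lit 0x8e4d5a182) (nat_lit 1536))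
 (.leaf (nat_lit 0x8e4d6e102) (nat_lit 1024))
) (.node (nat_lit 0x8e4dea102) (.leaf (nat_lit 0x8e4ddc182) (nat_lit 771))
 (.leaf (nat_lit 0x8e4dea102) (nat_lit 1282))
)) (.node (nat_lit 0x8e5736086) (.node (nat_lit 0x8e56ee106) (.leaf (nat_lit 0x8e56b4086) (nat_lit 768))
 (.leaf (nat_lit 0x8e56ee106) (nat_lit 1538))
) (.node (nat_lit 0x8e576a106) (.leaf (nat_lit 0x8e5736086) (nat_lit 1280))
 (.node (nat_lit 0x8e5ab6084) (.leaf (nat_lit 0x8e576a106) (nat_lit 772))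
 (.leaf (nat_lit 0x8e5ab6084) (nat_lit 769))
)))) (.node (nat_lit 0x8e6d7a182) (.node (nat_lit 0x8e5bda184) (.node (nat_lit 0x8e5bb4084) (.leaf (nat_lit 0x8e5adc184) (nat_lit 1025))
 (.leaf (nat_lit 0x8e5bb4084) (nat_lit 1536))
) (.node (nat_lit 0x8e6d4e102) (.leaf (nat_lit 0x8e5bda184) (nat_lit 1540))
 (.leaf (nat_lit 0x8e6d4e102) (nat_lit 1024))
)) (.node (nat_lit 0x8e6dfc182) (.node (nat_lit 0x8e6dca102) (.leaf (nat_lit 0x8e6d7a182) (nat_lit 1536))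
 (.leaf (nat_lit 0x8e6dca102) (nat_lit 1281))
) (.node (nat_lit 0x8e72b6084) (.leaf (nat_lit 0x8e6dfc182) (nat_lit 771))
 (.node (nat_lit 0x8e72fc184) (.leaf (nat_lit 0x8e72b6084) (nat_lit 770))
 (.leaf (nat_lit 0x8e72fc184) (nat_lit 770))
))))) (.node (nat_lit 0x96037a184) (.node (nat_lit 0x8e7f36086) (.node (nat_lit 0x8e7eb4086) (.node (nat_lit 0x8e73fa184) (.leaf (nat_lit 0x8e73b4084) (nat_lit 1540))
 (.leaf (nat_lit 0x8e73fa184) (nat_lit 1540))
) (.node (nat_lit 0x8e7ece106) (.leaf (nat_lit 0x8e7eb4086) (nat_lit 1282))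
 (.leaf (nat_lit 0x8e7ece106) (nat_lit 1026))
)) (.node (nat_lit 0x960274084) (.node (nat_lit 0x8e7f4a106) (.leaf (nat_lit 0x8e7f36086) (nat_lit 1536))
 (.leaf (nat_lit 0x8e7f4a106) (nat_lit 772))
) (.node (nat_lit 0x96027c184) (.leaf (nat_lit 0x960274084) (nat_lit 1537))
 (.node (nat_lit 0x960376084) (.leaf (nat_lit 0x96027c184) (nat_lit 516))
 (.leaf (nat_lit 0x960376084) (nat_lit 1024))
)))) (.node (nat_lit 0x961dfa182) (.node (nat_lit 0x961d7c182) (.node (nat_lit 0x961d08102) (.leaf (nat_lit 0x96037a184) (nat_lit 1537))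
 (.leaf (nat_lit 0x961d08102) (nat_lit 515))
) (.node (nat_lit 0x961d8c102) (.leaf (nat_lit 0x961d7c182) (nat_lit 1026))
 (.leaf (nat_lit 0x961d8c102) (nat_lit 1540))
)) (.node (nat_lit 0x961ef6086) (.node (nat_lit 0x961e8c106) (.leaf (nat_lit 0x961dfa182) (nat_lit 1284))
 (.leaf (nat_lit 0x961e8c106) (nat_lit 1284))
) (.node (nat_lit 0x961f08106) (.leaf (nat_lit 0x961ef6086) (nat_lit 1280))
 (.node (nat_lit 0x961f74086) (.leaf (nat_lit 0x961f08106) (nat_lit 1284))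
 (.leaf (nat_lit 0x961f74086) (nat_lit 1281))
)))))) (.node (nat_lit 0x96558c102) (.node (nat_lit 0x963d5a182) (.node (nat_lit 0x9636ae106) (.node (nat_lit 0x962bda184) (.node (nat_lit 0x962af6084) (.leaf (nat_lit 0x962adc184) (nat_lit 1282))
 (.leaf (nat_lit 0x962af6084) (nat_lit 1025))
) (.node (nat_lit 0x962bf4084) (.leaf (nat_lit 0x962bda184) (nat_lit 1280))
 (.leaf (nat_lit 0x962bf4084) (nat_lit 1280))
)) (.node (nat_lit 0x96372a106) (.node (nat_lit 0x9636f4086) (.leaf (nat_lit 0x9636ae106) (nat_lit 1281))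
 (.leaf (nat_lit 0x9636f4086) (nat_lit 1280))
) (.node (nat_lit 0x963776086) (.leaf (nat_lit 0x96372a106) (nat_lit 772))
 (.node (nat_lit 0x963d2e102) (.leaf (nat_lit 0x963776086) (nat_lit 1538))
 (.leaf (nat_lit 0x963d2e102) (nat_lit 1540))
)))) (.node (nat_lit 0x96425c184) (.node (nat_lit 0x963ddc182) (.node (nat_lit 0x963daa102) (.leaf (nat_lit 0x963d5a182) (nat_lit 1539))
 (.leaf (nat_lit 0x963daa102) (nat_lit 1282))
) (.node (nat_lit 0x964254084) (.leaf (nat_lit 0x963ddc182) (nat_lit 771))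
 (.leaf (nat_lit 0x964254084) (nat_lit 1537))
)) (.node (nat_lit 0x96435a184) (.node (nat_lit 0x964356084) (.leaf (nat_lit 0x96425c184) (nat_lit 772))
 (.leaf (nat_lit 0x964356084) (nat_lit 768))
) (.node (nat_lit 0x965508102) (.leaf (nat_lit 0x96435a184) (nat_lit 1540))
 (.node (nat_lit 0x96555c182) (.leaf (nat_lit 0x965508102) (nat_lit 514))
 (.leaf (nat_lit 0x96555c182) (nat_lit 770))
))))) (.node (nat_lit 0x966bfa184) (.node (nat_lit 0x965708106) (.node (nat_lit 0x96568c106) (.node (nat_lit 0x9655da182) (.leaf (nat_lit 0x96558c102) (nat_lit 1540))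
 (.leaf (nat_lit 0x9655da182) (nat_lit 1284))
) (.node (nat_lit 0x9656d6086) (.leaf (nat_lit 0x96568c106) (nat_lit 1540))
 (.leaf (nat_lit 0x9656d6086) (nat_lit 1024))
)) (.node (nat_lit 0x966ad6084) (.node (nat_lit 0x965754086) (.leaf (nat_lit 0x965708106) (nat_lit 1028))
 (.leaf (nat_lit 0x965754086) (nat_lit 1281))
) (.node (nat_lit 0x966afc184) (.leaf (nat_lit 0x966ad6084) (nat_lit 1026))
 (.node (nat_lit 0x966bd4084) (.leaf (nat_lit 0x966afc184) (nat_lit 1026))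
 (.leaf (nat_lit 0x966bd4084) (nat_lit 1538))
)))) (.node (nat_lit 0x9675fc182) (.node (nat_lit 0x96757a182) (.node (nat_lit 0x96752e102) (.leaf (nat_lit 0x966bfa184) (nat_lit 1284))
 (.leaf (nat_lit 0x96752e102) (nat_lit 1283))
) (.node (nat_lit 0x9675aa102) (.leaf (nat_lit 0x96757a182) (nat_lit 1539))
 (.leaf (nat_lit 0x9675aa102) (nat_lit 1024))
)) (.node (nat_lit 0x967ed4086) (.node (nat_lit 0x967eae106) (.leaf (nat_lit 0x9675fc182) (nat_lit 768))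
 (.leaf (nat_lit 0x967eae106) (nat_lit 1282))
) (.node (nat_lit 0x967f2a106) (.leaf (nat_lit 0x967ed4086) (nat_lit 1282))
 (.node (nat_lit 0x967f56086) (.leaf (nat_lit 0x967f2a106) (nat_lit 1028))
 (.leaf (nat_lit 0x967f56086) (nat_lit 1282))
)))))))) (.node (nat_lit 0x1024254084) (.node (nat_lit 0x9e664e106) (.node (nat_lit 0x9e33ba184) (.node (nat_lit 0x9e1d6a102) (.node (nat_lit 0x9e1a9e184) (.node (nat_lit 0x9e07ea106) (.node (nat_lit 0x9e0676086) (.leaf (nat_lit 0x9e066e106) (nat_lit 1281))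
 (.leaf (nat_lit 0x9e0676086) (nat_lit 1280))
) (.node (nat_lit 0x9e07f4086) (.leaf (nat_lit 0x9e07ea106) (nat_lit 1026))
 (.leaf (nat_lit 0x9e07f4086) (nat_lit 1024))
)) (.node (nat_lit 0x9e1b98184) (.node (nat_lit 0x9e1af4084) (.leaf (nat_lit 0x9e1a9e184) (nat_lit 1028))
 (.leaf (nat_lit 0x9e1af4084) (nat_lit 1284))
) (.node (nat_lit 0x9e1bf6084) (.leaf (nat_lit 0x9e1b98184) (nat_lit 513))
 (.node (nat_lit 0x9e1d1e182) (.leaf (nat_lit 0x9e1bf6084) (nat_lit 1024))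
 (.leaf (nat_lit 0x9e1d1e182) (nat_lit 1284))
)))) (.node (nat_lit 0x9e2ef4086) (.node (nat_lit 0x9e1dee102) (.node (nat_lit 0x9e1d98182) (.leaf (nat_lit 0x9e1d6a102) (nat_lit 1027))
 (.leaf (nat_lit 0x9e1d98182) (nat_lit 1026))
) (.node (nat_lit 0x9e2ece106) (.leaf (nat_lit 0x9e1dee102) (nat_lit 1282))
 (.leaf (nat_lit 0x9e2ece106) (nat_lit 769))
)) (.node (nat_lit 0x9e2f76086) (.node (nat_lit 0x9e2f4a106) (.leaf (nat_lit 0x9e2ef4086) (nat_lit 1280))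
 (.leaf (nat_lit 0x9e2f4a106) (nat_lit 772))
) (.node (nat_lit 0x9e32bc184) (.leaf (nat_lit 0x9e2f76086) (nat_lit 1540))
 (.node (nat_lit 0x9e32f6084) (.leaf (nat_lit 0x9e32bc184) (nat_lit 770))
 (.leaf (nat_lit 0x9e32f6084) (nat_lit 768))
))))) (.node (nat_lit 0x9e4f6a106) (.node (nat_lit 0x9e3dbc182) (.node (nat_lit 0x9e3d3a182) (.node (nat_lit 0x9e33f4084) (.leaf (nat_lit 0x9e33ba184) (nat_lit 1537))
 (.leaf (nat_lit 0x9e33f4084) (nat_lit 1536))
) (.node (nat_lit 0x9e3d4e102) (.leaf (nat_lit 0x9e3d3a182) (nat_lit 1538))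
 (.leaf (nat_lit 0x9e3d4e102) (nat_lit 1282))
)) (.node (nat_lit 0x9e4ed4086) (.node (nat_lit 0x9e3dca102) (.leaf (nat_lit 0x9e3dbc182) (nat_lit 771))
 (.leaf (nat_lit 0x9e3dca102) (nat_lit 1540))
) (.node (nat_lit 0x9e4eee106) (.leaf (nat_lit 0x9e4ed4086) (nat_lit 1024))
 (.node (nat_lit 0x9e4f56086) (.leaf (nat_lit 0x9e4eee106) (nat_lit 1282))
 (.leaf (nat_lit 0x9e4f56086) (nat_lit 1024))
)))) (.node (nat_lit 0x9e55ea102) (.node (nat_lit 0x9e556e102) (.node (nat_lit 0x9e553a182) (.leaf (nat_lit 0x9e4f6a106) (nat_lit 1025))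
 (.leaf (nat_lit 0x9e553a182) (nat_lit 1539))
) (.node (nat_lit 0x9e55bc182) (.leaf (nat_lit 0x9e556e102) (nat_lit 1283))
 (.leaf (nat_lit 0x9e55bc182) (nat_lit 770))
)) (.node (nat_lit 0x9e5ad6084) (.node (nat_lit 0x9e5abc184) (.leaf (nat_lit 0x9e55ea102) (nat_lit 1026))
 (.leaf (nat_lit 0x9e5abc184) (nat_lit 769))
) (.node (nat_lit 0x9e5bba184) (.leaf (nat_lit 0x9e5ad6084) (nat_lit 768))
 (.node (nat_lit 0x9e5bd4084) (.leaf (nat_lit 0x9e5bba184) (nat_lit 1284))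
 (.leaf (nat_lit 0x9e5bd4084) (nat_lit 1280))
)))))) (.node (nat_lit 0x102048c102) (.node (nat_lit 0x9e754a102) (.node (nat_lit 0x9e729e184) (.node (nat_lit 0x9e67ca106) (.node (nat_lit 0x9e6656086) (.leaf (nat_lit 0x9e664e106) (nat_lit 770))
 (.leaf (nat_lit 0x9e6656086) (nat_lit 1280))
) (.node (nat_lit 0x9e67d4086) (.leaf (nat_lit 0x9e67ca106) (nat_lit 1025))
 (.leaf (nat_lit 0x9e67d4086) (nat_lit 1540))
)) (.node (nat_lit 0x9e7398184) (.node (nat_lit 0x9e72d4084) (.leaf (nat_lit 0x9e729e184) (nat_lit 1281))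
 (.leaf (nat_lit 0x9e72d4084) (nat_lit 1284))
) (.node (nat_lit 0x9e73d6084) (.leaf (nat_lit 0x9e7398184) (nat_lit 514))
 (.node (nat_lit 0x9e751e182) (.leaf (nat_lit 0x9e73d6084) (nat_lit 1024))
 (.leaf (nat_lit 0x9e751e182) (nat_lit 1280))
)))) (.node (nat_lit 0x1020218184) (.node (nat_lit 0x9e75ce102) (.node (nat_lit 0x9e7598182) (.leaf (nat_lit 0x9e754a102) (nat_lit 1024))
 (.leaf (nat_lit 0x9e7598182) (nat_lit 1027))
) (.node (nat_lit 0x1020210084) (.leaf (nat_lit 0x9e75ce102) (nat_lit 1283))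
 (.leaf (nat_lit 0x1020210084) (nat_lit 1540))
)) (.node (nat_lit 0x102031e184) (.node (nat_lit 0x1020312084) (.leaf (nat_lit 0x1020218184) (nat_lit 772))
 (.leaf (nat_lit 0x1020312084) (nat_lit 1283))
) (.node (nat_lit 0x1020408102) (.leaf (nat_lit 0x102031e184) (nat_lit 1536))
 (.node (nat_lit 0x1020418182) (.leaf (nat_lit 0x1020408102) (nat_lit 0))
 (.leaf (nat_lit 0x1020418182) (nat_lit 1282))
))))) (.node (nat_lit 0x10224dc182) (.node (nat_lit 0x102078c106) (.node (nat_lit 0x1020608106) (.node (nat_lit 0x102049e182) (.leaf (nat_lit 0x102048c102) (nat_lit 1796))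
 (.leaf (nat_lit 0x102049e182) (nat_lit 1284))
) (.node (nat_lit 0x1020610086) (.leaf (nat_lit 0x1020608106) (nat_lit 1539))
 (.leaf (nat_lit 0x1020610086) (nat_lit 772))
)) (.node (nat_lit 0x102244a102) (.node (nat_lit 0x1020792086) (.leaf (nat_lit 0x102078c106) (nat_lit 1284))
 (.leaf (nat_lit 0x1020792086) (nat_lit 1536))
) (.node (nat_lit 0x102245a182) (.leaf (nat_lit 0x102244a102) (nat_lit 1028))
 (.node (nat_lit 0x10224ce102) (.leaf (nat_lit 0x102245a182) (nat_lit 1540))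
 (.leaf (nat_lit 0x10224ce102) (nat_lit 1538))
)))) (.node (nat_lit 0x10233dc184) (.node (nat_lit 0x10232da184) (.node (nat_lit 0x1023290084) (.leaf (nat_lit 0x10224dc182) (nat_lit 256))
 (.leaf (nat_lit 0x1023290084) (nat_lit 1280))
) (.node (nat_lit 0x1023392084) (.leaf (nat_lit 0x10232da184) (nat_lit 1284))
 (.leaf (nat_lit 0x1023392084) (nat_lit 1028))
)) (.node (nat_lit 0x10236ca106) (.node (nat_lit 0x1023690086) (.leaf (nat_lit 0x10233dc184) (nat_lit 1283))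
 (.leaf (nat_lit 0x1023690086) (nat_lit 1027))
) (.node (nat_lit 0x1023712086) (.leaf (nat_lit 0x10236ca106) (nat_lit 1280))
 (.node (nat_lit 0x102374e106) (.leaf (nat_lit 0x1023712086) (nat_lit 1284))
 (.leaf (nat_lit 0x102374e106) (nat_lit 1028))
))))))) (.node (nat_lit 0x10a246a102) (.node (nat_lit 0x1027398184) (.node (nat_lit 0x10256d6086) (.node (nat_lit 0x1025508102) (.node (nat_lit 0x1024356084) (.node (nat_lit 0x102425c184) (.leaf (nat_lit 0x1024254084) (nat_lit 1284))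
 (.leaf (nat_lit 0x102425c184) (nat_lit 1028))
) (.node (nat_lit 0x102435a184) (.leaf (nat_lit 0x1024356084) (nat_lit 1024))
 (.leaf (nat_lit 0x102435a184) (nat_lit 1540))
)) (.node (nat_lit 0x102558c102) (.node (nat_lit 0x102555c182) (.leaf (nat_lit 0x1025508102) (nat_lit 514))
 (.leaf (nat_lit 0x102555c182) (nat_lit 770))
) (.node (nat_lit 0x10255da182) (.leaf (nat_lit 0x102558c102) (nat_lit 1284))
 (.node (nat_lit 0x102568c106) (.leaf (nat_lit 0x10255da182) (nat_lit 1284))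
 (.leaf (nat_lit 0x102568c106) (nat_lit 1284))
)))) (.node (nat_lit 0x1026656086) (.node (nat_lit 0x1025754086) (.node (nat_lit 0x1025708106) (.leaf (nat_lit 0x10256d6086) (nat_lit 1280))
 (.leaf (nat_lit 0x1025708106) (nat_lit 1284))
) (.node (nat_lit 0x102664e106) (.leaf (nat_lit 0x1025754086) (nat_lit 1028))
 (.leaf (nat_lit 0x102664e106) (nat_lit 1283))
)) (.node (nat_lit 0x10267d4086) (.node (nat_lit 0x10267ca106) (.leaf (nat_lit 0x1026656086) (nat_lit 1028))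
 (.leaf (nat_lit 0x10267ca106) (nat_lit 1024))
) (.node (nat_lit 0x102729e184) (.leaf (nat_lit 0x10267d4086) (nat_lit 1539))
 (.node (nat_lit 0x10272d4084) (.leaf (nat_lit 0x102729e184) (nat_lit 1280))
 (.leaf (nat_lit 0x10272d4084) (nat_lit 1540))
))))) (.node (nat_lit 0x10a04bc182) (.node (nat_lit 0x1027598182) (.node (nat_lit 0x102751e182) (.node (nat_lit 0x10273d6084) (.leaf (nat_lit 0x1027398184) (nat_lit 1027))
 (.leaf (nat_lit 0x10273d6084) (nat_lit 1284))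
) (.node (nat_lit 0x102754a102) (.leaf (nat_lit 0x102751e182) (nat_lit 1540))
 (.leaf (nat_lit 0x102754a102) (nat_lit 1537))
)) (.node (nat_lit 0x10a042a102) (.node (nat_lit 0x10275ce102) (.leaf (nat_lit 0x1027598182) (nat_lit 768))
 (.leaf (nat_lit 0x10275ce102) (nat_lit 1024))
) (.node (nat_lit 0x10a043a182) (.leaf (nat_lit 0x10a042a102) (nat_lit 1025))
 (.node (nat_lit 0x10a04ae102) (.leaf (nat_lit 0x10a043a182) (nat_lit 1281))
 (.leaf (nat_lit 0x10a04ae102) (nat_lit 1538))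
)))) (.node (nat_lit 0x10a0bbc184) (.node (nat_lit 0x10a0aba184) (.node (nat_lit 0x10a0a90084) (.leaf (nat_lit 0x10a04bc182) (nat_lit 770))
 (.leaf (nat_lit 0x10a0a90084) (nat_lit 1540))
) (.node (nat_lit 0x10a0b92084) (.leaf (nat_lit 0x10a0aba184) (nat_lit 1284))
 (.leaf (nat_lit 0x10a0b92084) (nat_lit 1028))
)) (.node (nat_lit 0x10a0eaa106) (.node (nat_lit 0x10a0e90086) (.leaf (nat_lit 0x10a0bbc184) (nat_lit 1281))
 (.leaf (nat_lit 0x10a0e90086) (nat_lit 1025))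
) (.node (nat_lit 0x10a0f12086) (.leaf (nat_lit 0x10a0eaa106) (nat_lit 1284))
 (.node (nat_lit 0x10a0f2e106) (.leaf (nat_lit 0x10a0f12086) (nat_lit 1284))
 (.leaf (nat_lit 0x10a0f2e106) (nat_lit 1028))
)))))) (.node (nat_lit 0x10a55aa102) (.node (nat_lit 0x10a3eea106) (.node (nat_lit 0x10a3a90084) (.node (nat_lit 0x10a24ee102) (.node (nat_lit 0x10a247a182) (.leaf (nat_lit 0x10a246a102) (nat_lit 1026))
 (.leaf (nat_lit 0x10a247a182) (nat_lit 1282))
) (.node (nat_lit 0x10a24fc182) (.leaf (nat_lit 0x10a24ee102) (nat_lit 1284))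
 (.leaf (nat_lit 0x10a24fc182) (nat_lit 769))
)) (.node (nat_lit 0x10a3b92084) (.node (nat_lit 0x10a3afa184) (.leaf (nat_lit 0x10a3a90084) (nat_lit 1284))
 (.leaf (nat_lit 0x10a3afa184) (nat_lit 1284))
) (.node (nat_lit 0x10a3bfc184) (.leaf (nat_lit 0x10a3b92084) (nat_lit 1281))
 (.node (nat_lit 0x10a3e90086) (.leaf (nat_lit 0x10a3bfc184) (nat_lit 1282))
 (.leaf (nat_lit 0x10a3e90086) (nat_lit 1026))
)))) (.node (nat_lit 0x10a4afc184) (.node (nat_lit 0x10a3f6e106) (.node (nat_lit 0x10a3f12086) (.leaf (nat_lit 0x10a3eea106) (nat_lit 1283))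
 (.leaf (nat_lit 0x10a3f12086) (nat_lit 1284))
) (.node (nat_lit 0x10a4ad6084) (.leaf (nat_lit 0x10a3f6e106) (nat_lit 1028))
 (.leaf (nat_lit 0x10a4ad6084) (nat_lit 1284))
)) (.node (nat_lit 0x10a4bfa184) (.node (nat_lit 0x10a4bd4084) (.leaf (nat_lit 0x10a4afc184) (nat_lit 1281))
 (.leaf (nat_lit 0x10a4bd4084) (nat_lit 1284))
) (.node (nat_lit 0x10a552e102) (.leaf (nat_lit 0x10a4bfa184) (nat_lit 1539))
 (.node (nat_lit 0x10a557a182) (.leaf (nat_lit 0x10a552e102) (nat_lit 1024))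
 (.leaf (nat_lit 0x10a557a182) (nat_lit 1280))
))))) (.node (nat_lit 0x10a6f6a106) (.node (nat_lit 0x10a5f2a106) (.node (nat_lit 0x10a5eae106) (.node (nat_lit 0x10a55fc182) (.leaf (nat_lit 0x10a55aa102) (nat_lit 1026))
 (.leaf (nat_lit 0x10a55fc182) (nat_lit 770))
) (.node (nat_lit 0x10a5ed4086) (.leaf (nat_lit 0x10a5eae106) (nat_lit 1283))
 (.leaf (nat_lit 0x10a5ed4086) (nat_lit 1281))
)) (.node (nat_lit 0x10a6ed4086) (.node (nat_lit 0x10a5f56086) (.leaf (nat_lit 0x10a5f2a106) (nat_lit 1284))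
 (.leaf (nat_lit 0x10a5f56086) (nat_lit 1284))
) (.node (nat_lit 0x10a6eee106) (.leaf (nat_lit 0x10a6ed4086) (nat_lit 1280))
 (.node (nat_lit 0x10a6f56086) (.leaf (nat_lit 0x10a6eee106) (nat_lit 1283))
 (.leaf (nat_lit 0x10a6f56086) (nat_lit 1284))
)))) (.node (nat_lit 0x10a75ea102) (.node (nat_lit 0x10a756e102) (.node (nat_lit 0x10a753a182) (.leaf (nat_lit 0x10a6f6a106) (nat_lit 1284))
 (.leaf (nat_lit 0x10a753a182) (nat_lit 1280))
) (.node (nat_lit 0x10a75bc182) (.leaf (nat_lit 0x10a756e102) (nat_lit 1024))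
 (.leaf (nat_lit 0x10a75bc182) (nat_lit 769))
)) (.node (nat_lit 0x10a7ad6084) (.node (nat_lit 0x10a7abc184) (.leaf (nat_lit 0x10a75ea102) (nat_lit 1025))
 (.leaf (nat_lit 0x10a7abc184) (nat_lit 1282))
) (.node (nat_lit 0x10a7bba184) (.leaf (nat_lit 0x10a7ad6084) (nat_lit 1284))
 (.node (nat_lit 0x10a7bd4084) (.leaf (nat_lit 0x10a7bba184) (nat_lit 1539))
 (.leaf (nat_lit 0x10a7bd4084) (nat_lit 1284))
))))))))) (.node (nat_lit 0x18c044a102) (.node (nat_lit 0x11a4adc184) (.node (nat_lit 0x1126ece106) (.node (nat_lit 0x11233b4084) (.node (nat_lit 0x1120eb6086) (.node (nat_lit 0x1120d08102) (.node (nat_lit 0x1120336084) (.node (nat_lit 0x112023c184) (.leaf (nat_lit 0x1120234084) (nat_lit 1540))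
 (.leaf (nat_lit 0x112023c184) (nat_lit 1028))
) (.node (nat_lit 0x112033a184) (.leaf (nat_lit 0x1120336084) (nat_lit 1027))
 (.leaf (nat_lit 0x112033a184) (nat_lit 1537))
)) (.node (nat_lit 0x1120d8c102) (.node (nat_lit 0x1120d3c182) (.leaf (nat_lit 0x1120d08102) (nat_lit 257))
 (.leaf (nat_lit 0x1120d3c182) (nat_lit 1026))
) (.node (nat_lit 0x1120dba182) (.leaf (nat_lit 0x1120d8c102) (nat_lit 1540))
 (.node (nat_lit 0x1120e8c106) (.leaf (nat_lit 0x1120dba182) (nat_lit 1028))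
 (.leaf (nat_lit 0x1120e8c106) (nat_lit 1028))
)))) (.node (nat_lit 0x1122d7a182) (.node (nat_lit 0x1120f34086) (.node (nat_lit 0x1120f08106) (.leaf (nat_lit 0x1120eb6086) (nat_lit 1281))
 (.leaf (nat_lit 0x1120f08106) (nat_lit 1284))
) (.node (nat_lit 0x1122d4e102) (.leaf (nat_lit 0x1120f34086) (nat_lit 1028))
 (.leaf (nat_lit 0x1122d4e102) (nat_lit 1282))
)) (.node (nat_lit 0x1122dfc182) (.node (nat_lit 0x1122dca102) (.leaf (nat_lit 0x1122d7a182) (nat_lit 1538))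
 (.leaf (nat_lit 0x1122dca102) (nat_lit 1280))
) (.node (nat_lit 0x11232b6084) (.leaf (nat_lit 0x1122dfc182) (nat_lit 512))
 (.node (nat_lit 0x11232fc184) (.leaf (nat_lit 0x11232b6084) (nat_lit 1284))
 (.leaf (nat_lit 0x11232fc184) (nat_lit 1283))
))))) (.node (nat_lit 0x112437a184) (.node (nat_lit 0x1123f36086) (.node (nat_lit 0x1123eb4086) (.node (nat_lit 0x11233fa184) (.leaf (nat_lit 0x11233b4084) (nat_lit 1284))
 (.leaf (nat_lit 0x11233fa184) (nat_lit 1540))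
) (.node (nat_lit 0x1123ece106) (.leaf (nat_lit 0x1123eb4086) (nat_lit 1283))
 (.leaf (nat_lit 0x1123ece106) (nat_lit 1281))
)) (.node (nat_lit 0x1124274084) (.node (nat_lit 0x1123f4a106) (.leaf (nat_lit 0x1123f36086) (nat_lit 1284))
 (.leaf (nat_lit 0x1123f4a106) (nat_lit 1284))
) (.node (nat_lit 0x112427c184) (.leaf (nat_lit 0x1124274084) (nat_lit 1282))
 (.node (nat_lit 0x1124376084) (.leaf (nat_lit 0x112427c184) (nat_lit 1028))
 (.leaf (nat_lit 0x1124376084) (nat_lit 1027))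
)))) (.node (nat_lit 0x1125dfa182) (.node (nat_lit 0x1125d7c182) (.node (nat_lit 0x1125d08102) (.leaf (nat_lit 0x112437a184) (nat_lit 1538))
 (.leaf (nat_lit 0x1125d08102) (nat_lit 258))
) (.node (nat_lit 0x1125d8c102) (.leaf (nat_lit 0x1125d7c182) (nat_lit 1026))
 (.leaf (nat_lit 0x1125d8c102) (nat_lit 1536))
)) (.node (nat_lit 0x1125ef6086) (.node (nat_lit 0x1125e8c106) (.leaf (nat_lit 0x1125dfa182) (nat_lit 1028))
 (.leaf (nat_lit 0x1125e8c106) (nat_lit 1540))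
) (.node (nat_lit 0x1125f08106) (.leaf (nat_lit 0x1125ef6086) (nat_lit 1282))
 (.node (nat_lit 0x1125f74086) (.leaf (nat_lit 0x1125f08106) (nat_lit 1537))
 (.leaf (nat_lit 0x1125f74086) (nat_lit 1028))
)))))) (.node (nat_lit 0x11a0b98184) (.node (nat_lit 0x1127d4e102) (.node (nat_lit 0x11272bc184) (.node (nat_lit 0x1126f4a106) (.node (nat_lit 0x1126ef4086) (.leaf (nat_lit 0x1126ece106) (nat_lit 1282))
 (.leaf (nat_lit 0x1126ef4086) (nat_lit 1283))
) (.node (nat_lit 0x1126f76086) (.leaf (nat_lit 0x1126f4a106) (nat_lit 1284))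
 (.leaf (nat_lit 0x1126f76086) (nat_lit 1284))
)) (.node (nat_lit 0x11273ba184) (.node (nat_lit 0x11272f6084) (.leaf (nat_lit 0x11272bc184) (nat_lit 1283))
 (.leaf (nat_lit 0x11272f6084) (nat_lit 1284))
) (.node (nat_lit 0x11273f4084) (.leaf (nat_lit 0x11273ba184) (nat_lit 1540))
 (.node (nat_lit 0x1127d3a182) (.leaf (nat_lit 0x11273f4084) (nat_lit 1284))
 (.leaf (nat_lit 0x1127d3a182) (nat_lit 1284))
)))) (.node (nat_lit 0x11a0636086) (.node (nat_lit 0x1127dca102) (.node (nat_lit 0x1127dbc182) (.leaf (nat_lit 0x1127d4e102) (nat_lit 1281))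
 (.leaf (nat_lit 0x1127dbc182) (nat_lit 512))
) (.node (nat_lit 0x11a062e106) (.leaf (nat_lit 0x1127dca102) (nat_lit 1280))
 (.leaf (nat_lit 0x11a062e106) (nat_lit 1284))
)) (.node (nat_lit 0x11a07b4086) (.node (nat_lit 0x11a07aa106) (.leaf (nat_lit 0x11a0636086) (nat_lit 1028))
 (.leaf (nat_lit 0x11a07aa106) (nat_lit 1280))
) (.node (nat_lit 0x11a0a9e184) (.leaf (nat_lit 0x11a07b4086) (nat_lit 1281))
 (.node (nat_lit 0x11a0ab4084) (.leaf (nat_lit 0x11a0a9e184) (nat_lit 1540))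
 (.leaf (nat_lit 0x11a0ab4084) (nat_lit 1284))
))))) (.node (nat_lit 0x11a2dea102) (.node (nat_lit 0x11a0d98182) (.node (nat_lit 0x11a0d1e182) (.node (nat_lit 0x11a0bb6084) (.leaf (nat_lit 0x11a0b98184) (nat_lit 1025))
 (.leaf (nat_lit 0x11a0bb6084) (nat_lit 1284))
) (.node (nat_lit 0x11a0d2a102) (.leaf (nat_lit 0x11a0d1e182) (nat_lit 1536))
 (.leaf (nat_lit 0x11a0d2a102) (nat_lit 768))
)) (.node (nat_lit 0x11a2d5a182) (.node (nat_lit 0x11a0dae102) (.leaf (nat_lit 0x11a0d98182) (nat_lit 1026))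
 (.leaf (nat_lit 0x11a0dae102) (nat_lit 1282))
) (.node (nat_lit 0x11a2d6e102) (.leaf (nat_lit 0x11a2d5a182) (nat_lit 1538))
 (.node (nat_lit 0x11a2ddc182) (.leaf (nat_lit 0x11a2d6e102) (nat_lit 1284))
 (.leaf (nat_lit 0x11a2ddc182) (nat_lit 513))
)))) (.node (nat_lit 0x11a376a106) (.node (nat_lit 0x11a36ee106) (.node (nat_lit 0x11a36b4086) (.leaf (nat_lit 0x11a2dea102) (nat_lit 1282))
 (.leaf (nat_lit 0x11a36b4086) (nat_lit 1283))
) (.node (nat_lit 0x11a3736086) (.leaf (nat_lit 0x11a36ee106) (nat_lit 1281))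
 (.leaf (nat_lit 0x11a3736086) (nat_lit 1540))
)) (.node (nat_lit 0x11a3adc184) (.node (nat_lit 0x11a3ab6084) (.leaf (nat_lit 0x11a376a106) (nat_lit 1284))
 (.leaf (nat_lit 0x11a3ab6084) (nat_lit 1284))
) (.node (nat_lit 0x11a3bb4084) (.leaf (nat_lit 0x11a3adc184) (nat_lit 1282))
 (.node (nat_lit 0x11a3bda184) (.leaf (nat_lit 0x11a3bb4084) (nat_lit 1537))
 (.leaf (nat_lit 0x11a3bda184) (nat_lit 1284))
))))))) (.node (nat_lit 0x184246a102) (.node (nat_lit 0x11a7b98184) (.node (nat_lit 0x11a5d5a182) (.node (nat_lit 0x11a56ae106) (.node (nat_lit 0x11a4bda184) (.node (nat_lit 0x11a4af6084) (.leaf (nat_lit 0x11a4adc184) (nat_lit 1281))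
 (.leaf (nat_lit 0x11a4af6084) (nat_lit 1284))
) (.node (nat_lit 0x11a4bf4084) (.leaf (nat_lit 0x11a4bda184) (nat_lit 1540))
 (.leaf (nat_lit 0x11a4bf4084) (nat_lit 1538))
)) (.node (nat_lit 0x11a572a106) (.node (nat_lit 0x11a56f4086) (.leaf (nat_lit 0x11a56ae106) (nat_lit 1282))
 (.leaf (nat_lit 0x11a56f4086) (nat_lit 1283))
) (.node (nat_lit 0x11a5776086) (.leaf (nat_lit 0x11a572a106) (nat_lit 1284))
 (.node (nat_lit 0x11a5d2e102) (.leaf (nat_lit 0x11a5776086) (nat_lit 1284))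
 (.leaf (nat_lit 0x11a5d2e102) (nat_lit 1284))
)))) (.node (nat_lit 0x11a6676086) (.node (nat_lit 0x11a5ddc182) (.node (nat_lit 0x11a5daa102) (.leaf (nat_lit 0x11a5d5a182) (nat_lit 1280))
 (.leaf (nat_lit 0x11a5daa102) (nat_lit 1282))
) (.node (nat_lit 0x11a666e106) (.leaf (nat_lit 0x11a5ddc182) (nat_lit 514))
 (.leaf (nat_lit 0x11a666e106) (nat_lit 1284))
)) (.node (nat_lit 0x11a67f4086) (.node (nat_lit 0x11a67ea106) (.leaf (nat_lit 0x11a6676086) (nat_lit 1028))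
 (.leaf (nat_lit 0x11a67ea106) (nat_lit 1027))
) (.node (nat_lit 0x11a7a9e184) (.leaf (nat_lit 0x11a67f4086) (nat_lit 1282))
 (.node (nat_lit 0x11a7af4084) (.leaf (nat_lit 0x11a7a9e184) (nat_lit 1540))
 (.leaf (nat_lit 0x11a7af4084) (nat_lit 1028))
))))) (.node (nat_lit 0x184031e184) (.node (nat_lit 0x11a7d98182) (.node (nat_lit 0x11a7d1e182) (.node (nat_lit 0x11a7bf6084) (.leaf (nat_lit 0x11a7b98184) (nat_lit 1026))
 (.leaf (nat_lit 0x11a7bf6084) (nat_lit 1282))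
) (.node (nat_lit 0x11a7d6a102) (.leaf (nat_lit 0x11a7d1e182) (nat_lit 1536))
 (.leaf (nat_lit 0x11a7d6a102) (nat_lit 768))
)) (.node (nat_lit 0x1840210084) (.node (nat_lit 0x11a7dee102) (.leaf (nat_lit 0x11a7d98182) (nat_lit 1025))
 (.leaf (nat_lit 0x11a7dee102) (nat_lit 1028))
) (.node (nat_lit 0x1840218184) (.leaf (nat_lit 0x1840210084) (nat_lit 1540))
 (.node (nat_lit 0x1840312084) (.leaf (nat_lit 0x1840218184) (nat_lit 516))
 (.leaf (nat_lit 0x1840312084) (nat_lit 1025))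
)))) (.node (nat_lit 0x184049e182) (.node (nat_lit 0x1840418182) (.node (nat_lit 0x1840408102) (.leaf (nat_lit 0x184031e184) (nat_lit 1538))
 (.leaf (nat_lit 0x1840408102) (nat_lit 515))
) (.node (nat_lit 0x184048c102) (.leaf (nat_lit 0x1840418182) (nat_lit 1282))
 (.leaf (nat_lit 0x184048c102) (nat_lit 1537))
)) (.node (nat_lit 0x1840610086) (.node (nat_lit 0x1840608106) (.leaf (nat_lit 0x184049e182) (nat_lit 1028))
 (.leaf (nat_lit 0x1840608106) (nat_lit 1281))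
) (.node (nat_lit 0x184078c106) (.leaf (nat_lit 0x1840610086) (nat_lit 516))
 (.node (nat_lit 0x1840792086) (.leaf (nat_lit 0x184078c106) (nat_lit 1024))
 (.leaf (nat_lit 0x1840792086) (nat_lit 1540))
)))))) (.node (nat_lit 0x1845d8c102) (.node (nat_lit 0x1843eea106) (.node (nat_lit 0x1843a90084) (.node (nat_lit 0x18424ee102) (.node (nat_lit 0x184247a182) (.leaf (nat_lit 0x184246a102) (nat_lit 1027))
 (.leaf (nat_lit 0x184247a182) (nat_lit 1540))
) (.node (nat_lit 0x18424fc182) (.leaf (nat_lit 0x18424ee102) (nat_lit 1282))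
 (.leaf (nat_lit 0x18424fc182) (nat_lit 768))
)) (.node (nat_lit 0x1843b92084) (.node (nat_lit 0x1843afa184) (.leaf (nat_lit 0x1843a90084) (nat_lit 1024))
 (.leaf (nat_lit 0x1843afa184) (nat_lit 1028))
) (.node (nat_lit 0x1843bfc184) (.leaf (nat_lit 0x1843b92084) (nat_lit 1026))
 (.node (nat_lit 0x1843e90086) (.leaf (nat_lit 0x1843bfc184) (nat_lit 1027))
 (.leaf (nat_lit 0x1843e90086) (nat_lit 1026))
)))) (.node (nat_lit 0x184427c184) (.node (nat_lit 0x1843f6e106) (.node (nat_lit 0x1843f12086) (.leaf (nat_lit 0x1843eea106) (nat_lit 1024))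
 (.leaf (nat_lit 0x1843f12086) (nat_lit 1028))
) (.node (nat_lit 0x1844274084) (.leaf (nat_lit 0x1843f6e106) (nat_lit 1284))
 (.leaf (nat_lit 0x1844274084) (nat_lit 1281))
)) (.node (nat_lit 0x184437a184) (.node (nat_lit 0x1844376084) (.leaf (nat_lit 0x184427c184) (nat_lit 772))
 (.leaf (nat_lit 0x1844376084) (nat_lit 768))
) (.node (nat_lit 0x1845d08102) (.leaf (nat_lit 0x184437a184) (nat_lit 1537))
 (.node (nat_lit 0x1845d7c182) (.leaf (nat_lit 0x1845d08102) (nat_lit 771))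
 (.leaf (nat_lit 0x1845d7c182) (nat_lit 1283))
))))) (.node (nat_lit 0x18467f4086) (.node (nat_lit 0x1845f08106) (.node (nat_lit 0x1845e8c106) (.node (nat_lit 0x1845dfa182) (.leaf (nat_lit 0x1845d8c102) (nat_lit 1538))
 (.leaf (nat_lit 0x1845dfa182) (nat_lit 1284))
) (.node (nat_lit 0x1845ef6086) (.leaf (nat_lit 0x1845e8c106) (nat_lit 1280))
 (.leaf (nat_lit 0x1845ef6086) (nat_lit 1281))
)) (.node (nat_lit 0x184666e106) (.node (nat_lit 0x1845f74086) (.leaf (nat_lit 0x1845f08106) (nat_lit 1282))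
 (.leaf (nat_lit 0x1845f74086) (nat_lit 772))
) (.node (nat_lit 0x1846676086) (.leaf (nat_lit 0x184666e106) (nat_lit 1284))
 (.node (nat_lit 0x18467ea106) (.leaf (nat_lit 0x1846676086) (nat_lit 772))
 (.leaf (nat_lit 0x18467ea106) (nat_lit 768))
)))) (.node (nat_lit 0x1847bf6084) (.node (nat_lit 0x1847af4084) (.node (nat_lit 0x1847a9e184) (.leaf (nat_lit 0x18467f4086) (nat_lit 1284))
 (.leaf (nat_lit 0x1847a9e184) (nat_lit 1284))
) (.node (nat_lit 0x1847b98184) (.leaf (nat_lit 0x1847af4084) (nat_lit 1284))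
 (.leaf (nat_lit 0x1847b98184) (nat_lit 771))
)) (.node (nat_lit 0x1847d6a102) (.node (nat_lit 0x1847d1e182) (.leaf (nat_lit 0x1847bf6084) (nat_lit 1281))
 (.leaf (nat_lit 0x1847d1e182) (nat_lit 1538))
) (.node (nat_lit 0x1847d98182) (.leaf (nat_lit 0x1847d6a102) (nat_lit 1283))
 (.node (nat_lit 0x1847dee102) (.leaf (nat_lit 0x1847d98182) (nat_lit 1024))
 (.leaf (nat_lit 0x1847dee102) (nat_lit 1281))
)))))))) (.node (nat_lit 0x1944234084) (.node (nat_lit 0x18c6adc184) (.node (nat_lit 0x18c2b92084) (.node (nat_lit 0x18c16ca106) (.node (nat_lit 0x18c1290084) (.node (nat_lit 0x18c04ce102) (.node (nat_lit 0x18c045a182) (.leaf (nat_lit 0x18c044a102) (nat_lit 1024))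
 (.leaf (nat_lit 0x18c045a182) (nat_lit 1281))
) (.node (nat_lit 0x18c04dc182) (.leaf (nat_lit 0x18c04ce102) (nat_lit 1280))
 (.leaf (nat_lit 0x18c04dc182) (nat_lit 771))
)) (.node (nat_lit 0x18c1392084) (.node (nat_lit 0x18c12da184) (.leaf (nat_lit 0x18c1290084) (nat_lit 1284))
 (.leaf (nat_lit 0x18c12da184) (nat_lit 1280))
) (.node (nat_lit 0x18c13dc184) (.leaf (nat_lit 0x18c1392084) (nat_lit 772))
 (.node (nat_lit 0x18c1690086) (.leaf (nat_lit 0x18c13dc184) (nat_lit 1025))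
 (.leaf (nat_lit 0x18c1690086) (nat_lit 769))
)))) (.node (nat_lit 0x18c243a182) (.node (nat_lit 0x18c174e106) (.node (nat_lit 0x18c1712086) (.leaf (nat_lit 0x18c16ca106) (nat_lit 1282))
 (.leaf (nat_lit 0x18c1712086) (nat_lit 1284))
) (.node (nat_lit 0x18c242a102) (.leaf (nat_lit 0x18c174e106) (nat_lit 772))
 (.leaf (nat_lit 0x18c242a102) (nat_lit 1024))
)) (.node (nat_lit 0x18c24bc182) (.node (nat_lit 0x18c24ae102) (.leaf (nat_lit 0x18c243a182) (nat_lit 1026))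
 (.leaf (nat_lit 0x18c24ae102) (nat_lit 1536))
) (.node (nat_lit 0x18c2a90084) (.leaf (nat_lit 0x18c24bc182) (nat_lit 771))
 (.node (nat_lit 0x18c2aba184) (.leaf (nat_lit 0x18c2a90084) (nat_lit 1284))
 (.leaf (nat_lit 0x18c2aba184) (nat_lit 1540))
))))) (.node (nat_lit 0x18c4f76086) (.node (nat_lit 0x18c2f12086) (.node (nat_lit 0x18c2e90086) (.node (nat_lit 0x18c2bbc184) (.leaf (nat_lit 0x18c2b92084) (nat_lit 1282))
 (.leaf (nat_lit 0x18c2bbc184) (nat_lit 1026))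
) (.node (nat_lit 0x18c2eaa106) (.leaf (nat_lit 0x18c2e90086) (nat_lit 770))
 (.leaf (nat_lit 0x18c2eaa106) (nat_lit 1283))
)) (.node (nat_lit 0x18c4ece106) (.node (nat_lit 0x18c2f2e106) (.leaf (nat_lit 0x18c2f12086) (nat_lit 1280))
 (.leaf (nat_lit 0x18c2f2e106) (nat_lit 772))
) (.node (nat_lit 0x18c4ef4086) (.leaf (nat_lit 0x18c4ece106) (nat_lit 1027))
 (.node (nat_lit 0x18c4f4a106) (.leaf (nat_lit 0x18c4ef4086) (nat_lit 1025))
 (.leaf (nat_lit 0x18c4f4a106) (nat_lit 1028))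
)))) (.node (nat_lit 0x18c53f4084) (.node (nat_lit 0x18c52f6084) (.node (nat_lit 0x18c52bc184) (.leaf (nat_lit 0x18c4f76086) (nat_lit 1028))
 (.leaf (nat_lit 0x18c52bc184) (nat_lit 1024))
) (.node (nat_lit 0x18c53ba184) (.leaf (nat_lit 0x18c52f6084) (nat_lit 1028))
 (.leaf (nat_lit 0x18c53ba184) (nat_lit 1540))
)) (.node (nat_lit 0x18c5d4e102) (.node (nat_lit 0x18c5d3a182) (.leaf (nat_lit 0x18c53f4084) (nat_lit 1028))
 (.leaf (nat_lit 0x18c5d3a182) (nat_lit 1025))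
) (.node (nat_lit 0x18c5dbc182) (.leaf (nat_lit 0x18c5d4e102) (nat_lit 1280))
 (.node (nat_lit 0x18c5dca102) (.leaf (nat_lit 0x18c5dbc182) (nat_lit 1027))
 (.leaf (nat_lit 0x18c5dca102) (nat_lit 1536))
)))))) (.node (nat_lit 0x194158c102) (.node (nat_lit 0x18c7d5a182) (.node (nat_lit 0x18c76ae106) (.node (nat_lit 0x18c6bda184) (.node (nat_lit 0x18c6af6084) (.leaf (nat_lit 0x18c6adc184) (nat_lit 1026))
 (.leaf (nat_lit 0x18c6af6084) (nat_lit 1028))
) (.node (nat_lit 0x18c6bf4084) (.leaf (nat_lit 0x18c6bda184) (nat_lit 1536))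
 (.leaf (nat_lit 0x18c6bf4084) (nat_lit 1537))
)) (.node (nat_lit 0x18c772a106) (.node (nat_lit 0x18c76f4086) (.leaf (nat_lit 0x18c76ae106) (nat_lit 1281))
 (.leaf (nat_lit 0x18c76f4086) (nat_lit 1024))
) (.node (nat_lit 0x18c7776086) (.leaf (nat_lit 0x18c772a106) (nat_lit 1028))
 (.node (nat_lit 0x18c7d2e102) (.leaf (nat_lit 0x18c7776086) (nat_lit 1025))
 (.leaf (nat_lit 0x18c7d2e102) (nat_lit 1280))
)))) (.node (nat_lit 0x194025c184) (.node (nat_lit 0x18c7ddc182) (.node (nat_lit 0x18c7daa102) (.leaf (nat_lit 0x18c7d5a182) (nat_lit 1282))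
 (.leaf (nat_lit 0x18c7daa102) (nat_lit 1280))
) (.node (nat_lit 0x1940254084) (.leaf (nat_lit 0x18c7ddc182) (nat_lit 1027))
 (.leaf (nat_lit 0x1940254084) (nat_lit 1284))
)) (.node (nat_lit 0x194035a184) (.node (nat_lit 0x1940356084) (.leaf (nat_lit 0x194025c184) (nat_lit 772))
 (.leaf (nat_lit 0x1940356084) (nat_lit 1024))
) (.node (nat_lit 0x1941508102) (.leaf (nat_lit 0x194035a184) (nat_lit 1537))
 (.node (nat_lit 0x194155c182) (.leaf (nat_lit 0x1941508102) (nat_lit 771))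
 (.leaf (nat_lit 0x194155c182) (nat_lit 1027))
))))) (.node (nat_lit 0x1942f6a106) (.node (nat_lit 0x1941708106) (.node (nat_lit 0x194168c106) (.node (nat_lit 0x19415da182) (.leaf (nat_lit 0x194158c102) (nat_lit 1284))
 (.leaf (nat_lit 0x19415da182) (nat_lit 1028))
) (.node (nat_lit 0x19416d6086) (.leaf (nat_lit 0x194168c106) (nat_lit 1281))
 (.leaf (nat_lit 0x19416d6086) (nat_lit 1025))
)) (.node (nat_lit 0x1942ed4086) (.node (nat_lit 0x1941754086) (.leaf (nat_lit 0x1941708106) (nat_lit 1028))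
 (.leaf (nat_lit 0x1941754086) (nat_lit 1028))
) (.node (nat_lit 0x1942eee106) (.leaf (nat_lit 0x1942ed4086) (nat_lit 1283))
 (.node (nat_lit 0x1942f56086) (.leaf (nat_lit 0x1942eee106) (nat_lit 1024))
 (.leaf (nat_lit 0x1942f56086) (nat_lit 1028))
)))) (.node (nat_lit 0x19435ea102) (.node (nat_lit 0x194356e102) (.node (nat_lit 0x194353a182) (.leaf (nat_lit 0x1942f6a106) (nat_lit 1028))
 (.leaf (nat_lit 0x194353a182) (nat_lit 1282))
) (.node (nat_lit 0x19435bc182) (.leaf (nat_lit 0x194356e102) (nat_lit 1284))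
 (.leaf (nat_lit 0x19435bc182) (nat_lit 1027))
)) (.node (nat_lit 0x1943ad6084) (.node (nat_lit 0x1943abc184) (.leaf (nat_lit 0x19435ea102) (nat_lit 1283))
 (.leaf (nat_lit 0x1943abc184) (nat_lit 1027))
) (.node (nat_lit 0x1943bba184) (.leaf (nat_lit 0x1943ad6084) (nat_lit 1027))
 (.node (nat_lit 0x1943bd4084) (.leaf (nat_lit 0x1943bba184) (nat_lit 1280))
 (.leaf (nat_lit 0x1943bd4084) (nat_lit 1539))
))))))) (.node (nat_lit 0x19c2ad6084) (.node (nat_lit 0x1947736086) (.node (nat_lit 0x1944eb6086) (.node (nat_lit 0x1944d08102) (.node (nat_lit 0x1944336084) (.node (nat_lit 0x194423c184) (.leaf (nat_lit 0x1944234084) (nat_lit 1540))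
 (.leaf (nat_lit 0x194423c184) (nat_lit 772))
) (.node (nat_lit 0x194433a184) (.leaf (nat_lit 0x1944336084) (nat_lit 771))
 (.leaf (nat_lit 0x194433a184) (nat_lit 1536))
)) (.node (nat_lit 0x1944d8c102) (.node (nat_lit 0x1944d3c182) (.leaf (nat_lit 0x1944d08102) (nat_lit 771))
 (.leaf (nat_lit 0x1944d3c182) (nat_lit 1026))
) (.node (nat_lit 0x1944dba182) (.leaf (nat_lit 0x1944d8c102) (nat_lit 1540))
 (.node (nat_lit 0x1944e8c106) (.leaf (nat_lit 0x1944dba182) (nat_lit 772))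
 (.leaf (nat_lit 0x1944e8c106) (nat_lit 1280))
)))) (.node (nat_lit 0x1946d6e102) (.node (nat_lit 0x1944f34086) (.node (nat_lit 0x1944f08106) (.leaf (nat_lit 0x1944eb6086) (nat_lit 1281))
 (.leaf (nat_lit 0x1944f08106) (nat_lit 1284))
) (.node (nat_lit 0x1946d5a182) (.leaf (nat_lit 0x1944f34086) (nat_lit 772))
 (.leaf (nat_lit 0x1946d5a182) (nat_lit 1538))
)) (.node (nat_lit 0x1946dea102) (.node (nat_lit 0x1946ddc182) (.leaf (nat_lit 0x1946d6e102) (nat_lit 1028))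
 (.leaf (nat_lit 0x1946ddc182) (nat_lit 1027))
) (.node (nat_lit 0x19476b4086) (.leaf (nat_lit 0x1946dea102) (nat_lit 1282))
 (.node (nat_lit 0x19476ee106) (.leaf (nat_lit 0x19476b4086) (nat_lit 1027))
 (.leaf (nat_lit 0x19476ee106) (nat_lit 1280))
))))) (.node (nat_lit 0x19c07d4086) (.node (nat_lit 0x1947bb4084) (.node (nat_lit 0x1947ab6084) (.node (nat_lit 0x194776a106) (.leaf (nat_lit 0x1947736086) (nat_lit 1284))
 (.leaf (nat_lit 0x194776a106) (nat_lit 1028))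
) (.node (nat_lit 0x1947adc184) (.leaf (nat_lit 0x1947ab6084) (nat_lit 1028))
 (.leaf (nat_lit 0x1947adc184) (nat_lit 1283))
)) (.node (nat_lit 0x19c064e106) (.node (nat_lit 0x1947bda184) (.leaf (nat_lit 0x1947bb4084) (nat_lit 1280))
 (.leaf (nat_lit 0x1947bda184) (nat_lit 1284))
) (.node (nat_lit 0x19c0656086) (.leaf (nat_lit 0x19c064e106) (nat_lit 1025))
 (.node (nat_lit 0x19c07ca106) (.leaf (nat_lit 0x19c0656086) (nat_lit 772))
 (.leaf (nat_lit 0x19c07ca106) (nat_lit 1283))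
)))) (.node (nat_lit 0x19c13d6084) (.node (nat_lit 0x19c12d4084) (.node (nat_lit 0x19c129e184) (.leaf (nat_lit 0x19c07d4086) (nat_lit 1281))
 (.leaf (nat_lit 0x19c129e184) (nat_lit 1284))
) (.node (nat_lit 0x19c1398184) (.leaf (nat_lit 0x19c12d4084) (nat_lit 1284))
 (.leaf (nat_lit 0x19c1398184) (nat_lit 769))
)) (.node (nat_lit 0x19c154a102) (.node (nat_lit 0x19c151e182) (.leaf (nat_lit 0x19c13d6084) (nat_lit 1028))
 (.leaf (nat_lit 0x19c151e182) (nat_lit 1281))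
) (.node (nat_lit 0x19c1598182) (.leaf (nat_lit 0x19c154a102) (nat_lit 1283))
 (.node (nat_lit 0x19c15ce102) (.leaf (nat_lit 0x19c1598182) (nat_lit 1283))
 (.leaf (nat_lit 0x19c15ce102) (nat_lit 1539))
)))))) (.node (nat_lit 0x19c53b4084) (.node (nat_lit 0x19c3ed4086) (.node (nat_lit 0x19c352e102) (.node (nat_lit 0x19c2bd4084) (.node (nat_lit 0x19c2afc184) (.leaf (nat_lit 0x19c2ad6084) (nat_lit 1024))
 (.leaf (nat_lit 0x19c2afc184) (nat_lit 1026))
) (.node (nat_lit 0x19c2bfa184) (.leaf (nat_lit 0x19c2bd4084) (nat_lit 1536))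
 (.leaf (nat_lit 0x19c2bfa184) (nat_lit 1281))
)) (.node (nat_lit 0x19c35aa102) (.node (nat_lit 0x19c357a182) (.leaf (nat_lit 0x19c352e102) (nat_lit 1536))
 (.leaf (nat_lit 0x19c357a182) (nat_lit 1538))
) (.node (nat_lit 0x19c35fc182) (.leaf (nat_lit 0x19c35aa102) (nat_lit 1283))
 (.node (nat_lit 0x19c3eae106) (.leaf (nat_lit 0x19c35fc182) (nat_lit 1027))
 (.leaf (nat_lit 0x19c3eae106) (nat_lit 1025))
)))) (.node (nat_lit 0x19c4d7a182) (.node (nat_lit 0x19c3f56086) (.node (nat_lit 0x19c3f2a106) (.leaf (nat_lit 0x19c3ed4086) (nat_lit 1280))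
 (.leaf (nat_lit 0x19c3f2a106) (nat_lit 1028))
) (.node (nat_lit 0x19c4d4e102) (.leaf (nat_lit 0x19c3f56086) (nat_lit 1280))
 (.leaf (nat_lit 0x19c4d4e102) (nat_lit 1283))
)) (.node (nat_lit 0x19c4dfc182) (.node (nat_lit 0x19c4dca102) (.leaf (nat_lit 0x19c4d7a182) (nat_lit 1537))
 (.leaf (nat_lit 0x19c4dca102) (nat_lit 1282))
) (.node (nat_lit 0x19c52b6084) (.leaf (nat_lit 0x19c4dfc182) (nat_lit 1027))
 (.node (nat_lit 0x19c52fc184) (.leaf (nat_lit 0x19c52b6084) (nat_lit 1028))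
 (.leaf (nat_lit 0x19c52fc184) (nat_lit 1025))
))))) (.node (nat_lit 0x19c67b4086) (.node (nat_lit 0x19c5f36086) (.node (nat_lit 0x19c5eb4086) (.node (nat_lit 0x19c53fa184) (.leaf (nat_lit 0x19c53b4084) (nat_lit 1284))
 (.leaf (nat_lit 0x19c53fa184) (nat_lit 1284))
) (.node (nat_lit 0x19c5ece106) (.leaf (nat_lit 0x19c5eb4086) (nat_lit 1025))
 (.leaf (nat_lit 0x19c5ece106) (nat_lit 1026))
)) (.node (nat_lit 0x19c662e106) (.node (nat_lit 0x19c5f4a106) (.leaf (nat_lit 0x19c5f36086) (nat_lit 1028))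
 (.leaf (nat_lit 0x19c5f4a106) (nat_lit 1028))
) (.node (nat_lit 0x19c6636086) (.leaf (nat_lit 0x19c662e106) (nat_lit 1028))
 (.node (nat_lit 0x19c67aa106) (.leaf (nat_lit 0x19c6636086) (nat_lit 1028))
 (.leaf (nat_lit 0x19c67aa106) (nat_lit 1024))
)))) (.node (nat_lit 0x19c6bb6084) (.node (nat_lit 0x19c6ab4084) (.node (nat_lit 0x19c6a9e184) (.leaf (nat_lit 0x19c67b4086) (nat_lit 1026))
 (.leaf (nat_lit 0x19c6a9e184) (nat_lit 1284))
) (.node (nat_lit 0x19c6b98184) (.leaf (nat_lit 0x19c6ab4084) (nat_lit 1284))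
 (.leaf (nat_lit 0x19c6b98184) (nat_lit 770))
)) (.node (nat_lit 0x19c6d2a102) (.node (nat_lit 0x19c6d1e182) (.leaf (nat_lit 0x19c6bb6084) (nat_lit 1026))
 (.leaf (nat_lit 0x19c6d1e182) (nat_lit 1282))
) (.node (nat_lit 0x19c6d98182) (.leaf (nat_lit 0x19c6d2a102) (nat_lit 1283))
 (.node (nat_lit 0x19c6dae102) (.leaf (nat_lit 0x19c6d98182) (nat_lit 1027))
 (.leaf (nat_lit 0x19c6dae102) (nat_lit 1539))
))))))))))

theorem CZ_ok : genOK A2 [(nat_lit 0x10224dc182), (nat_lit 0x1120d08102), (nat_lit 0x1125d08102), (nat_lit 0x860408102), (nat_lit 0x860218184)] CZ_t (nat_lit 576) = true := by decide +kernel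

noncomputable def CA_t : ST :=
(.node (nat_lit 0x1820108402) (.node (nat_lit 0x11a0d1e182) (.node (nat_lit 0x10a246a102) (.node (nat_lit 0x10224ce102) (.node (nat_lit 0x102049e182) (.node (nat_lit 0x1020418182) (.leaf (nat_lit 0x1020408102) (nat_lit 0))
 (.node (nat_lit 0x102048c102) (.leaf (nat_lit 0x1020418182) (nat_lit 770))
 (.leaf (nat_lit 0x102048c102) (nat_lit 1027))
)) (.node (nat_lit 0x102244a102) (.leaf (nat_lit 0x102049e182) (nat_lit 1282))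
 (.node (nat_lit 0x102245a182) (.leaf (nat_lit 0x102244a102) (nat_lit 1026))
 (.leaf (nat_lit 0x102245a182) (nat_lit 1283))
))) (.node (nat_lit 0x10a043a182) (.node (nat_lit 0x10224dc182) (.leaf (nat_lit 0x10224ce102) (nat_lit 1026))
 (.node (nat_lit 0x10a042a102) (.leaf (nat_lit 0x10224dc182) (nat_lit 256))
 (.leaf (nat_lit 0x10a042a102) (nat_lit 1026))
)) (.node (nat_lit 0x10a04ae102) (.leaf (nat_lit 0x10a043a182) (nat_lit 1282))
 (.node (nat_lit 0x10a04bc182) (.leaf (nat_lit 0x10a04ae102) (nat_lit 1026))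
 (.leaf (nat_lit 0x10a04bc182) (nat_lit 257))
)))) (.node (nat_lit 0x1120d8c102) (.node (nat_lit 0x10a24fc182) (.node (nat_lit 0x10a247a182) (.leaf (nat_lit 0x10a246a102) (nat_lit 513))
 (.node (nat_lit 0x10a24ee102) (.leaf (nat_lit 0x10a247a182) (nat_lit 1282))
 (.leaf (nat_lit 0x10a24ee102) (nat_lit 1026))
)) (.node (nat_lit 0x1120d08102) (.leaf (nat_lit 0x10a24fc182) (nat_lit 770))
 (.node (nat_lit 0x1120d3c182) (.leaf (nat_lit 0x1120d08102) (nat_lit 258))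
 (.leaf (nat_lit 0x1120d3c182) (nat_lit 514))
))) (.node (nat_lit 0x1122d7a182) (.node (nat_lit 0x1120dba182) (.leaf (nat_lit 0x1120d8c102) (nat_lit 1027))
 (.node (nat_lit 0x1122d4e102) (.leaf (nat_lit 0x1120dba182) (nat_lit 1025))
 (.leaf (nat_lit 0x1122d4e102) (nat_lit 769))
)) (.node (nat_lit 0x1122dca102) (.leaf (nat_lit 0x1122d7a182) (nat_lit 1025))
 (.node (nat_lit 0x1122dfc182) (.leaf (nat_lit 0x1122dca102) (nat_lit 768))
 (.leaf (nat_lit 0x1122dfc182) (nat_lit 512))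
))))) (.node (nat_lit 0x142244ad82) (.node (nat_lit 0x11a2ddc182) (.node (nat_lit 0x11a0dae102) (.node (nat_lit 0x11a0d2a102) (.leaf (nat_lit 0x11a0d1e182) (nat_lit 1024))
 (.node (nat_lit 0x11a0d98182) (.leaf (nat_lit 0x11a0d2a102) (nat_lit 768))
 (.leaf (nat_lit 0x11a0d98182) (nat_lit 513))
)) (.node (nat_lit 0x11a2d5a182) (.leaf (nat_lit 0x11a0dae102) (nat_lit 769))
 (.node (nat_lit 0x11a2d6e102) (.leaf (nat_lit 0x11a2d5a182) (nat_lit 1025))
 (.leaf (nat_lit 0x11a2d6e102) (nat_lit 769))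
))) (.node (nat_lit 0x1420418d82) (.node (nat_lit 0x11a2dea102) (.leaf (nat_lit 0x11a2ddc182) (nat_lit 514))
 (.node (nat_lit 0x1420408d02) (.leaf (nat_lit 0x11a2dea102) (nat_lit 770))
 (.leaf (nat_lit 0x1420408d02) (nat_lit 515))
)) (.node (nat_lit 0x14204aed82) (.leaf (nat_lit 0x1420418d82) (nat_lit 771))
 (.node (nat_lit 0x14204bcd02) (.leaf (nat_lit 0x14204aed82) (nat_lit 1027))
 (.leaf (nat_lit 0x14204bcd02) (nat_lit 771))
)))) (.node (nat_lit 0x14a048cd82) (.node (nat_lit 0x14224fcd82) (.node (nat_lit 0x142245ad02) (.leaf (nat_lit 0x142244ad82) (nat_lit 1027))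
 (.node (nat_lit 0x14224eed02) (.leaf (nat_lit 0x142245ad02) (nat_lit 1025))
 (.leaf (nat_lit 0x14224eed02) (nat_lit 1027))
)) (.node (nat_lit 0x14a042ad02) (.leaf (nat_lit 0x14224fcd82) (nat_lit 771))
 (.node (nat_lit 0x14a043ad82) (.leaf (nat_lit 0x14a042ad02) (nat_lit 1027))
 (.leaf (nat_lit 0x14a043ad82) (nat_lit 1025))
))) (.node (nat_lit 0x14a247ad02) (.node (nat_lit 0x14a049ed02) (.leaf (nat_lit 0x14a048cd82) (nat_lit 769))
 (.node (nat_lit 0x14a246ad82) (.leaf (nat_lit 0x14a049ed02) (nat_lit 1025))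
 (.leaf (nat_lit 0x14a246ad82) (nat_lit 1027))
)) (.node (nat_lit 0x14a24ced02) (.leaf (nat_lit 0x14a247ad02) (nat_lit 1025))
 (.node (nat_lit 0x14a24dcd82) (.leaf (nat_lit 0x14a24ced02) (nat_lit 1027))
 (.leaf (nat_lit 0x14a24dcd82) (nat_lit 771))
)))))) (.node (nat_lit 0x19a012ad02) (.node (nat_lit 0x18a214a402) (.node (nat_lit 0x18221fa402) (.node (nat_lit 0x182019e482) (.node (nat_lit 0x182010c482) (.leaf (nat_lit 0x1820108402) (nat_lit 514))
 (.node (nat_lit 0x1820198402) (.leaf (nat_lit 0x182010c482) (nat_lit 770))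
 (.leaf (nat_lit 0x1820198402) (nat_lit 1027))
)) (.node (nat_lit 0x182216a402) (.leaf (nat_lit 0x182019e482) (nat_lit 1280))
 (.node (nat_lit 0x182216e482) (.leaf (nat_lit 0x182216a402) (nat_lit 1026))
 (.leaf (nat_lit 0x182216e482) (nat_lit 1282))
))) (.node (nat_lit 0x18a012e482) (.node (nat_lit 0x18221fc482) (.leaf (nat_lit 0x18221fa402) (nat_lit 1024))
 (.node (nat_lit 0x18a012a402) (.leaf (nat_lit 0x18221fc482) (nat_lit 768))
 (.leaf (nat_lit 0x18a012a402) (nat_lit 1024))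
)) (.node (nat_lit 0x18a01ba402) (.leaf (nat_lit 0x18a012e482) (nat_lit 1280))
 (.node (nat_lit 0x18a01bc482) (.leaf (nat_lit 0x18a01ba402) (nat_lit 1026))
 (.leaf (nat_lit 0x18a01bc482) (nat_lit 770))
)))) (.node (nat_lit 0x19201bad82) (.node (nat_lit 0x18a21dc482) (.node (nat_lit 0x18a214e482) (.leaf (nat_lit 0x18a214a402) (nat_lit 1024))
 (.node (nat_lit 0x18a21da402) (.leaf (nat_lit 0x18a214e482) (nat_lit 1283))
 (.leaf (nat_lit 0x18a21da402) (nat_lit 1026))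
)) (.node (nat_lit 0x1920108d02) (.leaf (nat_lit 0x18a21dc482) (nat_lit 770))
 (.node (nat_lit 0x192010cd82) (.leaf (nat_lit 0x1920108d02) (nat_lit 515))
 (.leaf (nat_lit 0x192010cd82) (nat_lit 771))
))) (.node (nat_lit 0x192216ed02) (.node (nat_lit 0x19201bcd02) (.leaf (nat_lit 0x19201bad82) (nat_lit 1027))
 (.node (nat_lit 0x192216ad82) (.leaf (nat_lit 0x19201bcd02) (nat_lit 771))
 (.leaf (nat_lit 0x192216ad82) (nat_lit 1027))
)) (.node (nat_lit 0x19221dad02) (.leaf (nat_lit 0x192216ed02) (nat_lit 1283))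
 (.node (nat_lit 0x19221dcd82) (.leaf (nat_lit 0x19221dad02) (nat_lit 1027))
 (.leaf (nat_lit 0x19221dcd82) (nat_lit 771))
))))) (.node (nat_lit 0x1c22d4e482) (.node (nat_lit 0x19a21fad02) (.node (nat_lit 0x19a019ed02) (.node (nat_lit 0x19a012ed82) (.leaf (nat_lit 0x19a012ad02) (nat_lit 1282))
 (.node (nat_lit 0x19a0198d82) (.leaf (nat_lit 0x19a012ed82) (nat_lit 1025))
 (.leaf (nat_lit 0x19a0198d82) (nat_lit 769))
)) (.node (nat_lit 0x19a214ad82) (.leaf (nat_lit 0x19a019ed02) (nat_lit 1025))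
 (.node (nat_lit 0x19a214ed02) (.leaf (nat_lit 0x19a214ad82) (nat_lit 1281))
 (.leaf (nat_lit 0x19a214ed02) (nat_lit 1025))
))) (.node (nat_lit 0x1c20d3c482) (.node (nat_lit 0x19a21fcd82) (.leaf (nat_lit 0x19a21fad02) (nat_lit 1281))
 (.node (nat_lit 0x1c20d08402) (.leaf (nat_lit 0x19a21fcd82) (nat_lit 1026))
 (.leaf (nat_lit 0x1c20d08402) (nat_lit 259))
)) (.node (nat_lit 0x1c20d98402) (.leaf (nat_lit 0x1c20d3c482) (nat_lit 515))
 (.node (nat_lit 0x1c20dae482) (.leaf (nat_lit 0x1c20d98402) (nat_lit 1027))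
 (.leaf (nat_lit 0x1c20dae482) (nat_lit 1283))
)))) (.node (nat_lit 0x1ca0d8c482) (.node (nat_lit 0x1c22dea402) (.node (nat_lit 0x1c22d7a402) (.leaf (nat_lit 0x1c22d4e482) (nat_lit 1283))
 (.node (nat_lit 0x1c22ddc482) (.leaf (nat_lit 0x1c22d7a402) (nat_lit 1281))
 (.leaf (nat_lit 0x1c22ddc482) (nat_lit 515))
)) (.node (nat_lit 0x1ca0d1e482) (.leaf (nat_lit 0x1c22dea402) (nat_lit 771))
 (.node (nat_lit 0x1ca0d2a402) (.leaf (nat_lit 0x1ca0d1e482) (nat_lit 1281))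
 (.leaf (nat_lit 0x1ca0d2a402) (nat_lit 1283))
))) (.node (nat_lit 0x1ca2d6e482) (.node (nat_lit 0x1ca0dba402) (.leaf (nat_lit 0x1ca0d8c482) (nat_lit 513))
 (.node (nat_lit 0x1ca2d5a402) (.leaf (nat_lit 0x1ca0dba402) (nat_lit 769))
 (.leaf (nat_lit 0x1ca2d5a402) (nat_lit 769))
)) (.node (nat_lit 0x1ca2dca402) (.leaf (nat_lit 0x1ca2d6e482) (nat_lit 1025))
 (.node (nat_lit 0x1ca2dfc482) (.leaf (nat_lit 0x1ca2dca402) (nat_lit 1283))
 (.leaf (nat_lit 0x1ca2dfc482) (nat_lit 1027))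
)))))))

theorem CA_ok : genOK A2 [(nat_lit 0x10224dc182), (nat_lit 0x10a04bc182), (nat_lit 0x1120d08102), (nat_lit 0x1c20d08402)] CA_t (nat_lit 96) = true := by decide +kernel

noncomputable def T0_t : ST :=
(.node (nat_lit 0x1820408102) (.node (nat_lit 0x1120d08102) (.node (nat_lit 0x10a042a102) (.node (nat_lit 0x1025508102) (.node (nat_lit 0x102244a102) (.node (nat_lit 0x102048c102) (.node (nat_lit 0x1020418182) (.leaf (nat_lit 0x1020408102) (nat_lit 0))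
 (.leaf (nat_lit 0x1020418182) (nat_lit 1283))
) (.node (nat_lit 0x102049e182) (.leaf (nat_lit 0x102048c102) (nat_lit 2051))
 (.leaf (nat_lit 0x102049e182) (nat_lit 1795))
)) (.node (nat_lit 0x10224ce102) (.node (nat_lit 0x102245a182) (.leaf (nat_lit 0x102244a102) (nat_lit 1539))
 (.leaf (nat_lit 0x102245a182) (nat_lit 1795))
) (.node (nat_lit 0x10224dc182) (.leaf (nat_lit 0x10224ce102) (nat_lit 1539))
 (.leaf (nat_lit 0x10224dc182) (nat_lit 257))
))) (.node (nat_lit 0x102751e182) (.node (nat_lit 0x102558c102) (.node (nat_lit 0x102555c182) (.leaf (nat_lit 0x1025508102) (nat_lit 515))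
 (.leaf (nat_lit 0x102555c182) (nat_lit 771))
) (.node (nat_lit 0x10255da182) (.leaf (nat_lit 0x102558c102) (nat_lit 1793))
 (.leaf (nat_lit 0x10255da182) (nat_lit 1537))
)) (.node (nat_lit 0x1027598182) (.node (nat_lit 0x102754a102) (.leaf (nat_lit 0x102751e182) (nat_lit 1536))
 (.leaf (nat_lit 0x102754a102) (nat_lit 1280))
) (.node (nat_lit 0x10275ce102) (.leaf (nat_lit 0x1027598182) (nat_lit 769))
 (.leaf (nat_lit 0x10275ce102) (nat_lit 1025))
)))) (.node (nat_lit 0x10a552e102) (.node (nat_lit 0x10a246a102) (.node (nat_lit 0x10a04ae102) (.node (nat_lit 0x10a043a182) (.leaf (nat_lit 0x10a042a102) (nat_lit 1025))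
 (.leaf (nat_lit 0x10a043a182) (nat_lit 1795))
) (.node (nat_lit 0x10a04bc182) (.leaf (nat_lit 0x10a04ae102) (nat_lit 1539))
 (.leaf (nat_lit 0x10a04bc182) (nat_lit 771))
)) (.node (nat_lit 0x10a24ee102) (.node (nat_lit 0x10a247a182) (.leaf (nat_lit 0x10a246a102) (nat_lit 1027))
 (.leaf (nat_lit 0x10a247a182) (nat_lit 1795))
) (.node (nat_lit 0x10a24fc182) (.leaf (nat_lit 0x10a24ee102) (nat_lit 1539))
 (.leaf (nat_lit 0x10a24fc182) (nat_lit 768))
))) (.node (nat_lit 0x10a753a182) (.node (nat_lit 0x10a55aa102) (.node (nat_lit 0x10a557a182) (.leaf (nat_lit 0x10a552e102) (nat_lit 1025))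
 (.leaf (nat_lit 0x10a557a182) (nat_lit 1281))
) (.node (nat_lit 0x10a55fc182) (.leaf (nat_lit 0x10a55aa102) (nat_lit 1027))
 (.leaf (nat_lit 0x10a55fc182) (nat_lit 771))
)) (.node (nat_lit 0x10a75bc182) (.node (nat_lit 0x10a756e102) (.leaf (nat_lit 0x10a753a182) (nat_lit 1281))
 (.leaf (nat_lit 0x10a756e102) (nat_lit 1025))
) (.node (nat_lit 0x10a75ea102) (.leaf (nat_lit 0x10a75bc182) (nat_lit 770))
 (.leaf (nat_lit 0x10a75ea102) (nat_lit 1026))
))))) (.node (nat_lit 0x11a0d1e182) (.node (nat_lit 0x1125d08102) (.node (nat_lit 0x1122d4e102) (.node (nat_lit 0x1120d8c102) (.node (nat_lit 0x1120d3c182) (.leaf (nat_lit 0x1120d08102) (nat_lit 258))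
 (.leaf (nat_lit 0x1120d3c182) (nat_lit 1027))
) (.node (nat_lit 0x1120dba182) (.leaf (nat_lit 0x1120d8c102) (nat_lit 1793))
 (.leaf (nat_lit 0x1120dba182) (nat_lit 1539))
)) (.node (nat_lit 0x1122dca102) (.node (nat_lit 0x1122d7a182) (.leaf (nat_lit 0x1122d4e102) (nat_lit 1283))
 (.leaf (nat_lit 0x1122d7a182) (nat_lit 1539))
) (.node (nat_lit 0x1122dfc182) (.leaf (nat_lit 0x1122dca102) (nat_lit 1281))
 (.leaf (nat_lit 0x1122dfc182) (nat_lit 513))
))) (.node (nat_lit 0x1127d3a182) (.node (nat_lit 0x1125d8c102) (.node (nat_lit 0x1125d7c182) (.leaf (nat_lit 0x1125d08102) (nat_lit 259))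
 (.leaf (nat_lit 0x1125d7c182) (nat_lit 1027))
) (.node (nat_lit 0x1125dfa182) (.leaf (nat_lit 0x1125d8c102) (nat_lit 1793))
 (.leaf (nat_lit 0x1125dfa182) (nat_lit 1537))
)) (.node (nat_lit 0x1127dbc182) (.node (nat_lit 0x1127d4e102) (.leaf (nat_lit 0x1127d3a182) (nat_lit 1538))
 (.leaf (nat_lit 0x1127d4e102) (nat_lit 1282))
) (.node (nat_lit 0x1127dca102) (.leaf (nat_lit 0x1127dbc182) (nat_lit 513))
 (.leaf (nat_lit 0x1127dca102) (nat_lit 1281))
)))) (.node (nat_lit 0x11a5d2e102) (.node (nat_lit 0x11a2d5a182) (.node (nat_lit 0x11a0d98182) (.node (nat_lit 0x11a0d2a102) (.leaf (nat_lit 0x11a0d1e182) (nat_lit 1537))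
 (.leaf (nat_lit 0x11a0d2a102) (nat_lit 769))
) (.node (nat_lit 0x11a0dae102) (.leaf (nat_lit 0x11a0d98182) (nat_lit 1027))
 (.leaf (nat_lit 0x11a0dae102) (nat_lit 1283))
)) (.node (nat_lit 0x11a2ddc182) (.node (nat_lit 0x11a2d6e102) (.leaf (nat_lit 0x11a2d5a182) (nat_lit 1537))
 (.leaf (nat_lit 0x11a2d6e102) (nat_lit 1283))
) (.node (nat_lit 0x11a2dea102) (.leaf (nat_lit 0x11a2ddc182) (nat_lit 514))
 (.leaf (nat_lit 0x11a2dea102) (nat_lit 1283))
))) (.node (nat_lit 0x11a7d1e182) (.node (nat_lit 0x11a5daa102) (.node (nat_lit 0x11a5d5a182) (.leaf (nat_lit 0x11a5d2e102) (nat_lit 1281))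
 (.leaf (nat_lit 0x11a5d5a182) (nat_lit 1537))
) (.node (nat_lit 0x11a5ddc182) (.leaf (nat_lit 0x11a5daa102) (nat_lit 1283))
 (.leaf (nat_lit 0x11a5ddc182) (nat_lit 515))
)) (.node (nat_lit 0x11a7d98182) (.node (nat_lit 0x11a7d6a102) (.leaf (nat_lit 0x11a7d1e182) (nat_lit 1537))
 (.leaf (nat_lit 0x11a7d6a102) (nat_lit 769))
) (.node (nat_lit 0x11a7dee102) (.leaf (nat_lit 0x11a7d98182) (nat_lit 1026))
 (.leaf (nat_lit 0x11a7dee102) (nat_lit 1282))
)))))) (.node (nat_lit 0x1920d08102) (.node (nat_lit 0x18a042a102) (.node (nat_lit 0x1825d08102) (.node (nat_lit 0x182246a102) (.node (nat_lit 0x182048c102) (.node (nat_lit 0x1820418182) (.leaf (nat_lit 0x1820408102) (nat_lit 256))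
 (.leaf (nat_lit 0x1820418182) (nat_lit 1283))
) (.node (nat_lit 0x182049e182) (.leaf (nat_lit 0x182048c102) (nat_lit 2051))
 (.leaf (nat_lit 0x182049e182) (nat_lit 1539))
)) (.node (nat_lit 0x18224ee102) (.node (nat_lit 0x182247a182) (.leaf (nat_lit 0x182246a102) (nat_lit 1283))
 (.leaf (nat_lit 0x182247a182) (nat_lit 1795))
) (.node (nat_lit 0x18224fc182) (.leaf (nat_lit 0x18224ee102) (nat_lit 1539))
 (.leaf (nat_lit 0x18224fc182) (nat_lit 513))
))) (.node (nat_lit 0x1827d1e182) (.node (nat_lit 0x1825d8c102) (.node (nat_lit 0x1825d7c182) (.leaf (nat_lit 0x1825d08102) (nat_lit 512))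
 (.leaf (nat_lit 0x1825d7c182) (nat_lit 1027))
) (.node (nat_lit 0x1825dfa182) (.leaf (nat_lit 0x1825d8c102) (nat_lit 1793))
 (.leaf (nat_lit 0x1825dfa182) (nat_lit 1281))
)) (.node (nat_lit 0x1827d98182) (.node (nat_lit 0x1827d6a102) (.leaf (nat_lit 0x1827d1e182) (nat_lit 1538))
 (.leaf (nat_lit 0x1827d6a102) (nat_lit 1024))
) (.node (nat_lit 0x1827dee102) (.leaf (nat_lit 0x1827d98182) (nat_lit 769))
 (.leaf (nat_lit 0x1827dee102) (nat_lit 1281))
)))) (.node (nat_lit 0x18a5d2e102) (.node (nat_lit 0x18a244a102) (.node (nat_lit 0x18a04ae102) (.node (nat_lit 0x18a043a182) (.leaf (nat_lit 0x18a042a102) (nat_lit 769))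
 (.leaf (nat_lit 0x18a043a182) (nat_lit 1795))
) (.node (nat_lit 0x18a04bc182) (.leaf (nat_lit 0x18a04ae102) (nat_lit 1539))
 (.leaf (nat_lit 0x18a04bc182) (nat_lit 1027))
)) (.node (nat_lit 0x18a24ce102) (.node (nat_lit 0x18a245a182) (.leaf (nat_lit 0x18a244a102) (nat_lit 1283))
 (.leaf (nat_lit 0x18a245a182) (nat_lit 1795))
) (.node (nat_lit 0x18a24dc182) (.leaf (nat_lit 0x18a24ce102) (nat_lit 1539))
 (.leaf (nat_lit 0x18a24dc182) (nat_lit 512))
))) (.node (nat_lit 0x18a7d3a182) (.node (nat_lit 0x18a5daa102) (.node (nat_lit 0x18a5d5a182) (.leaf (nat_lit 0x18a5d2e102) (nat_lit 1025))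
 (.leaf (nat_lit 0x18a5d5a182) (nat_lit 1537))
) (.node (nat_lit 0x18a5ddc182) (.leaf (nat_lit 0x18a5daa102) (nat_lit 1283))
 (.leaf (nat_lit 0x18a5ddc182) (nat_lit 768))
)) (.node (nat_lit 0x18a7dbc182) (.node (nat_lit 0x18a7d4e102) (.leaf (nat_lit 0x18a7d3a182) (nat_lit 1537))
 (.leaf (nat_lit 0x18a7d4e102) (nat_lit 1025))
) (.node (nat_lit 0x18a7dca102) (.leaf (nat_lit 0x18a7dbc182) (nat_lit 768))
 (.leaf (nat_lit 0x18a7dca102) (nat_lit 1282))
))))) (.node (nat_lit 0x19a0d1e182) (.node (nat_lit 0x1925508102) (.node (nat_lit 0x1922d5a182) (.node (nat_lit 0x1920d8c102) (.node (nat_lit 0x1920d3c182) (.leaf (nat_lit 0x1920d08102) (nat_lit 514))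
 (.leaf (nat_lit 0x1920d3c182) (nat_lit 1027))
) (.node (nat_lit 0x1920dba182) (.leaf (nat_lit 0x1920d8c102) (nat_lit 2049))
 (.leaf (nat_lit 0x1920dba182) (nat_lit 1795))
)) (.node (nat_lit 0x1922ddc182) (.node (nat_lit 0x1922d6e102) (.leaf (nat_lit 0x1922d5a182) (nat_lit 1795))
 (.leaf (nat_lit 0x1922d6e102) (nat_lit 1539))
) (.node (nat_lit 0x1922dea102) (.leaf (nat_lit 0x1922ddc182) (nat_lit 769))
 (.leaf (nat_lit 0x1922dea102) (nat_lit 1283))
))) (.node (nat_lit 0x192753a182) (.node (nat_lit 0x192558c102) (.node (nat_lit 0x192555c182) (.leaf (nat_lit 0x1925508102) (nat_lit 515))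
 (.leaf (nat_lit 0x192555c182) (nat_lit 771))
) (.node (nat_lit 0x19255da182) (.leaf (nat_lit 0x192558c102) (nat_lit 1793))
 (.leaf (nat_lit 0x19255da182) (nat_lit 1537))
)) (.node (nat_lit 0x19275bc182) (.node (nat_lit 0x192756e102) (.leaf (nat_lit 0x192753a182) (nat_lit 1536))
 (.leaf (nat_lit 0x192756e102) (nat_lit 1280))
) (.node (nat_lit 0x19275ea102) (.leaf (nat_lit 0x19275bc182) (nat_lit 769))
 (.leaf (nat_lit 0x19275ea102) (nat_lit 1025))
)))) (.node (nat_lit 0x19a552e102) (.node (nat_lit 0x19a2d4e102) (.node (nat_lit 0x19a0d98182) (.node (nat_lit 0x19a0d2a102) (.leaf (nat_lit 0x19a0d1e182) (nat_lit 1793))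
 (.leaf (nat_lit 0x19a0d2a102) (nat_lit 1025))
) (.node (nat_lit 0x19a0dae102) (.leaf (nat_lit 0x19a0d98182) (nat_lit 1027))
 (.leaf (nat_lit 0x19a0dae102) (nat_lit 1283))
)) (.node (nat_lit 0x19a2dca102) (.node (nat_lit 0x19a2d7a182) (.leaf (nat_lit 0x19a2d4e102) (nat_lit 1283))
 (.leaf (nat_lit 0x19a2d7a182) (nat_lit 1539))
) (.node (nat_lit 0x19a2dfc182) (.leaf (nat_lit 0x19a2dca102) (nat_lit 1539))
 (.leaf (nat_lit 0x19a2dfc182) (nat_lit 770))
))) (.node (nat_lit 0x19a751e182) (.node (nat_lit 0x19a55aa102) (.node (nat_lit 0x19a557a182) (.leaf (nat_lit 0x19a552e102) (nat_lit 1281))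
 (.leaf (nat_lit 0x19a557a182) (nat_lit 1537))
) (.node (nat_lit 0x19a55fc182) (.leaf (nat_lit 0x19a55aa102) (nat_lit 1027))
 (.leaf (nat_lit 0x19a55fc182) (nat_lit 771))
)) (.node (nat_lit 0x19a7598182) (.node (nat_lit 0x19a754a102) (.leaf (nat_lit 0x19a751e182) (nat_lit 1281))
 (.leaf (nat_lit 0x19a754a102) (nat_lit 1025))
) (.node (nat_lit 0x19a75ce102) (.leaf (nat_lit 0x19a7598182) (nat_lit 1024))
 (.leaf (nat_lit 0x19a75ce102) (nat_lit 1280))
)))))))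

theorem T0_ok : genOK A2 [(nat_lit 0x1820408102), (nat_lit 0x10224dc182), (nat_lit 0x1120d08102), (nat_lit 0x1125d08102)] T0_t (nat_lit 128) = true := by decide +kernel

noncomputable def T_t : ST :=
(.node (nat_lit 0x1820408102) (.node (nat_lit 0x1120d08102) (.node (nat_lit 0x10a042a102) (.node (nat_lit 0x1025508102) (.node (nat_lit 0x102244a102) (.node (nat_lit 0x102048c102) (.node (nat_lit 0x1020418182) (.node (nat_lit 0x1020408103) (.leaf (nat_lit 0x1020408102) (nat_lit 0))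
 (.leaf (nat_lit 0x1020408103) (nat_lit 256))
) (.node (nat_lit 0x1020418183) (.leaf (nat_lit 0x1020418182) (nat_lit 1284))
 (.leaf (nat_lit 0x1020418183) (nat_lit 1540))
)) (.node (nat_lit 0x102049e182) (.node (nat_lit 0x102048c103) (.leaf (nat_lit 0x102048c102) (nat_lit 2052))
 (.leaf (nat_lit 0x102048c103) (nat_lit 2308))
) (.node (nat_lit 0x102049e183) (.leaf (nat_lit 0x102049e182) (nat_lit 1796))
 (.leaf (nat_lit 0x102049e183) (nat_lit 2052))
))) (.node (nat_lit 0x10224ce102) (.node (nat_lit 0x102245a182) (.node (nat_lit 0x102244a103) (.leaf (nat_lit 0x102244a102) (nat_lit 1540))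
 (.leaf (nat_lit 0x102244a103) (nat_lit 1796))
) (.node (nat_lit 0x102245a183) (.leaf (nat_lit 0x102245a182) (nat_lit 1796))
 (.leaf (nat_lit 0x102245a183) (nat_lit 2052))
)) (.node (nat_lit 0x10224dc182) (.node (nat_lit 0x10224ce103) (.leaf (nat_lit 0x10224ce102) (nat_lit 1540))
 (.leaf (nat_lit 0x10224ce103) (nat_lit 1796))
) (.node (nat_lit 0x10224dc183) (.leaf (nat_lit 0x10224dc182) (nat_lit 258))
 (.leaf (nat_lit 0x10224dc183) (nat_lit 514))
)))) (.node (nat_lit 0x102751e182) (.node (nat_lit 0x102558c102) (.node (nat_lit 0x102555c182) (.node (nat_lit 0x1025508103) (.leaf (nat_lit 0x1025508102) (nat_lit 516))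
 (.leaf (nat_lit 0x1025508103) (nat_lit 772))
) (.node (nat_lit 0x102555c183) (.leaf (nat_lit 0x102555c182) (nat_lit 772))
 (.leaf (nat_lit 0x102555c183) (nat_lit 1028))
)) (.node (nat_lit 0x10255da182) (.node (nat_lit 0x102558c103) (.leaf (nat_lit 0x102558c102) (nat_lit 1794))
 (.leaf (nat_lit 0x102558c103) (nat_lit 2050))
) (.node (nat_lit 0x10255da183) (.leaf (nat_lit 0x10255da182) (nat_lit 1538))
 (.leaf (nat_lit 0x10255da183) (nat_lit 1794))
))) (.node (nat_lit 0x1027598182) (.node (nat_lit 0x102754a102) (.node (nat_lit 0x102751e183) (.leaf (nat_lit 0x102751e182) (nat_lit 1537))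
 (.leaf (nat_lit 0x102751e183) (nat_lit 1793))
) (.node (nat_lit 0x102754a103) (.leaf (nat_lit 0x102754a102) (nat_lit 1281))
 (.leaf (nat_lit 0x102754a103) (nat_lit 1537))
)) (.node (nat_lit 0x10275ce102) (.node (nat_lit 0x1027598183) (.leaf (nat_lit 0x1027598182) (nat_lit 770))
 (.leaf (nat_lit 0x1027598183) (nat_lit 1026))
) (.node (nat_lit 0x10275ce103) (.leaf (nat_lit 0x10275ce102) (nat_lit 1026))
 (.leaf (nat_lit 0x10275ce103) (nat_lit 1282))
))))) (.node (nat_lit 0x10a552e102) (.node (nat_lit 0x10a246a102) (.node (nat_lit 0x10a04ae102) (.node (nat_lit 0x10a043a182) (.node (nat_lit 0x10a042a103) (.leaf (nat_lit 0x10a042a102) (nat_lit 1026))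
 (.leaf (nat_lit 0x10a042a103) (nat_lit 1282))
) (.node (nat_lit 0x10a043a183) (.leaf (nat_lit 0x10a043a182) (nat_lit 1796))
 (.leaf (nat_lit 0x10a043a183) (nat_lit 2052))
)) (.node (nat_lit 0x10a04bc182) (.node (nat_lit 0x10a04ae103) (.leaf (nat_lit 0x10a04ae102) (nat_lit 1540))
 (.leaf (nat_lit 0x10a04ae103) (nat_lit 1796))
) (.node (nat_lit 0x10a04bc183) (.leaf (nat_lit 0x10a04bc182) (nat_lit 772))
 (.leaf (nat_lit 0x10a04bc183) (nat_lit 1028))
))) (.node (nat_lit 0x10a24ee102) (.node (nat_lit 0x10a247a182) (.node (nat_lit 0x10a246a103) (.leaf (nat_lit 0x10a246a102) (nat_lit 1028))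
 (.leaf (nat_lit 0x10a246a103) (nat_lit 1284))
) (.node (nat_lit 0x10a247a183) (.leaf (nat_lit 0x10a247a182) (nat_lit 1796))
 (.leaf (nat_lit 0x10a247a183) (nat_lit 2052))
)) (.node (nat_lit 0x10a24fc182) (.node (nat_lit 0x10a24ee103) (.leaf (nat_lit 0x10a24ee102) (nat_lit 1540))
 (.leaf (nat_lit 0x10a24ee103) (nat_lit 1796))
) (.node (nat_lit 0x10a24fc183) (.leaf (nat_lit 0x10a24fc182) (nat_lit 769))
 (.leaf (nat_lit 0x10a24fc183) (nat_lit 1025))
)))) (.node (nat_lit 0x10a753a182) (.node (nat_lit 0x10a55aa102) (.node (nat_lit 0x10a557a182) (.node (nat_lit 0x10a552e103) (.leaf (nat_lit 0x10a552e102) (nat_lit 1026))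
 (.leaf (nat_lit 0x10a552e103) (nat_lit 1282))
) (.node (nat_lit 0x10a557a183) (.leaf (nat_lit 0x10a557a182) (nat_lit 1282))
 (.leaf (nat_lit 0x10a557a183) (nat_lit 1538))
)) (.node (nat_lit 0x10a55fc182) (.node (nat_lit 0x10a55aa103) (.leaf (nat_lit 0x10a55aa102) (nat_lit 1028))
 (.leaf (nat_lit 0x10a55aa103) (nat_lit 1284))
) (.node (nat_lit 0x10a55fc183) (.leaf (nat_lit 0x10a55fc182) (nat_lit 772))
 (.leaf (nat_lit 0x10a55fc183) (nat_lit 1028))
))) (.node (nat_lit 0x10a75bc182) (.node (nat_lit 0x10a756e102) (.node (nat_lit 0x10a753a183) (.leaf (nat_lit 0x10a753a182) (nat_lit 1282))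
 (.leaf (nat_lit 0x10a753a183) (nat_lit 1538))
) (.node (nat_lit 0x10a756e103) (.leaf (nat_lit 0x10a756e102) (nat_lit 1026))
 (.leaf (nat_lit 0x10a756e103) (nat_lit 1282))
)) (.node (nat_lit 0x10a75ea102) (.node (nat_lit 0x10a75bc183) (.leaf (nat_lit 0x10a75bc182) (nat_lit 771))
 (.leaf (nat_lit 0x10a75bc183) (nat_lit 1027))
) (.node (nat_lit 0x10a75ea103) (.leaf (nat_lit 0x10a75ea102) (nat_lit 1027))
 (.leaf (nat_lit 0x10a75ea103) (nat_lit 1283))
)))))) (.node (nat_lit 0x11a0d1e182) (.node (nat_lit 0x1125d08102) (.node (nat_lit 0x1122d4e102) (.node (nat_lit 0x1120d8c102) (.node (nat_lit 0x1120d3c182) (.node (nat_lit 0x1120d08103) (.leaf (nat_lit 0x1120d08102) (nat_lit 259))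
 (.leaf (nat_lit 0x1120d08103) (nat_lit 515))
) (.node (nat_lit 0x1120d3c183) (.leaf (nat_lit 0x1120d3c182) (nat_lit 1028))
 (.leaf (nat_lit 0x1120d3c183) (nat_lit 1284))
)) (.node (nat_lit 0x1120dba182) (.node (nat_lit 0x1120d8c103) (.leaf (nat_lit 0x1120d8c102) (nat_lit 1794))
 (.leaf (nat_lit 0x1120d8c103) (nat_lit 2050))
) (.node (nat_lit 0x1120dba183) (.leaf (nat_lit 0x1120dba182) (nat_lit 1540))
 (.leaf (nat_lit 0x1120dba183) (nat_lit 1796))
))) (.node (nat_lit 0x1122dca102) (.node (nat_lit 0x1122d7a182) (.node (nat_lit 0x1122d4e103) (.leaf (nat_lit 0x1122d4e102) (nat_lit 1284))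
 (.leaf (nat_lit 0x1122d4e103) (nat_lit 1540))
) (.node (nat_lit 0x1122d7a183) (.leaf (nat_lit 0x1122d7a182) (nat_lit 1540))
 (.leaf (nat_lit 0x1122d7a183) (nat_lit 1796))
)) (.node (nat_lit 0x1122dfc182) (.node (nat_lit 0x1122dca103) (.leaf (nat_lit 0x1122dca102) (nat_lit 1282))
 (.leaf (nat_lit 0x1122dca103) (nat_lit 1538))
) (.node (nat_lit 0x1122dfc183) (.leaf (nat_lit 0x1122dfc182) (nat_lit 514))
 (.leaf (nat_lit 0x1122dfc183) (nat_lit 770))
)))) (.node (nat_lit 0x1127d3a182) (.node (nat_lit 0x1125d8c102) (.node (nat_lit 0x1125d7c182) (.node (nat_lit 0x1125d08103) (.leaf (nat_lit 0x1125d08102) (nat_lit 260))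
 (.leaf (nat_lit 0x1125d08103) (nat_lit 516))
) (.node (nat_lit 0x1125d7c183) (.leaf (nat_lit 0x1125d7c182) (nat_lit 1028))
 (.leaf (nat_lit 0x1125d7c183) (nat_lit 1284))
)) (.node (nat_lit 0x1125dfa182) (.node (nat_lit 0x1125d8c103) (.leaf (nat_lit 0x1125d8c102) (nat_lit 1794))
 (.leaf (nat_lit 0x1125d8c103) (nat_lit 2050))
) (.node (nat_lit 0x1125dfa183) (.leaf (nat_lit 0x1125dfa182) (nat_lit 1538))
 (.leaf (nat_lit 0x1125dfa183) (nat_lit 1794))
))) (.node (nat_lit 0x1127dbc182) (.node (nat_lit 0x1127d4e102) (.node (nat_lit 0x1127d3a183) (.leaf (nat_lit 0x1127d3a182) (nat_lit 1539))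
 (.leaf (nat_lit 0x1127d3a183) (nat_lit 1795))
) (.node (nat_lit 0x1127d4e103) (.leaf (nat_lit 0x1127d4e102) (nat_lit 1283))
 (.leaf (nat_lit 0x1127d4e103) (nat_lit 1539))
)) (.node (nat_lit 0x1127dca102) (.node (nat_lit 0x1127dbc183) (.leaf (nat_lit 0x1127dbc182) (nat_lit 514))
 (.leaf (nat_lit 0x1127dbc183) (nat_lit 770))
) (.node (nat_lit 0x1127dca103) (.leaf (nat_lit 0x1127dca102) (nat_lit 1282))
 (.leaf (nat_lit 0x1127dca103) (nat_lit 1538))
))))) (.node (nat_lit 0x11a5d2e102) (.node (nat_lit 0x11a2d5a182) (.node (nat_lit 0x11a0d98182) (.node (nat_lit 0x11a0d2a102) (.node (nat_lit 0x11a0d1e183) (.leaf (nat_lit 0x11a0d1e182) (nat_lit 1538))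
 (.leaf (nat_lit 0x11a0d1e183) (nat_lit 1794))
) (.node (nat_lit 0x11a0d2a103) (.leaf (nat_lit 0x11a0d2a102) (nat_lit 770))
 (.leaf (nat_lit 0x11a0d2a103) (nat_lit 1026))
)) (.node (nat_lit 0x11a0dae102) (.node (nat_lit 0x11a0d98183) (.leaf (nat_lit 0x11a0d98182) (nat_lit 1028))
 (.leaf (nat_lit 0x11a0d98183) (nat_lit 1284))
) (.node (nat_lit 0x11a0dae103) (.leaf (nat_lit 0x11a0dae102) (nat_lit 1284))
 (.leaf (nat_lit 0x11a0dae103) (nat_lit 1540))
))) (.node (nat_lit 0x11a2ddc182) (.node (nat_lit 0x11a2d6e102) (.node (nat_lit 0x11a2d5a183) (.leaf (nat_lit 0x11a2d5a182) (nat_lit 1538))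
 (.leaf (nat_lit 0x11a2d5a183) (nat_lit 1794))
) (.node (nat_lit 0x11a2d6e103) (.leaf (nat_lit 0x11a2d6e102) (nat_lit 1284))
 (.leaf (nat_lit 0x11a2d6e103) (nat_lit 1540))
)) (.node (nat_lit 0x11a2dea102) (.node (nat_lit 0x11a2ddc183) (.leaf (nat_lit 0x11a2ddc182) (nat_lit 515))
 (.leaf (nat_lit 0x11a2ddc183) (nat_lit 771))
) (.node (nat_lit 0x11a2dea103) (.leaf (nat_lit 0x11a2dea102) (nat_lit 1284))
 (.leaf (nat_lit 0x11a2dea103) (nat_lit 1540))
)))) (.node (nat_lit 0x11a7d1e182) (.node (nat_lit 0x11a5daa102) (.node (nat_lit 0x11a5d5a182) (.node (nat_lit 0x11a5d2e103) (.leaf (nat_lit 0x11a5d2e102) (nat_lit 1282))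
 (.leaf (nat_lit 0x11a5d2e103) (nat_lit 1538))
) (.node (nat_lit 0x11a5d5a183) (.leaf (nat_lit 0x11a5d5a182) (nat_lit 1538))
 (.leaf (nat_lit 0x11a5d5a183) (nat_lit 1794))
)) (.node (nat_lit 0x11a5ddc182) (.node (nat_lit 0x11a5daa103) (.leaf (nat_lit 0x11a5daa102) (nat_lit 1284))
 (.leaf (nat_lit 0x11a5daa103) (nat_lit 1540))
) (.node (nat_lit 0x11a5ddc183) (.leaf (nat_lit 0x11a5ddc182) (nat_lit 516))
 (.leaf (nat_lit 0x11a5ddc183) (nat_lit 772))
))) (.node (nat_lit 0x11a7d98182) (.node (nat_lit 0x11a7d6a102) (.node (nat_lit 0x11a7d1e183) (.leaf (nat_lit 0x11a7d1e182) (nat_lit 1538))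
 (.leaf (nat_lit 0x11a7d1e183) (nat_lit 1794))
) (.node (nat_lit 0x11a7d6a103) (.leaf (nat_lit 0x11a7d6a102) (nat_lit 770))
 (.leaf (nat_lit 0x11a7d6a103) (nat_lit 1026))
)) (.node (nat_lit 0x11a7dee102) (.node (nat_lit 0x11a7d98183) (.leaf (nat_lit 0x11a7d98182) (nat_lit 1027))
 (.leaf (nat_lit 0x11a7d98183) (nat_lit 1283))
) (.node (nat_lit 0x11a7dee103) (.leaf (nat_lit 0x11a7dee102) (nat_lit 1283))
 (.leaf (nat_lit 0x11a7dee103) (nat_lit 1539))
))))))) (.node (nat_lit 0x1920d08102) (.node (nat_lit 0x18a042a102) (.node (nat_lit 0x1825d08102) (.node (nat_lit 0x182246a102) (.node (nat_lit 0x182048c102) (.node (nat_lit 0x1820418182) (.node (nat_lit 0x1820408103) (.leaf (nat_lit 0x1820408102) (nat_lit 257))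
 (.leaf (nat_lit 0x1820408103) (nat_lit 513))
) (.node (nat_lit 0x1820418183) (.leaf (nat_lit 0x1820418182) (nat_lit 1284))
 (.leaf (nat_lit 0x1820418183) (nat_lit 1540))
)) (.node (nat_lit 0x182049e182) (.node (nat_lit 0x182048c103) (.leaf (nat_lit 0x182048c102) (nat_lit 2052))
 (.leaf (nat_lit 0x182048c103) (nat_lit 2308))
) (.node (nat_lit 0x182049e183) (.leaf (nat_lit 0x182049e182) (nat_lit 1540))
 (.leaf (nat_lit 0x182049e183) (nat_lit 1796))
))) (.node (nat_lit 0x18224ee102) (.node (nat_lit 0x182247a182) (.node (nat_lit 0x182246a103) (.leaf (nat_lit 0x182246a102) (nat_lit 1284))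
 (.leaf (nat_lit 0x182246a103) (nat_lit 1540))
) (.node (nat_lit 0x182247a183) (.leaf (nat_lit 0x182247a182) (nat_lit 1796))
 (.leaf (nat_lit 0x182247a183) (nat_lit 2052))
)) (.node (nat_lit 0x18224fc182) (.node (nat_lit 0x18224ee103) (.leaf (nat_lit 0x18224ee102) (nat_lit 1540))
 (.leaf (nat_lit 0x18224ee103) (nat_lit 1796))
) (.node (nat_lit 0x18224fc183) (.leaf (nat_lit 0x18224fc182) (nat_lit 514))
 (.leaf (nat_lit 0x18224fc183) (nat_lit 770))
)))) (.node (nat_lit 0x1827d1e182) (.node (nat_lit 0x1825d8c102) (.node (nat_lit 0x1825d7c182) (.node (nat_lit 0x1825d08103) (.leaf (nat_lit 0x1825d08102) (nat_lit 513))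
 (.leaf (nat_lit 0x1825d08103) (nat_lit 769))
) (.node (nat_lit 0x1825d7c183) (.leaf (nat_lit 0x1825d7c182) (nat_lit 1028))
 (.leaf (nat_lit 0x1825d7c183) (nat_lit 1284))
)) (.node (nat_lit 0x1825dfa182) (.node (nat_lit 0x1825d8c103) (.leaf (nat_lit 0x1825d8c102) (nat_lit 1794))
 (.leaf (nat_lit 0x1825d8c103) (nat_lit 2050))
) (.node (nat_lit 0x1825dfa183) (.leaf (nat_lit 0x1825dfa182) (nat_lit 1282))
 (.leaf (nat_lit 0x1825dfa183) (nat_lit 1538))
))) (.node (nat_lit 0x1827d98182) (.node (nat_lit 0x1827d6a102) (.node (nat_lit 0x1827d1e183) (.leaf (nat_lit 0x1827d1e182) (nat_lit 1539))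
 (.leaf (nat_lit 0x1827d1e183) (nat_lit 1795))
) (.node (nat_lit 0x1827d6a103) (.leaf (nat_lit 0x1827d6a102) (nat_lit 1025))
 (.leaf (nat_lit 0x1827d6a103) (nat_lit 1281))
)) (.node (nat_lit 0x1827dee102) (.node (nat_lit 0x1827d98183) (.leaf (nat_lit 0x1827d98182) (nat_lit 770))
 (.leaf (nat_lit 0x1827d98183) (nat_lit 1026))
) (.node (nat_lit 0x1827dee103) (.leaf (nat_lit 0x1827dee102) (nat_lit 1282))
 (.leaf (nat_lit 0x1827dee103) (nat_lit 1538))
))))) (.node (nat_lit 0x18a5d2e102) (.node (nat_lit 0x18a244a102) (.node (nat_lit 0x18a04ae102) (.node (nat_lit 0x18a043a182) (.node (nat_lit 0x18a042a103) (.leaf (nat_lit 0x18a042a102) (nat_lit 770))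
 (.leaf (nat_lit 0x18a042a103) (nat_lit 1026))
) (.node (nat_lit 0x18a043a183) (.leaf (nat_lit 0x18a043a182) (nat_lit 1796))
 (.leaf (nat_lit 0x18a043a183) (nat_lit 2052))
)) (.node (nat_lit 0x18a04bc182) (.node (nat_lit 0x18a04ae103) (.leaf (nat_lit 0x18a04ae102) (nat_lit 1540))
 (.leaf (nat_lit 0x18a04ae103) (nat_lit 1796))
) (.node (nat_lit 0x18a04bc183) (.leaf (nat_lit 0x18a04bc182) (nat_lit 1028))
 (.leaf (nat_lit 0x18a04bc183) (nat_lit 1284))
))) (.node (nat_lit 0x18a24ce102) (.node (nat_lit 0x18a245a182) (.node (nat_lit 0x18a244a103) (.leaf (nat_lit 0x18a244a102) (nat_lit 1284))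
 (.leaf (nat_lit 0x18a244a103) (nat_lit 1540))
) (.node (nat_lit 0x18a245a183) (.leaf (nat_lit 0x18a245a182) (nat_lit 1796))
 (.leaf (nat_lit 0x18a245a183) (nat_lit 2052))
)) (.node (nat_lit 0x18a24dc182) (.node (nat_lit 0x18a24ce103) (.leaf (nat_lit 0x18a24ce102) (nat_lit 1540))
 (.leaf (nat_lit 0x18a24ce103) (nat_lit 1796))
) (.node (nat_lit 0x18a24dc183) (.leaf (nat_lit 0x18a24dc182) (nat_lit 513))
 (.leaf (nat_lit 0x18a24dc183) (nat_lit 769))
)))) (.node (nat_lit 0x18a7d3a182) (.node (nat_lit 0x18a5daa102) (.node (nat_lit 0x18a5d5a182) (.node (nat_lit 0x18a5d2e103) (.leaf (nat_lit 0x18a5d2e102) (nat_lit 1026))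
 (.leaf (nat_lit 0x18a5d2e103) (nat_lit 1282))
) (.node (nat_lit 0x18a5d5a183) (.leaf (nat_lit 0x18a5d5a182) (nat_lit 1538))
 (.leaf (nat_lit 0x18a5d5a183) (nat_lit 1794))
)) (.node (nat_lit 0x18a5ddc182) (.node (nat_lit 0x18a5daa103) (.leaf (nat_lit 0x18a5daa102) (nat_lit 1284))
 (.leaf (nat_lit 0x18a5daa103) (nat_lit 1540))
) (.node (nat_lit 0x18a5ddc183) (.leaf (nat_lit 0x18a5ddc182) (nat_lit 769))
 (.leaf (nat_lit 0x18a5ddc183) (nat_lit 1025))
))) (.node (nat_lit 0x18a7dbc182) (.node (nat_lit 0x18a7d4e102) (.node (nat_lit 0x18a7d3a183) (.leaf (nat_lit 0x18a7d3a182) (nat_lit 1538))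
 (.leaf (nat_lit 0x18a7d3a183) (nat_lit 1794))
) (.node (nat_lit 0x18a7d4e103) (.leaf (nat_lit 0x18a7d4e102) (nat_lit 1026))
 (.leaf (nat_lit 0x18a7d4e103) (nat_lit 1282))
)) (.node (nat_lit 0x18a7dca102) (.node (nat_lit 0x18a7dbc183) (.leaf (nat_lit 0x18a7dbc182) (nat_lit 769))
 (.leaf (nat_lit 0x18a7dbc183) (nat_lit 1025))
) (.node (nat_lit 0x18a7dca103) (.leaf (nat_lit 0x18a7dca102) (nat_lit 1283))
 (.leaf (nat_lit 0x18a7dca103) (nat_lit 1539))
)))))) (.node (nat_lit 0x19a0d1e182) (.node (nat_lit 0x1925508102) (.node (nat_lit 0x1922d5a182) (.node (nat_lit 0x1920d8c102) (.node (nat_lit 0x1920d3c182) (.node (nat_lit 0x1920d08103) (.leaf (nat_lit 0x1920d08102) (nat_lit 515))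
 (.leaf (nat_lit 0x1920d08103) (nat_lit 771))
) (.node (nat_lit 0x1920d3c183) (.leaf (nat_lit 0x1920d3c182) (nat_lit 1028))
 (.leaf (nat_lit 0x1920d3c183) (nat_lit 1284))
)) (.node (nat_lit 0x1920dba182) (.node (nat_lit 0x1920d8c103) (.leaf (nat_lit 0x1920d8c102) (nat_lit 2050))
 (.leaf (nat_lit 0x1920d8c103) (nat_lit 2306))
) (.node (nat_lit 0x1920dba183) (.leaf (nat_lit 0x1920dba182) (nat_lit 1796))
 (.leaf (nat_lit 0x1920dba183) (nat_lit 2052))
))) (.node (nat_lit 0x1922ddc182) (.node (nat_lit 0x1922d6e102) (.node (nat_lit 0x1922d5a183) (.leaf (nat_lit 0x1922d5a182) (nat_lit 1796))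
 (.leaf (nat_lit 0x1922d5a183) (nat_lit 2052))
) (.node (nat_lit 0x1922d6e103) (.leaf (nat_lit 0x1922d6e102) (nat_lit 1540))
 (.leaf (nat_lit 0x1922d6e103) (nat_lit 1796))
)) (.node (nat_lit 0x1922dea102) (.node (nat_lit 0x1922ddc183) (.leaf (nat_lit 0x1922ddc182) (nat_lit 770))
 (.leaf (nat_lit 0x1922ddc183) (nat_lit 1026))
) (.node (nat_lit 0x1922dea103) (.leaf (nat_lit 0x1922dea102) (nat_lit 1284))
 (.leaf (nat_lit 0x1922dea103) (nat_lit 1540))
)))) (.node (nat_lit 0x192753a182) (.node (nat_lit 0x192558c102) (.node (nat_lit 0x192555c182) (.node (nat_lit 0x1925508103) (.leaf (nat_lit 0x1925508102) (nat_lit 516))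
 (.leaf (nat_lit 0x1925508103) (nat_lit 772))
) (.node (nat_lit 0x192555c183) (.leaf (nat_lit 0x192555c182) (nat_lit 772))
 (.leaf (nat_lit 0x192555c183) (nat_lit 1028))
)) (.node (nat_lit 0x19255da182) (.node (nat_lit 0x192558c103) (.leaf (nat_lit 0x192558c102) (nat_lit 1794))
 (.leaf (nat_lit 0x192558c103) (nat_lit 2050))
) (.node (nat_lit 0x19255da183) (.leaf (nat_lit 0x19255da182) (nat_lit 1538))
 (.leaf (nat_lit 0x19255da183) (nat_lit 1794))
))) (.node (nat_lit 0x19275bc182) (.node (nat_lit 0x192756e102) (.node (nat_lit 0x192753a183) (.leaf (nat_lit 0x192753a182) (nat_lit 1537))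
 (.leaf (nat_lit 0x192753a183) (nat_lit 1793))
) (.node (nat_lit 0x192756e103) (.leaf (nat_lit 0x192756e102) (nat_lit 1281))
 (.leaf (nat_lit 0x192756e103) (nat_lit 1537))
)) (.node (nat_lit 0x19275ea102) (.node (nat_lit 0x19275bc183) (.leaf (nat_lit 0x19275bc182) (nat_lit 770))
 (.leaf (nat_lit 0x19275bc183) (nat_lit 1026))
) (.node (nat_lit 0x19275ea103) (.leaf (nat_lit 0x19275ea102) (nat_lit 1026))
 (.leaf (nat_lit 0x19275ea103) (nat_lit 1282))
))))) (.node (nat_lit 0x19a552e102) (.node (nat_lit 0x19a2d4e102) (.node (nat_lit 0x19a0d98182) (.node (nat_lit 0x19a0d2a102) (.node (nat_lit 0x19a0d1e183) (.leaf (nat_lit 0x19a0d1e182) (nat_lit 1794))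
 (.leaf (nat_lit 0x19a0d1e183) (nat_lit 2050))
) (.node (nat_lit 0x19a0d2a103) (.leaf (nat_lit 0x19a0d2a102) (nat_lit 1026))
 (.leaf (nat_lit 0x19a0d2a103) (nat_lit 1282))
)) (.node (nat_lit 0x19a0dae102) (.node (nat_lit 0x19a0d98183) (.leaf (nat_lit 0x19a0d98182) (nat_lit 1028))
 (.leaf (nat_lit 0x19a0d98183) (nat_lit 1284))
) (.node (nat_lit 0x19a0dae103) (.leaf (nat_lit 0x19a0dae102) (nat_lit 1284))
 (.leaf (nat_lit 0x19a0dae103) (nat_lit 1540))
))) (.node (nat_lit 0x19a2dca102) (.node (nat_lit 0x19a2d7a182) (.node (nat_lit 0x19a2d4e103) (.leaf (nat_lit 0x19a2d4e102) (nat_lit 1284))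
 (.leaf (nat_lit 0x19a2d4e103) (nat_lit 1540))
) (.node (nat_lit 0x19a2d7a183) (.leaf (nat_lit 0x19a2d7a182) (nat_lit 1540))
 (.leaf (nat_lit 0x19a2d7a183) (nat_lit 1796))
)) (.node (nat_lit 0x19a2dfc182) (.node (nat_lit 0x19a2dca103) (.leaf (nat_lit 0x19a2dca102) (nat_lit 1540))
 (.leaf (nat_lit 0x19a2dca103) (nat_lit 1796))
) (.node (nat_lit 0x19a2dfc183) (.leaf (nat_lit 0x19a2dfc182) (nat_lit 771))
 (.leaf (nat_lit 0x19a2dfc183) (nat_lit 1027))
)))) (.node (nat_lit 0x19a751e182) (.node (nat_lit 0x19a55aa102) (.node (nat_lit 0x19a557a182) (.node (nat_lit 0x19a552e103) (.leaf (nat_lit 0x19a552e102) (nat_lit 1282))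
 (.leaf (nat_lit 0x19a552e103) (nat_lit 1538))
) (.node (nat_lit 0x19a557a183) (.leaf (nat_lit 0x19a557a182) (nat_lit 1538))
 (.leaf (nat_lit 0x19a557a183) (nat_lit 1794))
)) (.node (nat_lit 0x19a55fc182) (.node (nat_lit 0x19a55aa103) (.leaf (nat_lit 0x19a55aa102) (nat_lit 1028))
 (.leaf (nat_lit 0x19a55aa103) (nat_lit 1284))
) (.node (nat_lit 0x19a55fc183) (.leaf (nat_lit 0x19a55fc182) (nat_lit 772))
 (.leaf (nat_lit 0x19a55fc183) (nat_lit 1028))
))) (.node (nat_lit 0x19a7598182) (.node (nat_lit 0x19a754a102) (.node (nat_lit 0x19a751e183) (.leaf (nat_lit 0x19a751e182) (nat_lit 1282))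
 (.leaf (nat_lit 0x19a751e183) (nat_lit 1538))
) (.node (nat_lit 0x19a754a103) (.leaf (nat_lit 0x19a754a102) (nat_lit 1026))
 (.leaf (nat_lit 0x19a754a103) (nat_lit 1282))
)) (.node (nat_lit 0x19a75ce102) (.node (nat_lit 0x19a7598183) (.leaf (nat_lit 0x19a7598182) (nat_lit 1025))
 (.leaf (nat_lit 0x19a7598183) (nat_lit 1281))
) (.node (nat_lit 0x19a75ce103) (.leaf (nat_lit 0x19a75ce102) (nat_lit 1281))
 (.leaf (nat_lit 0x19a75ce103) (nat_lit 1537))
))))))))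

theorem T_ok : genOK A2 [(nat_lit 0x1020408103), (nat_lit 0x1820408102), (nat_lit 0x10224dc182), (nat_lit 0x1120d08102), (nat_lit 0x1125d08102)] T_t (nat_lit 256) = true := by decide +kernel

noncomputable def J_t : ST :=
(.node (nat_lit 0x1820408102) (.node (nat_lit 0x1120d08102) (.node (nat_lit 0x10a042a102) (.node (nat_lit 0x102244a102) (.node (nat_lit 0x102048c102) (.node (nat_lit 0x1020418182) (.node (nat_lit 0x1020408103) (.leaf (nat_lit 0x1020408102) (nat_lit 0))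
 (.leaf (nat_lit 0x1020408103) (nat_lit 256))
) (.node (nat_lit 0x1020418183) (.leaf (nat_lit 0x1020418182) (nat_lit 262))
 (.leaf (nat_lit 0x1020418183) (nat_lit 518))
)) (.node (nat_lit 0x102049e182) (.node (nat_lit 0x102048c103) (.leaf (nat_lit 0x102048c102) (nat_lit 1030))
 (.leaf (nat_lit 0x102048c103) (nat_lit 1286))
) (.node (nat_lit 0x102049e183) (.leaf (nat_lit 0x102049e182) (nat_lit 773))
 (.leaf (nat_lit 0x102049e183) (nat_lit 1029))
))) (.node (nat_lit 0x10224ce102) (.node (nat_lit 0x102245a182) (.node (nat_lit 0x102244a103) (.leaf (nat_lit 0x102244a102) (nat_lit 517))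
 (.leaf (nat_lit 0x102244a103) (nat_lit 773))
) (.node (nat_lit 0x102245a183) (.leaf (nat_lit 0x102245a182) (nat_lit 774))
 (.leaf (nat_lit 0x102245a183) (nat_lit 1030))
)) (.node (nat_lit 0x10224dc182) (.node (nat_lit 0x10224ce103) (.leaf (nat_lit 0x10224ce102) (nat_lit 518))
 (.leaf (nat_lit 0x10224ce103) (nat_lit 774))
) (.node (nat_lit 0x10224dc183) (.leaf (nat_lit 0x10224dc182) (nat_lit 259))
 (.leaf (nat_lit 0x10224dc183) (nat_lit 515))
)))) (.node (nat_lit 0x10a246a102) (.node (nat_lit 0x10a04ae102) (.node (nat_lit 0x10a043a182) (.node (nat_lit 0x10a042a103) (.leaf (nat_lit 0x10a042a102) (nat_lit 516))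
 (.leaf (nat_lit 0x10a042a103) (nat_lit 772))
) (.node (nat_lit 0x10a043a183) (.leaf (nat_lit 0x10a043a182) (nat_lit 774))
 (.leaf (nat_lit 0x10a043a183) (nat_lit 1030))
)) (.node (nat_lit 0x10a04bc182) (.node (nat_lit 0x10a04ae103) (.leaf (nat_lit 0x10a04ae102) (nat_lit 518))
 (.leaf (nat_lit 0x10a04ae103) (nat_lit 774))
) (.node (nat_lit 0x10a04bc183) (.leaf (nat_lit 0x10a04bc182) (nat_lit 261))
 (.leaf (nat_lit 0x10a04bc183) (nat_lit 517))
))) (.node (nat_lit 0x10a24ee102) (.node (nat_lit 0x10a247a182) (.node (nat_lit 0x10a246a103) (.leaf (nat_lit 0x10a246a102) (nat_lit 517))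
 (.leaf (nat_lit 0x10a246a103) (nat_lit 773))
) (.node (nat_lit 0x10a247a183) (.leaf (nat_lit 0x10a247a182) (nat_lit 774))
 (.leaf (nat_lit 0x10a247a183) (nat_lit 1030))
)) (.node (nat_lit 0x10a24fc182) (.node (nat_lit 0x10a24ee103) (.leaf (nat_lit 0x10a24ee102) (nat_lit 518))
 (.leaf (nat_lit 0x10a24ee103) (nat_lit 774))
) (.node (nat_lit 0x10a24fc183) (.leaf (nat_lit 0x10a24fc182) (nat_lit 260))
 (.leaf (nat_lit 0x10a24fc183) (nat_lit 516))
))))) (.node (nat_lit 0x11a0d1e182) (.node (nat_lit 0x1122d4e102) (.node (nat_lit 0x1120d8c102) (.node (nat_lit 0x1120d3c182) (.node (nat_lit 0x1120d08103) (.leaf (nat_lit 0x1120d08102) (nat_lit 514))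
 (.leaf (nat_lit 0x1120d08103) (nat_lit 770))
) (.node (nat_lit 0x1120d3c183) (.leaf (nat_lit 0x1120d3c182) (nat_lit 774))
 (.leaf (nat_lit 0x1120d3c183) (nat_lit 1030))
)) (.node (nat_lit 0x1120dba182) (.node (nat_lit 0x1120d8c103) (.leaf (nat_lit 0x1120d8c102) (nat_lit 1542))
 (.leaf (nat_lit 0x1120d8c103) (nat_lit 1798))
) (.node (nat_lit 0x1120dba183) (.leaf (nat_lit 0x1120dba182) (nat_lit 1285))
 (.leaf (nat_lit 0x1120dba183) (nat_lit 1541))
))) (.node (nat_lit 0x1122dca102) (.node (nat_lit 0x1122d7a182) (.node (nat_lit 0x1122d4e103) (.leaf (nat_lit 0x1122d4e102) (nat_lit 1029))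
 (.leaf (nat_lit 0x1122d4e103) (nat_lit 1285))
) (.node (nat_lit 0x1122d7a183) (.leaf (nat_lit 0x1122d7a182) (nat_lit 1286))
 (.leaf (nat_lit 0x1122d7a183) (nat_lit 1542))
)) (.node (nat_lit 0x1122dfc182) (.node (nat_lit 0x1122dca103) (.leaf (nat_lit 0x1122dca102) (nat_lit 1030))
 (.leaf (nat_lit 0x1122dca103) (nat_lit 1286))
) (.node (nat_lit 0x1122dfc183) (.leaf (nat_lit 0x1122dfc182) (nat_lit 771))
 (.leaf (nat_lit 0x1122dfc183) (nat_lit 1027))
)))) (.node (nat_lit 0x11a2d5a182) (.node (nat_lit 0x11a0d98182) (.node (nat_lit 0x11a0d2a102) (.node (nat_lit 0x11a0d1e183) (.leaf (nat_lit 0x11a0d1e182) (nat_lit 1286))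
 (.leaf (nat_lit 0x11a0d1e183) (nat_lit 1542))
) (.node (nat_lit 0x11a0d2a103) (.leaf (nat_lit 0x11a0d2a102) (nat_lit 1028))
 (.leaf (nat_lit 0x11a0d2a103) (nat_lit 1284))
)) (.node (nat_lit 0x11a0dae102) (.node (nat_lit 0x11a0d98183) (.leaf (nat_lit 0x11a0d98182) (nat_lit 773))
 (.leaf (nat_lit 0x11a0d98183) (nat_lit 1029))
) (.node (nat_lit 0x11a0dae103) (.leaf (nat_lit 0x11a0dae102) (nat_lit 1030))
 (.leaf (nat_lit 0x11a0dae103) (nat_lit 1286))
))) (.node (nat_lit 0x11a2ddc182) (.node (nat_lit 0x11a2d6e102) (.node (nat_lit 0x11a2d5a183) (.leaf (nat_lit 0x11a2d5a182) (nat_lit 1286))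
 (.leaf (nat_lit 0x11a2d5a183) (nat_lit 1542))
) (.node (nat_lit 0x11a2d6e103) (.leaf (nat_lit 0x11a2d6e102) (nat_lit 1029))
 (.leaf (nat_lit 0x11a2d6e103) (nat_lit 1285))
)) (.node (nat_lit 0x11a2dea102) (.node (nat_lit 0x11a2ddc183) (.leaf (nat_lit 0x11a2ddc182) (nat_lit 772))
 (.leaf (nat_lit 0x11a2ddc183) (nat_lit 1028))
) (.node (nat_lit 0x11a2dea103) (.leaf (nat_lit 0x11a2dea102) (nat_lit 1030))
 (.leaf (nat_lit 0x11a2dea103) (nat_lit 1286))
)))))) (.node (nat_lit 0x1920d08102) (.node (nat_lit 0x18a042a102) (.node (nat_lit 0x182246a102) (.node (nat_lit 0x182048c102) (.node (nat_lit 0x1820418182) (.node (nat_lit 0x1820408103) (.leaf (nat_lit 0x1820408102) (nat_lit 257))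
 (.leaf (nat_lit 0x1820408103) (nat_lit 513))
) (.node (nat_lit 0x1820418183) (.leaf (nat_lit 0x1820418182) (nat_lit 518))
 (.leaf (nat_lit 0x1820418183) (nat_lit 774))
)) (.node (nat_lit 0x182049e182) (.node (nat_lit 0x182048c103) (.leaf (nat_lit 0x182048c102) (nat_lit 1286))
 (.leaf (nat_lit 0x182048c103) (nat_lit 1542))
) (.node (nat_lit 0x182049e183) (.leaf (nat_lit 0x182049e182) (nat_lit 1029))
 (.leaf (nat_lit 0x182049e183) (nat_lit 1285))
))) (.node (nat_lit 0x18224ee102) (.node (nat_lit 0x182247a182) (.node (nat_lit 0x182246a103) (.leaf (nat_lit 0x182246a102) (nat_lit 773))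
 (.leaf (nat_lit 0x182246a103) (nat_lit 1029))
) (.node (nat_lit 0x182247a183) (.leaf (nat_lit 0x182247a182) (nat_lit 1030))
 (.leaf (nat_lit 0x182247a183) (nat_lit 1286))
)) (.node (nat_lit 0x18224fc182) (.node (nat_lit 0x18224ee103) (.leaf (nat_lit 0x18224ee102) (nat_lit 774))
 (.leaf (nat_lit 0x18224ee103) (nat_lit 1030))
) (.node (nat_lit 0x18224fc183) (.leaf (nat_lit 0x18224fc182) (nat_lit 515))
 (.leaf (nat_lit 0x18224fc183) (nat_lit 771))
)))) (.node (nat_lit 0x18a244a102) (.node (nat_lit 0x18a04ae102) (.node (nat_lit 0x18a043a182) (.node (nat_lit 0x18a042a103) (.leaf (nat_lit 0x18a042a102) (nat_lit 772))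
 (.leaf (nat_lit 0x18a042a103) (nat_lit 1028))
) (.node (nat_lit 0x18a043a183) (.leaf (nat_lit 0x18a043a182) (nat_lit 1030))
 (.leaf (nat_lit 0x18a043a183) (nat_lit 1286))
)) (.node (nat_lit 0x18a04bc182) (.node (nat_lit 0x18a04ae103) (.leaf (nat_lit 0x18a04ae102) (nat_lit 774))
 (.leaf (nat_lit 0x18a04ae103) (nat_lit 1030))
) (.node (nat_lit 0x18a04bc183) (.leaf (nat_lit 0x18a04bc182) (nat_lit 517))
 (.leaf (nat_lit 0x18a04bc183) (nat_lit 773))
))) (.node (nat_lit 0x18a24ce102) (.node (nat_lit 0x18a245a182) (.node (nat_lit 0x18a244a103) (.leaf (nat_lit 0x18a244a102) (nat_lit 773))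
 (.leaf (nat_lit 0x18a244a103) (nat_lit 1029))
) (.node (nat_lit 0x18a245a183) (.leaf (nat_lit 0x18a245a182) (nat_lit 1030))
 (.leaf (nat_lit 0x18a245a183) (nat_lit 1286))
)) (.node (nat_lit 0x18a24dc182) (.node (nat_lit 0x18a24ce103) (.leaf (nat_lit 0x18a24ce102) (nat_lit 774))
 (.leaf (nat_lit 0x18a24ce103) (nat_lit 1030))
) (.node (nat_lit 0x18a24dc183) (.leaf (nat_lit 0x18a24dc182) (nat_lit 516))
 (.leaf (nat_lit 0x18a24dc183) (nat_lit 772))
))))) (.node (nat_lit 0x19a0d1e182) (.node (nat_lit 0x1922d5a182) (.node (nat_lit 0x1920d8c102) (.node (nat_lit 0x1920d3c182) (.node (nat_lit 0x1920d08103) (.leaf (nat_lit 0x1920d08102) (nat_lit 258))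
 (.leaf (nat_lit 0x1920d08103) (nat_lit 514))
) (.node (nat_lit 0x1920d3c183) (.leaf (nat_lit 0x1920d3c182) (nat_lit 518))
 (.leaf (nat_lit 0x1920d3c183) (nat_lit 774))
)) (.node (nat_lit 0x1920dba182) (.node (nat_lit 0x1920d8c103) (.leaf (nat_lit 0x1920d8c102) (nat_lit 1286))
 (.leaf (nat_lit 0x1920d8c103) (nat_lit 1542))
) (.node (nat_lit 0x1920dba183) (.leaf (nat_lit 0x1920dba182) (nat_lit 1029))
 (.leaf (nat_lit 0x1920dba183) (nat_lit 1285))
))) (.node (nat_lit 0x1922ddc182) (.node (nat_lit 0x1922d6e102) (.node (nat_lit 0x1922d5a183) (.leaf (nat_lit 0x1922d5a182) (nat_lit 1030))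
 (.leaf (nat_lit 0x1922d5a183) (nat_lit 1286))
) (.node (nat_lit 0x1922d6e103) (.leaf (nat_lit 0x1922d6e102) (nat_lit 773))
 (.leaf (nat_lit 0x1922d6e103) (nat_lit 1029))
)) (.node (nat_lit 0x1922dea102) (.node (nat_lit 0x1922ddc183) (.leaf (nat_lit 0x1922ddc182) (nat_lit 515))
 (.leaf (nat_lit 0x1922ddc183) (nat_lit 771))
) (.node (nat_lit 0x1922dea103) (.leaf (nat_lit 0x1922dea102) (nat_lit 774))
 (.leaf (nat_lit 0x1922dea103) (nat_lit 1030))
)))) (.node (nat_lit 0x19a2d4e102) (.node (nat_lit 0x19a0d98182) (.node (nat_lit 0x19a0d2a102) (.node (nat_lit 0x19a0d1e183) (.leaf (nat_lit 0x19a0d1e182) (nat_lit 1030))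
 (.leaf (nat_lit 0x19a0d1e183) (nat_lit 1286))
) (.node (nat_lit 0x19a0d2a103) (.leaf (nat_lit 0x19a0d2a102) (nat_lit 772))
 (.leaf (nat_lit 0x19a0d2a103) (nat_lit 1028))
)) (.node (nat_lit 0x19a0dae102) (.node (nat_lit 0x19a0d98183) (.leaf (nat_lit 0x19a0d98182) (nat_lit 517))
 (.leaf (nat_lit 0x19a0d98183) (nat_lit 773))
) (.node (nat_lit 0x19a0dae103) (.leaf (nat_lit 0x19a0dae102) (nat_lit 774))
 (.leaf (nat_lit 0x19a0dae103) (nat_lit 1030))
))) (.node (nat_lit 0x19a2dca102) (.node (nat_lit 0x19a2d7a182) (.node (nat_lit 0x19a2d4e103) (.leaf (nat_lit 0x19a2d4e102) (nat_lit 773))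
 (.leaf (nat_lit 0x19a2d4e103) (nat_lit 1029))
) (.node (nat_lit 0x19a2d7a183) (.leaf (nat_lit 0x19a2d7a182) (nat_lit 1030))
 (.leaf (nat_lit 0x19a2d7a183) (nat_lit 1286))
)) (.node (nat_lit 0x19a2dfc182) (.node (nat_lit 0x19a2dca103) (.leaf (nat_lit 0x19a2dca102) (nat_lit 774))
 (.leaf (nat_lit 0x19a2dca103) (nat_lit 1030))
) (.node (nat_lit 0x19a2dfc183) (.leaf (nat_lit 0x19a2dfc182) (nat_lit 516))
 (.leaf (nat_lit 0x19a2dfc183) (nat_lit 772))
)))))))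

theorem J_ok : genOK A2 [(nat_lit 0x1020408103), (nat_lit 0x1820408102), (nat_lit 0x1920d08102), (nat_lit 0x10224dc182), (nat_lit 0x10a24fc182), (nat_lit 0x10a04bc182), (nat_lit 0x1020418182)] J_t (nat_lit 128) = true := by decide +kernel

noncomputable def J0_t : ST :=
(.node (nat_lit 0x1820408102) (.node (nat_lit 0x1120d08102) (.node (nat_lit 0x10a042a102) (.node (nat_lit 0x102244a102) (.node (nat_lit 0x102048c102) (.node (nat_lit 0x1020418182) (.leaf (nat_lit 0x1020408102) (nat_lit 0))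
 (.leaf (nat_lit 0x1020418182) (nat_lit 261))
) (.node (nat_lit 0x102049e182) (.leaf (nat_lit 0x102048c102) (nat_lit 1029))
 (.leaf (nat_lit 0x102049e182) (nat_lit 772))
)) (.node (nat_lit 0x10224ce102) (.node (nat_lit 0x102245a182) (.leaf (nat_lit 0x102244a102) (nat_lit 516))
 (.leaf (nat_lit 0x102245a182) (nat_lit 773))
) (.node (nat_lit 0x10224dc182) (.leaf (nat_lit 0x10224ce102) (nat_lit 517))
 (.leaf (nat_lit 0x10224dc182) (nat_lit 258))
))) (.node (nat_lit 0x10a246a102) (.node (nat_lit 0x10a04ae102) (.node (nat_lit 0x10a043a182) (.leaf (nat_lit 0x10a042a102) (nat_lit 515))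
 (.leaf (nat_lit 0x10a043a182) (nat_lit 773))
) (.node (nat_lit 0x10a04bc182) (.leaf (nat_lit 0x10a04ae102) (nat_lit 517))
 (.leaf (nat_lit 0x10a04bc182) (nat_lit 260))
)) (.node (nat_lit 0x10a24ee102) (.node (nat_lit 0x10a247a182) (.leaf (nat_lit 0x10a246a102) (nat_lit 516))
 (.leaf (nat_lit 0x10a247a182) (nat_lit 773))
) (.node (nat_lit 0x10a24fc182) (.leaf (nat_lit 0x10a24ee102) (nat_lit 517))
 (.leaf (nat_lit 0x10a24fc182) (nat_lit 259))
)))) (.node (nat_lit 0x11a0d1e182) (.node (nat_lit 0x1122d4e102) (.node (nat_lit 0x1120d8c102) (.node (nat_lit 0x1120d3c182) (.leaf (nat_lit 0x1120d08102) (nat_lit 513))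
 (.leaf (nat_lit 0x1120d3c182) (nat_lit 773))
) (.node (nat_lit 0x1120dba182) (.leaf (nat_lit 0x1120d8c102) (nat_lit 1541))
 (.leaf (nat_lit 0x1120dba182) (nat_lit 1284))
)) (.node (nat_lit 0x1122dca102) (.node (nat_lit 0x1122d7a182) (.leaf (nat_lit 0x1122d4e102) (nat_lit 1028))
 (.leaf (nat_lit 0x1122d7a182) (nat_lit 1285))
) (.node (nat_lit 0x1122dfc182) (.leaf (nat_lit 0x1122dca102) (nat_lit 1029))
 (.leaf (nat_lit 0x1122dfc182) (nat_lit 770))
))) (.node (nat_lit 0x11a2d5a182) (.node (nat_lit 0x11a0d98182) (.node (nat_lit 0x11a0d2a102) (.leaf (nat_lit 0x11a0d1e182) (nat_lit 1285))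
 (.leaf (nat_lit 0x11a0d2a102) (nat_lit 1027))
) (.node (nat_lit 0x11a0dae102) (.leaf (nat_lit 0x11a0d98182) (nat_lit 772))
 (.leaf (nat_lit 0x11a0dae102) (nat_lit 1029))
)) (.node (nat_lit 0x11a2ddc182) (.node (nat_lit 0x11a2d6e102) (.leaf (nat_lit 0x11a2d5a182) (nat_lit 1285))
 (.leaf (nat_lit 0x11a2d6e102) (nat_lit 1028))
) (.node (nat_lit 0x11a2dea102) (.leaf (nat_lit 0x11a2ddc182) (nat_lit 771))
 (.leaf (nat_lit 0x11a2dea102) (nat_lit 1029))
))))) (.node (nat_lit 0x1920d08102) (.node (nat_lit 0x18a042a102) (.node (nat_lit 0x182246a102) (.node (nat_lit 0x182048c102) (.node (nat_lit 0x1820418182) (.leaf (nat_lit 0x1820408102) (nat_lit 256))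
 (.leaf (nat_lit 0x1820418182) (nat_lit 517))
) (.node (nat_lit 0x182049e182) (.leaf (nat_lit 0x182048c102) (nat_lit 1285))
 (.leaf (nat_lit 0x182049e182) (nat_lit 1028))
)) (.node (nat_lit 0x18224ee102) (.node (nat_lit 0x182247a182) (.leaf (nat_lit 0x182246a102) (nat_lit 772))
 (.leaf (nat_lit 0x182247a182) (nat_lit 1029))
) (.node (nat_lit 0x18224fc182) (.leaf (nat_lit 0x18224ee102) (nat_lit 773))
 (.leaf (nat_lit 0x18224fc182) (nat_lit 514))
))) (.node (nat_lit 0x18a244a102) (.node (nat_lit 0x18a04ae102) (.node (nat_lit 0x18a043a182) (.leaf (nat_lit 0x18a042a102) (nat_lit 771))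
 (.leaf (nat_lit 0x18a043a182) (nat_lit 1029))
) (.node (nat_lit 0x18a04bc182) (.leaf (nat_lit 0x18a04ae102) (nat_lit 773))
 (.leaf (nat_lit 0x18a04bc182) (nat_lit 516))
)) (.node (nat_lit 0x18a24ce102) (.node (nat_lit 0x18a245a182) (.leaf (nat_lit 0x18a244a102) (nat_lit 772))
 (.leaf (nat_lit 0x18a245a182) (nat_lit 1029))
) (.node (nat_lit 0x18a24dc182) (.leaf (nat_lit 0x18a24ce102) (nat_lit 773))
 (.leaf (nat_lit 0x18a24dc182) (nat_lit 515))
)))) (.node (nat_lit 0x19a0d1e182) (.node (nat_lit 0x1922d5a182) (.node (nat_lit 0x1920d8c102) (.node (nat_lit 0x1920d3c182) (.leaf (nat_lit 0x1920d08102) (nat_lit 257))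
 (.leaf (nat_lit 0x1920d3c182) (nat_lit 517))
) (.node (nat_lit 0x1920dba182) (.leaf (nat_lit 0x1920d8c102) (nat_lit 1285))
 (.leaf (nat_lit 0x1920dba182) (nat_lit 1028))
)) (.node (nat_lit 0x1922ddc182) (.node (nat_lit 0x1922d6e102) (.leaf (nat_lit 0x1922d5a182) (nat_lit 1029))
 (.leaf (nat_lit 0x1922d6e102) (nat_lit 772))
) (.node (nat_lit 0x1922dea102) (.leaf (nat_lit 0x1922ddc182) (nat_lit 514))
 (.leaf (nat_lit 0x1922dea102) (nat_lit 773))
))) (.node (nat_lit 0x19a2d4e102) (.node (nat_lit 0x19a0d98182) (.node (nat_lit 0x19a0d2a102) (.leaf (nat_lit 0x19a0d1e182) (nat_lit 1029))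
 (.leaf (nat_lit 0x19a0d2a102) (nat_lit 771))
) (.node (nat_lit 0x19a0dae102) (.leaf (nat_lit 0x19a0d98182) (nat_lit 516))
 (.leaf (nat_lit 0x19a0dae102) (nat_lit 773))
)) (.node (nat_lit 0x19a2dca102) (.node (nat_lit 0x19a2d7a182) (.leaf (nat_lit 0x19a2d4e102) (nat_lit 772))
 (.leaf (nat_lit 0x19a2d7a182) (nat_lit 1029))
) (.node (nat_lit 0x19a2dfc182) (.leaf (nat_lit 0x19a2dca102) (nat_lit 773))
 (.leaf (nat_lit 0x19a2dfc182) (nat_lit 515))
))))))

theorem J0_ok : genOK A2 [(nat_lit 0x1820408102), (nat_lit 0x1920d08102), (nat_lit 0x10224dc182), (nat_lit 0x10a24fc182), (nat_lit 0x10a04bc182), (nat_lit 0x1020418182)] J0_t (nat_lit 64) = true := by decide +kernel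

noncomputable def F_t : ST :=
(.node (nat_lit 0x1820408102) (.node (nat_lit 0x1120d08102) (.node (nat_lit 0x10a042a102) (.node (nat_lit 0x102048c102) (.node (nat_lit 0x1020408103) (.leaf (nat_lit 0x1020408102) (nat_lit 0))
 (.leaf (nat_lit 0x1020408103) (nat_lit 256))
) (.node (nat_lit 0x102048c103) (.leaf (nat_lit 0x102048c102) (nat_lit 516))
 (.leaf (nat_lit 0x102048c103) (nat_lit 772))
)) (.node (nat_lit 0x10a04ae102) (.node (nat_lit 0x10a042a103) (.leaf (nat_lit 0x10a042a102) (nat_lit 259))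
 (.leaf (nat_lit 0x10a042a103) (nat_lit 515))
) (.node (nat_lit 0x10a04ae103) (.leaf (nat_lit 0x10a04ae102) (nat_lit 260))
 (.leaf (nat_lit 0x10a04ae103) (nat_lit 516))
))) (.node (nat_lit 0x11a0d2a102) (.node (nat_lit 0x1120d8c102) (.node (nat_lit 0x1120d08103) (.leaf (nat_lit 0x1120d08102) (nat_lit 514))
 (.leaf (nat_lit 0x1120d08103) (nat_lit 770))
) (.node (nat_lit 0x1120d8c103) (.leaf (nat_lit 0x1120d8c102) (nat_lit 1028))
 (.leaf (nat_lit 0x1120d8c103) (nat_lit 1284))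
)) (.node (nat_lit 0x11a0dae102) (.node (nat_lit 0x11a0d2a103) (.leaf (nat_lit 0x11a0d2a102) (nat_lit 771))
 (.leaf (nat_lit 0x11a0d2a103) (nat_lit 1027))
) (.node (nat_lit 0x11a0dae103) (.leaf (nat_lit 0x11a0dae102) (nat_lit 772))
 (.leaf (nat_lit 0x11a0dae103) (nat_lit 1028))
)))) (.node (nat_lit 0x1920d08102) (.node (nat_lit 0x18a042a102) (.node (nat_lit 0x182048c102) (.node (nat_lit 0x1820408103) (.leaf (nat_lit 0x1820408102) (nat_lit 257))
 (.leaf (nat_lit 0x1820408103) (nat_lit 513))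
) (.node (nat_lit 0x182048c103) (.leaf (nat_lit 0x182048c102) (nat_lit 772))
 (.leaf (nat_lit 0x182048c103) (nat_lit 1028))
)) (.node (nat_lit 0x18a04ae102) (.node (nat_lit 0x18a042a103) (.leaf (nat_lit 0x18a042a102) (nat_lit 515))
 (.leaf (nat_lit 0x18a042a103) (nat_lit 771))
) (.node (nat_lit 0x18a04ae103) (.leaf (nat_lit 0x18a04ae102) (nat_lit 516))
 (.leaf (nat_lit 0x18a04ae103) (nat_lit 772))
))) (.node (nat_lit 0x19a0d2a102) (.node (nat_lit 0x1920d8c102) (.node (nat_lit 0x1920d08103) (.leaf (nat_lit 0x1920d08102) (nat_lit 258))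
 (.leaf (nat_lit 0x1920d08103) (nat_lit 514))
) (.node (nat_lit 0x1920d8c103) (.leaf (nat_lit 0x1920d8c102) (nat_lit 772))
 (.leaf (nat_lit 0x1920d8c103) (nat_lit 1028))
)) (.node (nat_lit 0x19a0dae102) (.node (nat_lit 0x19a0d2a103) (.leaf (nat_lit 0x19a0d2a102) (nat_lit 515))
 (.leaf (nat_lit 0x19a0d2a103) (nat_lit 771))
) (.node (nat_lit 0x19a0dae103) (.leaf (nat_lit 0x19a0dae102) (nat_lit 516))
 (.leaf (nat_lit 0x19a0dae103) (nat_lit 772))
)))))

theorem F_ok : genOK A2 [(nat_lit 0x1020408103), (nat_lit 0x1820408102), (nat_lit 0x1920d08102), (nat_lit 0x10a042a102), (nat_lit 0x10a04ae102)] F_t (nat_lit 32) = true := by decide +kernel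

noncomputable def M1_t : ST :=
(.node (nat_lit 0x1920d08102) (.node (nat_lit 0x10a042a102) (.node (nat_lit 0x102245a182) (.node (nat_lit 0x102048c102) (.node (nat_lit 0x1020408103) (.leaf (nat_lit 0x1020408102) (nat_lit 0))
 (.leaf (nat_lit 0x1020408103) (nat_lit 256))
) (.node (nat_lit 0x102048c103) (.leaf (nat_lit 0x102048c102) (nat_lit 772))
 (.leaf (nat_lit 0x102048c103) (nat_lit 1028))
)) (.node (nat_lit 0x10224dc182) (.node (nat_lit 0x102245a183) (.leaf (nat_lit 0x102245a182) (nat_lit 516))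
 (.leaf (nat_lit 0x102245a183) (nat_lit 772))
) (.node (nat_lit 0x10224dc183) (.leaf (nat_lit 0x10224dc182) (nat_lit 258))
 (.leaf (nat_lit 0x10224dc183) (nat_lit 514))
))) (.node (nat_lit 0x10a247a182) (.node (nat_lit 0x10a04ae102) (.node (nat_lit 0x10a042a103) (.leaf (nat_lit 0x10a042a102) (nat_lit 515))
 (.leaf (nat_lit 0x10a042a103) (nat_lit 771))
) (.node (nat_lit 0x10a04ae103) (.leaf (nat_lit 0x10a04ae102) (nat_lit 260))
 (.leaf (nat_lit 0x10a04ae103) (nat_lit 516))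
)) (.node (nat_lit 0x10a24fc182) (.node (nat_lit 0x10a247a183) (.leaf (nat_lit 0x10a247a182) (nat_lit 516))
 (.leaf (nat_lit 0x10a247a183) (nat_lit 772))
) (.node (nat_lit 0x10a24fc183) (.leaf (nat_lit 0x10a24fc182) (nat_lit 259))
 (.leaf (nat_lit 0x10a24fc183) (nat_lit 515))
)))) (.node (nat_lit 0x19a0d2a102) (.node (nat_lit 0x1922d5a182) (.node (nat_lit 0x1920d8c102) (.node (nat_lit 0x1920d08103) (.leaf (nat_lit 0x1920d08102) (nat_lit 257))
 (.leaf (nat_lit 0x1920d08103) (nat_lit 513))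
) (.node (nat_lit 0x1920d8c103) (.leaf (nat_lit 0x1920d8c102) (nat_lit 1028))
 (.leaf (nat_lit 0x1920d8c103) (nat_lit 1284))
)) (.node (nat_lit 0x1922ddc182) (.node (nat_lit 0x1922d5a183) (.leaf (nat_lit 0x1922d5a182) (nat_lit 772))
 (.leaf (nat_lit 0x1922d5a183) (nat_lit 1028))
) (.node (nat_lit 0x1922ddc183) (.leaf (nat_lit 0x1922ddc182) (nat_lit 514))
 (.leaf (nat_lit 0x1922ddc183) (nat_lit 770))
))) (.node (nat_lit 0x19a2d7a182) (.node (nat_lit 0x19a0dae102) (.node (nat_lit 0x19a0d2a103) (.leaf (nat_lit 0x19a0d2a102) (nat_lit 771))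
 (.leaf (nat_lit 0x19a0d2a103) (nat_lit 1027))
) (.node (nat_lit 0x19a0dae103) (.leaf (nat_lit 0x19a0dae102) (nat_lit 516))
 (.leaf (nat_lit 0x19a0dae103) (nat_lit 772))
)) (.node (nat_lit 0x19a2dfc182) (.node (nat_lit 0x19a2d7a183) (.leaf (nat_lit 0x19a2d7a182) (nat_lit 772))
 (.leaf (nat_lit 0x19a2d7a183) (nat_lit 1028))
) (.node (nat_lit 0x19a2dfc183) (.leaf (nat_lit 0x19a2dfc182) (nat_lit 515))
 (.leaf (nat_lit 0x19a2dfc183) (nat_lit 771))
)))))

theorem M1_ok : genOK A2 [(nat_lit 0x1020408103), (nat_lit 0x1920d08102), (nat_lit 0x10224dc182), (nat_lit 0x10a24fc182), (nat_lit 0x10a04ae102)] M1_t (nat_lit 32) = true := by decide +kernel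

noncomputable def M2_t : ST :=
(.node (nat_lit 0x1820408102) (.node (nat_lit 0x10a042a102) (.node (nat_lit 0x102048c102) (.node (nat_lit 0x1020418182) (.node (nat_lit 0x1020408103) (.leaf (nat_lit 0x1020408102) (nat_lit 0))
 (.leaf (nat_lit 0x1020408103) (nat_lit 256))
) (.node (nat_lit 0x1020418183) (.leaf (nat_lit 0x1020418182) (nat_lit 259))
 (.leaf (nat_lit 0x1020418183) (nat_lit 515))
)) (.node (nat_lit 0x102049e182) (.node (nat_lit 0x102048c103) (.leaf (nat_lit 0x102048c102) (nat_lit 772))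
 (.leaf (nat_lit 0x102048c103) (nat_lit 1028))
) (.node (nat_lit 0x102049e183) (.leaf (nat_lit 0x102049e182) (nat_lit 516))
 (.leaf (nat_lit 0x102049e183) (nat_lit 772))
))) (.node (nat_lit 0x10a04ae102) (.node (nat_lit 0x10a043a182) (.node (nat_lit 0x10a042a103) (.leaf (nat_lit 0x10a042a102) (nat_lit 260))
 (.leaf (nat_lit 0x10a042a103) (nat_lit 516))
) (.node (nat_lit 0x10a043a183) (.leaf (nat_lit 0x10a043a182) (nat_lit 516))
 (.leaf (nat_lit 0x10a043a183) (nat_lit 772))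
)) (.node (nat_lit 0x10a04bc182) (.node (nat_lit 0x10a04ae103) (.leaf (nat_lit 0x10a04ae102) (nat_lit 515))
 (.leaf (nat_lit 0x10a04ae103) (nat_lit 771))
) (.node (nat_lit 0x10a04bc183) (.leaf (nat_lit 0x10a04bc182) (nat_lit 258))
 (.leaf (nat_lit 0x10a04bc183) (nat_lit 514))
)))) (.node (nat_lit 0x18a042a102) (.node (nat_lit 0x182048c102) (.node (nat_lit 0x1820418182) (.node (nat_lit 0x1820408103) (.leaf (nat_lit 0x1820408102) (nat_lit 257))
 (.leaf (nat_lit 0x1820408103) (nat_lit 513))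
) (.node (nat_lit 0x1820418183) (.leaf (nat_lit 0x1820418182) (nat_lit 515))
 (.leaf (nat_lit 0x1820418183) (nat_lit 771))
)) (.node (nat_lit 0x182049e182) (.node (nat_lit 0x182048c103) (.leaf (nat_lit 0x182048c102) (nat_lit 1028))
 (.leaf (nat_lit 0x182048c103) (nat_lit 1284))
) (.node (nat_lit 0x182049e183) (.leaf (nat_lit 0x182049e182) (nat_lit 772))
 (.leaf (nat_lit 0x182049e183) (nat_lit 1028))
))) (.node (nat_lit 0x18a04ae102) (.node (nat_lit 0x18a043a182) (.node (nat_lit 0x18a042a103) (.leaf (nat_lit 0x18a042a102) (nat_lit 516))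
 (.leaf (nat_lit 0x18a042a103) (nat_lit 772))
) (.node (nat_lit 0x18a043a183) (.leaf (nat_lit 0x18a043a182) (nat_lit 772))
 (.leaf (nat_lit 0x18a043a183) (nat_lit 1028))
)) (.node (nat_lit 0x18a04bc182) (.node (nat_lit 0x18a04ae103) (.leaf (nat_lit 0x18a04ae102) (nat_lit 771))
 (.leaf (nat_lit 0x18a04ae103) (nat_lit 1027))
) (.node (nat_lit 0x18a04bc183) (.leaf (nat_lit 0x18a04bc182) (nat_lit 514))
 (.leaf (nat_lit 0x18a04bc183) (nat_lit 770))
)))))

theorem M2_ok : genOK A2 [(nat_lit 0x1020408103), (nat_lit 0x1820408102), (nat_lit 0x10a04bc182), (nat_lit 0x1020418182), (nat_lit 0x10a042a102)] M2_t (nat_lit 32) = true := by decide +kernel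

noncomputable def R_t : ST :=
(.node (nat_lit 0x1820408102) (.node (nat_lit 0x1120d08102) (.node (nat_lit 0x10a042a102) (.node (nat_lit 0x1025508102) (.node (nat_lit 0x102244a102) (.node (nat_lit 0x102048c102) (.node (nat_lit 0x1020418183) (.leaf (nat_lit 0x1020408102) (nat_lit 0))
 (.leaf (nat_lit 0x1020418183) (nat_lit 1282))
) (.node (nat_lit 0x102049e183) (.leaf (nat_lit 0x102048c102) (nat_lit 2562))
 (.leaf (nat_lit 0x102049e183) (nat_lit 1794))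
)) (.node (nat_lit 0x10224ce102) (.node (nat_lit 0x102245a183) (.leaf (nat_lit 0x102244a102) (nat_lit 1538))
 (.leaf (nat_lit 0x102245a183) (nat_lit 2306))
) (.node (nat_lit 0x10224dc183) (.leaf (nat_lit 0x10224ce102) (nat_lit 1538))
 (.leaf (nat_lit 0x10224dc183) (nat_lit 257))
))) (.node (nat_lit 0x102751e183) (.node (nat_lit 0x102558c102) (.node (nat_lit 0x102555c183) (.leaf (nat_lit 0x1025508102) (nat_lit 768))
 (.leaf (nat_lit 0x102555c183) (nat_lit 1024))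
) (.node (nat_lit 0x10255da183) (.leaf (nat_lit 0x102558c102) (nat_lit 1793))
 (.leaf (nat_lit 0x10255da183) (nat_lit 1537))
)) (.node (nat_lit 0x1027598183) (.node (nat_lit 0x102754a102) (.leaf (nat_lit 0x102751e183) (nat_lit 1536))
 (.leaf (nat_lit 0x102754a102) (nat_lit 1280))
) (.node (nat_lit 0x10275ce102) (.leaf (nat_lit 0x1027598183) (nat_lit 1025))
 (.leaf (nat_lit 0x10275ce102) (nat_lit 1281))
)))) (.node (nat_lit 0x10a552e102) (.node (nat_lit 0x10a246a102) (.node (nat_lit 0x10a04ae102) (.node (nat_lit 0x10a043a183) (.leaf (nat_lit 0x10a042a102) (nat_lit 1025))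
 (.leaf (nat_lit 0x10a043a183) (nat_lit 2306))
) (.node (nat_lit 0x10a04bc183) (.leaf (nat_lit 0x10a04ae102) (nat_lit 1538))
 (.leaf (nat_lit 0x10a04bc183) (nat_lit 770))
)) (.node (nat_lit 0x10a24ee102) (.node (nat_lit 0x10a247a183) (.leaf (nat_lit 0x10a246a102) (nat_lit 1026))
 (.leaf (nat_lit 0x10a247a183) (nat_lit 1794))
) (.node (nat_lit 0x10a24fc183) (.leaf (nat_lit 0x10a24ee102) (nat_lit 2050))
 (.leaf (nat_lit 0x10a24fc183) (nat_lit 768))
))) (.node (nat_lit 0x10a753a183) (.node (nat_lit 0x10a55aa102) (.node (nat_lit 0x10a557a183) (.leaf (nat_lit 0x10a552e102) (nat_lit 1281))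
 (.leaf (nat_lit 0x10a557a183) (nat_lit 1537))
) (.node (nat_lit 0x10a55fc183) (.leaf (nat_lit 0x10a55aa102) (nat_lit 1280))
 (.leaf (nat_lit 0x10a55fc183) (nat_lit 1024))
)) (.node (nat_lit 0x10a75bc183) (.node (nat_lit 0x10a756e102) (.leaf (nat_lit 0x10a753a183) (nat_lit 1537))
 (.leaf (nat_lit 0x10a756e102) (nat_lit 1281))
) (.node (nat_lit 0x10a75ea102) (.leaf (nat_lit 0x10a75bc183) (nat_lit 1024))
 (.leaf (nat_lit 0x10a75ea102) (nat_lit 1280))
))))) (.node (nat_lit 0x11a0d1e183) (.node (nat_lit 0x1125d08102) (.node (nat_lit 0x1122d4e102) (.node (nat_lit 0x1120d8c102) (.node (nat_lit 0x1120d3c183) (.leaf (nat_lit 0x1120d08102) (nat_lit 1026))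
 (.leaf (nat_lit 0x1120d3c183) (nat_lit 1282))
) (.node (nat_lit 0x1120dba183) (.leaf (nat_lit 0x1120d8c102) (nat_lit 2050))
 (.leaf (nat_lit 0x1120dba183) (nat_lit 1794))
)) (.node (nat_lit 0x1122dca102) (.node (nat_lit 0x1122d7a183) (.leaf (nat_lit 0x1122d4e102) (nat_lit 1538))
 (.leaf (nat_lit 0x1122d7a183) (nat_lit 1794))
) (.node (nat_lit 0x1122dfc183) (.leaf (nat_lit 0x1122dca102) (nat_lit 1538))
 (.leaf (nat_lit 0x1122dfc183) (nat_lit 1282))
))) (.node (nat_lit 0x1127d3a183) (.node (nat_lit 0x1125d8c102) (.node (nat_lit 0x1125d7c183) (.leaf (nat_lit 0x1125d08102) (nat_lit 258))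
 (.leaf (nat_lit 0x1125d7c183) (nat_lit 1026))
) (.node (nat_lit 0x1125dfa183) (.leaf (nat_lit 0x1125d8c102) (nat_lit 2305))
 (.leaf (nat_lit 0x1125dfa183) (nat_lit 1537))
)) (.node (nat_lit 0x1127dbc183) (.node (nat_lit 0x1127d4e102) (.leaf (nat_lit 0x1127d3a183) (nat_lit 2048))
 (.leaf (nat_lit 0x1127d4e102) (nat_lit 1280))
) (.node (nat_lit 0x1127dca102) (.leaf (nat_lit 0x1127dbc183) (nat_lit 513))
 (.leaf (nat_lit 0x1127dca102) (nat_lit 1281))
)))) (.node (nat_lit 0x11a5d2e102) (.node (nat_lit 0x11a2d5a183) (.node (nat_lit 0x11a0d98183) (.node (nat_lit 0x11a0d2a102) (.leaf (nat_lit 0x11a0d1e183) (nat_lit 1794))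
 (.leaf (nat_lit 0x11a0d2a102) (nat_lit 1538))
) (.node (nat_lit 0x11a0dae102) (.leaf (nat_lit 0x11a0d98183) (nat_lit 1282))
 (.leaf (nat_lit 0x11a0dae102) (nat_lit 1538))
)) (.node (nat_lit 0x11a2ddc183) (.node (nat_lit 0x11a2d6e102) (.leaf (nat_lit 0x11a2d5a183) (nat_lit 1794))
 (.leaf (nat_lit 0x11a2d6e102) (nat_lit 1538))
) (.node (nat_lit 0x11a2dea102) (.leaf (nat_lit 0x11a2ddc183) (nat_lit 1282))
 (.leaf (nat_lit 0x11a2dea102) (nat_lit 1538))
))) (.node (nat_lit 0x11a7d1e183) (.node (nat_lit 0x11a5daa102) (.node (nat_lit 0x11a5d5a183) (.leaf (nat_lit 0x11a5d2e102) (nat_lit 1281))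
 (.leaf (nat_lit 0x11a5d5a183) (nat_lit 2049))
) (.node (nat_lit 0x11a5ddc183) (.leaf (nat_lit 0x11a5daa102) (nat_lit 1282))
 (.leaf (nat_lit 0x11a5ddc183) (nat_lit 514))
)) (.node (nat_lit 0x11a7d98183) (.node (nat_lit 0x11a7d6a102) (.leaf (nat_lit 0x11a7d1e183) (nat_lit 1537))
 (.leaf (nat_lit 0x11a7d6a102) (nat_lit 769))
) (.node (nat_lit 0x11a7dee102) (.leaf (nat_lit 0x11a7d98183) (nat_lit 1024))
 (.leaf (nat_lit 0x11a7dee102) (nat_lit 1792))
)))))) (.node (nat_lit 0x1920d08102) (.node (nat_lit 0x18a042a102) (.node (nat_lit 0x1825d08102) (.node (nat_lit 0x182246a102) (.node (nat_lit 0x182048c102) (.node (nat_lit 0x1820418183) (.leaf (nat_lit 0x1820408102) (nat_lit 256))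
 (.leaf (nat_lit 0x1820418183) (nat_lit 1538))
) (.node (nat_lit 0x182049e183) (.leaf (nat_lit 0x182048c102) (nat_lit 2306))
 (.leaf (nat_lit 0x182049e183) (nat_lit 1538))
)) (.node (nat_lit 0x18224ee102) (.node (nat_lit 0x182247a183) (.leaf (nat_lit 0x182246a102) (nat_lit 1282))
 (.leaf (nat_lit 0x182247a183) (nat_lit 2050))
) (.node (nat_lit 0x18224fc183) (.leaf (nat_lit 0x18224ee102) (nat_lit 1794))
 (.leaf (nat_lit 0x18224fc183) (nat_lit 513))
))) (.node (nat_lit 0x1827d1e183) (.node (nat_lit 0x1825d8c102) (.node (nat_lit 0x1825d7c183) (.leaf (nat_lit 0x1825d08102) (nat_lit 512))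
 (.leaf (nat_lit 0x1825d7c183) (nat_lit 1280))
) (.node (nat_lit 0x1825dfa183) (.leaf (nat_lit 0x1825d8c102) (nat_lit 2049))
 (.leaf (nat_lit 0x1825dfa183) (nat_lit 1281))
)) (.node (nat_lit 0x1827d98183) (.node (nat_lit 0x1827d6a102) (.leaf (nat_lit 0x1827d1e183) (nat_lit 1792))
 (.leaf (nat_lit 0x1827d6a102) (nat_lit 1024))
) (.node (nat_lit 0x1827dee102) (.leaf (nat_lit 0x1827d98183) (nat_lit 769))
 (.leaf (nat_lit 0x1827dee102) (nat_lit 1537))
)))) (.node (nat_lit 0x18a5d2e102) (.node (nat_lit 0x18a244a102) (.node (nat_lit 0x18a04ae102) (.node (nat_lit 0x18a043a183) (.leaf (nat_lit 0x18a042a102) (nat_lit 769))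
 (.leaf (nat_lit 0x18a043a183) (nat_lit 2050))
) (.node (nat_lit 0x18a04bc183) (.leaf (nat_lit 0x18a04ae102) (nat_lit 1794))
 (.leaf (nat_lit 0x18a04bc183) (nat_lit 1026))
)) (.node (nat_lit 0x18a24ce102) (.node (nat_lit 0x18a245a183) (.leaf (nat_lit 0x18a244a102) (nat_lit 1282))
 (.leaf (nat_lit 0x18a245a183) (nat_lit 2050))
) (.node (nat_lit 0x18a24dc183) (.leaf (nat_lit 0x18a24ce102) (nat_lit 1794))
 (.leaf (nat_lit 0x18a24dc183) (nat_lit 512))
))) (.node (nat_lit 0x18a7d3a183) (.node (nat_lit 0x18a5daa102) (.node (nat_lit 0x18a5d5a183) (.leaf (nat_lit 0x18a5d2e102) (nat_lit 1025))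
 (.leaf (nat_lit 0x18a5d5a183) (nat_lit 1793))
) (.node (nat_lit 0x18a5ddc183) (.leaf (nat_lit 0x18a5daa102) (nat_lit 1536))
 (.leaf (nat_lit 0x18a5ddc183) (nat_lit 768))
)) (.node (nat_lit 0x18a7dbc183) (.node (nat_lit 0x18a7d4e102) (.leaf (nat_lit 0x18a7d3a183) (nat_lit 1793))
 (.leaf (nat_lit 0x18a7d4e102) (nat_lit 1025))
) (.node (nat_lit 0x18a7dca102) (.leaf (nat_lit 0x18a7dbc183) (nat_lit 768))
 (.leaf (nat_lit 0x18a7dca102) (nat_lit 1536))
))))) (.node (nat_lit 0x19a0d1e183) (.node (nat_lit 0x1925508102) (.node (nat_lit 0x1922d5a183) (.node (nat_lit 0x1920d8c102) (.node (nat_lit 0x1920d3c183) (.leaf (nat_lit 0x1920d08102) (nat_lit 770))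
 (.leaf (nat_lit 0x1920d3c183) (nat_lit 1026))
) (.node (nat_lit 0x1920dba183) (.leaf (nat_lit 0x1920d8c102) (nat_lit 2306))
 (.leaf (nat_lit 0x1920dba183) (nat_lit 2050))
)) (.node (nat_lit 0x1922ddc183) (.node (nat_lit 0x1922d6e102) (.leaf (nat_lit 0x1922d5a183) (nat_lit 2050))
 (.leaf (nat_lit 0x1922d6e102) (nat_lit 1794))
) (.node (nat_lit 0x1922dea102) (.leaf (nat_lit 0x1922ddc183) (nat_lit 1026))
 (.leaf (nat_lit 0x1922dea102) (nat_lit 1282))
))) (.node (nat_lit 0x192753a183) (.node (nat_lit 0x192558c102) (.node (nat_lit 0x192555c183) (.leaf (nat_lit 0x1925508102) (nat_lit 514))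
 (.leaf (nat_lit 0x192555c183) (nat_lit 770))
) (.node (nat_lit 0x19255da183) (.leaf (nat_lit 0x192558c102) (nat_lit 2049))
 (.leaf (nat_lit 0x19255da183) (nat_lit 1793))
)) (.node (nat_lit 0x19275bc183) (.node (nat_lit 0x192756e102) (.leaf (nat_lit 0x192753a183) (nat_lit 1792))
 (.leaf (nat_lit 0x192756e102) (nat_lit 1536))
) (.node (nat_lit 0x19275ea102) (.leaf (nat_lit 0x19275bc183) (nat_lit 769))
 (.leaf (nat_lit 0x19275ea102) (nat_lit 1025))
)))) (.node (nat_lit 0x19a552e102) (.node (nat_lit 0x19a2d4e102) (.node (nat_lit 0x19a0d98183) (.node (nat_lit 0x19a0d2a102) (.leaf (nat_lit 0x19a0d1e183) (nat_lit 2050))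
 (.leaf (nat_lit 0x19a0d2a102) (nat_lit 1794))
) (.node (nat_lit 0x19a0dae102) (.leaf (nat_lit 0x19a0d98183) (nat_lit 1026))
 (.leaf (nat_lit 0x19a0dae102) (nat_lit 1282))
)) (.node (nat_lit 0x19a2dca102) (.node (nat_lit 0x19a2d7a183) (.leaf (nat_lit 0x19a2d4e102) (nat_lit 1282))
 (.leaf (nat_lit 0x19a2d7a183) (nat_lit 1538))
) (.node (nat_lit 0x19a2dfc183) (.leaf (nat_lit 0x19a2dca102) (nat_lit 1794))
 (.leaf (nat_lit 0x19a2dfc183) (nat_lit 1538))
))) (.node (nat_lit 0x19a751e183) (.node (nat_lit 0x19a55aa102) (.node (nat_lit 0x19a557a183) (.leaf (nat_lit 0x19a552e102) (nat_lit 1537))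
 (.leaf (nat_lit 0x19a557a183) (nat_lit 1793))
) (.node (nat_lit 0x19a55fc183) (.leaf (nat_lit 0x19a55aa102) (nat_lit 1026))
 (.leaf (nat_lit 0x19a55fc183) (nat_lit 770))
)) (.node (nat_lit 0x19a7598183) (.node (nat_lit 0x19a754a102) (.leaf (nat_lit 0x19a751e183) (nat_lit 1281))
 (.leaf (nat_lit 0x19a754a102) (nat_lit 1025))
) (.node (nat_lit 0x19a75ce102) (.leaf (nat_lit 0x19a7598183) (nat_lit 1280))
 (.leaf (nat_lit 0x19a75ce102) (nat_lit 1536))
)))))))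

theorem R_ok : genOK A2 [(nat_lit 0x1820408102), (nat_lit 0x10224dc183), (nat_lit 0x1125d08102)] R_t (nat_lit 128) = true := by decide +kernel

noncomputable def K1_t : ST :=
(.node (nat_lit 0x102d284254) (.node (nat_lit 0x717ed5bb4) (.node (nat_lit 0x51aaddad6) (.node (nat_lit 0x395abd2b6) (.node (nat_lit 0x29d6b53f4) (.leaf (nat_lit 0x2976f53b4) (nat_lit 1025))
 (.leaf (nat_lit 0x29d6b53f4) (nat_lit 1025))
) (.node (nat_lit 0x39aafd2f6) (.leaf (nat_lit 0x395abd2b6) (nat_lit 1281))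
 (.node (nat_lit 0x50fadcad6) (.leaf (nat_lit 0x39aafd2f6) (nat_lit 1536))
 (.leaf (nat_lit 0x50fadcad6) (nat_lit 1283))
))) (.node (nat_lit 0x68f2fcaf6) (.node (nat_lit 0x58aef4bd4) (.leaf (nat_lit 0x51aaddad6) (nat_lit 1538))
 (.node (nat_lit 0x59deb5bd4) (.leaf (nat_lit 0x58aef4bd4) (nat_lit 770))
 (.leaf (nat_lit 0x59deb5bd4) (nat_lit 1026))
)) (.node (nat_lit 0x6952bdab6) (.leaf (nat_lit 0x68f2fcaf6) (nat_lit 1024))
 (.node (nat_lit 0x70aed4bf4) (.leaf (nat_lit 0x6952bdab6) (nat_lit 1280))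
 (.leaf (nat_lit 0x70aed4bf4) (nat_lit 768))
)))) (.node (nat_lit 0x102048c102) (.node (nat_lit 0x1020210084) (.node (nat_lit 0x1020084210) (.leaf (nat_lit 0x717ed5bb4) (nat_lit 1024))
 (.leaf (nat_lit 0x1020084210) (nat_lit 1538))
) (.node (nat_lit 0x1020408312) (.leaf (nat_lit 0x1020210084) (nat_lit 1538))
 (.node (nat_lit 0x1020418182) (.leaf (nat_lit 0x1020408312) (nat_lit 1026))
 (.leaf (nat_lit 0x1020418182) (nat_lit 1026))
))) (.node (nat_lit 0x102568c106) (.node (nat_lit 0x1020608106) (.leaf (nat_lit 0x102048c102) (nat_lit 0))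
 (.node (nat_lit 0x10224dc182) (.leaf (nat_lit 0x1020608106) (nat_lit 259))
 (.leaf (nat_lit 0x10224dc182) (nat_lit 258))
)) (.node (nat_lit 0x10272d4084) (.leaf (nat_lit 0x102568c106) (nat_lit 1281))
 (.node (nat_lit 0x1028608356) (.leaf (nat_lit 0x10272d4084) (nat_lit 512))
 (.leaf (nat_lit 0x1028608356) (nat_lit 514))
))))) (.node (nat_lit 0x1220608336) (.node (nat_lit 0x10a04bc182) (.node (nat_lit 0x10320d5290) (.node (nat_lit 0x1030419392) (.leaf (nat_lit 0x102d284254) (nat_lit 1027))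
 (.leaf (nat_lit 0x1030419392) (nat_lit 1538))
) (.node (nat_lit 0x10382112d4) (.leaf (nat_lit 0x10320d5290) (nat_lit 1280))
 (.node (nat_lit 0x103f6dd3d6) (.leaf (nat_lit 0x10382112d4) (nat_lit 1282))
 (.leaf (nat_lit 0x103f6dd3d6) (nat_lit 1282))
))) (.node (nat_lit 0x1125e8c106) (.node (nat_lit 0x10a24fc182) (.leaf (nat_lit 0x10a04bc182) (nat_lit 769))
 (.node (nat_lit 0x1120e8c106) (.leaf (nat_lit 0x10a24fc182) (nat_lit 513))
 (.leaf (nat_lit 0x1120e8c106) (nat_lit 1024))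
)) (.node (nat_lit 0x11a0ab4084) (.leaf (nat_lit 0x1125e8c106) (nat_lit 1280))
 (.node (nat_lit 0x11a7af4084) (.leaf (nat_lit 0x11a0ab4084) (nat_lit 1025))
 (.leaf (nat_lit 0x11a7af4084) (nat_lit 769))
)))) (.node (nat_lit 0x14a00b4a90) (.node (nat_lit 0x132da84274) (.node (nat_lit 0x1228608376) (.leaf (nat_lit 0x1220608336) (nat_lit 769))
 (.node (nat_lit 0x1320a84234) (.leaf (nat_lit 0x1228608376) (nat_lit 515))
 (.leaf (nat_lit 0x1320a84234) (nat_lit 1025))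
)) (.node (nat_lit 0x1420418b92) (.leaf (nat_lit 0x132da84274) (nat_lit 771))
 (.node (nat_lit 0x1430419b92) (.leaf (nat_lit 0x1420418b92) (nat_lit 1536))
 (.leaf (nat_lit 0x1430419b92) (nat_lit 1536))
))) (.node (nat_lit 0x1638211af4) (.node (nat_lit 0x14b20f5a90) (.leaf (nat_lit 0x14a00b4a90) (nat_lit 1282))
 (.node (nat_lit 0x1620210ab4) (.leaf (nat_lit 0x14b20f5a90) (nat_lit 1282))
 (.leaf (nat_lit 0x1620210ab4) (nat_lit 1282))
)) (.node (nat_lit 0x17a0ebcbb6) (.leaf (nat_lit 0x1638211af4) (nat_lit 1282))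
 (.node (nat_lit 0x17bfefdbf6) (.leaf (nat_lit 0x17a0ebcbb6) (nat_lit 1280))
 (.leaf (nat_lit 0x17bfefdbf6) (nat_lit 1280))
))))))

theorem K1_ok : orbOK A2 [(nat_lit 0x10224dc182), (nat_lit 0x860408102), (nat_lit 0x850d08402), (nat_lit 0x1820402108)] (nat_lit 0x102048c102) K1_t (nat_lit 45) = true := by decide +kernel

noncomputable def K2_t : ST :=
(.node (nat_lit 0x1060402108) (.node (nat_lit 0xb0ff4a16e) (.node (nat_lit 0x750f09d2e) (.node (nat_lit 0x552dddd82) (.node (nat_lit 0x3c8dae16a) (.node (nat_lit 0x2d247b3ba) (.node (nat_lit 0x2c842a16a) (.node (nat_lit 0x2c76ee12e) (.leaf (nat_lit 0x2c246a12a) (nat_lit 1281))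
 (.leaf (nat_lit 0x2c76ee12e) (nat_lit 1539))
) (.node (nat_lit 0x2cd6ae16e) (.leaf (nat_lit 0x2c842a16a) (nat_lit 1537))
 (.leaf (nat_lit 0x2cd6ae16e) (nat_lit 1282))
)) (.node (nat_lit 0x3c2f6a12e) (.node (nat_lit 0x2d843b3fa) (.leaf (nat_lit 0x2d247b3ba) (nat_lit 1794))
 (.leaf (nat_lit 0x2d843b3fa) (nat_lit 1538))
) (.node (nat_lit 0x3c7dee12a) (.leaf (nat_lit 0x3c2f6a12e) (nat_lit 2048))
 (.leaf (nat_lit 0x3c7dee12a) (nat_lit 1536))
))) (.node (nat_lit 0x545d08d02) (.node (nat_lit 0x3d0bb72bc) (.node (nat_lit 0x3cdf2a16e) (.leaf (nat_lit 0x3c8dae16a) (nat_lit 1792))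
 (.leaf (nat_lit 0x3cdf2a16e) (nat_lit 2048))
) (.node (nat_lit 0x3dfbf72fc) (.leaf (nat_lit 0x3d0bb72bc) (nat_lit 1792))
 (.leaf (nat_lit 0x3dfbf72fc) (nat_lit 1792))
)) (.node (nat_lit 0x54df08f56) (.node (nat_lit 0x547ddcd82) (.leaf (nat_lit 0x545d08d02) (nat_lit 2049))
 (.leaf (nat_lit 0x547ddcd82) (nat_lit 1795))
) (.node (nat_lit 0x550d09d02) (.leaf (nat_lit 0x54df08f56) (nat_lit 1793))
 (.leaf (nat_lit 0x550d09d02) (nat_lit 1795))
)))) (.node (nat_lit 0x6c246af3a) (.node (nat_lit 0x5c8bb6ed4) (.node (nat_lit 0x5c5d3ad82) (.node (nat_lit 0x558f09f56) (.leaf (nat_lit 0x552dddd82) (nat_lit 1793))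
 (.leaf (nat_lit 0x558f09f56) (nat_lit 1793))
) (.node (nat_lit 0x5c7deed02) (.leaf (nat_lit 0x5c5d3ad82) (nat_lit 1539))
 (.leaf (nat_lit 0x5c7deed02) (nat_lit 1539))
)) (.node (nat_lit 0x5d2d7bd82) (.node (nat_lit 0x5d0dafd02) (.leaf (nat_lit 0x5c8bb6ed4) (nat_lit 1027))
 (.leaf (nat_lit 0x5d0dafd02) (nat_lit 1795))
) (.node (nat_lit 0x5dfbf7ed4) (.leaf (nat_lit 0x5d2d7bd82) (nat_lit 1283))
 (.leaf (nat_lit 0x5dfbf7ed4) (nat_lit 1283))
))) (.node (nat_lit 0x6d842bf7a) (.node (nat_lit 0x6c843adea) (.node (nat_lit 0x6c52b6ebc) (.leaf (nat_lit 0x6c246af3a) (nat_lit 2051))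
 (.leaf (nat_lit 0x6c52b6ebc) (nat_lit 1794))
) (.node (nat_lit 0x6d247bdaa) (.leaf (nat_lit 0x6c843adea) (nat_lit 1792))
 (.leaf (nat_lit 0x6d247bdaa) (nat_lit 2048))
)) (.node (nat_lit 0x742bd4ebc) (.node (nat_lit 0x6df2f7efc) (.leaf (nat_lit 0x6d842bf7a) (nat_lit 2050))
 (.leaf (nat_lit 0x6df2f7efc) (nat_lit 2050))
) (.node (nat_lit 0x745d08f3a) (.leaf (nat_lit 0x742bd4ebc) (nat_lit 768))
 (.node (nat_lit 0x74df08d6e) (.leaf (nat_lit 0x745d08f3a) (nat_lit 1024))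
 (.leaf (nat_lit 0x74df08d6e) (nat_lit 1280))
)))))) (.node (nat_lit 0x91aad76dc) (.node (nat_lit 0x84078610c) (.node (nat_lit 0x84019e482) (.node (nat_lit 0x75fbd5efc) (.node (nat_lit 0x758d09f7a) (.leaf (nat_lit 0x750f09d2e) (nat_lit 1536))
 (.leaf (nat_lit 0x758d09f7a) (nat_lit 1024))
) (.node (nat_lit 0x840108402) (.leaf (nat_lit 0x75fbd5efc) (nat_lit 512))
 (.leaf (nat_lit 0x840108402) (nat_lit 1792))
)) (.node (nat_lit 0x840402108) (.node (nat_lit 0x84030861e) (.leaf (nat_lit 0x84019e482) (nat_lit 1027))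
 (.leaf (nat_lit 0x84030861e) (nat_lit 1025))
) (.node (nat_lit 0x840412798) (.leaf (nat_lit 0x840402108) (nat_lit 1280))
 (.leaf (nat_lit 0x840412798) (nat_lit 2048))
))) (.node (nat_lit 0x89d3b56dc) (.node (nat_lit 0x88f76a14e) (.node (nat_lit 0x88a46a14a) (.leaf (nat_lit 0x84078610c) (nat_lit 2050))
 (.leaf (nat_lit 0x88a46a14a) (nat_lit 1280))
) (.node (nat_lit 0x89a46b75a) (.leaf (nat_lit 0x88f76a14e) (nat_lit 1795))
 (.leaf (nat_lit 0x89a46b75a) (nat_lit 2050))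
)) (.node (nat_lit 0x8c21fc482) (.node (nat_lit 0x8c216a402) (.leaf (nat_lit 0x89d3b56dc) (nat_lit 1025))
 (.leaf (nat_lit 0x8c216a402) (nat_lit 1539))
) (.node (nat_lit 0x915d09502) (.leaf (nat_lit 0x8c21fc482) (nat_lit 1280))
 (.node (nat_lit 0x917d5b582) (.leaf (nat_lit 0x915d09502) (nat_lit 1536))
 (.leaf (nat_lit 0x917d5b582) (nat_lit 1282))
))))) (.node (nat_lit 0x9c7aee61e) (.node (nat_lit 0x98aeee14e) (.node (nat_lit 0x945d02108) (.node (nat_lit 0x91dd0975a) (.leaf (nat_lit 0x91aad76dc) (nat_lit 1792))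
 (.leaf (nat_lit 0x91dd0975a) (nat_lit 1282))
) (.node (nat_lit 0x945e8610c) (.leaf (nat_lit 0x945d02108) (nat_lit 1538))
 (.leaf (nat_lit 0x945e8610c) (nat_lit 1536))
)) (.node (nat_lit 0x995dbd582) (.node (nat_lit 0x98fdee14a) (.leaf (nat_lit 0x98aeee14e) (nat_lit 1280))
 (.leaf (nat_lit 0x98fdee14a) (nat_lit 1538))
) (.node (nat_lit 0x997def502) (.leaf (nat_lit 0x995dbd582) (nat_lit 1538))
 (.leaf (nat_lit 0x997def502) (nat_lit 1794))
))) (.node (nat_lit 0xa173d76b4) (.node (nat_lit 0xa0a44a16a) (.node (nat_lit 0x9c7df4798) (.leaf (nat_lit 0x9c7aee61e) (nat_lit 1792))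
 (.leaf (nat_lit 0x9c7df4798) (nat_lit 1026))
) (.node (nat_lit 0xa0f5ce16a) (.leaf (nat_lit 0xa0a44a16a) (nat_lit 1024))
 (.leaf (nat_lit 0xa0f5ce16a) (nat_lit 1794))
)) (.node (nat_lit 0xa4810846a) (.node (nat_lit 0xa1a45b5ea) (.leaf (nat_lit 0xa173d76b4) (nat_lit 1281))
 (.leaf (nat_lit 0xa1a45b5ea) (nat_lit 1794))
) (.node (nat_lit 0xa48308676) (.leaf (nat_lit 0xa4810846a) (nat_lit 1282))
 (.node (nat_lit 0xb0aece16e) (.leaf (nat_lit 0xa48308676) (nat_lit 1280))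
 (.leaf (nat_lit 0xb0aece16e) (nat_lit 1536))
))))))) (.node (nat_lit 0x1020418792) (.node (nat_lit 0xe0a45abfa) (.node (nat_lit 0xc1d709d4e) (.node (nat_lit 0xb4df127f4) (.node (nat_lit 0xb1df0956e) (.node (nat_lit 0xb15f09736) (.leaf (nat_lit 0xb0ff4a16e) (nat_lit 1794))
 (.leaf (nat_lit 0xb15f09736) (nat_lit 1538))
) (.node (nat_lit 0xb4da9e4ee) (.leaf (nat_lit 0xb1df0956e) (nat_lit 1538))
 (.leaf (nat_lit 0xb4da9e4ee) (nat_lit 1792))
)) (.node (nat_lit 0xc15509d02) (.node (nat_lit 0xc0f3d6adc) (.leaf (nat_lit 0xb4df127f4) (nat_lit 1282))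
 (.leaf (nat_lit 0xc0f3d6adc) (nat_lit 1794))
) (.node (nat_lit 0xc175cfd02) (.leaf (nat_lit 0xc15509d02) (nat_lit 1793))
 (.leaf (nat_lit 0xc175cfd02) (nat_lit 1538))
))) (.node (nat_lit 0xc955bdd82) (.node (nat_lit 0xc50413b98) (.node (nat_lit 0xc50403d08) (.leaf (nat_lit 0xc1d709d4e) (nat_lit 1538))
 (.leaf (nat_lit 0xc50403d08) (nat_lit 2050))
) (.node (nat_lit 0xc8a47abda) (.leaf (nat_lit 0xc50413b98) (nat_lit 1792))
 (.leaf (nat_lit 0xc8a47abda) (nat_lit 1792))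
)) (.node (nat_lit 0xc9a47bdca) (.node (nat_lit 0xc9757bd82) (.leaf (nat_lit 0xc955bdd82) (nat_lit 1792))
 (.leaf (nat_lit 0xc9757bd82) (nat_lit 1537))
) (.node (nat_lit 0xcd237ba9e) (.leaf (nat_lit 0xc9a47bdca) (nat_lit 2050))
 (.node (nat_lit 0xcd27f5d8c) (.leaf (nat_lit 0xcd237ba9e) (nat_lit 1794))
 (.leaf (nat_lit 0xcd27f5d8c) (nat_lit 1538))
))))) (.node (nat_lit 0xf9aaf7efc) (.node (nat_lit 0xe5819fafa) (.node (nat_lit 0xe1a44bf7a) (.node (nat_lit 0xe15709f36) (.leaf (nat_lit 0xe0a45abfa) (nat_lit 1792))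
 (.leaf (nat_lit 0xe15709f36) (nat_lit 1536))
) (.node (nat_lit 0xe1d509f7a) (.leaf (nat_lit 0xe1a44bf7a) (nat_lit 2048))
 (.leaf (nat_lit 0xe1d509f7a) (nat_lit 1281))
)) (.node (nat_lit 0xf8fbf6afc) (.node (nat_lit 0xe58787f74) (.leaf (nat_lit 0xe5819fafa) (nat_lit 1538))
 (.leaf (nat_lit 0xe58787f74) (nat_lit 1538))
) (.node (nat_lit 0xf97bf7eb4) (.leaf (nat_lit 0xf8fbf6afc) (nat_lit 1794))
 (.leaf (nat_lit 0xf97bf7eb4) (nat_lit 1025))
))) (.node (nat_lit 0x1020086610) (.node (nat_lit 0xfdfbfdef6) (.node (nat_lit 0xf9dbb5efc) (.leaf (nat_lit 0xf9aaf7efc) (nat_lit 2048))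
 (.leaf (nat_lit 0xf9dbb5efc) (nat_lit 1281))
) (.node (nat_lit 0xfdfef7bfc) (.leaf (nat_lit 0xfdfbfdef6) (nat_lit 1024))
 (.leaf (nat_lit 0xfdfef7bfc) (nat_lit 1536))
)) (.node (nat_lit 0x1020184218) (.node (nat_lit 0x1020102408) (.leaf (nat_lit 0x1020086610) (nat_lit 1538))
 (.leaf (nat_lit 0x1020102408) (nat_lit 1792))
) (.node (nat_lit 0x102021048c) (.leaf (nat_lit 0x1020184218) (nat_lit 1794))
 (.node (nat_lit 0x1020312084) (.leaf (nat_lit 0x102021048c) (nat_lit 1282))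
 (.leaf (nat_lit 0x1020312084) (nat_lit 1538))
)))))) (.node (nat_lit 0x102d50814a) (.node (nat_lit 0x102558c102) (.node (nat_lit 0x102244a102) (.node (nat_lit 0x102060831e) (.node (nat_lit 0x102049e182) (.leaf (nat_lit 0x1020418792) (nat_lit 1538))
 (.leaf (nat_lit 0x102049e182) (nat_lit 770))
) (.node (nat_lit 0x102078c106) (.leaf (nat_lit 0x102060831e) (nat_lit 1027))
 (.leaf (nat_lit 0x102078c106) (nat_lit 1794))
)) (.node (nat_lit 0x10224ce102) (.node (nat_lit 0x102245a182) (.leaf (nat_lit 0x102244a102) (nat_lit 257))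
 (.leaf (nat_lit 0x102245a182) (nat_lit 1026))
) (.node (nat_lit 0x1025508102) (.leaf (nat_lit 0x10224ce102) (nat_lit 769))
 (.leaf (nat_lit 0x1025508102) (nat_lit 2050))
))) (.node (nat_lit 0x10275ce102) (.node (nat_lit 0x10273d6084) (.node (nat_lit 0x1025708106) (.leaf (nat_lit 0x102558c102) (nat_lit 2051))
 (.leaf (nat_lit 0x1025708106) (nat_lit 1792))
) (.node (nat_lit 0x102754a102) (.leaf (nat_lit 0x10273d6084) (nat_lit 1794))
 (.leaf (nat_lit 0x102754a102) (nat_lit 1794))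
)) (.node (nat_lit 0x102840835a) (.node (nat_lit 0x102840814a) (.leaf (nat_lit 0x10275ce102) (nat_lit 2051))
 (.leaf (nat_lit 0x102840814a) (nat_lit 513))
) (.node (nat_lit 0x102860814e) (.leaf (nat_lit 0x102840835a) (nat_lit 1283))
 (.node (nat_lit 0x102d38425c) (.leaf (nat_lit 0x102860814e) (nat_lit 1027))
 (.leaf (nat_lit 0x102d38425c) (nat_lit 1538))
))))) (.node (nat_lit 0x10382116dc) (.node (nat_lit 0x1030419582) (.node (nat_lit 0x1030409502) (.node (nat_lit 0x102d70814e) (.leaf (nat_lit 0x102d50814a) (nat_lit 1794))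
 (.leaf (nat_lit 0x102d70814e) (nat_lit 2050))
) (.node (nat_lit 0x1030409712) (.leaf (nat_lit 0x1030409502) (nat_lit 1792))
 (.leaf (nat_lit 0x1030409712) (nat_lit 1538))
)) (.node (nat_lit 0x103244b502) (.node (nat_lit 0x10320d7690) (.leaf (nat_lit 0x1030419582) (nat_lit 1794))
 (.leaf (nat_lit 0x10320d7690) (nat_lit 1539))
) (.node (nat_lit 0x103245b582) (.leaf (nat_lit 0x103244b502) (nat_lit 1794))
 (.leaf (nat_lit 0x103245b582) (nat_lit 1538))
))) (.node (nat_lit 0x103f5cf75a) (.node (nat_lit 0x103840975a) (.node (nat_lit 0x103840954a) (.leaf (nat_lit 0x10382116dc) (nat_lit 1538))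
 (.leaf (nat_lit 0x103840954a) (nat_lit 1538))
) (.node (nat_lit 0x103f3d76dc) (.leaf (nat_lit 0x103840975a) (nat_lit 1538))
 (.leaf (nat_lit 0x103f3d76dc) (nat_lit 1792))
)) (.node (nat_lit 0x1060108402) (.node (nat_lit 0x103f75b5ce) (.leaf (nat_lit 0x103f5cf75a) (nat_lit 1793))
 (.leaf (nat_lit 0x103f75b5ce) (nat_lit 1794))
) (.node (nat_lit 0x106019e482) (.leaf (nat_lit 0x1060108402) (nat_lit 2051))
 (.node (nat_lit 0x106030861e) (.leaf (nat_lit 0x106019e482) (nat_lit 1283))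
 (.leaf (nat_lit 0x106030861e) (nat_lit 768))
)))))))) (.node (nat_lit 0x1638409d6a) (.node (nat_lit 0x11a0bb6084) (.node (nat_lit 0x10727d558c) (.node (nat_lit 0x10675d4798) (.node (nat_lit 0x10621dc482) (.node (nat_lit 0x106078610c) (.node (nat_lit 0x1060412798) (.leaf (nat_lit 0x1060402108) (nat_lit 1537))
 (.leaf (nat_lit 0x1060412798) (nat_lit 2050))
) (.node (nat_lit 0x106214a402) (.leaf (nat_lit 0x106078610c) (nat_lit 1792))
 (.leaf (nat_lit 0x106214a402) (nat_lit 1539))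
)) (.node (nat_lit 0x106568610c) (.node (nat_lit 0x1065502108) (.leaf (nat_lit 0x10621dc482) (nat_lit 1539))
 (.leaf (nat_lit 0x1065502108) (nat_lit 1792))
) (.node (nat_lit 0x10672ce61e) (.leaf (nat_lit 0x106568610c) (nat_lit 1537))
 (.leaf (nat_lit 0x10672ce61e) (nat_lit 2050))
))) (.node (nat_lit 0x106d7127d4) (.node (nat_lit 0x1068308656) (.node (nat_lit 0x106810844a) (.leaf (nat_lit 0x10675d4798) (nat_lit 1280))
 (.leaf (nat_lit 0x106810844a) (nat_lit 1280))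
) (.node (nat_lit 0x106d29e4ce) (.leaf (nat_lit 0x1068308656) (nat_lit 1537))
 (.leaf (nat_lit 0x106d29e4ce) (nat_lit 1794))
)) (.node (nat_lit 0x1070413398) (.node (nat_lit 0x1070403508) (.leaf (nat_lit 0x106d7127d4) (nat_lit 1283))
 (.leaf (nat_lit 0x1070403508) (nat_lit 1792))
) (.node (nat_lit 0x107235b29e) (.leaf (nat_lit 0x1070413398) (nat_lit 1794))
 (.leaf (nat_lit 0x107235b29e) (nat_lit 1795))
)))) (.node (nat_lit 0x10a246a102) (.node (nat_lit 0x107f6d73dc) (.node (nat_lit 0x1078787754) (.node (nat_lit 0x107819f2da) (.leaf (nat_lit 0x10727d558c) (nat_lit 1536))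
 (.leaf (nat_lit 0x107819f2da) (nat_lit 1536))
) (.node (nat_lit 0x107f3dd6d6) (.leaf (nat_lit 0x1078787754) (nat_lit 1795))
 (.leaf (nat_lit 0x107f3dd6d6) (nat_lit 1283))
)) (.node (nat_lit 0x10a043a182) (.node (nat_lit 0x10a042a102) (.leaf (nat_lit 0x107f6d73dc) (nat_lit 1538))
 (.leaf (nat_lit 0x10a042a102) (nat_lit 0))
) (.node (nat_lit 0x10a04ae102) (.leaf (nat_lit 0x10a043a182) (nat_lit 1026))
 (.leaf (nat_lit 0x10a04ae102) (nat_lit 514))
))) (.node (nat_lit 0x1120d8c102) (.node (nat_lit 0x10a24ee102) (.node (nat_lit 0x10a247a182) (.leaf (nat_lit 0x10a246a102) (nat_lit 513))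
 (.leaf (nat_lit 0x10a247a182) (nat_lit 1026))
) (.node (nat_lit 0x1120d08102) (.leaf (nat_lit 0x10a24ee102) (nat_lit 770))
 (.leaf (nat_lit 0x1120d08102) (nat_lit 2050))
)) (.node (nat_lit 0x1125d08102) (.node (nat_lit 0x1120f08106) (.leaf (nat_lit 0x1120d8c102) (nat_lit 2051))
 (.leaf (nat_lit 0x1120f08106) (nat_lit 1794))
) (.node (nat_lit 0x1125d8c102) (.leaf (nat_lit 0x1125d08102) (nat_lit 2306))
 (.node (nat_lit 0x1125f08106) (.leaf (nat_lit 0x1125d8c102) (nat_lit 2050))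
 (.leaf (nat_lit 0x1125f08106) (nat_lit 1794))
)))))) (.node (nat_lit 0x132df0816e) (.node (nat_lit 0x122060812e) (.node (nat_lit 0x11a7d6a102) (.node (nat_lit 0x11a0dae102) (.node (nat_lit 0x11a0d2a102) (.leaf (nat_lit 0x11a0bb6084) (nat_lit 1794))
 (.leaf (nat_lit 0x11a0d2a102) (nat_lit 1794))
) (.node (nat_lit 0x11a7bf6084) (.leaf (nat_lit 0x11a0dae102) (nat_lit 2050))
 (.leaf (nat_lit 0x11a7bf6084) (nat_lit 1794))
)) (.node (nat_lit 0x122040812a) (.node (nat_lit 0x11a7dee102) (.leaf (nat_lit 0x11a7d6a102) (nat_lit 2050))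
 (.leaf (nat_lit 0x11a7dee102) (nat_lit 2050))
) (.node (nat_lit 0x122040833a) (.leaf (nat_lit 0x122040812a) (nat_lit 259))
 (.leaf (nat_lit 0x122040833a) (nat_lit 1026))
))) (.node (nat_lit 0x1320b8423c) (.node (nat_lit 0x122840837a) (.node (nat_lit 0x122840816a) (.leaf (nat_lit 0x122060812e) (nat_lit 771))
 (.leaf (nat_lit 0x122840816a) (nat_lit 515))
) (.node (nat_lit 0x122860816e) (.leaf (nat_lit 0x122840837a) (nat_lit 1282))
 (.leaf (nat_lit 0x122860816e) (nat_lit 770))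
)) (.node (nat_lit 0x1320f0812e) (.node (nat_lit 0x1320d0812a) (.leaf (nat_lit 0x1320b8423c) (nat_lit 1538))
 (.leaf (nat_lit 0x1320d0812a) (nat_lit 1794))
) (.node (nat_lit 0x132db8427c) (.leaf (nat_lit 0x1320f0812e) (nat_lit 1794))
 (.node (nat_lit 0x132dd0816a) (.leaf (nat_lit 0x132db8427c) (nat_lit 1794))
 (.leaf (nat_lit 0x132dd0816a) (nat_lit 2050))
))))) (.node (nat_lit 0x14a042ad02) (.node (nat_lit 0x1430409d02) (.node (nat_lit 0x1420408f12) (.node (nat_lit 0x1420408d02) (.leaf (nat_lit 0x132df0816e) (nat_lit 1794))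
 (.leaf (nat_lit 0x1420408d02) (nat_lit 1794))
) (.node (nat_lit 0x1420418d82) (.leaf (nat_lit 0x1420408f12) (nat_lit 1794))
 (.leaf (nat_lit 0x1420418d82) (nat_lit 1794))
)) (.node (nat_lit 0x1430419d82) (.node (nat_lit 0x1430409f12) (.leaf (nat_lit 0x1430409d02) (nat_lit 2050))
 (.leaf (nat_lit 0x1430409f12) (nat_lit 1536))
) (.node (nat_lit 0x14a00b6e90) (.leaf (nat_lit 0x1430419d82) (nat_lit 1795))
 (.leaf (nat_lit 0x14a00b6e90) (nat_lit 1282))
))) (.node (nat_lit 0x14b247bd82) (.node (nat_lit 0x14b20f7e90) (.node (nat_lit 0x14a043ad82) (.leaf (nat_lit 0x14a042ad02) (nat_lit 1538))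
 (.leaf (nat_lit 0x14a043ad82) (nat_lit 2050))
) (.node (nat_lit 0x14b246bd02) (.leaf (nat_lit 0x14b20f7e90) (nat_lit 1538))
 (.leaf (nat_lit 0x14b246bd02) (nat_lit 1794))
)) (.node (nat_lit 0x1620408d2a) (.node (nat_lit 0x1620210ebc) (.leaf (nat_lit 0x14b247bd82) (nat_lit 1794))
 (.leaf (nat_lit 0x1620210ebc) (nat_lit 1538))
) (.node (nat_lit 0x1620408f3a) (.leaf (nat_lit 0x1620408d2a) (nat_lit 1538))
 (.node (nat_lit 0x1638211efc) (.leaf (nat_lit 0x1620408f3a) (nat_lit 1794))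
 (.leaf (nat_lit 0x1638211efc) (nat_lit 1282))
))))))) (.node (nat_lit 0x1a6244a12a) (.node (nat_lit 0x18ed72a14e) (.node (nat_lit 0x1820108402) (.node (nat_lit 0x17a0f3adae) (.node (nat_lit 0x17a0bb6ebc) (.node (nat_lit 0x1638409f7a) (.leaf (nat_lit 0x1638409d6a) (nat_lit 1538))
 (.leaf (nat_lit 0x1638409f7a) (nat_lit 1794))
) (.node (nat_lit 0x17a0daef3a) (.leaf (nat_lit 0x17a0bb6ebc) (nat_lit 1793))
 (.leaf (nat_lit 0x17a0daef3a) (nat_lit 1536))
)) (.node (nat_lit 0x17bfdeff7a) (.node (nat_lit 0x17bfbf7efc) (.leaf (nat_lit 0x17a0f3adae) (nat_lit 1792))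
 (.leaf (nat_lit 0x17bfbf7efc) (nat_lit 1536))
) (.node (nat_lit 0x17bff7bdee) (.leaf (nat_lit 0x17bfdeff7a) (nat_lit 1792))
 (.leaf (nat_lit 0x17bff7bdee) (nat_lit 2048))
))) (.node (nat_lit 0x1820412798) (.node (nat_lit 0x182030861e) (.node (nat_lit 0x182019e482) (.leaf (nat_lit 0x1820108402) (nat_lit 1794))
 (.leaf (nat_lit 0x182019e482) (nat_lit 1281))
) (.node (nat_lit 0x1820402108) (.leaf (nat_lit 0x182030861e) (nat_lit 1281))
 (.leaf (nat_lit 0x1820402108) (nat_lit 1280))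
)) (.node (nat_lit 0x18a012a402) (.node (nat_lit 0x182078610c) (.leaf (nat_lit 0x1820412798) (nat_lit 2048))
 (.leaf (nat_lit 0x182078610c) (nat_lit 2050))
) (.node (nat_lit 0x18a01bc482) (.leaf (nat_lit 0x18a012a402) (nat_lit 1538))
 (.node (nat_lit 0x18e842a14a) (.leaf (nat_lit 0x18a01bc482) (nat_lit 1539))
 (.leaf (nat_lit 0x18e842a14a) (nat_lit 1537))
))))) (.node (nat_lit 0x197fad76dc) (.node (nat_lit 0x1920e8610c) (.node (nat_lit 0x18ff3f56dc) (.node (nat_lit 0x18f842b75a) (.leaf (nat_lit 0x18ed72a14e) (nat_lit 1795))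
 (.leaf (nat_lit 0x18f842b75a) (nat_lit 2050))
) (.node (nat_lit 0x1920d02108) (.leaf (nat_lit 0x18ff3f56dc) (nat_lit 1025))
 (.leaf (nat_lit 0x1920d02108) (nat_lit 1794))
)) (.node (nat_lit 0x1972d5b582) (.node (nat_lit 0x1970d09502) (.leaf (nat_lit 0x1920e8610c) (nat_lit 1280))
 (.leaf (nat_lit 0x1970d09502) (nat_lit 1536))
) (.node (nat_lit 0x1978d0975a) (.leaf (nat_lit 0x1972d5b582) (nat_lit 1283))
 (.leaf (nat_lit 0x1978d0975a) (nat_lit 1026))
))) (.node (nat_lit 0x19edeae14e) (.node (nat_lit 0x19a0db4798) (.node (nat_lit 0x19a0aae61e) (.leaf (nat_lit 0x197fad76dc) (nat_lit 2048))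
 (.leaf (nat_lit 0x19a0aae61e) (nat_lit 2048))
) (.node (nat_lit 0x19e8dae14a) (.leaf (nat_lit 0x19a0db4798) (nat_lit 1026))
 (.leaf (nat_lit 0x19e8dae14a) (nat_lit 1794))
)) (.node (nat_lit 0x19f2dfd582) (.node (nat_lit 0x19f0daf502) (.leaf (nat_lit 0x19edeae14e) (nat_lit 1280))
 (.leaf (nat_lit 0x19f0daf502) (nat_lit 1795))
) (.node (nat_lit 0x1a2010842a) (.leaf (nat_lit 0x19f2dfd582) (nat_lit 1794))
 (.node (nat_lit 0x1a20308636) (.leaf (nat_lit 0x1a2010842a) (nat_lit 1282))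
 (.leaf (nat_lit 0x1a20308636) (nat_lit 1280))
)))))) (.node (nat_lit 0x1ca07b4d8c) (.node (nat_lit 0x1b70f0952e) (.node (nat_lit 0x1b20a9e4ae) (.node (nat_lit 0x1a7245b5aa) (.node (nat_lit 0x1a675ce12a) (.leaf (nat_lit 0x1a6244a12a) (nat_lit 1536))
 (.leaf (nat_lit 0x1a675ce12a) (nat_lit 1794))
) (.node (nat_lit 0x1a7f3d76f4) (.leaf (nat_lit 0x1a7245b5aa) (nat_lit 1794))
 (.leaf (nat_lit 0x1a7f3d76f4) (nat_lit 771))
)) (.node (nat_lit 0x1b62f4a12e) (.node (nat_lit 0x1b20f127b4) (.leaf (nat_lit 0x1b20a9e4ae) (nat_lit 1792))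
 (.leaf (nat_lit 0x1b20f127b4) (nat_lit 1282))
) (.node (nat_lit 0x1b67ece12e) (.leaf (nat_lit 0x1b62f4a12e) (nat_lit 1794))
 (.leaf (nat_lit 0x1b67ece12e) (nat_lit 1537))
))) (.node (nat_lit 0x1c65508d02) (.node (nat_lit 0x1c20402d08) (.node (nat_lit 0x1b78f09776) (.leaf (nat_lit 0x1b70f0952e) (nat_lit 1538))
 (.leaf (nat_lit 0x1b78f09776) (nat_lit 1792))
) (.node (nat_lit 0x1c20412b98) (.leaf (nat_lit 0x1c20402d08) (nat_lit 1794))
 (.leaf (nat_lit 0x1c20412b98) (nat_lit 1536))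
)) (.node (nat_lit 0x1c6d708d4e) (.node (nat_lit 0x1c675ced02) (.leaf (nat_lit 0x1c65508d02) (nat_lit 1792))
 (.leaf (nat_lit 0x1c675ced02) (nat_lit 1539))
) (.node (nat_lit 0x1c7f3d7adc) (.leaf (nat_lit 0x1c6d708d4e) (nat_lit 1282))
 (.node (nat_lit 0x1ca033aa9e) (.leaf (nat_lit 0x1c7f3d7adc) (nat_lit 1794))
 (.leaf (nat_lit 0x1ca033aa9e) (nat_lit 1795))
))))) (.node (nat_lit 0x1e65508f3a) (.node (nat_lit 0x1cf843bbda) (.node (nat_lit 0x1ce75fcd82) (.node (nat_lit 0x1ce553ad82) (.leaf (nat_lit 0x1ca07b4d8c) (nat_lit 1282))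
 (.leaf (nat_lit 0x1ce553ad82) (nat_lit 1283))
) (.node (nat_lit 0x1ce843adca) (.leaf (nat_lit 0x1ce75fcd82) (nat_lit 1536))
 (.leaf (nat_lit 0x1ce843adca) (nat_lit 1794))
)) (.node (nat_lit 0x1e20786f34) (.node (nat_lit 0x1e2019eaba) (.leaf (nat_lit 0x1cf843bbda) (nat_lit 1536))
 (.leaf (nat_lit 0x1e2019eaba) (nat_lit 1538))
) (.node (nat_lit 0x1e6244af3a) (.leaf (nat_lit 0x1e20786f34) (nat_lit 1539))
 (.leaf (nat_lit 0x1e6244af3a) (nat_lit 2051))
))) (.node (nat_lit 0x1fa0eb6bbc) (.node (nat_lit 0x1e7245bbba) (.node (nat_lit 0x1e6d708f76) (.leaf (nat_lit 0x1e65508f3a) (nat_lit 1281))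
 (.leaf (nat_lit 0x1e6d708f76) (nat_lit 1536))
) (.node (nat_lit 0x1fa0bbceb6) (.leaf (nat_lit 0x1e7245bbba) (nat_lit 1792))
 (.leaf (nat_lit 0x1fa0bbceb6) (nat_lit 1281))
)) (.node (nat_lit 0x1fe5ab6ebc) (.node (nat_lit 0x1fe2bf4ebc) (.leaf (nat_lit 0x1fa0eb6bbc) (nat_lit 1536))
 (.leaf (nat_lit 0x1fe2bf4ebc) (nat_lit 769))
) (.node (nat_lit 0x1fe8bb6ef4) (.leaf (nat_lit 0x1fe5ab6ebc) (nat_lit 2048))
 (.node (nat_lit 0x1ff0bb7abc) (.leaf (nat_lit 0x1fe8bb6ef4) (nat_lit 1027))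
 (.leaf (nat_lit 0x1ff0bb7abc) (nat_lit 1794))
)))))))))

theorem K2_ok : orbOK A2 [(nat_lit 0x10224dc182), (nat_lit 0x860408102), (nat_lit 0x850d08402), (nat_lit 0x1820402108)] (nat_lit 0x10a042a102) K2_t (nat_lit 270) = true := by decide +kernel

end Cfsg.Agent.S38
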