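import Mathlib
import Cfsg.Agent.SF6.Ar

/-! Generated by tools/rec: larger subgroups of 2 x W(E6) -/

set_option autoImplicit false
set_option maxRecDepth 100000
set_option linter.unusedVariables false
set_option exponentiation.threshold 100000

namespace Cfsg.Agent.S38

open Cfsg.Agent.Spor Cfsg.Agent.Rec

universe u

open Cfsg.Agent.SF6

noncomputable def NB_t : ST :=
(.node (nat_lit 0x1114d09d02) (.node (nat_lit 0x99551fd02) (.node (nat_lit 0x860108402) (.node (nat_lit 0x5b352fd02) (.node (nat_lit 0x553d1ed02) (.node (nat_lit 0x533dbd582) (.node (nat_lit 0x527dcb502) (.node (nat_lit 0x525ddd502) (.node (nat_lit 0x5255fdd02) (.node (nat_lit 0x52555dd82) (.leaf (nat_lit 0x525509d02) (nat_lit 771))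
 (.node (nat_lit 0x5255abd82) (.leaf (nat_lit 0x52555dd82) (nat_lit 1027))
 (.leaf (nat_lit 0x5255abd82) (nat_lit 1537))
)) (.node (nat_lit 0x525d7d582) (.node (nat_lit 0x525d09502) (.leaf (nat_lit 0x5255fdd02) (nat_lit 1539))
 (.leaf (nat_lit 0x525d09502) (nat_lit 1027))
) (.node (nat_lit 0x525dab582) (.leaf (nat_lit 0x525d7d582) (nat_lit 1283))
 (.leaf (nat_lit 0x525dab582) (nat_lit 1539))
))) (.node (nat_lit 0x5275ebd02) (.node (nat_lit 0x52754bd82) (.node (nat_lit 0x52751fd02) (.leaf (nat_lit 0x525ddd502) (nat_lit 1283))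
 (.leaf (nat_lit 0x52751fd02) (nat_lit 1283))
) (.node (nat_lit 0x5275bdd82) (.leaf (nat_lit 0x52754bd82) (nat_lit 1539))
 (.leaf (nat_lit 0x5275bdd82) (nat_lit 1025))
)) (.node (nat_lit 0x527d6b582) (.node (nat_lit 0x527d1f502) (.leaf (nat_lit 0x5275ebd02) (nat_lit 1281))
 (.leaf (nat_lit 0x527d1f502) (nat_lit 1539))
) (.node (nat_lit 0x527dbd582) (.leaf (nat_lit 0x527d6b582) (nat_lit 1537))
 (.leaf (nat_lit 0x527dbd582) (nat_lit 1281))
)))) (.node (nat_lit 0x531dab582) (.node (nat_lit 0x5315abd82) (.node (nat_lit 0x531509d02) (.leaf (nat_lit 0x527dcb502) (nat_lit 1537))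
 (.node (nat_lit 0x53155dd82) (.leaf (nat_lit 0x531509d02) (nat_lit 1027))
 (.leaf (nat_lit 0x53155dd82) (nat_lit 1283))
)) (.node (nat_lit 0x531d09502) (.node (nat_lit 0x5315fdd02) (.leaf (nat_lit 0x5315abd82) (nat_lit 1793))
 (.leaf (nat_lit 0x5315fdd02) (nat_lit 1795))
) (.node (nat_lit 0x531d7d582) (.leaf (nat_lit 0x531d09502) (nat_lit 1283))
 (.leaf (nat_lit 0x531d7d582) (nat_lit 1539))
))) (.node (nat_lit 0x5335bdd82) (.node (nat_lit 0x53351fd02) (.node (nat_lit 0x531ddd502) (.leaf (nat_lit 0x531dab582) (nat_lit 1795))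
 (.leaf (nat_lit 0x531ddd502) (nat_lit 1539))
) (.node (nat_lit 0x53354bd82) (.leaf (nat_lit 0x53351fd02) (nat_lit 1539))
 (.leaf (nat_lit 0x53354bd82) (nat_lit 1795))
)) (.node (nat_lit 0x533d1f502) (.node (nat_lit 0x5335ebd02) (.leaf (nat_lit 0x5335bdd82) (nat_lit 1281))
 (.leaf (nat_lit 0x5335ebd02) (nat_lit 1537))
) (.node (nat_lit 0x533d6b582) (.leaf (nat_lit 0x533d1f502) (nat_lit 1795))
 (.leaf (nat_lit 0x533d6b582) (nat_lit 1793))
))))) (.node (nat_lit 0x547d6ad82) (.node (nat_lit 0x545d7cd82) (.node (nat_lit 0x544d3dd82) (.node (nat_lit 0x533dcb502) (.leaf (nat_lit 0x533dbd582) (nat_lit 1537))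
 (.node (nat_lit 0x544d09d02) (.leaf (nat_lit 0x533dcb502) (nat_lit 1793))
 (.leaf (nat_lit 0x544d09d02) (nat_lit 1283))
)) (.node (nat_lit 0x544dfdd02) (.node (nat_lit 0x544dcbd82) (.leaf (nat_lit 0x544d3dd82) (nat_lit 1539))
 (.leaf (nat_lit 0x544dcbd82) (nat_lit 1795))
) (.node (nat_lit 0x545d08d02) (.leaf (nat_lit 0x544dfdd02) (nat_lit 1539))
 (.leaf (nat_lit 0x545d08d02) (nat_lit 770))
))) (.node (nat_lit 0x546d2bd82) (.node (nat_lit 0x545dcad82) (.node (nat_lit 0x545dbcd02) (.leaf (nat_lit 0x545d7cd82) (nat_lit 1538))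
 (.leaf (nat_lit 0x545dbcd02) (nat_lit 1539))
) (.node (nat_lit 0x546d1fd02) (.leaf (nat_lit 0x545dcad82) (nat_lit 1538))
 (.leaf (nat_lit 0x546d1fd02) (nat_lit 1795))
)) (.node (nat_lit 0x546debd02) (.node (nat_lit 0x546dddd82) (.leaf (nat_lit 0x546d2bd82) (nat_lit 1793))
 (.leaf (nat_lit 0x546dddd82) (nat_lit 1537))
) (.node (nat_lit 0x547d1ed02) (.leaf (nat_lit 0x546debd02) (nat_lit 1793))
 (.leaf (nat_lit 0x547d1ed02) (nat_lit 1282))
)))) (.node (nat_lit 0x551d08d02) (.node (nat_lit 0x550d09d02) (.node (nat_lit 0x547daad02) (.leaf (nat_lit 0x547d6ad82) (nat_lit 1795))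
 (.node (nat_lit 0x547ddcd82) (.leaf (nat_lit 0x547daad02) (nat_lit 1794))
 (.leaf (nat_lit 0x547ddcd82) (nat_lit 1026))
)) (.node (nat_lit 0x550dcbd82) (.node (nat_lit 0x550d3dd82) (.leaf (nat_lit 0x550d09d02) (nat_lit 1539))
 (.leaf (nat_lit 0x550d3dd82) (nat_lit 1795))
) (.node (nat_lit 0x550dfdd02) (.leaf (nat_lit 0x550dcbd82) (nat_lit 2051))
 (.leaf (nat_lit 0x550dfdd02) (nat_lit 1795))
))) (.node (nat_lit 0x552d1fd02) (.node (nat_lit 0x551dbcd02) (.node (nat_lit 0x551d7cd82) (.leaf (nat_lit 0x551d08d02) (nat_lit 1026))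
 (.leaf (nat_lit 0x551d7cd82) (nat_lit 1794))
) (.node (nat_lit 0x551dcad82) (.leaf (nat_lit 0x551dbcd02) (nat_lit 1795))
 (.leaf (nat_lit 0x551dcad82) (nat_lit 1794))
)) (.node (nat_lit 0x552dddd82) (.node (nat_lit 0x552d2bd82) (.leaf (nat_lit 0x552d1fd02) (nat_lit 2051))
 (.leaf (nat_lit 0x552d2bd82) (nat_lit 2049))
) (.node (nat_lit 0x552debd02) (.leaf (nat_lit 0x552dddd82) (nat_lit 1793))
 (.leaf (nat_lit 0x552debd02) (nat_lit 2049))
)))))) (.node (nat_lit 0x572dcb502) (.node (nat_lit 0x566dfd582) (.node (nat_lit 0x564deb582) (.node (nat_lit 0x553ddcd82) (.node (nat_lit 0x553d6ad82) (.leaf (nat_lit 0x553d1ed02) (nat_lit 1538))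
 (.node (nat_lit 0x553daad02) (.leaf (nat_lit 0x553d6ad82) (nat_lit 2051))
 (.leaf (nat_lit 0x553daad02) (nat_lit 2050))
)) (.node (nat_lit 0x564d3d582) (.node (nat_lit 0x564d09502) (.leaf (nat_lit 0x553ddcd82) (nat_lit 1282))
 (.leaf (nat_lit 0x564d09502) (nat_lit 1027))
) (.node (nat_lit 0x564ddd502) (.leaf (nat_lit 0x564d3d582) (nat_lit 1283))
 (.leaf (nat_lit 0x564ddd502) (nat_lit 1283))
))) (.node (nat_lit 0x5655ead82) (.node (nat_lit 0x56555cd82) (.node (nat_lit 0x565508d02) (.leaf (nat_lit 0x564deb582) (nat_lit 1539))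
 (.leaf (nat_lit 0x565508d02) (nat_lit 1026))
) (.node (nat_lit 0x5655bcd02) (.leaf (nat_lit 0x56555cd82) (nat_lit 1282))
 (.leaf (nat_lit 0x5655bcd02) (nat_lit 1539))
)) (.node (nat_lit 0x566d2b582) (.node (nat_lit 0x566d1f502) (.leaf (nat_lit 0x5655ead82) (nat_lit 1794))
 (.leaf (nat_lit 0x566d1f502) (nat_lit 1539))
) (.node (nat_lit 0x566dcb502) (.leaf (nat_lit 0x566d2b582) (nat_lit 1537))
 (.leaf (nat_lit 0x566dcb502) (nat_lit 1537))
)))) (.node (nat_lit 0x570ddd502) (.node (nat_lit 0x5675aad02) (.node (nat_lit 0x56751ed02) (.leaf (nat_lit 0x566dfd582) (nat_lit 1281))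
 (.node (nat_lit 0x56754ad82) (.leaf (nat_lit 0x56751ed02) (nat_lit 1538))
 (.leaf (nat_lit 0x56754ad82) (nat_lit 1794))
)) (.node (nat_lit 0x570d09502) (.node (nat_lit 0x5675fcd82) (.leaf (nat_lit 0x5675aad02) (nat_lit 1538))
 (.leaf (nat_lit 0x5675fcd82) (nat_lit 1282))
) (.node (nat_lit 0x570d3d582) (.leaf (nat_lit 0x570d09502) (nat_lit 1283))
 (.leaf (nat_lit 0x570d3d582) (nat_lit 1539))
))) (.node (nat_lit 0x5715bcd02) (.node (nat_lit 0x571508d02) (.node (nat_lit 0x570deb582) (.leaf (nat_lit 0x570ddd502) (nat_lit 1539))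
 (.leaf (nat_lit 0x570deb582) (nat_lit 1795))
) (.node (nat_lit 0x57155cd82) (.leaf (nat_lit 0x571508d02) (nat_lit 1282))
 (.leaf (nat_lit 0x57155cd82) (nat_lit 1538))
)) (.node (nat_lit 0x572d1f502) (.node (nat_lit 0x5715ead82) (.leaf (nat_lit 0x5715bcd02) (nat_lit 1795))
 (.leaf (nat_lit 0x5715ead82) (nat_lit 2050))
) (.node (nat_lit 0x572d2b582) (.leaf (nat_lit 0x572d1f502) (nat_lit 1795))
 (.leaf (nat_lit 0x572d2b582) (nat_lit 1793))
))))) (.node (nat_lit 0x5a756fd82) (.node (nat_lit 0x5a557bd82) (.node (nat_lit 0x57354ad82) (.node (nat_lit 0x572dfd582) (.leaf (nat_lit 0x572dcb502) (nat_lit 1793))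
 (.node (nat_lit 0x57351ed02) (.leaf (nat_lit 0x572dfd582) (nat_lit 1537))
 (.leaf (nat_lit 0x57351ed02) (nat_lit 1794))
)) (.node (nat_lit 0x5735fcd82) (.node (nat_lit 0x5735aad02) (.leaf (nat_lit 0x57354ad82) (nat_lit 2050))
 (.leaf (nat_lit 0x5735aad02) (nat_lit 1794))
) (.node (nat_lit 0x5a552fd02) (.leaf (nat_lit 0x5735fcd82) (nat_lit 1538))
 (.leaf (nat_lit 0x5a552fd02) (nat_lit 1281))
))) (.node (nat_lit 0x5a5d5b582) (.node (nat_lit 0x5a55dbd02) (.node (nat_lit 0x5a558dd82) (.leaf (nat_lit 0x5a557bd82) (nat_lit 1537))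
 (.leaf (nat_lit 0x5a558dd82) (nat_lit 1027))
) (.node (nat_lit 0x5a5d2f502) (.leaf (nat_lit 0x5a55dbd02) (nat_lit 1283))
 (.leaf (nat_lit 0x5a5d2f502) (nat_lit 1537))
)) (.node (nat_lit 0x5a5dfb502) (.node (nat_lit 0x5a5d8d582) (.leaf (nat_lit 0x5a5d5b582) (nat_lit 1539))
 (.leaf (nat_lit 0x5a5d8d582) (nat_lit 1283))
) (.node (nat_lit 0x5a753bd02) (.leaf (nat_lit 0x5a5dfb502) (nat_lit 1539))
 (.leaf (nat_lit 0x5a753bd02) (nat_lit 1281))
)))) (.node (nat_lit 0x5b153bd02) (.node (nat_lit 0x5a7d3b502) (.node (nat_lit 0x5a7599d82) (.leaf (nat_lit 0x5a756fd82) (nat_lit 1537))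
 (.node (nat_lit 0x5a75cfd02) (.leaf (nat_lit 0x5a7599d82) (nat_lit 1027))
 (.leaf (nat_lit 0x5a75cfd02) (nat_lit 1283))
)) (.node (nat_lit 0x5a7d99582) (.node (nat_lit 0x5a7d4f582) (.leaf (nat_lit 0x5a7d3b502) (nat_lit 1537))
 (.leaf (nat_lit 0x5a7d4f582) (nat_lit 1539))
) (.node (nat_lit 0x5a7def502) (.leaf (nat_lit 0x5a7d99582) (nat_lit 1283))
 (.leaf (nat_lit 0x5a7def502) (nat_lit 1539))
))) (.node (nat_lit 0x5b1d3b502) (.node (nat_lit 0x5b1599d82) (.node (nat_lit 0x5b156fd82) (.leaf (nat_lit 0x5b153bd02) (nat_lit 1537))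
 (.leaf (nat_lit 0x5b156fd82) (nat_lit 1793))
) (.node (nat_lit 0x5b15cfd02) (.leaf (nat_lit 0x5b1599d82) (nat_lit 1283))
 (.leaf (nat_lit 0x5b15cfd02) (nat_lit 1539))
)) (.node (nat_lit 0x5b1d99582) (.node (nat_lit 0x5b1d4f582) (.leaf (nat_lit 0x5b1d3b502) (nat_lit 1793))
 (.leaf (nat_lit 0x5b1d4f582) (nat_lit 1795))
) (.node (nat_lit 0x5b1def502) (.leaf (nat_lit 0x5b1d99582) (nat_lit 1539))
 (.leaf (nat_lit 0x5b1def502) (nat_lit 1795))
))))))) (.node (nat_lit 0x5f152ed82) (.node (nat_lit 0x5d1d98d82) (.node (nat_lit 0x5c5dfad02) (.node (nat_lit 0x5b3dfb502) (.node (nat_lit 0x5b35dbd02) (.node (nat_lit 0x5b357bd82) (.leaf (nat_lit 0x5b352fd02) (nat_lit 1537))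
 (.node (nat_lit 0x5b358dd82) (.leaf (nat_lit 0x5b357bd82) (nat_lit 1793))
 (.leaf (nat_lit 0x5b358dd82) (nat_lit 1283))
)) (.node (nat_lit 0x5b3d5b582) (.node (nat_lit 0x5b3d2f502) (.leaf (nat_lit 0x5b35dbd02) (nat_lit 1539))
 (.leaf (nat_lit 0x5b3d2f502) (nat_lit 1793))
) (.node (nat_lit 0x5b3d8d582) (.leaf (nat_lit 0x5b3d5b582) (nat_lit 1795))
 (.leaf (nat_lit 0x5b3d8d582) (nat_lit 1539))
))) (.node (nat_lit 0x5c4dbbd02) (.node (nat_lit 0x5c4d7bd82) (.node (nat_lit 0x5c4d4fd02) (.leaf (nat_lit 0x5b3dfb502) (nat_lit 1795))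
 (.leaf (nat_lit 0x5c4d4fd02) (nat_lit 1793))
) (.node (nat_lit 0x5c4d8dd82) (.leaf (nat_lit 0x5c4d7bd82) (nat_lit 1795))
 (.leaf (nat_lit 0x5c4d8dd82) (nat_lit 1539))
)) (.node (nat_lit 0x5c5d4ed02) (.node (nat_lit 0x5c5d3ad82) (.leaf (nat_lit 0x5c4dbbd02) (nat_lit 1795))
 (.leaf (nat_lit 0x5c5d3ad82) (nat_lit 1795))
) (.node (nat_lit 0x5c5d8cd82) (.leaf (nat_lit 0x5c5d4ed02) (nat_lit 1282))
 (.leaf (nat_lit 0x5c5d8cd82) (nat_lit 1026))
)))) (.node (nat_lit 0x5c7d98d82) (.node (nat_lit 0x5c6d99d82) (.node (nat_lit 0x5c6d5bd02) (.leaf (nat_lit 0x5c5dfad02) (nat_lit 1794))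
 (.node (nat_lit 0x5c6d6fd82) (.leaf (nat_lit 0x5c6d5bd02) (nat_lit 1793))
 (.leaf (nat_lit 0x5c6d6fd82) (nat_lit 1795))
)) (.node (nat_lit 0x5c7d2ed82) (.node (nat_lit 0x5c6dafd02) (.leaf (nat_lit 0x5c6d99d82) (nat_lit 1539))
 (.leaf (nat_lit 0x5c6dafd02) (nat_lit 1795))
) (.node (nat_lit 0x5c7d5ad02) (.leaf (nat_lit 0x5c7d2ed82) (nat_lit 1795))
 (.leaf (nat_lit 0x5c7d5ad02) (nat_lit 1282))
))) (.node (nat_lit 0x5d0d99d82) (.node (nat_lit 0x5d0d5bd02) (.node (nat_lit 0x5c7deed02) (.leaf (nat_lit 0x5c7d98d82) (nat_lit 1026))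
 (.leaf (nat_lit 0x5c7deed02) (nat_lit 1794))
) (.node (nat_lit 0x5d0d6fd82) (.leaf (nat_lit 0x5d0d5bd02) (nat_lit 2049))
 (.leaf (nat_lit 0x5d0d6fd82) (nat_lit 2051))
)) (.node (nat_lit 0x5d1d2ed82) (.node (nat_lit 0x5d0dafd02) (.leaf (nat_lit 0x5d0d99d82) (nat_lit 1795))
 (.leaf (nat_lit 0x5d0dafd02) (nat_lit 2051))
) (.node (nat_lit 0x5d1d5ad02) (.leaf (nat_lit 0x5d1d2ed82) (nat_lit 2051))
 (.leaf (nat_lit 0x5d1d5ad02) (nat_lit 1538))
))))) (.node (nat_lit 0x5e556ed02) (.node (nat_lit 0x5d3d4ed02) (.node (nat_lit 0x5d2d7bd82) (.node (nat_lit 0x5d1deed02) (.leaf (nat_lit 0x5d1d98d82) (nat_lit 1282))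
 (.node (nat_lit 0x5d2d4fd02) (.leaf (nat_lit 0x5d1deed02) (nat_lit 2050))
 (.leaf (nat_lit 0x5d2d4fd02) (nat_lit 2049))
)) (.node (nat_lit 0x5d2dbbd02) (.node (nat_lit 0x5d2d8dd82) (.leaf (nat_lit 0x5d2d7bd82) (nat_lit 2051))
 (.leaf (nat_lit 0x5d2d8dd82) (nat_lit 1795))
) (.node (nat_lit 0x5d3d3ad82) (.leaf (nat_lit 0x5d2dbbd02) (nat_lit 2051))
 (.leaf (nat_lit 0x5d3d3ad82) (nat_lit 2051))
))) (.node (nat_lit 0x5e4d6f502) (.node (nat_lit 0x5d3dfad02) (.node (nat_lit 0x5d3d8cd82) (.leaf (nat_lit 0x5d3d4ed02) (nat_lit 1538))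
 (.leaf (nat_lit 0x5d3d8cd82) (nat_lit 1282))
) (.node (nat_lit 0x5e4d5b582) (.leaf (nat_lit 0x5d3dfad02) (nat_lit 2050))
 (.leaf (nat_lit 0x5e4d5b582) (nat_lit 1539))
)) (.node (nat_lit 0x5e4dbb502) (.node (nat_lit 0x5e4d8d582) (.leaf (nat_lit 0x5e4d6f502) (nat_lit 1537))
 (.leaf (nat_lit 0x5e4d8d582) (nat_lit 1283))
) (.node (nat_lit 0x5e553ad82) (.leaf (nat_lit 0x5e4dbb502) (nat_lit 1539))
 (.leaf (nat_lit 0x5e553ad82) (nat_lit 1794))
)))) (.node (nat_lit 0x5e752ed82) (.node (nat_lit 0x5e6d4f582) (.node (nat_lit 0x5e558cd82) (.leaf (nat_lit 0x5e556ed02) (nat_lit 1538))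
 (.node (nat_lit 0x5e55dad02) (.leaf (nat_lit 0x5e558cd82) (nat_lit 1282))
 (.leaf (nat_lit 0x5e55dad02) (nat_lit 1538))
)) (.node (nat_lit 0x5e6d99582) (.node (nat_lit 0x5e6d7b502) (.leaf (nat_lit 0x5e6d4f582) (nat_lit 1539))
 (.leaf (nat_lit 0x5e6d7b502) (nat_lit 1537))
) (.node (nat_lit 0x5e6daf502) (.leaf (nat_lit 0x5e6d99582) (nat_lit 1283))
 (.leaf (nat_lit 0x5e6daf502) (nat_lit 1539))
))) (.node (nat_lit 0x5f0d4f582) (.node (nat_lit 0x5e7598d82) (.node (nat_lit 0x5e757ad02) (.leaf (nat_lit 0x5e752ed82) (nat_lit 1794))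
 (.leaf (nat_lit 0x5e757ad02) (nat_lit 1538))
) (.node (nat_lit 0x5e75ced02) (.leaf (nat_lit 0x5e7598d82) (nat_lit 1282))
 (.leaf (nat_lit 0x5e75ced02) (nat_lit 1538))
)) (.node (nat_lit 0x5f0d99582) (.node (nat_lit 0x5f0d7b502) (.leaf (nat_lit 0x5f0d4f582) (nat_lit 1795))
 (.leaf (nat_lit 0x5f0d7b502) (nat_lit 1793))
) (.node (nat_lit 0x5f0daf502) (.leaf (nat_lit 0x5f0d99582) (nat_lit 1539))
 (.leaf (nat_lit 0x5f0daf502) (nat_lit 1795))
)))))) (.node (nat_lit 0x8441bad82) (.node (nat_lit 0x84019e482) (.node (nat_lit 0x5f2dbb502) (.node (nat_lit 0x5f15ced02) (.node (nat_lit 0x5f157ad02) (.leaf (nat_lit 0x5f152ed82) (nat_lit 2050))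
 (.node (nat_lit 0x5f1598d82) (.leaf (nat_lit 0x5f157ad02) (nat_lit 1794))
 (.leaf (nat_lit 0x5f1598d82) (nat_lit 1538))
)) (.node (nat_lit 0x5f2d6f502) (.node (nat_lit 0x5f2d5b582) (.leaf (nat_lit 0x5f15ced02) (nat_lit 1794))
 (.leaf (nat_lit 0x5f2d5b582) (nat_lit 1795))
) (.node (nat_lit 0x5f2d8d582) (.leaf (nat_lit 0x5f2d6f502) (nat_lit 1793))
 (.leaf (nat_lit 0x5f2d8d582) (nat_lit 1539))
))) (.node (nat_lit 0x5f35dad02) (.node (nat_lit 0x5f356ed02) (.node (nat_lit 0x5f353ad82) (.leaf (nat_lit 0x5f2dbb502) (nat_lit 1795))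
 (.leaf (nat_lit 0x5f353ad82) (nat_lit 2050))
) (.node (nat_lit 0x5f358cd82) (.leaf (nat_lit 0x5f356ed02) (nat_lit 1794))
 (.leaf (nat_lit 0x5f358cd82) (nat_lit 1538))
)) (.node (nat_lit 0x84010c482) (.node (nat_lit 0x840108402) (.leaf (nat_lit 0x5f35dad02) (nat_lit 1794))
 (.leaf (nat_lit 0x840108402) (nat_lit 1792))
) (.node (nat_lit 0x840198402) (.leaf (nat_lit 0x84010c482) (nat_lit 2048))
 (.leaf (nat_lit 0x840198402) (nat_lit 2048))
)))) (.node (nat_lit 0x8421ba402) (.node (nat_lit 0x84048c102) (.node (nat_lit 0x840408102) (.leaf (nat_lit 0x84019e482) (nat_lit 2304))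
 (.node (nat_lit 0x840418182) (.leaf (nat_lit 0x840408102) (nat_lit 514))
 (.leaf (nat_lit 0x840418182) (nat_lit 1792))
)) (.node (nat_lit 0x84212a402) (.node (nat_lit 0x84049e182) (.leaf (nat_lit 0x84048c102) (nat_lit 1792))
 (.leaf (nat_lit 0x84049e182) (nat_lit 1281))
) (.node (nat_lit 0x84212e482) (.leaf (nat_lit 0x84212a402) (nat_lit 2304))
 (.leaf (nat_lit 0x84212e482) (nat_lit 2304))
))) (.node (nat_lit 0x8424ae102) (.node (nat_lit 0x84242a102) (.node (nat_lit 0x8421bc482) (.leaf (nat_lit 0x8421ba402) (nat_lit 2304))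
 (.leaf (nat_lit 0x8421bc482) (nat_lit 2048))
) (.node (nat_lit 0x84243a182) (.leaf (nat_lit 0x84242a102) (nat_lit 1026))
 (.leaf (nat_lit 0x84243a182) (nat_lit 2048))
)) (.node (nat_lit 0x844108d02) (.node (nat_lit 0x8424bc182) (.leaf (nat_lit 0x8424ae102) (nat_lit 2048))
 (.leaf (nat_lit 0x8424bc182) (nat_lit 769))
) (.node (nat_lit 0x84410cd82) (.leaf (nat_lit 0x844108d02) (nat_lit 1027))
 (.leaf (nat_lit 0x84410cd82) (nat_lit 1283))
))))) (.node (nat_lit 0x850418d82) (.node (nat_lit 0x84612ed82) (.node (nat_lit 0x844d3c182) (.node (nat_lit 0x8441bcd02) (.leaf (nat_lit 0x8441bad82) (nat_lit 1793))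
 (.node (nat_lit 0x844d08102) (.leaf (nat_lit 0x8441bcd02) (nat_lit 1794))
 (.leaf (nat_lit 0x844d08102) (nat_lit 1794))
)) (.node (nat_lit 0x844dba182) (.node (nat_lit 0x844d8c102) (.leaf (nat_lit 0x844d3c182) (nat_lit 2050))
 (.leaf (nat_lit 0x844d8c102) (nat_lit 2050))
) (.node (nat_lit 0x84612ad02) (.leaf (nat_lit 0x844dba182) (nat_lit 2306))
 (.leaf (nat_lit 0x84612ad02) (nat_lit 1539))
))) (.node (nat_lit 0x846d2a102) (.node (nat_lit 0x84619ed02) (.node (nat_lit 0x846198d82) (.leaf (nat_lit 0x84612ed82) (nat_lit 1795))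
 (.leaf (nat_lit 0x846198d82) (nat_lit 1281))
) (.node (nat_lit 0x846d1e182) (.leaf (nat_lit 0x84619ed02) (nat_lit 1537))
 (.leaf (nat_lit 0x846d1e182) (nat_lit 2306))
)) (.node (nat_lit 0x846dae102) (.node (nat_lit 0x846d98182) (.leaf (nat_lit 0x846d2a102) (nat_lit 2306))
 (.leaf (nat_lit 0x846d98182) (nat_lit 2050))
) (.node (nat_lit 0x850408d02) (.leaf (nat_lit 0x846dae102) (nat_lit 2306))
 (.leaf (nat_lit 0x850408d02) (nat_lit 1795))
)))) (.node (nat_lit 0x85242ad02) (.node (nat_lit 0x850d08402) (.node (nat_lit 0x8504aed82) (.leaf (nat_lit 0x850418d82) (nat_lit 2051))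
 (.node (nat_lit 0x8504bcd02) (.leaf (nat_lit 0x8504aed82) (nat_lit 2307))
 (.leaf (nat_lit 0x8504bcd02) (nat_lit 2051))
)) (.node (nat_lit 0x850d98402) (.node (nat_lit 0x850d3c482) (.leaf (nat_lit 0x850d08402) (nat_lit 259))
 (.leaf (nat_lit 0x850d3c482) (nat_lit 1283))
) (.node (nat_lit 0x850dae482) (.leaf (nat_lit 0x850d98402) (nat_lit 1795))
 (.leaf (nat_lit 0x850dae482) (nat_lit 1537))
))) (.node (nat_lit 0x852d1e482) (.node (nat_lit 0x85248cd82) (.node (nat_lit 0x85243ad82) (.leaf (nat_lit 0x85242ad02) (nat_lit 2307))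
 (.leaf (nat_lit 0x85243ad82) (nat_lit 2305))
) (.node (nat_lit 0x85249ed02) (.leaf (nat_lit 0x85248cd82) (nat_lit 2049))
 (.leaf (nat_lit 0x85249ed02) (nat_lit 2305))
)) (.node (nat_lit 0x852d8c482) (.node (nat_lit 0x852d2a402) (.leaf (nat_lit 0x852d1e482) (nat_lit 1795))
 (.leaf (nat_lit 0x852d2a402) (nat_lit 1283))
) (.node (nat_lit 0x852dba402) (.leaf (nat_lit 0x852d8c482) (nat_lit 513))
 (.leaf (nat_lit 0x852dba402) (nat_lit 1537))
)))))))) (.node (nat_lit 0x8e614ad82) (.node (nat_lit 0x8c246a102) (.node (nat_lit 0x866d98182) (.node (nat_lit 0x8624bc182) (.node (nat_lit 0x86049e182) (.node (nat_lit 0x86019e482) (.node (nat_lit 0x86010c482) (.leaf (nat_lit 0x860108402) (nat_lit 1795))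
 (.node (nat_lit 0x860198402) (.leaf (nat_lit 0x86010c482) (nat_lit 2051))
 (.leaf (nat_lit 0x860198402) (nat_lit 2051))
)) (.node (nat_lit 0x860418182) (.node (nat_lit 0x860408102) (.leaf (nat_lit 0x86019e482) (nat_lit 2307))
 (.leaf (nat_lit 0x860408102) (nat_lit 258))
) (.node (nat_lit 0x86048c102) (.leaf (nat_lit 0x860418182) (nat_lit 1795))
 (.leaf (nat_lit 0x86048c102) (nat_lit 1795))
))) (.node (nat_lit 0x8621bc482) (.node (nat_lit 0x86212e482) (.node (nat_lit 0x86212a402) (.leaf (nat_lit 0x86049e182) (nat_lit 1537))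
 (.leaf (nat_lit 0x86212a402) (nat_lit 2307))
) (.node (nat_lit 0x8621ba402) (.leaf (nat_lit 0x86212e482) (nat_lit 2307))
 (.leaf (nat_lit 0x8621ba402) (nat_lit 2307))
)) (.node (nat_lit 0x86243a182) (.node (nat_lit 0x86242a102) (.leaf (nat_lit 0x8621bc482) (nat_lit 2051))
 (.leaf (nat_lit 0x86242a102) (nat_lit 1282))
) (.node (nat_lit 0x8624ae102) (.leaf (nat_lit 0x86243a182) (nat_lit 2051))
 (.leaf (nat_lit 0x8624ae102) (nat_lit 2051))
)))) (.node (nat_lit 0x864d8c102) (.node (nat_lit 0x8641bad82) (.node (nat_lit 0x864108d02) (.leaf (nat_lit 0x8624bc182) (nat_lit 513))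
 (.node (nat_lit 0x86410cd82) (.leaf (nat_lit 0x864108d02) (nat_lit 1027))
 (.leaf (nat_lit 0x86410cd82) (nat_lit 1283))
)) (.node (nat_lit 0x864d08102) (.node (nat_lit 0x8641bcd02) (.leaf (nat_lit 0x8641bad82) (nat_lit 1793))
 (.leaf (nat_lit 0x8641bcd02) (nat_lit 1792))
) (.node (nat_lit 0x864d3c182) (.leaf (nat_lit 0x864d08102) (nat_lit 1792))
 (.leaf (nat_lit 0x864d3c182) (nat_lit 2048))
))) (.node (nat_lit 0x866198d82) (.node (nat_lit 0x86612ad02) (.node (nat_lit 0x864dba182) (.leaf (nat_lit 0x864d8c102) (nat_lit 2048))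
 (.leaf (nat_lit 0x864dba182) (nat_lit 2304))
) (.node (nat_lit 0x86612ed82) (.leaf (nat_lit 0x86612ad02) (nat_lit 1539))
 (.leaf (nat_lit 0x86612ed82) (nat_lit 1795))
)) (.node (nat_lit 0x866d1e182) (.node (nat_lit 0x86619ed02) (.leaf (nat_lit 0x866198d82) (nat_lit 1281))
 (.leaf (nat_lit 0x86619ed02) (nat_lit 1537))
) (.node (nat_lit 0x866d2a102) (.leaf (nat_lit 0x866d1e182) (nat_lit 2304))
 (.leaf (nat_lit 0x866d2a102) (nat_lit 2304))
))))) (.node (nat_lit 0x872d2a402) (.node (nat_lit 0x870d3c482) (.node (nat_lit 0x870418d82) (.node (nat_lit 0x866dae102) (.leaf (nat_lit 0x866d98182) (nat_lit 2048))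
 (.node (nat_lit 0x870408d02) (.leaf (nat_lit 0x866dae102) (nat_lit 2304))
 (.leaf (nat_lit 0x870408d02) (nat_lit 2051))
)) (.node (nat_lit 0x8704bcd02) (.node (nat_lit 0x8704aed82) (.leaf (nat_lit 0x870418d82) (nat_lit 2307))
 (.leaf (nat_lit 0x8704aed82) (nat_lit 2563))
) (.node (nat_lit 0x870d08402) (.leaf (nat_lit 0x8704bcd02) (nat_lit 2307))
 (.leaf (nat_lit 0x870d08402) (nat_lit 515))
))) (.node (nat_lit 0x87243ad82) (.node (nat_lit 0x870dae482) (.node (nat_lit 0x870d98402) (.leaf (nat_lit 0x870d3c482) (nat_lit 1283))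
 (.leaf (nat_lit 0x870d98402) (nat_lit 2051))
) (.node (nat_lit 0x87242ad02) (.leaf (nat_lit 0x870dae482) (nat_lit 1281))
 (.leaf (nat_lit 0x87242ad02) (nat_lit 2563))
)) (.node (nat_lit 0x87249ed02) (.node (nat_lit 0x87248cd82) (.leaf (nat_lit 0x87243ad82) (nat_lit 2561))
 (.leaf (nat_lit 0x87248cd82) (nat_lit 2305))
) (.node (nat_lit 0x872d1e482) (.leaf (nat_lit 0x87249ed02) (nat_lit 2561))
 (.leaf (nat_lit 0x872d1e482) (nat_lit 1795))
)))) (.node (nat_lit 0x8c044a102) (.node (nat_lit 0x8c014a402) (.node (nat_lit 0x872d8c482) (.leaf (nat_lit 0x872d2a402) (nat_lit 1027))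
 (.node (nat_lit 0x872dba402) (.leaf (nat_lit 0x872d8c482) (nat_lit 769))
 (.leaf (nat_lit 0x872dba402) (nat_lit 1537))
)) (.node (nat_lit 0x8c01da402) (.node (nat_lit 0x8c014e482) (.leaf (nat_lit 0x8c014a402) (nat_lit 2304))
 (.leaf (nat_lit 0x8c014e482) (nat_lit 2304))
) (.node (nat_lit 0x8c01dc482) (.leaf (nat_lit 0x8c01da402) (nat_lit 2304))
 (.leaf (nat_lit 0x8c01dc482) (nat_lit 2048))
))) (.node (nat_lit 0x8c216a402) (.node (nat_lit 0x8c04ce102) (.node (nat_lit 0x8c045a182) (.leaf (nat_lit 0x8c044a102) (nat_lit 1025))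
 (.leaf (nat_lit 0x8c045a182) (nat_lit 2048))
) (.node (nat_lit 0x8c04dc182) (.leaf (nat_lit 0x8c04ce102) (nat_lit 2048))
 (.leaf (nat_lit 0x8c04dc182) (nat_lit 770))
)) (.node (nat_lit 0x8c21fa402) (.node (nat_lit 0x8c216e482) (.leaf (nat_lit 0x8c216a402) (nat_lit 2304))
 (.leaf (nat_lit 0x8c216e482) (nat_lit 2304))
) (.node (nat_lit 0x8c21fc482) (.leaf (nat_lit 0x8c21fa402) (nat_lit 2304))
 (.leaf (nat_lit 0x8c21fc482) (nat_lit 2048))
)))))) (.node (nat_lit 0x8d24ced02) (.node (nat_lit 0x8c61dcd82) (.node (nat_lit 0x8c41fcd82) (.node (nat_lit 0x8c24fc182) (.node (nat_lit 0x8c247a182) (.leaf (nat_lit 0x8c246a102) (nat_lit 1025))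
 (.node (nat_lit 0x8c24ee102) (.leaf (nat_lit 0x8c247a182) (nat_lit 2048))
 (.leaf (nat_lit 0x8c24ee102) (nat_lit 2048))
)) (.node (nat_lit 0x8c414ed02) (.node (nat_lit 0x8c414ad82) (.leaf (nat_lit 0x8c24fc182) (nat_lit 770))
 (.leaf (nat_lit 0x8c414ad82) (nat_lit 1793))
) (.node (nat_lit 0x8c41fad02) (.leaf (nat_lit 0x8c414ed02) (nat_lit 1537))
 (.leaf (nat_lit 0x8c41fad02) (nat_lit 1539))
))) (.node (nat_lit 0x8c4dfc182) (.node (nat_lit 0x8c4d7a182) (.node (nat_lit 0x8c4d4e102) (.leaf (nat_lit 0x8c41fcd82) (nat_lit 1283))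
 (.leaf (nat_lit 0x8c4d4e102) (nat_lit 2306))
) (.node (nat_lit 0x8c4dca102) (.leaf (nat_lit 0x8c4d7a182) (nat_lit 2306))
 (.leaf (nat_lit 0x8c4dca102) (nat_lit 2306))
)) (.node (nat_lit 0x8c616ed02) (.node (nat_lit 0x8c616ad82) (.leaf (nat_lit 0x8c4dfc182) (nat_lit 2050))
 (.leaf (nat_lit 0x8c616ad82) (nat_lit 1793))
) (.node (nat_lit 0x8c61dad02) (.leaf (nat_lit 0x8c616ed02) (nat_lit 1537))
 (.leaf (nat_lit 0x8c61dad02) (nat_lit 1539))
)))) (.node (nat_lit 0x8d04eed02) (.node (nat_lit 0x8c6ddc182) (.node (nat_lit 0x8c6d5a182) (.leaf (nat_lit 0x8c61dcd82) (nat_lit 1283))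
 (.node (nat_lit 0x8c6d6e102) (.leaf (nat_lit 0x8c6d5a182) (nat_lit 2306))
 (.leaf (nat_lit 0x8c6d6e102) (nat_lit 2306))
)) (.node (nat_lit 0x8d044ad82) (.node (nat_lit 0x8c6dea102) (.leaf (nat_lit 0x8c6ddc182) (nat_lit 2050))
 (.leaf (nat_lit 0x8c6dea102) (nat_lit 2306))
) (.node (nat_lit 0x8d045ad02) (.leaf (nat_lit 0x8d044ad82) (nat_lit 2307))
 (.leaf (nat_lit 0x8d045ad02) (nat_lit 2305))
))) (.node (nat_lit 0x8d0dca402) (.node (nat_lit 0x8d0d5a402) (.node (nat_lit 0x8d04fcd82) (.leaf (nat_lit 0x8d04eed02) (nat_lit 2307))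
 (.leaf (nat_lit 0x8d04fcd82) (nat_lit 2051))
) (.node (nat_lit 0x8d0d6e482) (.leaf (nat_lit 0x8d0d5a402) (nat_lit 769))
 (.leaf (nat_lit 0x8d0d6e482) (nat_lit 1793))
)) (.node (nat_lit 0x8d246ad82) (.node (nat_lit 0x8d0dfc482) (.leaf (nat_lit 0x8d0dca402) (nat_lit 1539))
 (.leaf (nat_lit 0x8d0dfc482) (nat_lit 1027))
) (.node (nat_lit 0x8d247ad02) (.leaf (nat_lit 0x8d246ad82) (nat_lit 2307))
 (.leaf (nat_lit 0x8d247ad02) (nat_lit 2305))
))))) (.node (nat_lit 0x8e214e482) (.node (nat_lit 0x8e016e482) (.node (nat_lit 0x8d2d7a402) (.node (nat_lit 0x8d24dcd82) (.leaf (nat_lit 0x8d24ced02) (nat_lit 2307))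
 (.node (nat_lit 0x8d2d4e482) (.leaf (nat_lit 0x8d24dcd82) (nat_lit 2051))
 (.leaf (nat_lit 0x8d2d4e482) (nat_lit 1793))
)) (.node (nat_lit 0x8d2dea402) (.node (nat_lit 0x8d2ddc482) (.leaf (nat_lit 0x8d2d7a402) (nat_lit 1281))
 (.leaf (nat_lit 0x8d2ddc482) (nat_lit 515))
) (.node (nat_lit 0x8e016a402) (.leaf (nat_lit 0x8d2dea402) (nat_lit 1539))
 (.leaf (nat_lit 0x8e016a402) (nat_lit 2307))
))) (.node (nat_lit 0x8e047a182) (.node (nat_lit 0x8e01fc482) (.node (nat_lit 0x8e01fa402) (.leaf (nat_lit 0x8e016e482) (nat_lit 2307))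
 (.leaf (nat_lit 0x8e01fa402) (nat_lit 2307))
) (.node (nat_lit 0x8e046a102) (.leaf (nat_lit 0x8e01fc482) (nat_lit 2051))
 (.leaf (nat_lit 0x8e046a102) (nat_lit 769))
)) (.node (nat_lit 0x8e04fc182) (.node (nat_lit 0x8e04ee102) (.leaf (nat_lit 0x8e047a182) (nat_lit 2051))
 (.leaf (nat_lit 0x8e04ee102) (nat_lit 2051))
) (.node (nat_lit 0x8e214a402) (.leaf (nat_lit 0x8e04fc182) (nat_lit 1026))
 (.leaf (nat_lit 0x8e214a402) (nat_lit 2307))
)))) (.node (nat_lit 0x8e416ad82) (.node (nat_lit 0x8e244a102) (.node (nat_lit 0x8e21da402) (.leaf (nat_lit 0x8e214e482) (nat_lit 2307))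
 (.node (nat_lit 0x8e21dc482) (.leaf (nat_lit 0x8e21da402) (nat_lit 2307))
 (.leaf (nat_lit 0x8e21dc482) (nat_lit 2051))
)) (.node (nat_lit 0x8e24ce102) (.node (nat_lit 0x8e245a182) (.leaf (nat_lit 0x8e244a102) (nat_lit 1281))
 (.leaf (nat_lit 0x8e245a182) (nat_lit 2051))
) (.node (nat_lit 0x8e24dc182) (.leaf (nat_lit 0x8e24ce102) (nat_lit 2051))
 (.leaf (nat_lit 0x8e24dc182) (nat_lit 514))
))) (.node (nat_lit 0x8e4d5a182) (.node (nat_lit 0x8e41dad02) (.node (nat_lit 0x8e416ed02) (.leaf (nat_lit 0x8e416ad82) (nat_lit 1793))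
 (.leaf (nat_lit 0x8e416ed02) (nat_lit 1537))
) (.node (nat_lit 0x8e41dcd82) (.leaf (nat_lit 0x8e41dad02) (nat_lit 1539))
 (.leaf (nat_lit 0x8e41dcd82) (nat_lit 1283))
)) (.node (nat_lit 0x8e4ddc182) (.node (nat_lit 0x8e4d6e102) (.leaf (nat_lit 0x8e4d5a182) (nat_lit 2304))
 (.leaf (nat_lit 0x8e4d6e102) (nat_lit 2304))
) (.node (nat_lit 0x8e4dea102) (.leaf (nat_lit 0x8e4ddc182) (nat_lit 2048))
 (.leaf (nat_lit 0x8e4dea102) (nat_lit 2304))
))))))) (.node (nat_lit 0x941508102) (.node (nat_lit 0x915dab582) (.node (nat_lit 0x8f0dea402) (.node (nat_lit 0x8e6dfc182) (.node (nat_lit 0x8e61fcd82) (.node (nat_lit 0x8e614ed02) (.leaf (nat_lit 0x8e614ad82) (nat_lit 1793))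
 (.node (nat_lit 0x8e61fad02) (.leaf (nat_lit 0x8e614ed02) (nat_lit 1537))
 (.leaf (nat_lit 0x8e61fad02) (nat_lit 1539))
)) (.node (nat_lit 0x8e6d7a182) (.node (nat_lit 0x8e6d4e102) (.leaf (nat_lit 0x8e61fcd82) (nat_lit 1283))
 (.leaf (nat_lit 0x8e6d4e102) (nat_lit 2304))
) (.node (nat_lit 0x8e6dca102) (.leaf (nat_lit 0x8e6d7a182) (nat_lit 2304))
 (.leaf (nat_lit 0x8e6dca102) (nat_lit 2304))
))) (.node (nat_lit 0x8f04dcd82) (.node (nat_lit 0x8f047ad02) (.node (nat_lit 0x8f046ad82) (.leaf (nat_lit 0x8e6dfc182) (nat_lit 2048))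
 (.leaf (nat_lit 0x8f046ad82) (nat_lit 2563))
) (.node (nat_lit 0x8f04ced02) (.leaf (nat_lit 0x8f047ad02) (nat_lit 2561))
 (.leaf (nat_lit 0x8f04ced02) (nat_lit 2563))
)) (.node (nat_lit 0x8f0d7a402) (.node (nat_lit 0x8f0d4e482) (.leaf (nat_lit 0x8f04dcd82) (nat_lit 2307))
 (.leaf (nat_lit 0x8f0d4e482) (nat_lit 1793))
) (.node (nat_lit 0x8f0ddc482) (.leaf (nat_lit 0x8f0d7a402) (nat_lit 1025))
 (.leaf (nat_lit 0x8f0ddc482) (nat_lit 771))
)))) (.node (nat_lit 0x8f2dca402) (.node (nat_lit 0x8f24eed02) (.node (nat_lit 0x8f244ad82) (.leaf (nat_lit 0x8f0dea402) (nat_lit 1539))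
 (.node (nat_lit 0x8f245ad02) (.leaf (nat_lit 0x8f244ad82) (nat_lit 2563))
 (.leaf (nat_lit 0x8f245ad02) (nat_lit 2561))
)) (.node (nat_lit 0x8f2d5a402) (.node (nat_lit 0x8f24fcd82) (.leaf (nat_lit 0x8f24eed02) (nat_lit 2563))
 (.leaf (nat_lit 0x8f24fcd82) (nat_lit 2307))
) (.node (nat_lit 0x8f2d6e482) (.leaf (nat_lit 0x8f2d5a402) (nat_lit 1025))
 (.leaf (nat_lit 0x8f2d6e482) (nat_lit 1793))
))) (.node (nat_lit 0x9155abd82) (.node (nat_lit 0x915509d02) (.node (nat_lit 0x8f2dfc482) (.leaf (nat_lit 0x8f2dca402) (nat_lit 1539))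
 (.leaf (nat_lit 0x8f2dfc482) (nat_lit 771))
) (.node (nat_lit 0x91555dd82) (.leaf (nat_lit 0x915509d02) (nat_lit 1024))
 (.leaf (nat_lit 0x91555dd82) (nat_lit 1280))
)) (.node (nat_lit 0x915d09502) (.node (nat_lit 0x9155fdd02) (.leaf (nat_lit 0x9155abd82) (nat_lit 1792))
 (.leaf (nat_lit 0x9155fdd02) (nat_lit 1792))
) (.node (nat_lit 0x915d7d582) (.leaf (nat_lit 0x915d09502) (nat_lit 1280))
 (.leaf (nat_lit 0x915d7d582) (nat_lit 1536))
))))) (.node (nat_lit 0x931d7d582) (.node (nat_lit 0x917d5b582) (.node (nat_lit 0x91757bd82) (.node (nat_lit 0x915ddd502) (.leaf (nat_lit 0x915dab582) (nat_lit 1792))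
 (.node (nat_lit 0x91752fd02) (.leaf (nat_lit 0x915ddd502) (nat_lit 1536))
 (.leaf (nat_lit 0x91752fd02) (nat_lit 1536))
)) (.node (nat_lit 0x9175dbd02) (.node (nat_lit 0x91758dd82) (.leaf (nat_lit 0x91757bd82) (nat_lit 1792))
 (.leaf (nat_lit 0x91758dd82) (nat_lit 1280))
) (.node (nat_lit 0x917d2f502) (.leaf (nat_lit 0x9175dbd02) (nat_lit 1536))
 (.leaf (nat_lit 0x917d2f502) (nat_lit 1792))
))) (.node (nat_lit 0x93155dd82) (.node (nat_lit 0x917dfb502) (.node (nat_lit 0x917d8d582) (.leaf (nat_lit 0x917d5b582) (nat_lit 1792))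
 (.leaf (nat_lit 0x917d8d582) (nat_lit 1536))
) (.node (nat_lit 0x931509d02) (.leaf (nat_lit 0x917dfb502) (nat_lit 1792))
 (.leaf (nat_lit 0x931509d02) (nat_lit 1026))
)) (.node (nat_lit 0x9315fdd02) (.node (nat_lit 0x9315abd82) (.leaf (nat_lit 0x93155dd82) (nat_lit 1282))
 (.leaf (nat_lit 0x9315abd82) (nat_lit 1794))
) (.node (nat_lit 0x931d09502) (.leaf (nat_lit 0x9315fdd02) (nat_lit 1794))
 (.leaf (nat_lit 0x931d09502) (nat_lit 1282))
)))) (.node (nat_lit 0x933d2f502) (.node (nat_lit 0x93352fd02) (.node (nat_lit 0x931dab582) (.leaf (nat_lit 0x931d7d582) (nat_lit 1538))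
 (.node (nat_lit 0x931ddd502) (.leaf (nat_lit 0x931dab582) (nat_lit 1794))
 (.leaf (nat_lit 0x931ddd502) (nat_lit 1538))
)) (.node (nat_lit 0x93358dd82) (.node (nat_lit 0x93357bd82) (.leaf (nat_lit 0x93352fd02) (nat_lit 1538))
 (.leaf (nat_lit 0x93357bd82) (nat_lit 1794))
) (.node (nat_lit 0x9335dbd02) (.leaf (nat_lit 0x93358dd82) (nat_lit 1282))
 (.leaf (nat_lit 0x9335dbd02) (nat_lit 1538))
))) (.node (nat_lit 0x940109502) (.node (nat_lit 0x933d8d582) (.node (nat_lit 0x933d5b582) (.leaf (nat_lit 0x933d2f502) (nat_lit 1794))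
 (.leaf (nat_lit 0x933d5b582) (nat_lit 1794))
) (.node (nat_lit 0x933dfb502) (.leaf (nat_lit 0x933d8d582) (nat_lit 1538))
 (.leaf (nat_lit 0x933dfb502) (nat_lit 1794))
)) (.node (nat_lit 0x9401db582) (.node (nat_lit 0x94010d582) (.leaf (nat_lit 0x940109502) (nat_lit 1027))
 (.leaf (nat_lit 0x94010d582) (nat_lit 1283))
) (.node (nat_lit 0x9401dd502) (.leaf (nat_lit 0x9401db582) (nat_lit 1539))
 (.leaf (nat_lit 0x9401dd502) (nat_lit 1283))
)))))) (.node (nat_lit 0x9601fbd82) (.node (nat_lit 0x9441fdd02) (.node (nat_lit 0x9421fd582) (.node (nat_lit 0x9415da182) (.node (nat_lit 0x94155c182) (.leaf (nat_lit 0x941508102) (nat_lit 1283))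
 (.node (nat_lit 0x94158c102) (.leaf (nat_lit 0x94155c182) (nat_lit 1539))
 (.leaf (nat_lit 0x94158c102) (nat_lit 1539))
)) (.node (nat_lit 0x94212f502) (.node (nat_lit 0x94212b582) (.leaf (nat_lit 0x9415da182) (nat_lit 1795))
 (.leaf (nat_lit 0x94212b582) (nat_lit 1537))
) (.node (nat_lit 0x9421fb502) (.leaf (nat_lit 0x94212f502) (nat_lit 1539))
 (.leaf (nat_lit 0x9421fb502) (nat_lit 1537))
))) (.node (nat_lit 0x9435fc182) (.node (nat_lit 0x94357a182) (.node (nat_lit 0x94352e102) (.leaf (nat_lit 0x9421fd582) (nat_lit 1281))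
 (.leaf (nat_lit 0x94352e102) (nat_lit 1795))
) (.node (nat_lit 0x9435aa102) (.leaf (nat_lit 0x94357a182) (nat_lit 1793))
 (.leaf (nat_lit 0x9435aa102) (nat_lit 1793))
)) (.node (nat_lit 0x94410dd82) (.node (nat_lit 0x944109d02) (.leaf (nat_lit 0x9435fc182) (nat_lit 1537))
 (.leaf (nat_lit 0x944109d02) (nat_lit 1539))
) (.node (nat_lit 0x9441fbd82) (.leaf (nat_lit 0x94410dd82) (nat_lit 1795))
 (.leaf (nat_lit 0x9441fbd82) (nat_lit 2051))
)))) (.node (nat_lit 0x9461dbd02) (.node (nat_lit 0x945d8c102) (.node (nat_lit 0x945d08102) (.leaf (nat_lit 0x9441fdd02) (nat_lit 1795))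
 (.node (nat_lit 0x945d7c182) (.leaf (nat_lit 0x945d08102) (nat_lit 1539))
 (.leaf (nat_lit 0x945d7c182) (nat_lit 1795))
)) (.node (nat_lit 0x94612bd82) (.node (nat_lit 0x945dfa182) (.leaf (nat_lit 0x945d8c102) (nat_lit 1795))
 (.leaf (nat_lit 0x945dfa182) (nat_lit 2051))
) (.node (nat_lit 0x94612fd02) (.leaf (nat_lit 0x94612bd82) (nat_lit 2049))
 (.leaf (nat_lit 0x94612fd02) (nat_lit 2051))
))) (.node (nat_lit 0x947daa102) (.node (nat_lit 0x947d2e102) (.node (nat_lit 0x9461ddd82) (.leaf (nat_lit 0x9461dbd02) (nat_lit 2049))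
 (.leaf (nat_lit 0x9461ddd82) (nat_lit 1793))
) (.node (nat_lit 0x947d5a182) (.leaf (nat_lit 0x947d2e102) (nat_lit 2051))
 (.leaf (nat_lit 0x947d5a182) (nat_lit 2051))
)) (.node (nat_lit 0x960109d02) (.node (nat_lit 0x947ddc182) (.leaf (nat_lit 0x947daa102) (nat_lit 2051))
 (.leaf (nat_lit 0x947ddc182) (nat_lit 1795))
) (.node (nat_lit 0x96010dd82) (.leaf (nat_lit 0x960109d02) (nat_lit 1283))
 (.leaf (nat_lit 0x96010dd82) (nat_lit 1539))
))))) (.node (nat_lit 0x96410d582) (.node (nat_lit 0x96212fd02) (.node (nat_lit 0x961d7c182) (.node (nat_lit 0x9601fdd02) (.leaf (nat_lit 0x9601fbd82) (nat_lit 1795))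
 (.node (nat_lit 0x961d08102) (.leaf (nat_lit 0x9601fdd02) (nat_lit 1539))
 (.leaf (nat_lit 0x961d08102) (nat_lit 1283))
)) (.node (nat_lit 0x961dfa182) (.node (nat_lit 0x961d8c102) (.leaf (nat_lit 0x961d7c182) (nat_lit 1539))
 (.leaf (nat_lit 0x961d8c102) (nat_lit 1539))
) (.node (nat_lit 0x96212bd82) (.leaf (nat_lit 0x961dfa182) (nat_lit 1795))
 (.leaf (nat_lit 0x96212bd82) (nat_lit 1793))
))) (.node (nat_lit 0x963d5a182) (.node (nat_lit 0x9621ddd82) (.node (nat_lit 0x9621dbd02) (.leaf (nat_lit 0x96212fd02) (nat_lit 1795))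
 (.leaf (nat_lit 0x9621dbd02) (nat_lit 1793))
) (.node (nat_lit 0x963d2e102) (.leaf (nat_lit 0x9621ddd82) (nat_lit 1537))
 (.leaf (nat_lit 0x963d2e102) (nat_lit 1795))
)) (.node (nat_lit 0x963ddc182) (.node (nat_lit 0x963daa102) (.leaf (nat_lit 0x963d5a182) (nat_lit 1795))
 (.leaf (nat_lit 0x963daa102) (nat_lit 1795))
) (.node (nat_lit 0x964109502) (.leaf (nat_lit 0x963ddc182) (nat_lit 1539))
 (.leaf (nat_lit 0x964109502) (nat_lit 1283))
)))) (.node (nat_lit 0x96612b582) (.node (nat_lit 0x965508102) (.node (nat_lit 0x9641db582) (.leaf (nat_lit 0x96410d582) (nat_lit 1539))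
 (.node (nat_lit 0x9641dd502) (.leaf (nat_lit 0x9641db582) (nat_lit 1795))
 (.leaf (nat_lit 0x9641dd502) (nat_lit 1539))
)) (.node (nat_lit 0x96558c102) (.node (nat_lit 0x96555c182) (.leaf (nat_lit 0x965508102) (nat_lit 1539))
 (.leaf (nat_lit 0x96555c182) (nat_lit 1795))
) (.node (nat_lit 0x9655da182) (.leaf (nat_lit 0x96558c102) (nat_lit 1795))
 (.leaf (nat_lit 0x9655da182) (nat_lit 2051))
))) (.node (nat_lit 0x96752e102) (.node (nat_lit 0x9661fb502) (.node (nat_lit 0x96612f502) (.leaf (nat_lit 0x96612b582) (nat_lit 1793))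
 (.leaf (nat_lit 0x96612f502) (nat_lit 1795))
) (.node (nat_lit 0x9661fd582) (.leaf (nat_lit 0x9661fb502) (nat_lit 1793))
 (.leaf (nat_lit 0x9661fd582) (nat_lit 1537))
)) (.node (nat_lit 0x9675aa102) (.node (nat_lit 0x96757a182) (.leaf (nat_lit 0x96752e102) (nat_lit 2051))
 (.leaf (nat_lit 0x96757a182) (nat_lit 2049))
) (.node (nat_lit 0x9675fc182) (.leaf (nat_lit 0x9675aa102) (nat_lit 2049))
 (.leaf (nat_lit 0x9675fc182) (nat_lit 1793))
))))))))) (.node (nat_lit 0xcd044bd82) (.node (nat_lit 0xc2753bd02) (.node (nat_lit 0x9c7d1e182) (.node (nat_lit 0x9b3dbd582) (.node (nat_lit 0x997def502) (.node (nat_lit 0x995dcb502) (.node (nat_lit 0x9955ebd02) (.node (nat_lit 0x99554bd82) (.leaf (nat_lit 0x99551fd02) (nat_lit 1536))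
 (.node (nat_lit 0x9955bdd82) (.leaf (nat_lit 0x99554bd82) (nat_lit 1792))
 (.leaf (nat_lit 0x9955bdd82) (nat_lit 1280))
)) (.node (nat_lit 0x995d6b582) (.node (nat_lit 0x995d1f502) (.leaf (nat_lit 0x9955ebd02) (nat_lit 1536))
 (.leaf (nat_lit 0x995d1f502) (nat_lit 1792))
) (.node (nat_lit 0x995dbd582) (.leaf (nat_lit 0x995d6b582) (nat_lit 1792))
 (.leaf (nat_lit 0x995dbd582) (nat_lit 1536))
))) (.node (nat_lit 0x9975cfd02) (.node (nat_lit 0x99756fd82) (.node (nat_lit 0x99753bd02) (.leaf (nat_lit 0x995dcb502) (nat_lit 1792))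
 (.leaf (nat_lit 0x99753bd02) (nat_lit 1536))
) (.node (nat_lit 0x997599d82) (.leaf (nat_lit 0x99756fd82) (nat_lit 1792))
 (.leaf (nat_lit 0x997599d82) (nat_lit 1280))
)) (.node (nat_lit 0x997d4f582) (.node (nat_lit 0x997d3b502) (.leaf (nat_lit 0x9975cfd02) (nat_lit 1536))
 (.leaf (nat_lit 0x997d3b502) (nat_lit 1792))
) (.node (nat_lit 0x997d99582) (.leaf (nat_lit 0x997d4f582) (nat_lit 1792))
 (.leaf (nat_lit 0x997d99582) (nat_lit 1536))
)))) (.node (nat_lit 0x9b1d99582) (.node (nat_lit 0x9b1599d82) (.node (nat_lit 0x9b153bd02) (.leaf (nat_lit 0x997def502) (nat_lit 1792))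
 (.node (nat_lit 0x9b156fd82) (.leaf (nat_lit 0x9b153bd02) (nat_lit 1538))
 (.leaf (nat_lit 0x9b156fd82) (nat_lit 1794))
)) (.node (nat_lit 0x9b1d3b502) (.node (nat_lit 0x9b15cfd02) (.leaf (nat_lit 0x9b1599d82) (nat_lit 1282))
 (.leaf (nat_lit 0x9b15cfd02) (nat_lit 1538))
) (.node (nat_lit 0x9b1d4f582) (.leaf (nat_lit 0x9b1d3b502) (nat_lit 1794))
 (.leaf (nat_lit 0x9b1d4f582) (nat_lit 1794))
))) (.node (nat_lit 0x9b35bdd82) (.node (nat_lit 0x9b351fd02) (.node (nat_lit 0x9b1def502) (.leaf (nat_lit 0x9b1d99582) (nat_lit 1538))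
 (.leaf (nat_lit 0x9b1def502) (nat_lit 1794))
) (.node (nat_lit 0x9b354bd82) (.leaf (nat_lit 0x9b351fd02) (nat_lit 1538))
 (.leaf (nat_lit 0x9b354bd82) (nat_lit 1794))
)) (.node (nat_lit 0x9b3d1f502) (.node (nat_lit 0x9b35ebd02) (.leaf (nat_lit 0x9b35bdd82) (nat_lit 1282))
 (.leaf (nat_lit 0x9b35ebd02) (nat_lit 1538))
) (.node (nat_lit 0x9b3d6b582) (.leaf (nat_lit 0x9b3d1f502) (nat_lit 1794))
 (.leaf (nat_lit 0x9b3d6b582) (nat_lit 1794))
))))) (.node (nat_lit 0x9c356e102) (.node (nat_lit 0x9c154a102) (.node (nat_lit 0x9c014f582) (.node (nat_lit 0x9b3dcb502) (.leaf (nat_lit 0x9b3dbd582) (nat_lit 1538))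
 (.node (nat_lit 0x9c014b502) (.leaf (nat_lit 0x9b3dcb502) (nat_lit 1794))
 (.leaf (nat_lit 0x9c014b502) (nat_lit 1537))
)) (.node (nat_lit 0x9c019f502) (.node (nat_lit 0x9c0199582) (.leaf (nat_lit 0x9c014f582) (nat_lit 1539))
 (.leaf (nat_lit 0x9c0199582) (nat_lit 1283))
) (.node (nat_lit 0x9c151e182) (.leaf (nat_lit 0x9c019f502) (nat_lit 1539))
 (.leaf (nat_lit 0x9c151e182) (nat_lit 1795))
))) (.node (nat_lit 0x9c216f502) (.node (nat_lit 0x9c15ce102) (.node (nat_lit 0x9c1598182) (.leaf (nat_lit 0x9c154a102) (nat_lit 1793))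
 (.leaf (nat_lit 0x9c1598182) (nat_lit 1539))
) (.node (nat_lit 0x9c216b582) (.leaf (nat_lit 0x9c15ce102) (nat_lit 1795))
 (.leaf (nat_lit 0x9c216b582) (nat_lit 1539))
)) (.node (nat_lit 0x9c21bd582) (.node (nat_lit 0x9c21bb502) (.leaf (nat_lit 0x9c216f502) (nat_lit 1537))
 (.leaf (nat_lit 0x9c21bb502) (nat_lit 1539))
) (.node (nat_lit 0x9c353a182) (.leaf (nat_lit 0x9c21bd582) (nat_lit 1283))
 (.leaf (nat_lit 0x9c353a182) (nat_lit 1795))
)))) (.node (nat_lit 0x9c5d3a182) (.node (nat_lit 0x9c414bd82) (.node (nat_lit 0x9c35bc182) (.leaf (nat_lit 0x9c356e102) (nat_lit 1793))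
 (.node (nat_lit 0x9c35ea102) (.leaf (nat_lit 0x9c35bc182) (nat_lit 1539))
 (.leaf (nat_lit 0x9c35ea102) (nat_lit 1795))
)) (.node (nat_lit 0x9c41bbd02) (.node (nat_lit 0x9c414fd02) (.leaf (nat_lit 0x9c414bd82) (nat_lit 2051))
 (.leaf (nat_lit 0x9c414fd02) (nat_lit 2049))
) (.node (nat_lit 0x9c41bdd82) (.leaf (nat_lit 0x9c41bbd02) (nat_lit 2051))
 (.leaf (nat_lit 0x9c41bdd82) (nat_lit 1795))
))) (.node (nat_lit 0x9c616bd02) (.node (nat_lit 0x9c5dbc182) (.node (nat_lit 0x9c5d4e102) (.leaf (nat_lit 0x9c5d3a182) (nat_lit 2051))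
 (.leaf (nat_lit 0x9c5d4e102) (nat_lit 2051))
) (.node (nat_lit 0x9c5dca102) (.leaf (nat_lit 0x9c5dbc182) (nat_lit 1795))
 (.leaf (nat_lit 0x9c5dca102) (nat_lit 2051))
)) (.node (nat_lit 0x9c6199d82) (.node (nat_lit 0x9c616fd82) (.leaf (nat_lit 0x9c616bd02) (nat_lit 2049))
 (.leaf (nat_lit 0x9c616fd82) (nat_lit 2051))
) (.node (nat_lit 0x9c619fd02) (.leaf (nat_lit 0x9c6199d82) (nat_lit 1795))
 (.leaf (nat_lit 0x9c619fd02) (nat_lit 2051))
)))))) (.node (nat_lit 0x9e6199582) (.node (nat_lit 0x9e21bdd82) (.node (nat_lit 0x9e019fd02) (.node (nat_lit 0x9c7dee102) (.node (nat_lit 0x9c7d6a102) (.leaf (nat_lit 0x9c7d1e182) (nat_lit 2051))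
 (.node (nat_lit 0x9c7d98182) (.leaf (nat_lit 0x9c7d6a102) (nat_lit 2051))
 (.leaf (nat_lit 0x9c7d98182) (nat_lit 1795))
)) (.node (nat_lit 0x9e016fd82) (.node (nat_lit 0x9e016bd02) (.leaf (nat_lit 0x9c7dee102) (nat_lit 2051))
 (.leaf (nat_lit 0x9e016bd02) (nat_lit 1793))
) (.node (nat_lit 0x9e0199d82) (.leaf (nat_lit 0x9e016fd82) (nat_lit 1795))
 (.leaf (nat_lit 0x9e0199d82) (nat_lit 1539))
))) (.node (nat_lit 0x9e1dee102) (.node (nat_lit 0x9e1d6a102) (.node (nat_lit 0x9e1d1e182) (.leaf (nat_lit 0x9e019fd02) (nat_lit 1795))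
 (.leaf (nat_lit 0x9e1d1e182) (nat_lit 1795))
) (.node (nat_lit 0x9e1d98182) (.leaf (nat_lit 0x9e1d6a102) (nat_lit 1795))
 (.leaf (nat_lit 0x9e1d98182) (nat_lit 1539))
)) (.node (nat_lit 0x9e214fd02) (.node (nat_lit 0x9e214bd82) (.leaf (nat_lit 0x9e1dee102) (nat_lit 1795))
 (.leaf (nat_lit 0x9e214bd82) (nat_lit 1795))
) (.node (nat_lit 0x9e21bbd02) (.leaf (nat_lit 0x9e214fd02) (nat_lit 1793))
 (.leaf (nat_lit 0x9e21bbd02) (nat_lit 1795))
)))) (.node (nat_lit 0x9e41bb502) (.node (nat_lit 0x9e3dbc182) (.node (nat_lit 0x9e3d3a182) (.leaf (nat_lit 0x9e21bdd82) (nat_lit 1539))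
 (.node (nat_lit 0x9e3d4e102) (.leaf (nat_lit 0x9e3d3a182) (nat_lit 1795))
 (.leaf (nat_lit 0x9e3d4e102) (nat_lit 1795))
)) (.node (nat_lit 0x9e416b582) (.node (nat_lit 0x9e3dca102) (.leaf (nat_lit 0x9e3dbc182) (nat_lit 1539))
 (.leaf (nat_lit 0x9e3dca102) (nat_lit 1795))
) (.node (nat_lit 0x9e416f502) (.leaf (nat_lit 0x9e416b582) (nat_lit 1795))
 (.leaf (nat_lit 0x9e416f502) (nat_lit 1793))
))) (.node (nat_lit 0x9e55bc182) (.node (nat_lit 0x9e553a182) (.node (nat_lit 0x9e41bd582) (.leaf (nat_lit 0x9e41bb502) (nat_lit 1795))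
 (.leaf (nat_lit 0x9e41bd582) (nat_lit 1539))
) (.node (nat_lit 0x9e556e102) (.leaf (nat_lit 0x9e553a182) (nat_lit 2051))
 (.leaf (nat_lit 0x9e556e102) (nat_lit 2049))
)) (.node (nat_lit 0x9e614b502) (.node (nat_lit 0x9e55ea102) (.leaf (nat_lit 0x9e55bc182) (nat_lit 1795))
 (.leaf (nat_lit 0x9e55ea102) (nat_lit 2051))
) (.node (nat_lit 0x9e614f582) (.leaf (nat_lit 0x9e614b502) (nat_lit 1793))
 (.leaf (nat_lit 0x9e614f582) (nat_lit 1795))
))))) (.node (nat_lit 0xc1756fd82) (.node (nat_lit 0xc1555dd82) (.node (nat_lit 0x9e754a102) (.node (nat_lit 0x9e619f502) (.leaf (nat_lit 0x9e6199582) (nat_lit 1539))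
 (.node (nat_lit 0x9e751e182) (.leaf (nat_lit 0x9e619f502) (nat_lit 1795))
 (.leaf (nat_lit 0x9e751e182) (nat_lit 2051))
)) (.node (nat_lit 0x9e75ce102) (.node (nat_lit 0x9e7598182) (.leaf (nat_lit 0x9e754a102) (nat_lit 2049))
 (.leaf (nat_lit 0x9e7598182) (nat_lit 1795))
) (.node (nat_lit 0xc15509d02) (.leaf (nat_lit 0x9e75ce102) (nat_lit 2051))
 (.leaf (nat_lit 0xc15509d02) (nat_lit 771))
))) (.node (nat_lit 0xc15d7d582) (.node (nat_lit 0xc155fdd02) (.node (nat_lit 0xc155abd82) (.leaf (nat_lit 0xc1555dd82) (nat_lit 1027))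
 (.leaf (nat_lit 0xc155abd82) (nat_lit 1537))
) (.node (nat_lit 0xc15d09502) (.leaf (nat_lit 0xc155fdd02) (nat_lit 1539))
 (.leaf (nat_lit 0xc15d09502) (nat_lit 1027))
)) (.node (nat_lit 0xc15ddd502) (.node (nat_lit 0xc15dab582) (.leaf (nat_lit 0xc15d7d582) (nat_lit 1283))
 (.leaf (nat_lit 0xc15dab582) (nat_lit 1539))
) (.node (nat_lit 0xc1753bd02) (.leaf (nat_lit 0xc15ddd502) (nat_lit 1283))
 (.leaf (nat_lit 0xc1753bd02) (nat_lit 1283))
)))) (.node (nat_lit 0xc25509d02) (.node (nat_lit 0xc17d3b502) (.node (nat_lit 0xc17599d82) (.leaf (nat_lit 0xc1756fd82) (nat_lit 1539))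
 (.node (nat_lit 0xc175cfd02) (.leaf (nat_lit 0xc17599d82) (nat_lit 1025))
 (.leaf (nat_lit 0xc175cfd02) (nat_lit 1281))
)) (.node (nat_lit 0xc17d99582) (.node (nat_lit 0xc17d4f582) (.leaf (nat_lit 0xc17d3b502) (nat_lit 1539))
 (.leaf (nat_lit 0xc17d4f582) (nat_lit 1537))
) (.node (nat_lit 0xc17def502) (.leaf (nat_lit 0xc17d99582) (nat_lit 1281))
 (.leaf (nat_lit 0xc17def502) (nat_lit 1537))
))) (.node (nat_lit 0xc25d09502) (.node (nat_lit 0xc255abd82) (.node (nat_lit 0xc2555dd82) (.leaf (nat_lit 0xc25509d02) (nat_lit 1027))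
 (.leaf (nat_lit 0xc2555dd82) (nat_lit 1283))
) (.node (nat_lit 0xc255fdd02) (.leaf (nat_lit 0xc255abd82) (nat_lit 1793))
 (.leaf (nat_lit 0xc255fdd02) (nat_lit 1795))
)) (.node (nat_lit 0xc25dab582) (.node (nat_lit 0xc25d7d582) (.leaf (nat_lit 0xc25d09502) (nat_lit 1283))
 (.leaf (nat_lit 0xc25d7d582) (nat_lit 1539))
) (.node (nat_lit 0xc25ddd502) (.leaf (nat_lit 0xc25dab582) (nat_lit 1795))
 (.leaf (nat_lit 0xc25ddd502) (nat_lit 1539))
))))))) (.node (nat_lit 0xc71508402) (.node (nat_lit 0xc51d98402) (.node (nat_lit 0xc415ce482) (.node (nat_lit 0xc27def502) (.node (nat_lit 0xc275cfd02) (.node (nat_lit 0xc2756fd82) (.leaf (nat_lit 0xc2753bd02) (nat_lit 1539))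
 (.node (nat_lit 0xc27599d82) (.leaf (nat_lit 0xc2756fd82) (nat_lit 1795))
 (.leaf (nat_lit 0xc27599d82) (nat_lit 1281))
)) (.node (nat_lit 0xc27d4f582) (.node (nat_lit 0xc27d3b502) (.leaf (nat_lit 0xc275cfd02) (nat_lit 1537))
 (.leaf (nat_lit 0xc27d3b502) (nat_lit 1795))
) (.node (nat_lit 0xc27d99582) (.leaf (nat_lit 0xc27d4f582) (nat_lit 1793))
 (.leaf (nat_lit 0xc27d99582) (nat_lit 1537))
))) (.node (nat_lit 0xc404dd502) (.node (nat_lit 0xc40419582) (.node (nat_lit 0xc40409502) (.leaf (nat_lit 0xc27def502) (nat_lit 1793))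
 (.leaf (nat_lit 0xc40409502) (nat_lit 1283))
) (.node (nat_lit 0xc404cf582) (.leaf (nat_lit 0xc40419582) (nat_lit 1539))
 (.leaf (nat_lit 0xc404cf582) (nat_lit 1795))
)) (.node (nat_lit 0xc4155c482) (.node (nat_lit 0xc41508402) (.leaf (nat_lit 0xc404dd502) (nat_lit 1539))
 (.leaf (nat_lit 0xc41508402) (nat_lit 1282))
) (.node (nat_lit 0xc41598402) (.leaf (nat_lit 0xc4155c482) (nat_lit 1538))
 (.leaf (nat_lit 0xc41598402) (nat_lit 1795))
)))) (.node (nat_lit 0xc435aa402) (.node (nat_lit 0xc424ef502) (.node (nat_lit 0xc4242b582) (.leaf (nat_lit 0xc415ce482) (nat_lit 2050))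
 (.node (nat_lit 0xc4243b502) (.leaf (nat_lit 0xc4242b582) (nat_lit 1793))
 (.leaf (nat_lit 0xc4243b502) (nat_lit 1795))
)) (.node (nat_lit 0xc4353a402) (.node (nat_lit 0xc424fd582) (.leaf (nat_lit 0xc424ef502) (nat_lit 1793))
 (.leaf (nat_lit 0xc424fd582) (nat_lit 1537))
) (.node (nat_lit 0xc4356e482) (.leaf (nat_lit 0xc4353a402) (nat_lit 1794))
 (.leaf (nat_lit 0xc4356e482) (nat_lit 2050))
))) (.node (nat_lit 0xc504efd82) (.node (nat_lit 0xc50409d02) (.node (nat_lit 0xc435fc482) (.leaf (nat_lit 0xc435aa402) (nat_lit 1794))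
 (.leaf (nat_lit 0xc435fc482) (nat_lit 1538))
) (.node (nat_lit 0xc50419d82) (.leaf (nat_lit 0xc50409d02) (nat_lit 1539))
 (.leaf (nat_lit 0xc50419d82) (nat_lit 1795))
)) (.node (nat_lit 0xc51d08402) (.node (nat_lit 0xc504fdd02) (.leaf (nat_lit 0xc504efd82) (nat_lit 2051))
 (.leaf (nat_lit 0xc504fdd02) (nat_lit 1795))
) (.node (nat_lit 0xc51d7c482) (.leaf (nat_lit 0xc51d08402) (nat_lit 770))
 (.leaf (nat_lit 0xc51d7c482) (nat_lit 1538))
))))) (.node (nat_lit 0xc61d7c482) (.node (nat_lit 0xc53d4e482) (.node (nat_lit 0xc5243bd02) (.node (nat_lit 0xc51dee482) (.leaf (nat_lit 0xc51d98402) (nat_lit 2306))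
 (.node (nat_lit 0xc5242bd82) (.leaf (nat_lit 0xc51dee482) (nat_lit 1538))
 (.leaf (nat_lit 0xc5242bd82) (nat_lit 2049))
)) (.node (nat_lit 0xc524ddd82) (.node (nat_lit 0xc524cfd02) (.leaf (nat_lit 0xc5243bd02) (nat_lit 2051))
 (.leaf (nat_lit 0xc524cfd02) (nat_lit 2049))
) (.node (nat_lit 0xc53d3a402) (.leaf (nat_lit 0xc524ddd82) (nat_lit 1793))
 (.leaf (nat_lit 0xc53d3a402) (nat_lit 1282))
))) (.node (nat_lit 0xc60419d82) (.node (nat_lit 0xc53ddc482) (.node (nat_lit 0xc53daa402) (.leaf (nat_lit 0xc53d4e482) (nat_lit 2050))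
 (.leaf (nat_lit 0xc53daa402) (nat_lit 1794))
) (.node (nat_lit 0xc60409d02) (.leaf (nat_lit 0xc53ddc482) (nat_lit 1026))
 (.leaf (nat_lit 0xc60409d02) (nat_lit 1539))
)) (.node (nat_lit 0xc604fdd02) (.node (nat_lit 0xc604efd82) (.leaf (nat_lit 0xc60419d82) (nat_lit 1795))
 (.leaf (nat_lit 0xc604efd82) (nat_lit 2051))
) (.node (nat_lit 0xc61d08402) (.leaf (nat_lit 0xc604fdd02) (nat_lit 1795))
 (.leaf (nat_lit 0xc61d08402) (nat_lit 1026))
)))) (.node (nat_lit 0xc63d3a402) (.node (nat_lit 0xc6242bd82) (.node (nat_lit 0xc61d98402) (.leaf (nat_lit 0xc61d7c482) (nat_lit 1794))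
 (.node (nat_lit 0xc61dee482) (.leaf (nat_lit 0xc61d98402) (nat_lit 2051))
 (.leaf (nat_lit 0xc61dee482) (nat_lit 1794))
)) (.node (nat_lit 0xc624cfd02) (.node (nat_lit 0xc6243bd02) (.leaf (nat_lit 0xc6242bd82) (nat_lit 2049))
 (.leaf (nat_lit 0xc6243bd02) (nat_lit 2051))
) (.node (nat_lit 0xc624ddd82) (.leaf (nat_lit 0xc624cfd02) (nat_lit 2049))
 (.leaf (nat_lit 0xc624ddd82) (nat_lit 1793))
))) (.node (nat_lit 0xc70409502) (.node (nat_lit 0xc63daa402) (.node (nat_lit 0xc63d4e482) (.leaf (nat_lit 0xc63d3a402) (nat_lit 1538))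
 (.leaf (nat_lit 0xc63d4e482) (nat_lit 2306))
) (.node (nat_lit 0xc63ddc482) (.leaf (nat_lit 0xc63daa402) (nat_lit 2050))
 (.leaf (nat_lit 0xc63ddc482) (nat_lit 1282))
)) (.node (nat_lit 0xc704cf582) (.node (nat_lit 0xc70419582) (.leaf (nat_lit 0xc70409502) (nat_lit 1283))
 (.leaf (nat_lit 0xc70419582) (nat_lit 1539))
) (.node (nat_lit 0xc704dd502) (.leaf (nat_lit 0xc704cf582) (nat_lit 1795))
 (.leaf (nat_lit 0xc704dd502) (nat_lit 1539))
)))))) (.node (nat_lit 0xca558dd82) (.node (nat_lit 0xc955ebd02) (.node (nat_lit 0xc724fd582) (.node (nat_lit 0xc715ce482) (.node (nat_lit 0xc7155c482) (.leaf (nat_lit 0xc71508402) (nat_lit 1026))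
 (.node (nat_lit 0xc71598402) (.leaf (nat_lit 0xc7155c482) (nat_lit 1282))
 (.leaf (nat_lit 0xc71598402) (nat_lit 2050))
)) (.node (nat_lit 0xc7243b502) (.node (nat_lit 0xc7242b582) (.leaf (nat_lit 0xc715ce482) (nat_lit 1794))
 (.leaf (nat_lit 0xc7242b582) (nat_lit 1793))
) (.node (nat_lit 0xc724ef502) (.leaf (nat_lit 0xc7243b502) (nat_lit 1795))
 (.leaf (nat_lit 0xc724ef502) (nat_lit 1793))
))) (.node (nat_lit 0xc735fc482) (.node (nat_lit 0xc7356e482) (.node (nat_lit 0xc7353a402) (.leaf (nat_lit 0xc724fd582) (nat_lit 1537))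
 (.leaf (nat_lit 0xc7353a402) (nat_lit 1538))
) (.node (nat_lit 0xc735aa402) (.leaf (nat_lit 0xc7356e482) (nat_lit 1794))
 (.leaf (nat_lit 0xc735aa402) (nat_lit 1538))
)) (.node (nat_lit 0xc9554bd82) (.node (nat_lit 0xc9551fd02) (.leaf (nat_lit 0xc735fc482) (nat_lit 1282))
 (.leaf (nat_lit 0xc9551fd02) (nat_lit 1281))
) (.node (nat_lit 0xc955bdd82) (.leaf (nat_lit 0xc9554bd82) (nat_lit 1537))
 (.leaf (nat_lit 0xc955bdd82) (nat_lit 1027))
)))) (.node (nat_lit 0xc9758dd82) (.node (nat_lit 0xc95dbd582) (.node (nat_lit 0xc95d1f502) (.leaf (nat_lit 0xc955ebd02) (nat_lit 1283))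
 (.node (nat_lit 0xc95d6b582) (.leaf (nat_lit 0xc95d1f502) (nat_lit 1537))
 (.leaf (nat_lit 0xc95d6b582) (nat_lit 1539))
)) (.node (nat_lit 0xc9752fd02) (.node (nat_lit 0xc95dcb502) (.leaf (nat_lit 0xc95dbd582) (nat_lit 1283))
 (.leaf (nat_lit 0xc95dcb502) (nat_lit 1539))
) (.node (nat_lit 0xc9757bd82) (.leaf (nat_lit 0xc9752fd02) (nat_lit 1281))
 (.leaf (nat_lit 0xc9757bd82) (nat_lit 1537))
))) (.node (nat_lit 0xc97d8d582) (.node (nat_lit 0xc97d2f502) (.node (nat_lit 0xc975dbd02) (.leaf (nat_lit 0xc9758dd82) (nat_lit 1027))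
 (.leaf (nat_lit 0xc975dbd02) (nat_lit 1283))
) (.node (nat_lit 0xc97d5b582) (.leaf (nat_lit 0xc97d2f502) (nat_lit 1537))
 (.leaf (nat_lit 0xc97d5b582) (nat_lit 1539))
)) (.node (nat_lit 0xca552fd02) (.node (nat_lit 0xc97dfb502) (.leaf (nat_lit 0xc97d8d582) (nat_lit 1283))
 (.leaf (nat_lit 0xc97dfb502) (nat_lit 1539))
) (.node (nat_lit 0xca557bd82) (.leaf (nat_lit 0xca552fd02) (nat_lit 1537))
 (.leaf (nat_lit 0xca557bd82) (nat_lit 1793))
))))) (.node (nat_lit 0xcc045b582) (.node (nat_lit 0xca754bd82) (.node (nat_lit 0xca5d5b582) (.node (nat_lit 0xca55dbd02) (.leaf (nat_lit 0xca558dd82) (nat_lit 1283))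
 (.node (nat_lit 0xca5d2f502) (.leaf (nat_lit 0xca55dbd02) (nat_lit 1539))
 (.leaf (nat_lit 0xca5d2f502) (nat_lit 1793))
)) (.node (nat_lit 0xca5dfb502) (.node (nat_lit 0xca5d8d582) (.leaf (nat_lit 0xca5d5b582) (nat_lit 1795))
 (.leaf (nat_lit 0xca5d8d582) (nat_lit 1539))
) (.node (nat_lit 0xca751fd02) (.leaf (nat_lit 0xca5dfb502) (nat_lit 1795))
 (.leaf (nat_lit 0xca751fd02) (nat_lit 1537))
))) (.node (nat_lit 0xca7d6b582) (.node (nat_lit 0xca75ebd02) (.node (nat_lit 0xca75bdd82) (.leaf (nat_lit 0xca754bd82) (nat_lit 1793))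
 (.leaf (nat_lit 0xca75bdd82) (nat_lit 1283))
) (.node (nat_lit 0xca7d1f502) (.leaf (nat_lit 0xca75ebd02) (nat_lit 1539))
 (.leaf (nat_lit 0xca7d1f502) (nat_lit 1793))
)) (.node (nat_lit 0xca7dcb502) (.node (nat_lit 0xca7dbd582) (.leaf (nat_lit 0xca7d6b582) (nat_lit 1795))
 (.leaf (nat_lit 0xca7dbd582) (nat_lit 1539))
) (.node (nat_lit 0xcc044b502) (.leaf (nat_lit 0xca7dcb502) (nat_lit 1795))
 (.leaf (nat_lit 0xcc044b502) (nat_lit 1793))
)))) (.node (nat_lit 0xcc246b582) (.node (nat_lit 0xcc151e482) (.node (nat_lit 0xcc048d582) (.leaf (nat_lit 0xcc045b582) (nat_lit 1795))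
 (.node (nat_lit 0xcc049f502) (.leaf (nat_lit 0xcc048d582) (nat_lit 1539))
 (.leaf (nat_lit 0xcc049f502) (nat_lit 1795))
)) (.node (nat_lit 0xcc158c482) (.node (nat_lit 0xcc154a402) (.leaf (nat_lit 0xcc151e482) (nat_lit 2050))
 (.leaf (nat_lit 0xcc154a402) (nat_lit 1794))
) (.node (nat_lit 0xcc15da402) (.leaf (nat_lit 0xcc158c482) (nat_lit 1538))
 (.leaf (nat_lit 0xcc15da402) (nat_lit 1794))
))) (.node (nat_lit 0xcc352e482) (.node (nat_lit 0xcc24af502) (.node (nat_lit 0xcc247b502) (.leaf (nat_lit 0xcc246b582) (nat_lit 1795))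
 (.leaf (nat_lit 0xcc247b502) (nat_lit 1793))
) (.node (nat_lit 0xcc24bd582) (.leaf (nat_lit 0xcc24af502) (nat_lit 1795))
 (.leaf (nat_lit 0xcc24bd582) (nat_lit 1539))
)) (.node (nat_lit 0xcc35bc482) (.node (nat_lit 0xcc357a402) (.leaf (nat_lit 0xcc352e482) (nat_lit 2050))
 (.leaf (nat_lit 0xcc357a402) (nat_lit 1794))
) (.node (nat_lit 0xcc35ea402) (.leaf (nat_lit 0xcc35bc482) (nat_lit 1538))
 (.leaf (nat_lit 0xcc35ea402) (nat_lit 1794))
)))))))) (.node (nat_lit 0x106614b502) (.node (nat_lit 0x102244a102) (.node (nat_lit 0xce3dbc482) (.node (nat_lit 0xcd3dfa402) (.node (nat_lit 0xcd1dca402) (.node (nat_lit 0xcd04bdd82) (.node (nat_lit 0xcd045bd02) (.leaf (nat_lit 0xcd044bd82) (nat_lit 2051))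
 (.node (nat_lit 0xcd04afd02) (.leaf (nat_lit 0xcd045bd02) (nat_lit 2049))
 (.leaf (nat_lit 0xcd04afd02) (nat_lit 2051))
)) (.node (nat_lit 0xcd1d5a402) (.node (nat_lit 0xcd1d2e482) (.leaf (nat_lit 0xcd04bdd82) (nat_lit 1795))
 (.leaf (nat_lit 0xcd1d2e482) (nat_lit 2050))
) (.node (nat_lit 0xcd1dbc482) (.leaf (nat_lit 0xcd1d5a402) (nat_lit 1282))
 (.leaf (nat_lit 0xcd1dbc482) (nat_lit 1026))
))) (.node (nat_lit 0xcd249fd02) (.node (nat_lit 0xcd247bd82) (.node (nat_lit 0xcd246bd02) (.leaf (nat_lit 0xcd1dca402) (nat_lit 1794))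
 (.leaf (nat_lit 0xcd246bd02) (nat_lit 2049))
) (.node (nat_lit 0xcd248dd82) (.leaf (nat_lit 0xcd247bd82) (nat_lit 2051))
 (.leaf (nat_lit 0xcd248dd82) (nat_lit 1795))
)) (.node (nat_lit 0xcd3d6a402) (.node (nat_lit 0xcd3d1e482) (.leaf (nat_lit 0xcd249fd02) (nat_lit 2051))
 (.leaf (nat_lit 0xcd3d1e482) (nat_lit 2050))
) (.node (nat_lit 0xcd3d8c482) (.leaf (nat_lit 0xcd3d6a402) (nat_lit 1282))
 (.leaf (nat_lit 0xcd3d8c482) (nat_lit 1026))
)))) (.node (nat_lit 0xce1d8c482) (.node (nat_lit 0xce048dd82) (.node (nat_lit 0xce046bd02) (.leaf (nat_lit 0xcd3dfa402) (nat_lit 1794))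
 (.node (nat_lit 0xce047bd82) (.leaf (nat_lit 0xce046bd02) (nat_lit 2049))
 (.leaf (nat_lit 0xce047bd82) (nat_lit 2051))
)) (.node (nat_lit 0xce1d1e482) (.node (nat_lit 0xce049fd02) (.leaf (nat_lit 0xce048dd82) (nat_lit 1795))
 (.leaf (nat_lit 0xce049fd02) (nat_lit 2051))
) (.node (nat_lit 0xce1d6a402) (.leaf (nat_lit 0xce1d1e482) (nat_lit 2306))
 (.leaf (nat_lit 0xce1d6a402) (nat_lit 1538))
))) (.node (nat_lit 0xce24afd02) (.node (nat_lit 0xce244bd82) (.node (nat_lit 0xce1dfa402) (.leaf (nat_lit 0xce1d8c482) (nat_lit 1282))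
 (.leaf (nat_lit 0xce1dfa402) (nat_lit 2050))
) (.node (nat_lit 0xce245bd02) (.leaf (nat_lit 0xce244bd82) (nat_lit 2051))
 (.leaf (nat_lit 0xce245bd02) (nat_lit 2049))
)) (.node (nat_lit 0xce3d2e482) (.node (nat_lit 0xce24bdd82) (.leaf (nat_lit 0xce24afd02) (nat_lit 2051))
 (.leaf (nat_lit 0xce24bdd82) (nat_lit 1795))
) (.node (nat_lit 0xce3d5a402) (.leaf (nat_lit 0xce3d2e482) (nat_lit 2306))
 (.leaf (nat_lit 0xce3d5a402) (nat_lit 1538))
))))) (.node (nat_lit 0xcf354a402) (.node (nat_lit 0xcf157a402) (.node (nat_lit 0xcf047b502) (.node (nat_lit 0xce3dca402) (.leaf (nat_lit 0xce3dbc482) (nat_lit 1282))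
 (.node (nat_lit 0xcf046b582) (.leaf (nat_lit 0xce3dca402) (nat_lit 2050))
 (.leaf (nat_lit 0xcf046b582) (nat_lit 1795))
)) (.node (nat_lit 0xcf04bd582) (.node (nat_lit 0xcf04af502) (.leaf (nat_lit 0xcf047b502) (nat_lit 1793))
 (.leaf (nat_lit 0xcf04af502) (nat_lit 1795))
) (.node (nat_lit 0xcf152e482) (.leaf (nat_lit 0xcf04bd582) (nat_lit 1539))
 (.leaf (nat_lit 0xcf152e482) (nat_lit 1794))
))) (.node (nat_lit 0xcf245b582) (.node (nat_lit 0xcf15ea402) (.node (nat_lit 0xcf15bc482) (.leaf (nat_lit 0xcf157a402) (nat_lit 1538))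
 (.leaf (nat_lit 0xcf15bc482) (nat_lit 1282))
) (.node (nat_lit 0xcf244b502) (.leaf (nat_lit 0xcf15ea402) (nat_lit 1538))
 (.leaf (nat_lit 0xcf244b502) (nat_lit 1793))
)) (.node (nat_lit 0xcf249f502) (.node (nat_lit 0xcf248d582) (.leaf (nat_lit 0xcf245b582) (nat_lit 1795))
 (.leaf (nat_lit 0xcf248d582) (nat_lit 1539))
) (.node (nat_lit 0xcf351e482) (.leaf (nat_lit 0xcf249f502) (nat_lit 1795))
 (.leaf (nat_lit 0xcf351e482) (nat_lit 1794))
)))) (.node (nat_lit 0x1020408102) (.node (nat_lit 0x1020108402) (.node (nat_lit 0xcf358c482) (.leaf (nat_lit 0xcf354a402) (nat_lit 1538))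
 (.node (nat_lit 0xcf35da402) (.leaf (nat_lit 0xcf358c482) (nat_lit 1282))
 (.leaf (nat_lit 0xcf35da402) (nat_lit 1538))
)) (.node (nat_lit 0x1020198402) (.node (nat_lit 0x102010c482) (.leaf (nat_lit 0x1020108402) (nat_lit 1539))
 (.leaf (nat_lit 0x102010c482) (nat_lit 1795))
) (.node (nat_lit 0x102019e482) (.leaf (nat_lit 0x1020198402) (nat_lit 1795))
 (.leaf (nat_lit 0x102019e482) (nat_lit 2051))
))) (.node (nat_lit 0x102214a402) (.node (nat_lit 0x102048c102) (.node (nat_lit 0x1020418182) (.leaf (nat_lit 0x1020408102) (nat_lit 0))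
 (.leaf (nat_lit 0x1020418182) (nat_lit 1539))
) (.node (nat_lit 0x102049e182) (.leaf (nat_lit 0x102048c102) (nat_lit 1539))
 (.leaf (nat_lit 0x102049e182) (nat_lit 1538))
)) (.node (nat_lit 0x10221da402) (.node (nat_lit 0x102214e482) (.leaf (nat_lit 0x102214a402) (nat_lit 2051))
 (.leaf (nat_lit 0x102214e482) (nat_lit 2051))
) (.node (nat_lit 0x10221dc482) (.leaf (nat_lit 0x10221da402) (nat_lit 2051))
 (.leaf (nat_lit 0x10221dc482) (nat_lit 1795))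
)))))) (.node (nat_lit 0x103248d582) (.node (nat_lit 0x102619f502) (.node (nat_lit 0x10241dd502) (.node (nat_lit 0x10224dc182) (.node (nat_lit 0x102245a182) (.leaf (nat_lit 0x102244a102) (nat_lit 1282))
 (.node (nat_lit 0x10224ce102) (.leaf (nat_lit 0x102245a182) (nat_lit 1795))
 (.leaf (nat_lit 0x10224ce102) (nat_lit 1795))
)) (.node (nat_lit 0x102410d582) (.node (nat_lit 0x1024109502) (.leaf (nat_lit 0x10224dc182) (nat_lit 257))
 (.leaf (nat_lit 0x1024109502) (nat_lit 1280))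
) (.node (nat_lit 0x10241db582) (.leaf (nat_lit 0x102410d582) (nat_lit 1536))
 (.leaf (nat_lit 0x10241db582) (nat_lit 1792))
))) (.node (nat_lit 0x10255da182) (.node (nat_lit 0x102555c182) (.node (nat_lit 0x1025508102) (.leaf (nat_lit 0x10241dd502) (nat_lit 1536))
 (.leaf (nat_lit 0x1025508102) (nat_lit 1536))
) (.node (nat_lit 0x102558c102) (.leaf (nat_lit 0x102555c182) (nat_lit 1792))
 (.leaf (nat_lit 0x102558c102) (nat_lit 1792))
)) (.node (nat_lit 0x102614f582) (.node (nat_lit 0x102614b502) (.leaf (nat_lit 0x10255da182) (nat_lit 2048))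
 (.leaf (nat_lit 0x102614b502) (nat_lit 1792))
) (.node (nat_lit 0x1026199582) (.leaf (nat_lit 0x102614f582) (nat_lit 1792))
 (.leaf (nat_lit 0x1026199582) (nat_lit 1536))
)))) (.node (nat_lit 0x10304cf582) (.node (nat_lit 0x1027598182) (.node (nat_lit 0x102751e182) (.leaf (nat_lit 0x102619f502) (nat_lit 1792))
 (.node (nat_lit 0x102754a102) (.leaf (nat_lit 0x102751e182) (nat_lit 2048))
 (.leaf (nat_lit 0x102754a102) (nat_lit 2048))
)) (.node (nat_lit 0x1030409502) (.node (nat_lit 0x10275ce102) (.leaf (nat_lit 0x1027598182) (nat_lit 1792))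
 (.leaf (nat_lit 0x10275ce102) (nat_lit 2048))
) (.node (nat_lit 0x1030419582) (.leaf (nat_lit 0x1030409502) (nat_lit 1794))
 (.leaf (nat_lit 0x1030419582) (nat_lit 2050))
))) (.node (nat_lit 0x1031598402) (.node (nat_lit 0x1031508402) (.node (nat_lit 0x10304dd502) (.leaf (nat_lit 0x10304cf582) (nat_lit 2306))
 (.leaf (nat_lit 0x10304dd502) (nat_lit 2050))
) (.node (nat_lit 0x103155c482) (.leaf (nat_lit 0x1031508402) (nat_lit 771))
 (.leaf (nat_lit 0x103155c482) (nat_lit 1027))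
)) (.node (nat_lit 0x103244b502) (.node (nat_lit 0x10315ce482) (.leaf (nat_lit 0x1031598402) (nat_lit 1793))
 (.leaf (nat_lit 0x10315ce482) (nat_lit 1537))
) (.node (nat_lit 0x103245b582) (.leaf (nat_lit 0x103244b502) (nat_lit 2306))
 (.leaf (nat_lit 0x103245b582) (nat_lit 2306))
))))) (.node (nat_lit 0x106214e482) (.node (nat_lit 0x106010c482) (.node (nat_lit 0x103354a402) (.node (nat_lit 0x103249f502) (.leaf (nat_lit 0x103248d582) (nat_lit 2050))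
 (.node (nat_lit 0x103351e482) (.leaf (nat_lit 0x103249f502) (nat_lit 2306))
 (.leaf (nat_lit 0x103351e482) (nat_lit 1539))
)) (.node (nat_lit 0x10335da402) (.node (nat_lit 0x103358c482) (.leaf (nat_lit 0x103354a402) (nat_lit 1283))
 (.leaf (nat_lit 0x103358c482) (nat_lit 1025))
) (.node (nat_lit 0x1060108402) (.leaf (nat_lit 0x10335da402) (nat_lit 1281))
 (.leaf (nat_lit 0x1060108402) (nat_lit 1795))
))) (.node (nat_lit 0x1060418182) (.node (nat_lit 0x106019e482) (.node (nat_lit 0x1060198402) (.leaf (nat_lit 0x106010c482) (nat_lit 2051))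
 (.leaf (nat_lit 0x1060198402) (nat_lit 2051))
) (.node (nat_lit 0x1060408102) (.leaf (nat_lit 0x106019e482) (nat_lit 2307))
 (.leaf (nat_lit 0x1060408102) (nat_lit 512))
)) (.node (nat_lit 0x106049e182) (.node (nat_lit 0x106048c102) (.leaf (nat_lit 0x1060418182) (nat_lit 1795))
 (.leaf (nat_lit 0x106048c102) (nat_lit 1795))
) (.node (nat_lit 0x106214a402) (.leaf (nat_lit 0x106049e182) (nat_lit 1537))
 (.leaf (nat_lit 0x106214a402) (nat_lit 2307))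
)))) (.node (nat_lit 0x1064109502) (.node (nat_lit 0x106244a102) (.node (nat_lit 0x10621da402) (.leaf (nat_lit 0x106214e482) (nat_lit 2305))
 (.node (nat_lit 0x10621dc482) (.leaf (nat_lit 0x10621da402) (nat_lit 2305))
 (.leaf (nat_lit 0x10621dc482) (nat_lit 2049))
)) (.node (nat_lit 0x10624ce102) (.node (nat_lit 0x106245a182) (.leaf (nat_lit 0x106244a102) (nat_lit 1282))
 (.leaf (nat_lit 0x106245a182) (nat_lit 2049))
) (.node (nat_lit 0x10624dc182) (.leaf (nat_lit 0x10624ce102) (nat_lit 2049))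
 (.leaf (nat_lit 0x10624dc182) (nat_lit 768))
))) (.node (nat_lit 0x1065508102) (.node (nat_lit 0x10641db582) (.node (nat_lit 0x106410d582) (.leaf (nat_lit 0x1064109502) (nat_lit 1282))
 (.leaf (nat_lit 0x106410d582) (nat_lit 1538))
) (.node (nat_lit 0x10641dd502) (.leaf (nat_lit 0x10641db582) (nat_lit 1794))
 (.leaf (nat_lit 0x10641dd502) (nat_lit 1538))
)) (.node (nat_lit 0x106558c102) (.node (nat_lit 0x106555c182) (.leaf (nat_lit 0x1065508102) (nat_lit 1538))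
 (.leaf (nat_lit 0x106555c182) (nat_lit 1794))
) (.node (nat_lit 0x10655da182) (.leaf (nat_lit 0x106558c102) (nat_lit 1794))
 (.leaf (nat_lit 0x10655da182) (nat_lit 2050))
))))))) (.node (nat_lit 0x10b153a402) (.node (nat_lit 0x10a04ae102) (.node (nat_lit 0x10715ce482) (.node (nat_lit 0x10675ce102) (.node (nat_lit 0x106619f502) (.node (nat_lit 0x106614f582) (.leaf (nat_lit 0x106614b502) (nat_lit 1794))
 (.node (nat_lit 0x1066199582) (.leaf (nat_lit 0x106614f582) (nat_lit 1794))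
 (.leaf (nat_lit 0x1066199582) (nat_lit 1538))
)) (.node (nat_lit 0x106754a102) (.node (nat_lit 0x106751e182) (.leaf (nat_lit 0x106619f502) (nat_lit 1794))
 (.leaf (nat_lit 0x106751e182) (nat_lit 2050))
) (.node (nat_lit 0x1067598182) (.leaf (nat_lit 0x106754a102) (nat_lit 2050))
 (.leaf (nat_lit 0x1067598182) (nat_lit 1794))
))) (.node (nat_lit 0x10704dd502) (.node (nat_lit 0x1070419582) (.node (nat_lit 0x1070409502) (.leaf (nat_lit 0x10675ce102) (nat_lit 2050))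
 (.leaf (nat_lit 0x1070409502) (nat_lit 1539))
) (.node (nat_lit 0x10704cf582) (.leaf (nat_lit 0x1070419582) (nat_lit 1795))
 (.leaf (nat_lit 0x10704cf582) (nat_lit 2051))
)) (.node (nat_lit 0x107155c482) (.node (nat_lit 0x1071508402) (.leaf (nat_lit 0x10704dd502) (nat_lit 1795))
 (.leaf (nat_lit 0x1071508402) (nat_lit 771))
) (.node (nat_lit 0x1071598402) (.leaf (nat_lit 0x107155c482) (nat_lit 1027))
 (.leaf (nat_lit 0x1071598402) (nat_lit 1793))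
)))) (.node (nat_lit 0x107358c482) (.node (nat_lit 0x107248d582) (.node (nat_lit 0x107244b502) (.leaf (nat_lit 0x10715ce482) (nat_lit 1537))
 (.node (nat_lit 0x107245b582) (.leaf (nat_lit 0x107244b502) (nat_lit 2051))
 (.leaf (nat_lit 0x107245b582) (nat_lit 2049))
)) (.node (nat_lit 0x107351e482) (.node (nat_lit 0x107249f502) (.leaf (nat_lit 0x107248d582) (nat_lit 1793))
 (.leaf (nat_lit 0x107249f502) (nat_lit 2049))
) (.node (nat_lit 0x107354a402) (.leaf (nat_lit 0x107351e482) (nat_lit 1539))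
 (.leaf (nat_lit 0x107354a402) (nat_lit 1283))
))) (.node (nat_lit 0x10a01ba402) (.node (nat_lit 0x10a012a402) (.node (nat_lit 0x10735da402) (.leaf (nat_lit 0x107358c482) (nat_lit 1025))
 (.leaf (nat_lit 0x10735da402) (nat_lit 1281))
) (.node (nat_lit 0x10a012e482) (.leaf (nat_lit 0x10a012a402) (nat_lit 2051))
 (.leaf (nat_lit 0x10a012e482) (nat_lit 2051))
)) (.node (nat_lit 0x10a042a102) (.node (nat_lit 0x10a01bc482) (.leaf (nat_lit 0x10a01ba402) (nat_lit 2051))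
 (.leaf (nat_lit 0x10a01bc482) (nat_lit 1795))
) (.node (nat_lit 0x10a043a182) (.leaf (nat_lit 0x10a042a102) (nat_lit 1025))
 (.leaf (nat_lit 0x10a043a182) (nat_lit 1795))
))))) (.node (nat_lit 0x10a557a182) (.node (nat_lit 0x10a247a182) (.node (nat_lit 0x10a216e482) (.node (nat_lit 0x10a04bc182) (.leaf (nat_lit 0x10a04ae102) (nat_lit 1795))
 (.node (nat_lit 0x10a216a402) (.leaf (nat_lit 0x10a04bc182) (nat_lit 1026))
 (.leaf (nat_lit 0x10a216a402) (nat_lit 2051))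
)) (.node (nat_lit 0x10a21fc482) (.node (nat_lit 0x10a21fa402) (.leaf (nat_lit 0x10a216e482) (nat_lit 2051))
 (.leaf (nat_lit 0x10a21fa402) (nat_lit 2051))
) (.node (nat_lit 0x10a246a102) (.leaf (nat_lit 0x10a21fc482) (nat_lit 1795))
 (.leaf (nat_lit 0x10a246a102) (nat_lit 1282))
))) (.node (nat_lit 0x10a412f502) (.node (nat_lit 0x10a24fc182) (.node (nat_lit 0x10a24ee102) (.leaf (nat_lit 0x10a247a182) (nat_lit 1795))
 (.leaf (nat_lit 0x10a24ee102) (nat_lit 1795))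
) (.node (nat_lit 0x10a412b582) (.leaf (nat_lit 0x10a24fc182) (nat_lit 768))
 (.leaf (nat_lit 0x10a412b582) (nat_lit 1792))
)) (.node (nat_lit 0x10a41fd582) (.node (nat_lit 0x10a41fb502) (.leaf (nat_lit 0x10a412f502) (nat_lit 1792))
 (.leaf (nat_lit 0x10a41fb502) (nat_lit 1792))
) (.node (nat_lit 0x10a552e102) (.leaf (nat_lit 0x10a41fd582) (nat_lit 1536))
 (.leaf (nat_lit 0x10a552e102) (nat_lit 2048))
)))) (.node (nat_lit 0x10a753a182) (.node (nat_lit 0x10a616b582) (.node (nat_lit 0x10a55aa102) (.leaf (nat_lit 0x10a557a182) (nat_lit 2048))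
 (.node (nat_lit 0x10a55fc182) (.leaf (nat_lit 0x10a55aa102) (nat_lit 2048))
 (.leaf (nat_lit 0x10a55fc182) (nat_lit 1792))
)) (.node (nat_lit 0x10a61bb502) (.node (nat_lit 0x10a616f502) (.leaf (nat_lit 0x10a616b582) (nat_lit 1792))
 (.leaf (nat_lit 0x10a616f502) (nat_lit 1792))
) (.node (nat_lit 0x10a61bd582) (.leaf (nat_lit 0x10a61bb502) (nat_lit 1792))
 (.leaf (nat_lit 0x10a61bd582) (nat_lit 1536))
))) (.node (nat_lit 0x10b042b582) (.node (nat_lit 0x10a75bc182) (.node (nat_lit 0x10a756e102) (.leaf (nat_lit 0x10a753a182) (nat_lit 2048))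
 (.leaf (nat_lit 0x10a756e102) (nat_lit 2048))
) (.node (nat_lit 0x10a75ea102) (.leaf (nat_lit 0x10a75bc182) (nat_lit 1792))
 (.leaf (nat_lit 0x10a75ea102) (nat_lit 2048))
)) (.node (nat_lit 0x10b04ef502) (.node (nat_lit 0x10b043b502) (.leaf (nat_lit 0x10b042b582) (nat_lit 2306))
 (.leaf (nat_lit 0x10b043b502) (nat_lit 2306))
) (.node (nat_lit 0x10b04fd582) (.leaf (nat_lit 0x10b04ef502) (nat_lit 2306))
 (.leaf (nat_lit 0x10b04fd582) (nat_lit 2050))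
)))))) (.node (nat_lit 0x10e41bb502) (.node (nat_lit 0x10e01fc482) (.node (nat_lit 0x10b24bd582) (.node (nat_lit 0x10b15fc482) (.node (nat_lit 0x10b156e482) (.leaf (nat_lit 0x10b153a402) (nat_lit 1281))
 (.node (nat_lit 0x10b15aa402) (.leaf (nat_lit 0x10b156e482) (nat_lit 1537))
 (.leaf (nat_lit 0x10b15aa402) (nat_lit 1283))
)) (.node (nat_lit 0x10b247b502) (.node (nat_lit 0x10b246b582) (.leaf (nat_lit 0x10b15fc482) (nat_lit 1027))
 (.leaf (nat_lit 0x10b246b582) (nat_lit 2306))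
) (.node (nat_lit 0x10b24af502) (.leaf (nat_lit 0x10b247b502) (nat_lit 2306))
 (.leaf (nat_lit 0x10b24af502) (nat_lit 2306))
))) (.node (nat_lit 0x10b35ea402) (.node (nat_lit 0x10b357a402) (.node (nat_lit 0x10b352e482) (.leaf (nat_lit 0x10b24bd582) (nat_lit 2050))
 (.leaf (nat_lit 0x10b352e482) (nat_lit 1537))
) (.node (nat_lit 0x10b35bc482) (.leaf (nat_lit 0x10b357a402) (nat_lit 1281))
 (.leaf (nat_lit 0x10b35bc482) (nat_lit 1027))
)) (.node (nat_lit 0x10e016e482) (.node (nat_lit 0x10e016a402) (.leaf (nat_lit 0x10b35ea402) (nat_lit 1283))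
 (.leaf (nat_lit 0x10e016a402) (nat_lit 2305))
) (.node (nat_lit 0x10e01fa402) (.leaf (nat_lit 0x10e016e482) (nat_lit 2307))
 (.leaf (nat_lit 0x10e01fa402) (nat_lit 2307))
)))) (.node (nat_lit 0x10e21ba402) (.node (nat_lit 0x10e04ee102) (.node (nat_lit 0x10e046a102) (.leaf (nat_lit 0x10e01fc482) (nat_lit 2051))
 (.node (nat_lit 0x10e047a182) (.leaf (nat_lit 0x10e046a102) (nat_lit 1024))
 (.leaf (nat_lit 0x10e047a182) (nat_lit 2051))
)) (.node (nat_lit 0x10e212a402) (.node (nat_lit 0x10e04fc182) (.leaf (nat_lit 0x10e04ee102) (nat_lit 2051))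
 (.leaf (nat_lit 0x10e04fc182) (nat_lit 1026))
) (.node (nat_lit 0x10e212e482) (.leaf (nat_lit 0x10e212a402) (nat_lit 2305))
 (.leaf (nat_lit 0x10e212e482) (nat_lit 2307))
))) (.node (nat_lit 0x10e24ae102) (.node (nat_lit 0x10e242a102) (.node (nat_lit 0x10e21bc482) (.leaf (nat_lit 0x10e21ba402) (nat_lit 2307))
 (.leaf (nat_lit 0x10e21bc482) (nat_lit 2051))
) (.node (nat_lit 0x10e243a182) (.leaf (nat_lit 0x10e242a102) (nat_lit 1281))
 (.leaf (nat_lit 0x10e243a182) (nat_lit 2051))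
)) (.node (nat_lit 0x10e416b582) (.node (nat_lit 0x10e24bc182) (.leaf (nat_lit 0x10e24ae102) (nat_lit 2051))
 (.leaf (nat_lit 0x10e24bc182) (nat_lit 768))
) (.node (nat_lit 0x10e416f502) (.leaf (nat_lit 0x10e416b582) (nat_lit 1794))
 (.leaf (nat_lit 0x10e416f502) (nat_lit 1794))
))))) (.node (nat_lit 0x10f047b502) (.node (nat_lit 0x10e612f502) (.node (nat_lit 0x10e556e102) (.node (nat_lit 0x10e41bd582) (.leaf (nat_lit 0x10e41bb502) (nat_lit 1794))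
 (.node (nat_lit 0x10e553a182) (.leaf (nat_lit 0x10e41bd582) (nat_lit 1538))
 (.leaf (nat_lit 0x10e553a182) (nat_lit 2050))
)) (.node (nat_lit 0x10e55ea102) (.node (nat_lit 0x10e55bc182) (.leaf (nat_lit 0x10e556e102) (nat_lit 2050))
 (.leaf (nat_lit 0x10e55bc182) (nat_lit 1794))
) (.node (nat_lit 0x10e612b582) (.leaf (nat_lit 0x10e55ea102) (nat_lit 2050))
 (.leaf (nat_lit 0x10e612b582) (nat_lit 1794))
))) (.node (nat_lit 0x10e757a182) (.node (nat_lit 0x10e61fd582) (.node (nat_lit 0x10e61fb502) (.leaf (nat_lit 0x10e612f502) (nat_lit 1794))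
 (.leaf (nat_lit 0x10e61fb502) (nat_lit 1794))
) (.node (nat_lit 0x10e752e102) (.leaf (nat_lit 0x10e61fd582) (nat_lit 1538))
 (.leaf (nat_lit 0x10e752e102) (nat_lit 2050))
)) (.node (nat_lit 0x10e75fc182) (.node (nat_lit 0x10e75aa102) (.leaf (nat_lit 0x10e757a182) (nat_lit 2050))
 (.leaf (nat_lit 0x10e75aa102) (nat_lit 2050))
) (.node (nat_lit 0x10f046b582) (.leaf (nat_lit 0x10e75fc182) (nat_lit 1794))
 (.leaf (nat_lit 0x10f046b582) (nat_lit 2051))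
)))) (.node (nat_lit 0x10f242b582) (.node (nat_lit 0x10f152e482) (.node (nat_lit 0x10f04af502) (.leaf (nat_lit 0x10f047b502) (nat_lit 2049))
 (.node (nat_lit 0x10f04bd582) (.leaf (nat_lit 0x10f04af502) (nat_lit 2051))
 (.leaf (nat_lit 0x10f04bd582) (nat_lit 1795))
)) (.node (nat_lit 0x10f15bc482) (.node (nat_lit 0x10f157a402) (.leaf (nat_lit 0x10f152e482) (nat_lit 1537))
 (.leaf (nat_lit 0x10f157a402) (nat_lit 1281))
) (.node (nat_lit 0x10f15ea402) (.leaf (nat_lit 0x10f15bc482) (nat_lit 1027))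
 (.leaf (nat_lit 0x10f15ea402) (nat_lit 1283))
))) (.node (nat_lit 0x10f353a402) (.node (nat_lit 0x10f24ef502) (.node (nat_lit 0x10f243b502) (.leaf (nat_lit 0x10f242b582) (nat_lit 2051))
 (.leaf (nat_lit 0x10f243b502) (nat_lit 2049))
) (.node (nat_lit 0x10f24fd582) (.leaf (nat_lit 0x10f24ef502) (nat_lit 2051))
 (.leaf (nat_lit 0x10f24fd582) (nat_lit 1795))
)) (.node (nat_lit 0x10f35aa402) (.node (nat_lit 0x10f356e482) (.leaf (nat_lit 0x10f353a402) (nat_lit 1281))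
 (.leaf (nat_lit 0x10f356e482) (nat_lit 1537))
) (.node (nat_lit 0x10f35fc482) (.leaf (nat_lit 0x10f35aa402) (nat_lit 1283))
 (.leaf (nat_lit 0x10f35fc482) (nat_lit 1027))
)))))))))) (.node (nat_lit 0x18a012a402) (.node (nat_lit 0x1444d09d02) (.node (nat_lit 0x11a216ad82) (.node (nat_lit 0x1153d3ad82) (.node (nat_lit 0x1122dca102) (.node (nat_lit 0x1117dfad02) (.node (nat_lit 0x1115dcad82) (.node (nat_lit 0x1114dfdd02) (.node (nat_lit 0x1114d3dd82) (.leaf (nat_lit 0x1114d09d02) (nat_lit 1280))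
 (.node (nat_lit 0x1114dcbd82) (.leaf (nat_lit 0x1114d3dd82) (nat_lit 1536))
 (.leaf (nat_lit 0x1114dcbd82) (nat_lit 2048))
)) (.node (nat_lit 0x1115d7cd82) (.node (nat_lit 0x1115d08d02) (.leaf (nat_lit 0x1114dfdd02) (nat_lit 1792))
 (.leaf (nat_lit 0x1115d08d02) (nat_lit 768))
) (.node (nat_lit 0x1115dbcd02) (.leaf (nat_lit 0x1115d7cd82) (nat_lit 1536))
 (.leaf (nat_lit 0x1115dbcd02) (nat_lit 1792))
))) (.node (nat_lit 0x1116dbbd02) (.node (nat_lit 0x1116d7bd82) (.node (nat_lit 0x1116d4fd02) (.leaf (nat_lit 0x1115dcad82) (nat_lit 1536))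
 (.leaf (nat_lit 0x1116d4fd02) (nat_lit 1792))
) (.node (nat_lit 0x1116d8dd82) (.leaf (nat_lit 0x1116d7bd82) (nat_lit 2048))
 (.leaf (nat_lit 0x1116d8dd82) (nat_lit 1536))
)) (.node (nat_lit 0x1117d4ed02) (.node (nat_lit 0x1117d3ad82) (.leaf (nat_lit 0x1116dbbd02) (nat_lit 1792))
 (.leaf (nat_lit 0x1117d3ad82) (nat_lit 2048))
) (.node (nat_lit 0x1117d8cd82) (.leaf (nat_lit 0x1117d4ed02) (nat_lit 1280))
 (.leaf (nat_lit 0x1117d8cd82) (nat_lit 1024))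
)))) (.node (nat_lit 0x1120d8c102) (.node (nat_lit 0x11201bad82) (.node (nat_lit 0x1120108d02) (.leaf (nat_lit 0x1117dfad02) (nat_lit 1792))
 (.node (nat_lit 0x112010cd82) (.leaf (nat_lit 0x1120108d02) (nat_lit 1539))
 (.leaf (nat_lit 0x112010cd82) (nat_lit 1795))
)) (.node (nat_lit 0x1120d08102) (.node (nat_lit 0x11201bcd02) (.leaf (nat_lit 0x11201bad82) (nat_lit 2051))
 (.leaf (nat_lit 0x11201bcd02) (nat_lit 1795))
) (.node (nat_lit 0x1120d3c182) (.leaf (nat_lit 0x1120d08102) (nat_lit 1795))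
 (.leaf (nat_lit 0x1120d3c182) (nat_lit 2051))
))) (.node (nat_lit 0x11221fad02) (.node (nat_lit 0x112214ad82) (.node (nat_lit 0x1120dba182) (.leaf (nat_lit 0x1120d8c102) (nat_lit 2051))
 (.leaf (nat_lit 0x1120dba182) (nat_lit 2307))
) (.node (nat_lit 0x112214ed02) (.leaf (nat_lit 0x112214ad82) (nat_lit 2051))
 (.leaf (nat_lit 0x112214ed02) (nat_lit 2051))
)) (.node (nat_lit 0x1122d4e102) (.node (nat_lit 0x11221fcd82) (.leaf (nat_lit 0x11221fad02) (nat_lit 2051))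
 (.leaf (nat_lit 0x11221fcd82) (nat_lit 1795))
) (.node (nat_lit 0x1122d7a182) (.leaf (nat_lit 0x1122d4e102) (nat_lit 2307))
 (.leaf (nat_lit 0x1122d7a182) (nat_lit 2307))
))))) (.node (nat_lit 0x1127d4e102) (.node (nat_lit 0x1125d7c182) (.node (nat_lit 0x112410dd82) (.node (nat_lit 0x1122dfc182) (.leaf (nat_lit 0x1122dca102) (nat_lit 2307))
 (.node (nat_lit 0x1124109d02) (.leaf (nat_lit 0x1122dfc182) (nat_lit 2051))
 (.leaf (nat_lit 0x1124109d02) (nat_lit 1027))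
)) (.node (nat_lit 0x11241fdd02) (.node (nat_lit 0x11241fbd82) (.leaf (nat_lit 0x112410dd82) (nat_lit 1283))
 (.leaf (nat_lit 0x11241fbd82) (nat_lit 1795))
) (.node (nat_lit 0x1125d08102) (.leaf (nat_lit 0x11241fdd02) (nat_lit 1539))
 (.leaf (nat_lit 0x1125d08102) (nat_lit 1283))
))) (.node (nat_lit 0x112614fd02) (.node (nat_lit 0x1125dfa182) (.node (nat_lit 0x1125d8c102) (.leaf (nat_lit 0x1125d7c182) (nat_lit 1539))
 (.leaf (nat_lit 0x1125d8c102) (nat_lit 1539))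
) (.node (nat_lit 0x112614bd82) (.leaf (nat_lit 0x1125dfa182) (nat_lit 1795))
 (.leaf (nat_lit 0x112614bd82) (nat_lit 1793))
)) (.node (nat_lit 0x11261bdd82) (.node (nat_lit 0x11261bbd02) (.leaf (nat_lit 0x112614fd02) (nat_lit 1539))
 (.leaf (nat_lit 0x11261bbd02) (nat_lit 1537))
) (.node (nat_lit 0x1127d3a182) (.leaf (nat_lit 0x11261bdd82) (nat_lit 1281))
 (.leaf (nat_lit 0x1127d3a182) (nat_lit 1793))
)))) (.node (nat_lit 0x1151d08d02) (.node (nat_lit 0x1150d09d02) (.node (nat_lit 0x1127dbc182) (.leaf (nat_lit 0x1127d4e102) (nat_lit 1795))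
 (.node (nat_lit 0x1127dca102) (.leaf (nat_lit 0x1127dbc182) (nat_lit 1537))
 (.leaf (nat_lit 0x1127dca102) (nat_lit 1793))
)) (.node (nat_lit 0x1150dcbd82) (.node (nat_lit 0x1150d3dd82) (.leaf (nat_lit 0x1150d09d02) (nat_lit 1538))
 (.leaf (nat_lit 0x1150d3dd82) (nat_lit 1794))
) (.node (nat_lit 0x1150dfdd02) (.leaf (nat_lit 0x1150dcbd82) (nat_lit 2050))
 (.leaf (nat_lit 0x1150dfdd02) (nat_lit 1794))
))) (.node (nat_lit 0x1152d4fd02) (.node (nat_lit 0x1151dbcd02) (.node (nat_lit 0x1151d7cd82) (.leaf (nat_lit 0x1151d08d02) (nat_lit 1026))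
 (.leaf (nat_lit 0x1151d7cd82) (nat_lit 1794))
) (.node (nat_lit 0x1151dcad82) (.leaf (nat_lit 0x1151dbcd02) (nat_lit 1794))
 (.leaf (nat_lit 0x1151dcad82) (nat_lit 1794))
)) (.node (nat_lit 0x1152d8dd82) (.node (nat_lit 0x1152d7bd82) (.leaf (nat_lit 0x1152d4fd02) (nat_lit 2050))
 (.leaf (nat_lit 0x1152d7bd82) (nat_lit 2050))
) (.node (nat_lit 0x1152dbbd02) (.leaf (nat_lit 0x1152d8dd82) (nat_lit 1794))
 (.leaf (nat_lit 0x1152dbbd02) (nat_lit 2050))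
)))))) (.node (nat_lit 0x11661fad02) (.node (nat_lit 0x11621bdd82) (.node (nat_lit 0x11601fdd02) (.node (nat_lit 0x1153dfad02) (.node (nat_lit 0x1153d4ed02) (.leaf (nat_lit 0x1153d3ad82) (nat_lit 2050))
 (.node (nat_lit 0x1153d8cd82) (.leaf (nat_lit 0x1153d4ed02) (nat_lit 1538))
 (.leaf (nat_lit 0x1153d8cd82) (nat_lit 1282))
)) (.node (nat_lit 0x116010dd82) (.node (nat_lit 0x1160109d02) (.leaf (nat_lit 0x1153dfad02) (nat_lit 2050))
 (.leaf (nat_lit 0x1160109d02) (nat_lit 1027))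
) (.node (nat_lit 0x11601fbd82) (.leaf (nat_lit 0x116010dd82) (nat_lit 1283))
 (.leaf (nat_lit 0x11601fbd82) (nat_lit 1793))
))) (.node (nat_lit 0x1161dfa182) (.node (nat_lit 0x1161d7c182) (.node (nat_lit 0x1161d08102) (.leaf (nat_lit 0x11601fdd02) (nat_lit 1795))
 (.leaf (nat_lit 0x1161d08102) (nat_lit 1539))
) (.node (nat_lit 0x1161d8c102) (.leaf (nat_lit 0x1161d7c182) (nat_lit 1795))
 (.leaf (nat_lit 0x1161d8c102) (nat_lit 1795))
)) (.node (nat_lit 0x116214fd02) (.node (nat_lit 0x116214bd82) (.leaf (nat_lit 0x1161dfa182) (nat_lit 2051))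
 (.leaf (nat_lit 0x116214bd82) (nat_lit 1795))
) (.node (nat_lit 0x11621bbd02) (.leaf (nat_lit 0x116214fd02) (nat_lit 1539))
 (.leaf (nat_lit 0x11621bbd02) (nat_lit 1537))
)))) (.node (nat_lit 0x11641bad82) (.node (nat_lit 0x1163dbc182) (.node (nat_lit 0x1163d3a182) (.leaf (nat_lit 0x11621bdd82) (nat_lit 1281))
 (.node (nat_lit 0x1163d4e102) (.leaf (nat_lit 0x1163d3a182) (nat_lit 2049))
 (.leaf (nat_lit 0x1163d4e102) (nat_lit 2051))
)) (.node (nat_lit 0x1164108d02) (.node (nat_lit 0x1163dca102) (.leaf (nat_lit 0x1163dbc182) (nat_lit 1793))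
 (.leaf (nat_lit 0x1163dca102) (nat_lit 2049))
) (.node (nat_lit 0x116410cd82) (.leaf (nat_lit 0x1164108d02) (nat_lit 1283))
 (.leaf (nat_lit 0x116410cd82) (nat_lit 1539))
))) (.node (nat_lit 0x1164d8c102) (.node (nat_lit 0x1164d08102) (.node (nat_lit 0x11641bcd02) (.leaf (nat_lit 0x11641bad82) (nat_lit 1795))
 (.leaf (nat_lit 0x11641bcd02) (nat_lit 1539))
) (.node (nat_lit 0x1164d3c182) (.leaf (nat_lit 0x1164d08102) (nat_lit 1539))
 (.leaf (nat_lit 0x1164d3c182) (nat_lit 1795))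
)) (.node (nat_lit 0x116614ad82) (.node (nat_lit 0x1164dba182) (.leaf (nat_lit 0x1164d8c102) (nat_lit 1795))
 (.leaf (nat_lit 0x1164dba182) (nat_lit 2051))
) (.node (nat_lit 0x116614ed02) (.leaf (nat_lit 0x116614ad82) (nat_lit 1793))
 (.leaf (nat_lit 0x116614ed02) (nat_lit 1795))
))))) (.node (nat_lit 0x1196d6fd82) (.node (nat_lit 0x1194d2bd82) (.node (nat_lit 0x1166d7a182) (.node (nat_lit 0x11661fcd82) (.leaf (nat_lit 0x11661fad02) (nat_lit 1793))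
 (.node (nat_lit 0x1166d4e102) (.leaf (nat_lit 0x11661fcd82) (nat_lit 1537))
 (.leaf (nat_lit 0x1166d4e102) (nat_lit 2051))
)) (.node (nat_lit 0x1166dfc182) (.node (nat_lit 0x1166dca102) (.leaf (nat_lit 0x1166d7a182) (nat_lit 2049))
 (.leaf (nat_lit 0x1166dca102) (nat_lit 2049))
) (.node (nat_lit 0x1194d1fd02) (.leaf (nat_lit 0x1166dfc182) (nat_lit 1793))
 (.leaf (nat_lit 0x1194d1fd02) (nat_lit 1792))
))) (.node (nat_lit 0x1195d6ad82) (.node (nat_lit 0x1194debd02) (.node (nat_lit 0x1194dddd82) (.leaf (nat_lit 0x1194d2bd82) (nat_lit 2048))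
 (.leaf (nat_lit 0x1194dddd82) (nat_lit 1536))
) (.node (nat_lit 0x1195d1ed02) (.leaf (nat_lit 0x1194debd02) (nat_lit 1792))
 (.leaf (nat_lit 0x1195d1ed02) (nat_lit 1280))
)) (.node (nat_lit 0x1195ddcd82) (.node (nat_lit 0x1195daad02) (.leaf (nat_lit 0x1195d6ad82) (nat_lit 2048))
 (.leaf (nat_lit 0x1195daad02) (nat_lit 1792))
) (.node (nat_lit 0x1196d5bd02) (.leaf (nat_lit 0x1195ddcd82) (nat_lit 1024))
 (.leaf (nat_lit 0x1196d5bd02) (nat_lit 1792))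
)))) (.node (nat_lit 0x11a012ad02) (.node (nat_lit 0x1197d2ed82) (.node (nat_lit 0x1196d99d82) (.leaf (nat_lit 0x1196d6fd82) (nat_lit 2048))
 (.node (nat_lit 0x1196dafd02) (.leaf (nat_lit 0x1196d99d82) (nat_lit 1536))
 (.leaf (nat_lit 0x1196dafd02) (nat_lit 1792))
)) (.node (nat_lit 0x1197d98d82) (.node (nat_lit 0x1197d5ad02) (.leaf (nat_lit 0x1197d2ed82) (nat_lit 2048))
 (.leaf (nat_lit 0x1197d5ad02) (nat_lit 1280))
) (.node (nat_lit 0x1197deed02) (.leaf (nat_lit 0x1197d98d82) (nat_lit 1024))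
 (.leaf (nat_lit 0x1197deed02) (nat_lit 1792))
))) (.node (nat_lit 0x11a0d1e182) (.node (nat_lit 0x11a0198d82) (.node (nat_lit 0x11a012ed82) (.leaf (nat_lit 0x11a012ad02) (nat_lit 2051))
 (.leaf (nat_lit 0x11a012ed82) (nat_lit 2051))
) (.node (nat_lit 0x11a019ed02) (.leaf (nat_lit 0x11a0198d82) (nat_lit 1795))
 (.leaf (nat_lit 0x11a019ed02) (nat_lit 2051))
)) (.node (nat_lit 0x11a0d98182) (.node (nat_lit 0x11a0d2a102) (.leaf (nat_lit 0x11a0d1e182) (nat_lit 2307))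
 (.leaf (nat_lit 0x11a0d2a102) (nat_lit 2307))
) (.node (nat_lit 0x11a0dae102) (.leaf (nat_lit 0x11a0d98182) (nat_lit 2051))
 (.leaf (nat_lit 0x11a0dae102) (nat_lit 2307))
))))))) (.node (nat_lit 0x11e4d5a182) (.node (nat_lit 0x11d1d98d82) (.node (nat_lit 0x11a5ddc182) (.node (nat_lit 0x11a2dea102) (.node (nat_lit 0x11a21dcd82) (.node (nat_lit 0x11a216ed02) (.leaf (nat_lit 0x11a216ad82) (nat_lit 2051))
 (.node (nat_lit 0x11a21dad02) (.leaf (nat_lit 0x11a216ed02) (nat_lit 2051))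
 (.leaf (nat_lit 0x11a21dad02) (nat_lit 2051))
)) (.node (nat_lit 0x11a2d6e102) (.node (nat_lit 0x11a2d5a182) (.leaf (nat_lit 0x11a21dcd82) (nat_lit 1795))
 (.leaf (nat_lit 0x11a2d5a182) (nat_lit 2307))
) (.node (nat_lit 0x11a2ddc182) (.leaf (nat_lit 0x11a2d6e102) (nat_lit 2307))
 (.leaf (nat_lit 0x11a2ddc182) (nat_lit 2051))
))) (.node (nat_lit 0x11a41ddd82) (.node (nat_lit 0x11a412fd02) (.node (nat_lit 0x11a412bd82) (.leaf (nat_lit 0x11a2dea102) (nat_lit 2307))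
 (.leaf (nat_lit 0x11a412bd82) (nat_lit 1795))
) (.node (nat_lit 0x11a41dbd02) (.leaf (nat_lit 0x11a412fd02) (nat_lit 1537))
 (.leaf (nat_lit 0x11a41dbd02) (nat_lit 1539))
)) (.node (nat_lit 0x11a5d5a182) (.node (nat_lit 0x11a5d2e102) (.leaf (nat_lit 0x11a41ddd82) (nat_lit 1283))
 (.leaf (nat_lit 0x11a5d2e102) (nat_lit 1793))
) (.node (nat_lit 0x11a5daa102) (.leaf (nat_lit 0x11a5d5a182) (nat_lit 1795))
 (.leaf (nat_lit 0x11a5daa102) (nat_lit 1795))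
)))) (.node (nat_lit 0x11a7d98182) (.node (nat_lit 0x11a6199d82) (.node (nat_lit 0x11a616bd02) (.leaf (nat_lit 0x11a5ddc182) (nat_lit 1539))
 (.node (nat_lit 0x11a616fd82) (.leaf (nat_lit 0x11a616bd02) (nat_lit 1537))
 (.leaf (nat_lit 0x11a616fd82) (nat_lit 1795))
)) (.node (nat_lit 0x11a7d1e182) (.node (nat_lit 0x11a619fd02) (.leaf (nat_lit 0x11a6199d82) (nat_lit 1283))
 (.leaf (nat_lit 0x11a619fd02) (nat_lit 1539))
) (.node (nat_lit 0x11a7d6a102) (.leaf (nat_lit 0x11a7d1e182) (nat_lit 1795))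
 (.leaf (nat_lit 0x11a7d6a102) (nat_lit 1793))
))) (.node (nat_lit 0x11d0d99d82) (.node (nat_lit 0x11d0d5bd02) (.node (nat_lit 0x11a7dee102) (.leaf (nat_lit 0x11a7d98182) (nat_lit 1539))
 (.leaf (nat_lit 0x11a7dee102) (nat_lit 1795))
) (.node (nat_lit 0x11d0d6fd82) (.leaf (nat_lit 0x11d0d5bd02) (nat_lit 2050))
 (.leaf (nat_lit 0x11d0d6fd82) (nat_lit 2050))
)) (.node (nat_lit 0x11d1d2ed82) (.node (nat_lit 0x11d0dafd02) (.leaf (nat_lit 0x11d0d99d82) (nat_lit 1794))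
 (.leaf (nat_lit 0x11d0dafd02) (nat_lit 2050))
) (.node (nat_lit 0x11d1d5ad02) (.leaf (nat_lit 0x11d1d2ed82) (nat_lit 2050))
 (.leaf (nat_lit 0x11d1d5ad02) (nat_lit 1538))
))))) (.node (nat_lit 0x11e1d6a102) (.node (nat_lit 0x11d3d6ad82) (.node (nat_lit 0x11d2d2bd82) (.node (nat_lit 0x11d1deed02) (.leaf (nat_lit 0x11d1d98d82) (nat_lit 1282))
 (.node (nat_lit 0x11d2d1fd02) (.leaf (nat_lit 0x11d1deed02) (nat_lit 2050))
 (.leaf (nat_lit 0x11d2d1fd02) (nat_lit 2050))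
)) (.node (nat_lit 0x11d2debd02) (.node (nat_lit 0x11d2dddd82) (.leaf (nat_lit 0x11d2d2bd82) (nat_lit 2050))
 (.leaf (nat_lit 0x11d2dddd82) (nat_lit 1794))
) (.node (nat_lit 0x11d3d1ed02) (.leaf (nat_lit 0x11d2debd02) (nat_lit 2050))
 (.leaf (nat_lit 0x11d3d1ed02) (nat_lit 1538))
))) (.node (nat_lit 0x11e016fd82) (.node (nat_lit 0x11d3ddcd82) (.node (nat_lit 0x11d3daad02) (.leaf (nat_lit 0x11d3d6ad82) (nat_lit 2050))
 (.leaf (nat_lit 0x11d3daad02) (nat_lit 2050))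
) (.node (nat_lit 0x11e016bd02) (.leaf (nat_lit 0x11d3ddcd82) (nat_lit 1282))
 (.leaf (nat_lit 0x11e016bd02) (nat_lit 1537))
)) (.node (nat_lit 0x11e019fd02) (.node (nat_lit 0x11e0199d82) (.leaf (nat_lit 0x11e016fd82) (nat_lit 1793))
 (.leaf (nat_lit 0x11e0199d82) (nat_lit 1283))
) (.node (nat_lit 0x11e1d1e182) (.leaf (nat_lit 0x11e019fd02) (nat_lit 1539))
 (.leaf (nat_lit 0x11e1d1e182) (nat_lit 2051))
)))) (.node (nat_lit 0x11e3d2e102) (.node (nat_lit 0x11e212bd82) (.node (nat_lit 0x11e1d98182) (.leaf (nat_lit 0x11e1d6a102) (nat_lit 2049))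
 (.node (nat_lit 0x11e1dee102) (.leaf (nat_lit 0x11e1d98182) (nat_lit 1795))
 (.leaf (nat_lit 0x11e1dee102) (nat_lit 2051))
)) (.node (nat_lit 0x11e21dbd02) (.node (nat_lit 0x11e212fd02) (.leaf (nat_lit 0x11e212bd82) (nat_lit 1793))
 (.leaf (nat_lit 0x11e212fd02) (nat_lit 1537))
) (.node (nat_lit 0x11e21ddd82) (.leaf (nat_lit 0x11e21dbd02) (nat_lit 1539))
 (.leaf (nat_lit 0x11e21ddd82) (nat_lit 1283))
))) (.node (nat_lit 0x11e416ad82) (.node (nat_lit 0x11e3daa102) (.node (nat_lit 0x11e3d5a182) (.leaf (nat_lit 0x11e3d2e102) (nat_lit 2049))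
 (.leaf (nat_lit 0x11e3d5a182) (nat_lit 2051))
) (.node (nat_lit 0x11e3ddc182) (.leaf (nat_lit 0x11e3daa102) (nat_lit 2051))
 (.leaf (nat_lit 0x11e3ddc182) (nat_lit 1795))
)) (.node (nat_lit 0x11e41dad02) (.node (nat_lit 0x11e416ed02) (.leaf (nat_lit 0x11e416ad82) (nat_lit 1795))
 (.leaf (nat_lit 0x11e416ed02) (nat_lit 1793))
) (.node (nat_lit 0x11e41dcd82) (.leaf (nat_lit 0x11e41dad02) (nat_lit 1795))
 (.leaf (nat_lit 0x11e41dcd82) (nat_lit 1539))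
)))))) (.node (nat_lit 0x14204aed82) (.node (nat_lit 0x1414dfdd02) (.node (nat_lit 0x11e619ed02) (.node (nat_lit 0x11e4dea102) (.node (nat_lit 0x11e4d6e102) (.leaf (nat_lit 0x11e4d5a182) (nat_lit 2051))
 (.node (nat_lit 0x11e4ddc182) (.leaf (nat_lit 0x11e4d6e102) (nat_lit 2049))
 (.leaf (nat_lit 0x11e4ddc182) (nat_lit 1795))
)) (.node (nat_lit 0x11e612ed82) (.node (nat_lit 0x11e612ad02) (.leaf (nat_lit 0x11e4dea102) (nat_lit 2051))
 (.leaf (nat_lit 0x11e612ad02) (nat_lit 1793))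
) (.node (nat_lit 0x11e6198d82) (.leaf (nat_lit 0x11e612ed82) (nat_lit 1795))
 (.leaf (nat_lit 0x11e6198d82) (nat_lit 1539))
))) (.node (nat_lit 0x11e6dae102) (.node (nat_lit 0x11e6d2a102) (.node (nat_lit 0x11e6d1e182) (.leaf (nat_lit 0x11e619ed02) (nat_lit 1795))
 (.leaf (nat_lit 0x11e6d1e182) (nat_lit 2051))
) (.node (nat_lit 0x11e6d98182) (.leaf (nat_lit 0x11e6d2a102) (nat_lit 2049))
 (.leaf (nat_lit 0x11e6d98182) (nat_lit 1795))
)) (.node (nat_lit 0x1414d3dd82) (.node (nat_lit 0x1414d09d02) (.leaf (nat_lit 0x11e6dae102) (nat_lit 2051))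
 (.leaf (nat_lit 0x1414d09d02) (nat_lit 1027))
) (.node (nat_lit 0x1414dcbd82) (.leaf (nat_lit 0x1414d3dd82) (nat_lit 1283))
 (.leaf (nat_lit 0x1414dcbd82) (nat_lit 1795))
)))) (.node (nat_lit 0x1416d99d82) (.node (nat_lit 0x1415dbcd02) (.node (nat_lit 0x1415d08d02) (.leaf (nat_lit 0x1414dfdd02) (nat_lit 1539))
 (.node (nat_lit 0x1415d7cd82) (.leaf (nat_lit 0x1415d08d02) (nat_lit 515))
 (.leaf (nat_lit 0x1415d7cd82) (nat_lit 1283))
)) (.node (nat_lit 0x1416d5bd02) (.node (nat_lit 0x1415dcad82) (.leaf (nat_lit 0x1415dbcd02) (nat_lit 1539))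
 (.leaf (nat_lit 0x1415dcad82) (nat_lit 1281))
) (.node (nat_lit 0x1416d6fd82) (.leaf (nat_lit 0x1416d5bd02) (nat_lit 1539))
 (.leaf (nat_lit 0x1416d6fd82) (nat_lit 1793))
))) (.node (nat_lit 0x1417d98d82) (.node (nat_lit 0x1417d2ed82) (.node (nat_lit 0x1416dafd02) (.leaf (nat_lit 0x1416d99d82) (nat_lit 1281))
 (.leaf (nat_lit 0x1416dafd02) (nat_lit 1537))
) (.node (nat_lit 0x1417d5ad02) (.leaf (nat_lit 0x1417d2ed82) (nat_lit 1795))
 (.leaf (nat_lit 0x1417d5ad02) (nat_lit 1027))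
)) (.node (nat_lit 0x1420408d02) (.node (nat_lit 0x1417deed02) (.leaf (nat_lit 0x1417d98d82) (nat_lit 769))
 (.leaf (nat_lit 0x1417deed02) (nat_lit 1537))
) (.node (nat_lit 0x1420418d82) (.leaf (nat_lit 0x1420408d02) (nat_lit 1795))
 (.leaf (nat_lit 0x1420418d82) (nat_lit 2051))
))))) (.node (nat_lit 0x1430419d82) (.node (nat_lit 0x142245ad02) (.node (nat_lit 0x1420d3c482) (.node (nat_lit 0x14204bcd02) (.leaf (nat_lit 0x14204aed82) (nat_lit 2307))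
 (.node (nat_lit 0x1420d08402) (.leaf (nat_lit 0x14204bcd02) (nat_lit 2051))
 (.leaf (nat_lit 0x1420d08402) (nat_lit 770))
)) (.node (nat_lit 0x1420dae482) (.node (nat_lit 0x1420d98402) (.leaf (nat_lit 0x1420d3c482) (nat_lit 1794))
 (.leaf (nat_lit 0x1420d98402) (nat_lit 2051))
) (.node (nat_lit 0x142244ad82) (.leaf (nat_lit 0x1420dae482) (nat_lit 1537))
 (.leaf (nat_lit 0x142244ad82) (nat_lit 2307))
))) (.node (nat_lit 0x1422d6e482) (.node (nat_lit 0x14224fcd82) (.node (nat_lit 0x14224eed02) (.leaf (nat_lit 0x142245ad02) (nat_lit 2307))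
 (.leaf (nat_lit 0x14224eed02) (nat_lit 2307))
) (.node (nat_lit 0x1422d5a402) (.leaf (nat_lit 0x14224fcd82) (nat_lit 2051))
 (.leaf (nat_lit 0x1422d5a402) (nat_lit 1282))
)) (.node (nat_lit 0x1422dfc482) (.node (nat_lit 0x1422dca402) (.leaf (nat_lit 0x1422d6e482) (nat_lit 2307))
 (.leaf (nat_lit 0x1422dca402) (nat_lit 2050))
) (.node (nat_lit 0x1430409d02) (.leaf (nat_lit 0x1422dfc482) (nat_lit 1025))
 (.leaf (nat_lit 0x1430409d02) (nat_lit 1283))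
)))) (.node (nat_lit 0x143244bd82) (.node (nat_lit 0x1431d08402) (.node (nat_lit 0x14304efd82) (.leaf (nat_lit 0x1430419d82) (nat_lit 1539))
 (.node (nat_lit 0x14304fdd02) (.leaf (nat_lit 0x14304efd82) (nat_lit 2049))
 (.leaf (nat_lit 0x14304fdd02) (nat_lit 2051))
)) (.node (nat_lit 0x1431d98402) (.node (nat_lit 0x1431d7c482) (.leaf (nat_lit 0x1431d08402) (nat_lit 768))
 (.leaf (nat_lit 0x1431d7c482) (nat_lit 1536))
) (.node (nat_lit 0x1431dee482) (.leaf (nat_lit 0x1431d98402) (nat_lit 2304))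
 (.leaf (nat_lit 0x1431dee482) (nat_lit 1536))
))) (.node (nat_lit 0x1433d2e482) (.node (nat_lit 0x14324afd02) (.node (nat_lit 0x143245bd02) (.leaf (nat_lit 0x143244bd82) (nat_lit 2051))
 (.leaf (nat_lit 0x143245bd02) (nat_lit 1795))
) (.node (nat_lit 0x14324bdd82) (.leaf (nat_lit 0x14324afd02) (nat_lit 1793))
 (.leaf (nat_lit 0x14324bdd82) (nat_lit 1537))
)) (.node (nat_lit 0x1433dbc482) (.node (nat_lit 0x1433d5a402) (.leaf (nat_lit 0x1433d2e482) (nat_lit 2048))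
 (.leaf (nat_lit 0x1433d5a402) (nat_lit 1280))
) (.node (nat_lit 0x1433dca402) (.leaf (nat_lit 0x1433dbc482) (nat_lit 1024))
 (.leaf (nat_lit 0x1433dca402) (nat_lit 1792))
)))))))) (.node (nat_lit 0x14e242bd82) (.node (nat_lit 0x1497d3ad82) (.node (nat_lit 0x1463dbc482) (.node (nat_lit 0x1447deed02) (.node (nat_lit 0x1445dcad82) (.node (nat_lit 0x1444dfdd02) (.node (nat_lit 0x1444d3dd82) (.leaf (nat_lit 0x1444d09d02) (nat_lit 1027))
 (.node (nat_lit 0x1444dcbd82) (.leaf (nat_lit 0x1444d3dd82) (nat_lit 1283))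
 (.leaf (nat_lit 0x1444dcbd82) (nat_lit 1793))
)) (.node (nat_lit 0x1445d7cd82) (.node (nat_lit 0x1445d08d02) (.leaf (nat_lit 0x1444dfdd02) (nat_lit 1795))
 (.leaf (nat_lit 0x1445d08d02) (nat_lit 771))
) (.node (nat_lit 0x1445dbcd02) (.leaf (nat_lit 0x1445d7cd82) (nat_lit 1283))
 (.leaf (nat_lit 0x1445dbcd02) (nat_lit 1795))
))) (.node (nat_lit 0x1446dafd02) (.node (nat_lit 0x1446d6fd82) (.node (nat_lit 0x1446d5bd02) (.leaf (nat_lit 0x1445dcad82) (nat_lit 1537))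
 (.leaf (nat_lit 0x1446d5bd02) (nat_lit 1539))
) (.node (nat_lit 0x1446d99d82) (.leaf (nat_lit 0x1446d6fd82) (nat_lit 1795))
 (.leaf (nat_lit 0x1446d99d82) (nat_lit 1281))
)) (.node (nat_lit 0x1447d5ad02) (.node (nat_lit 0x1447d2ed82) (.leaf (nat_lit 0x1446dafd02) (nat_lit 1537))
 (.leaf (nat_lit 0x1447d2ed82) (nat_lit 1795))
) (.node (nat_lit 0x1447d98d82) (.leaf (nat_lit 0x1447d5ad02) (nat_lit 1283))
 (.leaf (nat_lit 0x1447d98d82) (nat_lit 1025))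
)))) (.node (nat_lit 0x1461d98402) (.node (nat_lit 0x14604efd82) (.node (nat_lit 0x1460409d02) (.leaf (nat_lit 0x1447deed02) (nat_lit 1537))
 (.node (nat_lit 0x1460419d82) (.leaf (nat_lit 0x1460409d02) (nat_lit 1283))
 (.leaf (nat_lit 0x1460419d82) (nat_lit 1539))
)) (.node (nat_lit 0x1461d08402) (.node (nat_lit 0x14604fdd02) (.leaf (nat_lit 0x14604efd82) (nat_lit 2049))
 (.leaf (nat_lit 0x14604fdd02) (nat_lit 2051))
) (.node (nat_lit 0x1461d7c482) (.leaf (nat_lit 0x1461d08402) (nat_lit 1026))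
 (.leaf (nat_lit 0x1461d7c482) (nat_lit 1794))
))) (.node (nat_lit 0x14624afd02) (.node (nat_lit 0x146244bd82) (.node (nat_lit 0x1461dee482) (.leaf (nat_lit 0x1461d98402) (nat_lit 2051))
 (.leaf (nat_lit 0x1461dee482) (nat_lit 1794))
) (.node (nat_lit 0x146245bd02) (.leaf (nat_lit 0x146244bd82) (nat_lit 2051))
 (.leaf (nat_lit 0x146245bd02) (nat_lit 1795))
)) (.node (nat_lit 0x1463d2e482) (.node (nat_lit 0x14624bdd82) (.leaf (nat_lit 0x14624afd02) (nat_lit 1793))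
 (.leaf (nat_lit 0x14624bdd82) (nat_lit 1537))
) (.node (nat_lit 0x1463d5a402) (.leaf (nat_lit 0x1463d2e482) (nat_lit 2306))
 (.leaf (nat_lit 0x1463d5a402) (nat_lit 1538))
))))) (.node (nat_lit 0x1472d6e482) (.node (nat_lit 0x1470d3c482) (.node (nat_lit 0x1470418d82) (.node (nat_lit 0x1463dca402) (.leaf (nat_lit 0x1463dbc482) (nat_lit 1282))
 (.node (nat_lit 0x1470408d02) (.leaf (nat_lit 0x1463dca402) (nat_lit 2050))
 (.leaf (nat_lit 0x1470408d02) (nat_lit 1795))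
)) (.node (nat_lit 0x14704bcd02) (.node (nat_lit 0x14704aed82) (.leaf (nat_lit 0x1470418d82) (nat_lit 2051))
 (.leaf (nat_lit 0x14704aed82) (nat_lit 2307))
) (.node (nat_lit 0x1470d08402) (.leaf (nat_lit 0x14704bcd02) (nat_lit 2051))
 (.leaf (nat_lit 0x1470d08402) (nat_lit 514))
))) (.node (nat_lit 0x147245ad02) (.node (nat_lit 0x1470dae482) (.node (nat_lit 0x1470d98402) (.leaf (nat_lit 0x1470d3c482) (nat_lit 1536))
 (.leaf (nat_lit 0x1470d98402) (nat_lit 2051))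
) (.node (nat_lit 0x147244ad82) (.leaf (nat_lit 0x1470dae482) (nat_lit 1281))
 (.leaf (nat_lit 0x147244ad82) (nat_lit 2307))
)) (.node (nat_lit 0x14724fcd82) (.node (nat_lit 0x14724eed02) (.leaf (nat_lit 0x147245ad02) (nat_lit 2307))
 (.leaf (nat_lit 0x14724eed02) (nat_lit 2307))
) (.node (nat_lit 0x1472d5a402) (.leaf (nat_lit 0x14724fcd82) (nat_lit 2051))
 (.leaf (nat_lit 0x1472d5a402) (nat_lit 1026))
)))) (.node (nat_lit 0x1495d1ed02) (.node (nat_lit 0x1494d1fd02) (.node (nat_lit 0x1472dca402) (.leaf (nat_lit 0x1472d6e482) (nat_lit 2048))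
 (.node (nat_lit 0x1472dfc482) (.leaf (nat_lit 0x1472dca402) (nat_lit 1792))
 (.leaf (nat_lit 0x1472dfc482) (nat_lit 769))
)) (.node (nat_lit 0x1494dddd82) (.node (nat_lit 0x1494d2bd82) (.leaf (nat_lit 0x1494d1fd02) (nat_lit 1537))
 (.leaf (nat_lit 0x1494d2bd82) (nat_lit 1795))
) (.node (nat_lit 0x1494debd02) (.leaf (nat_lit 0x1494dddd82) (nat_lit 1283))
 (.leaf (nat_lit 0x1494debd02) (nat_lit 1539))
))) (.node (nat_lit 0x1496d4fd02) (.node (nat_lit 0x1495daad02) (.node (nat_lit 0x1495d6ad82) (.leaf (nat_lit 0x1495d1ed02) (nat_lit 1025))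
 (.leaf (nat_lit 0x1495d6ad82) (nat_lit 1793))
) (.node (nat_lit 0x1495ddcd82) (.leaf (nat_lit 0x1495daad02) (nat_lit 1539))
 (.leaf (nat_lit 0x1495ddcd82) (nat_lit 771))
)) (.node (nat_lit 0x1496d8dd82) (.node (nat_lit 0x1496d7bd82) (.leaf (nat_lit 0x1496d4fd02) (nat_lit 1537))
 (.leaf (nat_lit 0x1496d7bd82) (nat_lit 1795))
) (.node (nat_lit 0x1496dbbd02) (.leaf (nat_lit 0x1496d8dd82) (nat_lit 1283))
 (.leaf (nat_lit 0x1496dbbd02) (nat_lit 1539))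
)))))) (.node (nat_lit 0x14b248dd82) (.node (nat_lit 0x14a24dcd82) (.node (nat_lit 0x14a049ed02) (.node (nat_lit 0x1497dfad02) (.node (nat_lit 0x1497d4ed02) (.leaf (nat_lit 0x1497d3ad82) (nat_lit 1793))
 (.node (nat_lit 0x1497d8cd82) (.leaf (nat_lit 0x1497d4ed02) (nat_lit 1025))
 (.leaf (nat_lit 0x1497d8cd82) (nat_lit 771))
)) (.node (nat_lit 0x14a043ad82) (.node (nat_lit 0x14a042ad02) (.leaf (nat_lit 0x1497dfad02) (nat_lit 1539))
 (.leaf (nat_lit 0x14a042ad02) (nat_lit 2307))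
) (.node (nat_lit 0x14a048cd82) (.leaf (nat_lit 0x14a043ad82) (nat_lit 2307))
 (.leaf (nat_lit 0x14a048cd82) (nat_lit 2051))
))) (.node (nat_lit 0x14a0dba402) (.node (nat_lit 0x14a0d2a402) (.node (nat_lit 0x14a0d1e482) (.leaf (nat_lit 0x14a049ed02) (nat_lit 2307))
 (.leaf (nat_lit 0x14a0d1e482) (nat_lit 2307))
) (.node (nat_lit 0x14a0d8c482) (.leaf (nat_lit 0x14a0d2a402) (nat_lit 1281))
 (.leaf (nat_lit 0x14a0d8c482) (nat_lit 1026))
)) (.node (nat_lit 0x14a247ad02) (.node (nat_lit 0x14a246ad82) (.leaf (nat_lit 0x14a0dba402) (nat_lit 2050))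
 (.leaf (nat_lit 0x14a246ad82) (nat_lit 2307))
) (.node (nat_lit 0x14a24ced02) (.leaf (nat_lit 0x14a247ad02) (nat_lit 2307))
 (.leaf (nat_lit 0x14a24ced02) (nat_lit 2307))
)))) (.node (nat_lit 0x14b04cfd02) (.node (nat_lit 0x14a2ddc482) (.node (nat_lit 0x14a2d4e482) (.leaf (nat_lit 0x14a24dcd82) (nat_lit 2051))
 (.node (nat_lit 0x14a2d7a402) (.leaf (nat_lit 0x14a2d4e482) (nat_lit 2307))
 (.leaf (nat_lit 0x14a2d7a402) (nat_lit 1281))
)) (.node (nat_lit 0x14b042bd82) (.node (nat_lit 0x14a2dea402) (.leaf (nat_lit 0x14a2ddc482) (nat_lit 1026))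
 (.leaf (nat_lit 0x14a2dea402) (nat_lit 2050))
) (.node (nat_lit 0x14b043bd02) (.leaf (nat_lit 0x14b042bd82) (nat_lit 2049))
 (.leaf (nat_lit 0x14b043bd02) (nat_lit 1793))
))) (.node (nat_lit 0x14b1daa402) (.node (nat_lit 0x14b1d3a402) (.node (nat_lit 0x14b04ddd82) (.leaf (nat_lit 0x14b04cfd02) (nat_lit 1795))
 (.leaf (nat_lit 0x14b04ddd82) (nat_lit 1539))
) (.node (nat_lit 0x14b1d4e482) (.leaf (nat_lit 0x14b1d3a402) (nat_lit 1280))
 (.leaf (nat_lit 0x14b1d4e482) (nat_lit 2048))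
)) (.node (nat_lit 0x14b246bd02) (.node (nat_lit 0x14b1ddc482) (.leaf (nat_lit 0x14b1daa402) (nat_lit 1792))
 (.leaf (nat_lit 0x14b1ddc482) (nat_lit 1024))
) (.node (nat_lit 0x14b247bd82) (.leaf (nat_lit 0x14b246bd02) (nat_lit 1793))
 (.leaf (nat_lit 0x14b247bd82) (nat_lit 2049))
))))) (.node (nat_lit 0x14c6d2bd82) (.node (nat_lit 0x14c4d7bd82) (.node (nat_lit 0x14b3d6a402) (.node (nat_lit 0x14b249fd02) (.leaf (nat_lit 0x14b248dd82) (nat_lit 1539))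
 (.node (nat_lit 0x14b3d1e482) (.leaf (nat_lit 0x14b249fd02) (nat_lit 1795))
 (.leaf (nat_lit 0x14b3d1e482) (nat_lit 2048))
)) (.node (nat_lit 0x14b3dfa402) (.node (nat_lit 0x14b3d8c482) (.leaf (nat_lit 0x14b3d6a402) (nat_lit 1280))
 (.leaf (nat_lit 0x14b3d8c482) (nat_lit 1024))
) (.node (nat_lit 0x14c4d4fd02) (.leaf (nat_lit 0x14b3dfa402) (nat_lit 1792))
 (.leaf (nat_lit 0x14c4d4fd02) (nat_lit 1537))
))) (.node (nat_lit 0x14c5d4ed02) (.node (nat_lit 0x14c4dbbd02) (.node (nat_lit 0x14c4d8dd82) (.leaf (nat_lit 0x14c4d7bd82) (nat_lit 1793))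
 (.leaf (nat_lit 0x14c4d8dd82) (nat_lit 1283))
) (.node (nat_lit 0x14c5d3ad82) (.leaf (nat_lit 0x14c4dbbd02) (nat_lit 1539))
 (.leaf (nat_lit 0x14c5d3ad82) (nat_lit 1793))
)) (.node (nat_lit 0x14c5dfad02) (.node (nat_lit 0x14c5d8cd82) (.leaf (nat_lit 0x14c5d4ed02) (nat_lit 1281))
 (.leaf (nat_lit 0x14c5d8cd82) (nat_lit 1027))
) (.node (nat_lit 0x14c6d1fd02) (.leaf (nat_lit 0x14c5dfad02) (nat_lit 1539))
 (.leaf (nat_lit 0x14c6d1fd02) (nat_lit 1537))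
)))) (.node (nat_lit 0x14e046bd02) (.node (nat_lit 0x14c7d1ed02) (.node (nat_lit 0x14c6dddd82) (.leaf (nat_lit 0x14c6d2bd82) (nat_lit 1793))
 (.node (nat_lit 0x14c6debd02) (.leaf (nat_lit 0x14c6dddd82) (nat_lit 1283))
 (.leaf (nat_lit 0x14c6debd02) (nat_lit 1539))
)) (.node (nat_lit 0x14c7daad02) (.node (nat_lit 0x14c7d6ad82) (.leaf (nat_lit 0x14c7d1ed02) (nat_lit 1281))
 (.leaf (nat_lit 0x14c7d6ad82) (nat_lit 1793))
) (.node (nat_lit 0x14c7ddcd82) (.leaf (nat_lit 0x14c7daad02) (nat_lit 1539))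
 (.leaf (nat_lit 0x14c7ddcd82) (nat_lit 1027))
))) (.node (nat_lit 0x14e1d1e482) (.node (nat_lit 0x14e048dd82) (.node (nat_lit 0x14e047bd82) (.leaf (nat_lit 0x14e046bd02) (nat_lit 1793))
 (.leaf (nat_lit 0x14e047bd82) (nat_lit 2049))
) (.node (nat_lit 0x14e049fd02) (.leaf (nat_lit 0x14e048dd82) (nat_lit 1539))
 (.leaf (nat_lit 0x14e049fd02) (nat_lit 1795))
)) (.node (nat_lit 0x14e1d8c482) (.node (nat_lit 0x14e1d6a402) (.leaf (nat_lit 0x14e1d1e482) (nat_lit 2306))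
 (.leaf (nat_lit 0x14e1d6a402) (nat_lit 1538))
) (.node (nat_lit 0x14e1dfa402) (.leaf (nat_lit 0x14e1d8c482) (nat_lit 1282))
 (.leaf (nat_lit 0x14e1dfa402) (nat_lit 2050))
))))))) (.node (nat_lit 0x1831d08402) (.node (nat_lit 0x182048c102) (.node (nat_lit 0x14f0dea402) (.node (nat_lit 0x14e3ddc482) (.node (nat_lit 0x14e24ddd82) (.node (nat_lit 0x14e243bd02) (.leaf (nat_lit 0x14e242bd82) (nat_lit 2049))
 (.node (nat_lit 0x14e24cfd02) (.leaf (nat_lit 0x14e243bd02) (nat_lit 1793))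
 (.leaf (nat_lit 0x14e24cfd02) (nat_lit 1795))
)) (.node (nat_lit 0x14e3d4e482) (.node (nat_lit 0x14e3d3a402) (.leaf (nat_lit 0x14e24ddd82) (nat_lit 1539))
 (.leaf (nat_lit 0x14e3d3a402) (nat_lit 1538))
) (.node (nat_lit 0x14e3daa402) (.leaf (nat_lit 0x14e3d4e482) (nat_lit 2306))
 (.leaf (nat_lit 0x14e3daa402) (nat_lit 2050))
))) (.node (nat_lit 0x14f04dcd82) (.node (nat_lit 0x14f047ad02) (.node (nat_lit 0x14f046ad82) (.leaf (nat_lit 0x14e3ddc482) (nat_lit 1282))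
 (.leaf (nat_lit 0x14f046ad82) (nat_lit 2307))
) (.node (nat_lit 0x14f04ced02) (.leaf (nat_lit 0x14f047ad02) (nat_lit 2307))
 (.leaf (nat_lit 0x14f04ced02) (nat_lit 2307))
)) (.node (nat_lit 0x14f0d7a402) (.node (nat_lit 0x14f0d4e482) (.leaf (nat_lit 0x14f04dcd82) (nat_lit 2051))
 (.leaf (nat_lit 0x14f0d4e482) (nat_lit 2048))
) (.node (nat_lit 0x14f0ddc482) (.leaf (nat_lit 0x14f0d7a402) (nat_lit 1025))
 (.leaf (nat_lit 0x14f0ddc482) (nat_lit 770))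
)))) (.node (nat_lit 0x14f2d8c482) (.node (nat_lit 0x14f248cd82) (.node (nat_lit 0x14f242ad02) (.leaf (nat_lit 0x14f0dea402) (nat_lit 1792))
 (.node (nat_lit 0x14f243ad82) (.leaf (nat_lit 0x14f242ad02) (nat_lit 2307))
 (.leaf (nat_lit 0x14f243ad82) (nat_lit 2307))
)) (.node (nat_lit 0x14f2d1e482) (.node (nat_lit 0x14f249ed02) (.leaf (nat_lit 0x14f248cd82) (nat_lit 2051))
 (.leaf (nat_lit 0x14f249ed02) (nat_lit 2307))
) (.node (nat_lit 0x14f2d2a402) (.leaf (nat_lit 0x14f2d1e482) (nat_lit 2048))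
 (.leaf (nat_lit 0x14f2d2a402) (nat_lit 1025))
))) (.node (nat_lit 0x1820198402) (.node (nat_lit 0x1820108402) (.node (nat_lit 0x14f2dba402) (.leaf (nat_lit 0x14f2d8c482) (nat_lit 770))
 (.leaf (nat_lit 0x14f2dba402) (nat_lit 1792))
) (.node (nat_lit 0x182010c482) (.leaf (nat_lit 0x1820108402) (nat_lit 1795))
 (.leaf (nat_lit 0x182010c482) (nat_lit 2051))
)) (.node (nat_lit 0x1820408102) (.node (nat_lit 0x182019e482) (.leaf (nat_lit 0x1820198402) (nat_lit 2051))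
 (.leaf (nat_lit 0x182019e482) (nat_lit 2307))
) (.node (nat_lit 0x1820418182) (.leaf (nat_lit 0x1820408102) (nat_lit 256))
 (.leaf (nat_lit 0x1820418182) (nat_lit 1795))
))))) (.node (nat_lit 0x1825d7c182) (.node (nat_lit 0x182247a182) (.node (nat_lit 0x182216e482) (.node (nat_lit 0x182049e182) (.leaf (nat_lit 0x182048c102) (nat_lit 1795))
 (.node (nat_lit 0x182216a402) (.leaf (nat_lit 0x182049e182) (nat_lit 1537))
 (.leaf (nat_lit 0x182216a402) (nat_lit 2307))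
)) (.node (nat_lit 0x18221fc482) (.node (nat_lit 0x18221fa402) (.leaf (nat_lit 0x182216e482) (nat_lit 2307))
 (.leaf (nat_lit 0x18221fa402) (nat_lit 2307))
) (.node (nat_lit 0x182246a102) (.leaf (nat_lit 0x18221fc482) (nat_lit 2051))
 (.leaf (nat_lit 0x182246a102) (nat_lit 1282))
))) (.node (nat_lit 0x182410dd82) (.node (nat_lit 0x18224fc182) (.node (nat_lit 0x18224ee102) (.leaf (nat_lit 0x182247a182) (nat_lit 2051))
 (.leaf (nat_lit 0x18224ee102) (nat_lit 2051))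
) (.node (nat_lit 0x1824109d02) (.leaf (nat_lit 0x18224fc182) (nat_lit 513))
 (.leaf (nat_lit 0x1824109d02) (nat_lit 1283))
)) (.node (nat_lit 0x18241fdd02) (.node (nat_lit 0x18241fbd82) (.leaf (nat_lit 0x182410dd82) (nat_lit 1539))
 (.leaf (nat_lit 0x18241fbd82) (nat_lit 2048))
) (.node (nat_lit 0x1825d08102) (.leaf (nat_lit 0x18241fdd02) (nat_lit 1792))
 (.leaf (nat_lit 0x1825d08102) (nat_lit 1536))
)))) (.node (nat_lit 0x1827d1e182) (.node (nat_lit 0x182616bd02) (.node (nat_lit 0x1825d8c102) (.leaf (nat_lit 0x1825d7c182) (nat_lit 1792))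
 (.node (nat_lit 0x1825dfa182) (.leaf (nat_lit 0x1825d8c102) (nat_lit 1792))
 (.leaf (nat_lit 0x1825dfa182) (nat_lit 2048))
)) (.node (nat_lit 0x1826199d82) (.node (nat_lit 0x182616fd82) (.leaf (nat_lit 0x182616bd02) (nat_lit 1795))
 (.leaf (nat_lit 0x182616fd82) (nat_lit 2048))
) (.node (nat_lit 0x182619fd02) (.leaf (nat_lit 0x1826199d82) (nat_lit 1537))
 (.leaf (nat_lit 0x182619fd02) (nat_lit 1793))
))) (.node (nat_lit 0x1830409d02) (.node (nat_lit 0x1827d98182) (.node (nat_lit 0x1827d6a102) (.leaf (nat_lit 0x1827d1e182) (nat_lit 2048))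
 (.leaf (nat_lit 0x1827d6a102) (nat_lit 2048))
) (.node (nat_lit 0x1827dee102) (.leaf (nat_lit 0x1827d98182) (nat_lit 1792))
 (.leaf (nat_lit 0x1827dee102) (nat_lit 2048))
)) (.node (nat_lit 0x18304efd82) (.node (nat_lit 0x1830419d82) (.leaf (nat_lit 0x1830409d02) (nat_lit 1538))
 (.leaf (nat_lit 0x1830419d82) (nat_lit 1794))
) (.node (nat_lit 0x18304fdd02) (.leaf (nat_lit 0x18304efd82) (nat_lit 2306))
 (.leaf (nat_lit 0x18304fdd02) (nat_lit 2051))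
)))))) (.node (nat_lit 0x18441fbd82) (.node (nat_lit 0x184019e482) (.node (nat_lit 0x183249fd02) (.node (nat_lit 0x1831dee482) (.node (nat_lit 0x1831d7c482) (.leaf (nat_lit 0x1831d08402) (nat_lit 515))
 (.node (nat_lit 0x1831d98402) (.leaf (nat_lit 0x1831d7c482) (nat_lit 1283))
 (.leaf (nat_lit 0x1831d98402) (nat_lit 2049))
)) (.node (nat_lit 0x183247bd82) (.node (nat_lit 0x183246bd02) (.leaf (nat_lit 0x1831dee482) (nat_lit 1281))
 (.leaf (nat_lit 0x183246bd02) (nat_lit 2050))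
) (.node (nat_lit 0x183248dd82) (.leaf (nat_lit 0x183247bd82) (nat_lit 2306))
 (.leaf (nat_lit 0x183248dd82) (nat_lit 1794))
))) (.node (nat_lit 0x1833dfa402) (.node (nat_lit 0x1833d6a402) (.node (nat_lit 0x1833d1e482) (.leaf (nat_lit 0x183249fd02) (nat_lit 2050))
 (.leaf (nat_lit 0x1833d1e482) (nat_lit 1795))
) (.node (nat_lit 0x1833d8c482) (.leaf (nat_lit 0x1833d6a402) (nat_lit 1027))
 (.leaf (nat_lit 0x1833d8c482) (nat_lit 769))
)) (.node (nat_lit 0x184010c482) (.node (nat_lit 0x1840108402) (.leaf (nat_lit 0x1833dfa402) (nat_lit 1537))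
 (.leaf (nat_lit 0x1840108402) (nat_lit 1539))
) (.node (nat_lit 0x1840198402) (.leaf (nat_lit 0x184010c482) (nat_lit 1795))
 (.leaf (nat_lit 0x1840198402) (nat_lit 1795))
)))) (.node (nat_lit 0x18421fa402) (.node (nat_lit 0x184048c102) (.node (nat_lit 0x1840408102) (.leaf (nat_lit 0x184019e482) (nat_lit 2051))
 (.node (nat_lit 0x1840418182) (.leaf (nat_lit 0x1840408102) (nat_lit 514))
 (.leaf (nat_lit 0x1840418182) (nat_lit 1539))
)) (.node (nat_lit 0x184216a402) (.node (nat_lit 0x184049e182) (.leaf (nat_lit 0x184048c102) (nat_lit 1539))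
 (.leaf (nat_lit 0x184049e182) (nat_lit 1281))
) (.node (nat_lit 0x184216e482) (.leaf (nat_lit 0x184216a402) (nat_lit 2051))
 (.leaf (nat_lit 0x184216e482) (nat_lit 2049))
))) (.node (nat_lit 0x18424ee102) (.node (nat_lit 0x184246a102) (.node (nat_lit 0x18421fc482) (.leaf (nat_lit 0x18421fa402) (nat_lit 2049))
 (.leaf (nat_lit 0x18421fc482) (nat_lit 1793))
) (.node (nat_lit 0x184247a182) (.leaf (nat_lit 0x184246a102) (nat_lit 1026))
 (.leaf (nat_lit 0x184247a182) (nat_lit 1793))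
)) (.node (nat_lit 0x1844109d02) (.node (nat_lit 0x18424fc182) (.leaf (nat_lit 0x18424ee102) (nat_lit 1793))
 (.leaf (nat_lit 0x18424fc182) (nat_lit 769))
) (.node (nat_lit 0x184410dd82) (.leaf (nat_lit 0x1844109d02) (nat_lit 1283))
 (.leaf (nat_lit 0x184410dd82) (nat_lit 1539))
))))) (.node (nat_lit 0x1850419d82) (.node (nat_lit 0x184616fd82) (.node (nat_lit 0x1845d7c182) (.node (nat_lit 0x18441fdd02) (.leaf (nat_lit 0x18441fbd82) (nat_lit 2050))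
 (.node (nat_lit 0x1845d08102) (.leaf (nat_lit 0x18441fdd02) (nat_lit 1794))
 (.leaf (nat_lit 0x1845d08102) (nat_lit 1538))
)) (.node (nat_lit 0x1845dfa182) (.node (nat_lit 0x1845d8c102) (.leaf (nat_lit 0x1845d7c182) (nat_lit 1794))
 (.leaf (nat_lit 0x1845d8c102) (nat_lit 1794))
) (.node (nat_lit 0x184616bd02) (.leaf (nat_lit 0x1845dfa182) (nat_lit 2050))
 (.leaf (nat_lit 0x184616bd02) (nat_lit 1795))
))) (.node (nat_lit 0x1847d6a102) (.node (nat_lit 0x184619fd02) (.node (nat_lit 0x1846199d82) (.leaf (nat_lit 0x184616fd82) (nat_lit 2050))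
 (.leaf (nat_lit 0x1846199d82) (nat_lit 1537))
) (.node (nat_lit 0x1847d1e182) (.leaf (nat_lit 0x184619fd02) (nat_lit 1793))
 (.leaf (nat_lit 0x1847d1e182) (nat_lit 2050))
)) (.node (nat_lit 0x1847dee102) (.node (nat_lit 0x1847d98182) (.leaf (nat_lit 0x1847d6a102) (nat_lit 2050))
 (.leaf (nat_lit 0x1847d98182) (nat_lit 1794))
) (.node (nat_lit 0x1850409d02) (.leaf (nat_lit 0x1847dee102) (nat_lit 2050))
 (.leaf (nat_lit 0x1850409d02) (nat_lit 1539))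
)))) (.node (nat_lit 0x185246bd02) (.node (nat_lit 0x1851d08402) (.node (nat_lit 0x18504efd82) (.leaf (nat_lit 0x1850419d82) (nat_lit 1795))
 (.node (nat_lit 0x18504fdd02) (.leaf (nat_lit 0x18504efd82) (nat_lit 2051))
 (.leaf (nat_lit 0x18504fdd02) (nat_lit 1795))
)) (.node (nat_lit 0x1851d98402) (.node (nat_lit 0x1851d7c482) (.leaf (nat_lit 0x1851d08402) (nat_lit 771))
 (.leaf (nat_lit 0x1851d7c482) (nat_lit 1283))
) (.node (nat_lit 0x1851dee482) (.leaf (nat_lit 0x1851d98402) (nat_lit 2049))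
 (.leaf (nat_lit 0x1851dee482) (nat_lit 1537))
))) (.node (nat_lit 0x1853d1e482) (.node (nat_lit 0x185248dd82) (.node (nat_lit 0x185247bd82) (.leaf (nat_lit 0x185246bd02) (nat_lit 2051))
 (.leaf (nat_lit 0x185247bd82) (nat_lit 2051))
) (.node (nat_lit 0x185249fd02) (.leaf (nat_lit 0x185248dd82) (nat_lit 1795))
 (.leaf (nat_lit 0x185249fd02) (nat_lit 2051))
)) (.node (nat_lit 0x1853d8c482) (.node (nat_lit 0x1853d6a402) (.leaf (nat_lit 0x1853d1e482) (nat_lit 1795))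
 (.leaf (nat_lit 0x1853d6a402) (nat_lit 1283))
) (.node (nat_lit 0x1853dfa402) (.leaf (nat_lit 0x1853d8c482) (nat_lit 1025))
 (.leaf (nat_lit 0x1853dfa402) (nat_lit 1537))
))))))))) (.node (nat_lit 0x19c014b502) (.node (nat_lit 0x192216ad82) (.node (nat_lit 0x18c242a102) (.node (nat_lit 0x18a7dbc182) (.node (nat_lit 0x18a24dc182) (.node (nat_lit 0x18a04bc182) (.node (nat_lit 0x18a01bc482) (.node (nat_lit 0x18a012e482) (.leaf (nat_lit 0x18a012a402) (nat_lit 2307))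
 (.node (nat_lit 0x18a01ba402) (.leaf (nat_lit 0x18a012e482) (nat_lit 2307))
 (.leaf (nat_lit 0x18a01ba402) (nat_lit 2307))
)) (.node (nat_lit 0x18a043a182) (.node (nat_lit 0x18a042a102) (.leaf (nat_lit 0x18a01bc482) (nat_lit 2051))
 (.leaf (nat_lit 0x18a042a102) (nat_lit 769))
) (.node (nat_lit 0x18a04ae102) (.leaf (nat_lit 0x18a043a182) (nat_lit 2051))
 (.leaf (nat_lit 0x18a04ae102) (nat_lit 2051))
))) (.node (nat_lit 0x18a21dc482) (.node (nat_lit 0x18a214e482) (.node (nat_lit 0x18a214a402) (.leaf (nat_lit 0x18a04bc182) (nat_lit 1026))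
 (.leaf (nat_lit 0x18a214a402) (nat_lit 2307))
) (.node (nat_lit 0x18a21da402) (.leaf (nat_lit 0x18a214e482) (nat_lit 2307))
 (.leaf (nat_lit 0x18a21da402) (nat_lit 2307))
)) (.node (nat_lit 0x18a245a182) (.node (nat_lit 0x18a244a102) (.leaf (nat_lit 0x18a21dc482) (nat_lit 2051))
 (.leaf (nat_lit 0x18a244a102) (nat_lit 1281))
) (.node (nat_lit 0x18a24ce102) (.leaf (nat_lit 0x18a245a182) (nat_lit 2051))
 (.leaf (nat_lit 0x18a24ce102) (nat_lit 2051))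
)))) (.node (nat_lit 0x18a5daa102) (.node (nat_lit 0x18a41dbd02) (.node (nat_lit 0x18a412bd82) (.leaf (nat_lit 0x18a24dc182) (nat_lit 512))
 (.node (nat_lit 0x18a412fd02) (.leaf (nat_lit 0x18a412bd82) (nat_lit 2048))
 (.leaf (nat_lit 0x18a412fd02) (nat_lit 1793))
)) (.node (nat_lit 0x18a5d2e102) (.node (nat_lit 0x18a41ddd82) (.leaf (nat_lit 0x18a41dbd02) (nat_lit 1795))
 (.leaf (nat_lit 0x18a41ddd82) (nat_lit 1539))
) (.node (nat_lit 0x18a5d5a182) (.leaf (nat_lit 0x18a5d2e102) (nat_lit 2048))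
 (.leaf (nat_lit 0x18a5d5a182) (nat_lit 2048))
))) (.node (nat_lit 0x18a61bbd02) (.node (nat_lit 0x18a614bd82) (.node (nat_lit 0x18a5ddc182) (.leaf (nat_lit 0x18a5daa102) (nat_lit 2048))
 (.leaf (nat_lit 0x18a5ddc182) (nat_lit 1792))
) (.node (nat_lit 0x18a614fd02) (.leaf (nat_lit 0x18a614bd82) (nat_lit 2048))
 (.leaf (nat_lit 0x18a614fd02) (nat_lit 1793))
)) (.node (nat_lit 0x18a7d3a182) (.node (nat_lit 0x18a61bdd82) (.leaf (nat_lit 0x18a61bbd02) (nat_lit 1795))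
 (.leaf (nat_lit 0x18a61bdd82) (nat_lit 1539))
) (.node (nat_lit 0x18a7d4e102) (.leaf (nat_lit 0x18a7d3a182) (nat_lit 2048))
 (.leaf (nat_lit 0x18a7d4e102) (nat_lit 2048))
))))) (.node (nat_lit 0x18b3d5a402) (.node (nat_lit 0x18b1d4e482) (.node (nat_lit 0x18b043bd02) (.node (nat_lit 0x18a7dca102) (.leaf (nat_lit 0x18a7dbc182) (nat_lit 1792))
 (.node (nat_lit 0x18b042bd82) (.leaf (nat_lit 0x18a7dca102) (nat_lit 2048))
 (.leaf (nat_lit 0x18b042bd82) (nat_lit 2307))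
)) (.node (nat_lit 0x18b04ddd82) (.node (nat_lit 0x18b04cfd02) (.leaf (nat_lit 0x18b043bd02) (nat_lit 2050))
 (.leaf (nat_lit 0x18b04cfd02) (nat_lit 2050))
) (.node (nat_lit 0x18b1d3a402) (.leaf (nat_lit 0x18b04ddd82) (nat_lit 1794))
 (.leaf (nat_lit 0x18b1d3a402) (nat_lit 1025))
))) (.node (nat_lit 0x18b245bd02) (.node (nat_lit 0x18b1ddc482) (.node (nat_lit 0x18b1daa402) (.leaf (nat_lit 0x18b1d4e482) (nat_lit 1793))
 (.leaf (nat_lit 0x18b1daa402) (nat_lit 1539))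
) (.node (nat_lit 0x18b244bd82) (.leaf (nat_lit 0x18b1ddc482) (nat_lit 771))
 (.leaf (nat_lit 0x18b244bd82) (nat_lit 2306))
)) (.node (nat_lit 0x18b24bdd82) (.node (nat_lit 0x18b24afd02) (.leaf (nat_lit 0x18b245bd02) (nat_lit 2050))
 (.leaf (nat_lit 0x18b24afd02) (nat_lit 2050))
) (.node (nat_lit 0x18b3d2e482) (.leaf (nat_lit 0x18b24bdd82) (nat_lit 1794))
 (.leaf (nat_lit 0x18b3d2e482) (nat_lit 1793))
)))) (.node (nat_lit 0x18c044a102) (.node (nat_lit 0x18c014a402) (.node (nat_lit 0x18b3dbc482) (.leaf (nat_lit 0x18b3d5a402) (nat_lit 1025))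
 (.node (nat_lit 0x18b3dca402) (.leaf (nat_lit 0x18b3dbc482) (nat_lit 771))
 (.leaf (nat_lit 0x18b3dca402) (nat_lit 1539))
)) (.node (nat_lit 0x18c01da402) (.node (nat_lit 0x18c014e482) (.leaf (nat_lit 0x18c014a402) (nat_lit 2049))
 (.leaf (nat_lit 0x18c014e482) (nat_lit 2051))
) (.node (nat_lit 0x18c01dc482) (.leaf (nat_lit 0x18c01da402) (nat_lit 2051))
 (.leaf (nat_lit 0x18c01dc482) (nat_lit 1795))
))) (.node (nat_lit 0x18c212a402) (.node (nat_lit 0x18c04ce102) (.node (nat_lit 0x18c045a182) (.leaf (nat_lit 0x18c044a102) (nat_lit 1025))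
 (.leaf (nat_lit 0x18c045a182) (nat_lit 1795))
) (.node (nat_lit 0x18c04dc182) (.leaf (nat_lit 0x18c04ce102) (nat_lit 1795))
 (.leaf (nat_lit 0x18c04dc182) (nat_lit 770))
)) (.node (nat_lit 0x18c21ba402) (.node (nat_lit 0x18c212e482) (.leaf (nat_lit 0x18c212a402) (nat_lit 2049))
 (.leaf (nat_lit 0x18c212e482) (nat_lit 2051))
) (.node (nat_lit 0x18c21bc482) (.leaf (nat_lit 0x18c21ba402) (nat_lit 2051))
 (.leaf (nat_lit 0x18c21bc482) (nat_lit 1795))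
)))))) (.node (nat_lit 0x18d24cfd02) (.node (nat_lit 0x18c61ddd82) (.node (nat_lit 0x18c41bdd82) (.node (nat_lit 0x18c24bc182) (.node (nat_lit 0x18c243a182) (.leaf (nat_lit 0x18c242a102) (nat_lit 1025))
 (.node (nat_lit 0x18c24ae102) (.leaf (nat_lit 0x18c243a182) (nat_lit 1795))
 (.leaf (nat_lit 0x18c24ae102) (nat_lit 1795))
)) (.node (nat_lit 0x18c414fd02) (.node (nat_lit 0x18c414bd82) (.leaf (nat_lit 0x18c24bc182) (nat_lit 770))
 (.leaf (nat_lit 0x18c414bd82) (nat_lit 2050))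
) (.node (nat_lit 0x18c41bbd02) (.leaf (nat_lit 0x18c414fd02) (nat_lit 1793))
 (.leaf (nat_lit 0x18c41bbd02) (nat_lit 1795))
))) (.node (nat_lit 0x18c5dca102) (.node (nat_lit 0x18c5d4e102) (.node (nat_lit 0x18c5d3a182) (.leaf (nat_lit 0x18c41bdd82) (nat_lit 1539))
 (.leaf (nat_lit 0x18c5d3a182) (nat_lit 2050))
) (.node (nat_lit 0x18c5dbc182) (.leaf (nat_lit 0x18c5d4e102) (nat_lit 2050))
 (.leaf (nat_lit 0x18c5dbc182) (nat_lit 1794))
)) (.node (nat_lit 0x18c612fd02) (.node (nat_lit 0x18c612bd82) (.leaf (nat_lit 0x18c5dca102) (nat_lit 2050))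
 (.leaf (nat_lit 0x18c612bd82) (nat_lit 2050))
) (.node (nat_lit 0x18c61dbd02) (.leaf (nat_lit 0x18c612fd02) (nat_lit 1793))
 (.leaf (nat_lit 0x18c61dbd02) (nat_lit 1795))
)))) (.node (nat_lit 0x18d04afd02) (.node (nat_lit 0x18c7daa102) (.node (nat_lit 0x18c7d2e102) (.leaf (nat_lit 0x18c61ddd82) (nat_lit 1539))
 (.node (nat_lit 0x18c7d5a182) (.leaf (nat_lit 0x18c7d2e102) (nat_lit 2050))
 (.leaf (nat_lit 0x18c7d5a182) (nat_lit 2050))
)) (.node (nat_lit 0x18d044bd82) (.node (nat_lit 0x18c7ddc182) (.leaf (nat_lit 0x18c7daa102) (nat_lit 2050))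
 (.leaf (nat_lit 0x18c7ddc182) (nat_lit 1794))
) (.node (nat_lit 0x18d045bd02) (.leaf (nat_lit 0x18d044bd82) (nat_lit 2051))
 (.leaf (nat_lit 0x18d045bd02) (nat_lit 2051))
))) (.node (nat_lit 0x18d1dbc482) (.node (nat_lit 0x18d1d2e482) (.node (nat_lit 0x18d04bdd82) (.leaf (nat_lit 0x18d04afd02) (nat_lit 2051))
 (.leaf (nat_lit 0x18d04bdd82) (nat_lit 1795))
) (.node (nat_lit 0x18d1d5a402) (.leaf (nat_lit 0x18d1d2e482) (nat_lit 1793))
 (.leaf (nat_lit 0x18d1d5a402) (nat_lit 1281))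
)) (.node (nat_lit 0x18d242bd82) (.node (nat_lit 0x18d1dca402) (.leaf (nat_lit 0x18d1dbc482) (nat_lit 1027))
 (.leaf (nat_lit 0x18d1dca402) (nat_lit 1539))
) (.node (nat_lit 0x18d243bd02) (.leaf (nat_lit 0x18d242bd82) (nat_lit 2051))
 (.leaf (nat_lit 0x18d243bd02) (nat_lit 2051))
))))) (.node (nat_lit 0x1916d6f502) (.node (nat_lit 0x1914d3d582) (.node (nat_lit 0x18d3d4e482) (.node (nat_lit 0x18d24ddd82) (.leaf (nat_lit 0x18d24cfd02) (nat_lit 2051))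
 (.node (nat_lit 0x18d3d3a402) (.leaf (nat_lit 0x18d24ddd82) (nat_lit 1795))
 (.leaf (nat_lit 0x18d3d3a402) (nat_lit 1281))
)) (.node (nat_lit 0x18d3ddc482) (.node (nat_lit 0x18d3daa402) (.leaf (nat_lit 0x18d3d4e482) (nat_lit 1793))
 (.leaf (nat_lit 0x18d3daa402) (nat_lit 1539))
) (.node (nat_lit 0x1914d09502) (.leaf (nat_lit 0x18d3ddc482) (nat_lit 1027))
 (.leaf (nat_lit 0x1914d09502) (nat_lit 1280))
))) (.node (nat_lit 0x191555cd82) (.node (nat_lit 0x1914deb582) (.node (nat_lit 0x1914ddd502) (.leaf (nat_lit 0x1914d3d582) (nat_lit 1536))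
 (.leaf (nat_lit 0x1914ddd502) (nat_lit 1536))
) (.node (nat_lit 0x1915508d02) (.leaf (nat_lit 0x1914deb582) (nat_lit 1792))
 (.leaf (nat_lit 0x1915508d02) (nat_lit 1024))
)) (.node (nat_lit 0x19155ead82) (.node (nat_lit 0x19155bcd02) (.leaf (nat_lit 0x191555cd82) (nat_lit 1280))
 (.leaf (nat_lit 0x19155bcd02) (nat_lit 1792))
) (.node (nat_lit 0x1916d5b582) (.leaf (nat_lit 0x19155ead82) (nat_lit 1792))
 (.leaf (nat_lit 0x1916d5b582) (nat_lit 1792))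
)))) (.node (nat_lit 0x1920108d02) (.node (nat_lit 0x191753ad82) (.node (nat_lit 0x1916d8d582) (.leaf (nat_lit 0x1916d6f502) (nat_lit 1792))
 (.node (nat_lit 0x1916dbb502) (.leaf (nat_lit 0x1916d8d582) (nat_lit 1536))
 (.leaf (nat_lit 0x1916dbb502) (nat_lit 1792))
)) (.node (nat_lit 0x191758cd82) (.node (nat_lit 0x191756ed02) (.leaf (nat_lit 0x191753ad82) (nat_lit 1792))
 (.leaf (nat_lit 0x191756ed02) (nat_lit 1536))
) (.node (nat_lit 0x19175dad02) (.leaf (nat_lit 0x191758cd82) (nat_lit 1280))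
 (.leaf (nat_lit 0x19175dad02) (nat_lit 1536))
))) (.node (nat_lit 0x1920d08102) (.node (nat_lit 0x19201bad82) (.node (nat_lit 0x192010cd82) (.leaf (nat_lit 0x1920108d02) (nat_lit 1283))
 (.leaf (nat_lit 0x192010cd82) (nat_lit 1539))
) (.node (nat_lit 0x19201bcd02) (.leaf (nat_lit 0x19201bad82) (nat_lit 1795))
 (.leaf (nat_lit 0x19201bcd02) (nat_lit 1539))
)) (.node (nat_lit 0x1920d8c102) (.node (nat_lit 0x1920d3c182) (.leaf (nat_lit 0x1920d08102) (nat_lit 1539))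
 (.leaf (nat_lit 0x1920d3c182) (nat_lit 1795))
) (.node (nat_lit 0x1920dba182) (.leaf (nat_lit 0x1920d8c102) (nat_lit 1795))
 (.leaf (nat_lit 0x1920dba182) (nat_lit 2051))
))))))) (.node (nat_lit 0x1971508d02) (.node (nat_lit 0x194158c102) (.node (nat_lit 0x19255da182) (.node (nat_lit 0x1922dea102) (.node (nat_lit 0x19221dcd82) (.node (nat_lit 0x192216ed02) (.leaf (nat_lit 0x192216ad82) (nat_lit 1795))
 (.node (nat_lit 0x19221dad02) (.leaf (nat_lit 0x192216ed02) (nat_lit 1795))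
 (.leaf (nat_lit 0x19221dad02) (nat_lit 1795))
)) (.node (nat_lit 0x1922d6e102) (.node (nat_lit 0x1922d5a182) (.leaf (nat_lit 0x19221dcd82) (nat_lit 1539))
 (.leaf (nat_lit 0x1922d5a182) (nat_lit 2051))
) (.node (nat_lit 0x1922ddc182) (.leaf (nat_lit 0x1922d6e102) (nat_lit 2051))
 (.leaf (nat_lit 0x1922ddc182) (nat_lit 1795))
))) (.node (nat_lit 0x19241dd502) (.node (nat_lit 0x192410d582) (.node (nat_lit 0x1924109502) (.leaf (nat_lit 0x1922dea102) (nat_lit 2051))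
 (.leaf (nat_lit 0x1924109502) (nat_lit 1027))
) (.node (nat_lit 0x19241db582) (.leaf (nat_lit 0x192410d582) (nat_lit 1283))
 (.leaf (nat_lit 0x19241db582) (nat_lit 1539))
)) (.node (nat_lit 0x192555c182) (.node (nat_lit 0x1925508102) (.leaf (nat_lit 0x19241dd502) (nat_lit 1283))
 (.leaf (nat_lit 0x1925508102) (nat_lit 1283))
) (.node (nat_lit 0x192558c102) (.leaf (nat_lit 0x192555c182) (nat_lit 1539))
 (.leaf (nat_lit 0x192558c102) (nat_lit 1539))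
)))) (.node (nat_lit 0x19275bc182) (.node (nat_lit 0x19261bb502) (.node (nat_lit 0x192616b582) (.leaf (nat_lit 0x19255da182) (nat_lit 1795))
 (.node (nat_lit 0x192616f502) (.leaf (nat_lit 0x192616b582) (nat_lit 1537))
 (.leaf (nat_lit 0x192616f502) (nat_lit 1539))
)) (.node (nat_lit 0x192753a182) (.node (nat_lit 0x19261bd582) (.leaf (nat_lit 0x19261bb502) (nat_lit 1537))
 (.leaf (nat_lit 0x19261bd582) (nat_lit 1281))
) (.node (nat_lit 0x192756e102) (.leaf (nat_lit 0x192753a182) (nat_lit 1793))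
 (.leaf (nat_lit 0x192756e102) (nat_lit 1795))
))) (.node (nat_lit 0x19401db582) (.node (nat_lit 0x1940109502) (.node (nat_lit 0x19275ea102) (.leaf (nat_lit 0x19275bc182) (nat_lit 1537))
 (.leaf (nat_lit 0x19275ea102) (nat_lit 1793))
) (.node (nat_lit 0x194010d582) (.leaf (nat_lit 0x1940109502) (nat_lit 1283))
 (.leaf (nat_lit 0x194010d582) (nat_lit 1539))
)) (.node (nat_lit 0x1941508102) (.node (nat_lit 0x19401dd502) (.leaf (nat_lit 0x19401db582) (nat_lit 1795))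
 (.leaf (nat_lit 0x19401dd502) (nat_lit 1539))
) (.node (nat_lit 0x194155c182) (.leaf (nat_lit 0x1941508102) (nat_lit 1539))
 (.leaf (nat_lit 0x194155c182) (nat_lit 1795))
))))) (.node (nat_lit 0x1944d3c182) (.node (nat_lit 0x194356e102) (.node (nat_lit 0x194216f502) (.node (nat_lit 0x19415da182) (.leaf (nat_lit 0x194158c102) (nat_lit 1795))
 (.node (nat_lit 0x194216b582) (.leaf (nat_lit 0x19415da182) (nat_lit 2051))
 (.leaf (nat_lit 0x194216b582) (nat_lit 1793))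
)) (.node (nat_lit 0x19421bd582) (.node (nat_lit 0x19421bb502) (.leaf (nat_lit 0x194216f502) (nat_lit 1795))
 (.leaf (nat_lit 0x19421bb502) (nat_lit 1793))
) (.node (nat_lit 0x194353a182) (.leaf (nat_lit 0x19421bd582) (nat_lit 1537))
 (.leaf (nat_lit 0x194353a182) (nat_lit 2051))
))) (.node (nat_lit 0x194410cd82) (.node (nat_lit 0x19435ea102) (.node (nat_lit 0x19435bc182) (.leaf (nat_lit 0x194356e102) (nat_lit 2051))
 (.leaf (nat_lit 0x19435bc182) (nat_lit 1795))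
) (.node (nat_lit 0x1944108d02) (.leaf (nat_lit 0x19435ea102) (nat_lit 2051))
 (.leaf (nat_lit 0x1944108d02) (nat_lit 1282))
)) (.node (nat_lit 0x19441bcd02) (.node (nat_lit 0x19441bad82) (.leaf (nat_lit 0x194410cd82) (nat_lit 1538))
 (.leaf (nat_lit 0x19441bad82) (nat_lit 2051))
) (.node (nat_lit 0x1944d08102) (.leaf (nat_lit 0x19441bcd02) (nat_lit 1795))
 (.leaf (nat_lit 0x1944d08102) (nat_lit 1539))
)))) (.node (nat_lit 0x1946d5a182) (.node (nat_lit 0x194616ad82) (.node (nat_lit 0x1944d8c102) (.leaf (nat_lit 0x1944d3c182) (nat_lit 1795))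
 (.node (nat_lit 0x1944dba182) (.leaf (nat_lit 0x1944d8c102) (nat_lit 1795))
 (.leaf (nat_lit 0x1944dba182) (nat_lit 2051))
)) (.node (nat_lit 0x19461dad02) (.node (nat_lit 0x194616ed02) (.leaf (nat_lit 0x194616ad82) (nat_lit 2049))
 (.leaf (nat_lit 0x194616ed02) (nat_lit 1794))
) (.node (nat_lit 0x19461dcd82) (.leaf (nat_lit 0x19461dad02) (nat_lit 1794))
 (.leaf (nat_lit 0x19461dcd82) (nat_lit 1538))
))) (.node (nat_lit 0x1970d09502) (.node (nat_lit 0x1946ddc182) (.node (nat_lit 0x1946d6e102) (.leaf (nat_lit 0x1946d5a182) (nat_lit 2051))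
 (.leaf (nat_lit 0x1946d6e102) (nat_lit 2051))
) (.node (nat_lit 0x1946dea102) (.leaf (nat_lit 0x1946ddc182) (nat_lit 1795))
 (.leaf (nat_lit 0x1946dea102) (nat_lit 2051))
)) (.node (nat_lit 0x1970ddd502) (.node (nat_lit 0x1970d3d582) (.leaf (nat_lit 0x1970d09502) (nat_lit 1282))
 (.leaf (nat_lit 0x1970d3d582) (nat_lit 1538))
) (.node (nat_lit 0x1970deb582) (.leaf (nat_lit 0x1970ddd502) (nat_lit 1538))
 (.leaf (nat_lit 0x1970deb582) (nat_lit 1794))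
)))))) (.node (nat_lit 0x19a0198d82) (.node (nat_lit 0x1994dfd582) (.node (nat_lit 0x1972dbb502) (.node (nat_lit 0x19715ead82) (.node (nat_lit 0x197155cd82) (.leaf (nat_lit 0x1971508d02) (nat_lit 1282))
 (.node (nat_lit 0x19715bcd02) (.leaf (nat_lit 0x197155cd82) (nat_lit 1538))
 (.leaf (nat_lit 0x19715bcd02) (nat_lit 1794))
)) (.node (nat_lit 0x1972d6f502) (.node (nat_lit 0x1972d5b582) (.leaf (nat_lit 0x19715ead82) (nat_lit 2050))
 (.leaf (nat_lit 0x1972d5b582) (nat_lit 1794))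
) (.node (nat_lit 0x1972d8d582) (.leaf (nat_lit 0x1972d6f502) (nat_lit 1794))
 (.leaf (nat_lit 0x1972d8d582) (nat_lit 1538))
))) (.node (nat_lit 0x19735dad02) (.node (nat_lit 0x197356ed02) (.node (nat_lit 0x197353ad82) (.leaf (nat_lit 0x1972dbb502) (nat_lit 1794))
 (.leaf (nat_lit 0x197353ad82) (nat_lit 2050))
) (.node (nat_lit 0x197358cd82) (.leaf (nat_lit 0x197356ed02) (nat_lit 1794))
 (.leaf (nat_lit 0x197358cd82) (nat_lit 1538))
)) (.node (nat_lit 0x1994d2b582) (.node (nat_lit 0x1994d1f502) (.leaf (nat_lit 0x19735dad02) (nat_lit 1794))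
 (.leaf (nat_lit 0x1994d1f502) (nat_lit 1792))
) (.node (nat_lit 0x1994dcb502) (.leaf (nat_lit 0x1994d2b582) (nat_lit 1792))
 (.leaf (nat_lit 0x1994dcb502) (nat_lit 1792))
)))) (.node (nat_lit 0x1996d99582) (.node (nat_lit 0x19955aad02) (.node (nat_lit 0x199551ed02) (.leaf (nat_lit 0x1994dfd582) (nat_lit 1536))
 (.node (nat_lit 0x199554ad82) (.leaf (nat_lit 0x199551ed02) (nat_lit 1536))
 (.leaf (nat_lit 0x199554ad82) (nat_lit 1792))
)) (.node (nat_lit 0x1996d4f582) (.node (nat_lit 0x19955fcd82) (.leaf (nat_lit 0x19955aad02) (nat_lit 1536))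
 (.leaf (nat_lit 0x19955fcd82) (nat_lit 1280))
) (.node (nat_lit 0x1996d7b502) (.leaf (nat_lit 0x1996d4f582) (nat_lit 1792))
 (.leaf (nat_lit 0x1996d7b502) (nat_lit 1792))
))) (.node (nat_lit 0x1997598d82) (.node (nat_lit 0x199752ed82) (.node (nat_lit 0x1996daf502) (.leaf (nat_lit 0x1996d99582) (nat_lit 1536))
 (.leaf (nat_lit 0x1996daf502) (nat_lit 1792))
) (.node (nat_lit 0x199757ad02) (.leaf (nat_lit 0x199752ed82) (nat_lit 1792))
 (.leaf (nat_lit 0x199757ad02) (nat_lit 1536))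
)) (.node (nat_lit 0x19a012ad02) (.node (nat_lit 0x19975ced02) (.leaf (nat_lit 0x1997598d82) (nat_lit 1280))
 (.leaf (nat_lit 0x19975ced02) (nat_lit 1536))
) (.node (nat_lit 0x19a012ed82) (.leaf (nat_lit 0x19a012ad02) (nat_lit 1795))
 (.leaf (nat_lit 0x19a012ed82) (nat_lit 1795))
))))) (.node (nat_lit 0x19a412f502) (.node (nat_lit 0x19a214ed02) (.node (nat_lit 0x19a0d2a102) (.node (nat_lit 0x19a019ed02) (.leaf (nat_lit 0x19a0198d82) (nat_lit 1539))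
 (.node (nat_lit 0x19a0d1e182) (.leaf (nat_lit 0x19a019ed02) (nat_lit 1795))
 (.leaf (nat_lit 0x19a0d1e182) (nat_lit 2051))
)) (.node (nat_lit 0x19a0dae102) (.node (nat_lit 0x19a0d98182) (.leaf (nat_lit 0x19a0d2a102) (nat_lit 2051))
 (.leaf (nat_lit 0x19a0d98182) (nat_lit 1795))
) (.node (nat_lit 0x19a214ad82) (.leaf (nat_lit 0x19a0dae102) (nat_lit 2051))
 (.leaf (nat_lit 0x19a214ad82) (nat_lit 1795))
))) (.node (nat_lit 0x19a2d7a182) (.node (nat_lit 0x19a21fcd82) (.node (nat_lit 0x19a21fad02) (.leaf (nat_lit 0x19a214ed02) (nat_lit 1795))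
 (.leaf (nat_lit 0x19a21fad02) (nat_lit 1795))
) (.node (nat_lit 0x19a2d4e102) (.leaf (nat_lit 0x19a21fcd82) (nat_lit 1539))
 (.leaf (nat_lit 0x19a2d4e102) (nat_lit 2051))
)) (.node (nat_lit 0x19a2dfc182) (.node (nat_lit 0x19a2dca102) (.leaf (nat_lit 0x19a2d7a182) (nat_lit 2051))
 (.leaf (nat_lit 0x19a2dca102) (nat_lit 2051))
) (.node (nat_lit 0x19a412b582) (.leaf (nat_lit 0x19a2dfc182) (nat_lit 1795))
 (.leaf (nat_lit 0x19a412b582) (nat_lit 1539))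
)))) (.node (nat_lit 0x19a614b502) (.node (nat_lit 0x19a552e102) (.node (nat_lit 0x19a41fb502) (.leaf (nat_lit 0x19a412f502) (nat_lit 1537))
 (.node (nat_lit 0x19a41fd582) (.leaf (nat_lit 0x19a41fb502) (nat_lit 1539))
 (.leaf (nat_lit 0x19a41fd582) (nat_lit 1283))
)) (.node (nat_lit 0x19a55aa102) (.node (nat_lit 0x19a557a182) (.leaf (nat_lit 0x19a552e102) (nat_lit 1793))
 (.leaf (nat_lit 0x19a557a182) (nat_lit 1795))
) (.node (nat_lit 0x19a55fc182) (.leaf (nat_lit 0x19a55aa102) (nat_lit 1795))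
 (.leaf (nat_lit 0x19a55fc182) (nat_lit 1539))
))) (.node (nat_lit 0x19a751e182) (.node (nat_lit 0x19a6199582) (.node (nat_lit 0x19a614f582) (.leaf (nat_lit 0x19a614b502) (nat_lit 1537))
 (.leaf (nat_lit 0x19a614f582) (nat_lit 1539))
) (.node (nat_lit 0x19a619f502) (.leaf (nat_lit 0x19a6199582) (nat_lit 1283))
 (.leaf (nat_lit 0x19a619f502) (nat_lit 1539))
)) (.node (nat_lit 0x19a7598182) (.node (nat_lit 0x19a754a102) (.leaf (nat_lit 0x19a751e182) (nat_lit 1795))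
 (.leaf (nat_lit 0x19a754a102) (nat_lit 1793))
) (.node (nat_lit 0x19a75ce102) (.leaf (nat_lit 0x19a7598182) (nat_lit 1539))
 (.leaf (nat_lit 0x19a75ce102) (nat_lit 1795))
)))))))) (.node (nat_lit 0x1c5246ad82) (.node (nat_lit 0x1c1752ed82) (.node (nat_lit 0x19c6d98182) (.node (nat_lit 0x19c35fc182) (.node (nat_lit 0x19c15ce102) (.node (nat_lit 0x19c019f502) (.node (nat_lit 0x19c014f582) (.leaf (nat_lit 0x19c014b502) (nat_lit 1793))
 (.node (nat_lit 0x19c0199582) (.leaf (nat_lit 0x19c014f582) (nat_lit 1795))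
 (.leaf (nat_lit 0x19c0199582) (nat_lit 1539))
)) (.node (nat_lit 0x19c154a102) (.node (nat_lit 0x19c151e182) (.leaf (nat_lit 0x19c019f502) (nat_lit 1795))
 (.leaf (nat_lit 0x19c151e182) (nat_lit 2051))
) (.node (nat_lit 0x19c1598182) (.leaf (nat_lit 0x19c154a102) (nat_lit 2051))
 (.leaf (nat_lit 0x19c1598182) (nat_lit 1795))
))) (.node (nat_lit 0x19c21fd582) (.node (nat_lit 0x19c212f502) (.node (nat_lit 0x19c212b582) (.leaf (nat_lit 0x19c15ce102) (nat_lit 2051))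
 (.leaf (nat_lit 0x19c212b582) (nat_lit 1795))
) (.node (nat_lit 0x19c21fb502) (.leaf (nat_lit 0x19c212f502) (nat_lit 1793))
 (.leaf (nat_lit 0x19c21fb502) (nat_lit 1795))
)) (.node (nat_lit 0x19c357a182) (.node (nat_lit 0x19c352e102) (.leaf (nat_lit 0x19c21fd582) (nat_lit 1539))
 (.leaf (nat_lit 0x19c352e102) (nat_lit 2051))
) (.node (nat_lit 0x19c35aa102) (.leaf (nat_lit 0x19c357a182) (nat_lit 2051))
 (.leaf (nat_lit 0x19c35aa102) (nat_lit 2051))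
)))) (.node (nat_lit 0x19c4dca102) (.node (nat_lit 0x19c41fad02) (.node (nat_lit 0x19c414ad82) (.leaf (nat_lit 0x19c35fc182) (nat_lit 1795))
 (.node (nat_lit 0x19c414ed02) (.leaf (nat_lit 0x19c414ad82) (nat_lit 2051))
 (.leaf (nat_lit 0x19c414ed02) (nat_lit 1794))
)) (.node (nat_lit 0x19c4d4e102) (.node (nat_lit 0x19c41fcd82) (.leaf (nat_lit 0x19c41fad02) (nat_lit 1794))
 (.leaf (nat_lit 0x19c41fcd82) (nat_lit 1538))
) (.node (nat_lit 0x19c4d7a182) (.leaf (nat_lit 0x19c4d4e102) (nat_lit 2051))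
 (.leaf (nat_lit 0x19c4d7a182) (nat_lit 2051))
))) (.node (nat_lit 0x19c6198d82) (.node (nat_lit 0x19c612ad02) (.node (nat_lit 0x19c4dfc182) (.leaf (nat_lit 0x19c4dca102) (nat_lit 2051))
 (.leaf (nat_lit 0x19c4dfc182) (nat_lit 1795))
) (.node (nat_lit 0x19c612ed82) (.leaf (nat_lit 0x19c612ad02) (nat_lit 1794))
 (.leaf (nat_lit 0x19c612ed82) (nat_lit 2051))
)) (.node (nat_lit 0x19c6d1e182) (.node (nat_lit 0x19c619ed02) (.leaf (nat_lit 0x19c6198d82) (nat_lit 1538))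
 (.leaf (nat_lit 0x19c619ed02) (nat_lit 1794))
) (.node (nat_lit 0x19c6d2a102) (.leaf (nat_lit 0x19c6d1e182) (nat_lit 2051))
 (.leaf (nat_lit 0x19c6d2a102) (nat_lit 2051))
))))) (.node (nat_lit 0x19f354ad82) (.node (nat_lit 0x19f157ad02) (.node (nat_lit 0x19f0d7b502) (.node (nat_lit 0x19c6dae102) (.leaf (nat_lit 0x19c6d98182) (nat_lit 1795))
 (.node (nat_lit 0x19f0d4f582) (.leaf (nat_lit 0x19c6dae102) (nat_lit 2051))
 (.leaf (nat_lit 0x19f0d4f582) (nat_lit 1794))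
)) (.node (nat_lit 0x19f0daf502) (.node (nat_lit 0x19f0d99582) (.leaf (nat_lit 0x19f0d7b502) (nat_lit 1794))
 (.leaf (nat_lit 0x19f0d99582) (nat_lit 1538))
) (.node (nat_lit 0x19f152ed82) (.leaf (nat_lit 0x19f0daf502) (nat_lit 1794))
 (.leaf (nat_lit 0x19f152ed82) (nat_lit 2050))
))) (.node (nat_lit 0x19f2d2b582) (.node (nat_lit 0x19f15ced02) (.node (nat_lit 0x19f1598d82) (.leaf (nat_lit 0x19f157ad02) (nat_lit 1794))
 (.leaf (nat_lit 0x19f1598d82) (nat_lit 1538))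
) (.node (nat_lit 0x19f2d1f502) (.leaf (nat_lit 0x19f15ced02) (nat_lit 1794))
 (.leaf (nat_lit 0x19f2d1f502) (nat_lit 1794))
)) (.node (nat_lit 0x19f2dfd582) (.node (nat_lit 0x19f2dcb502) (.leaf (nat_lit 0x19f2d2b582) (nat_lit 1794))
 (.leaf (nat_lit 0x19f2dcb502) (nat_lit 1794))
) (.node (nat_lit 0x19f351ed02) (.leaf (nat_lit 0x19f2dfd582) (nat_lit 1538))
 (.leaf (nat_lit 0x19f351ed02) (nat_lit 1794))
)))) (.node (nat_lit 0x1c15508d02) (.node (nat_lit 0x1c14d09502) (.node (nat_lit 0x19f35aad02) (.leaf (nat_lit 0x19f354ad82) (nat_lit 2050))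
 (.node (nat_lit 0x19f35fcd82) (.leaf (nat_lit 0x19f35aad02) (nat_lit 1794))
 (.leaf (nat_lit 0x19f35fcd82) (nat_lit 1538))
)) (.node (nat_lit 0x1c14ddd502) (.node (nat_lit 0x1c14d3d582) (.leaf (nat_lit 0x1c14d09502) (nat_lit 1027))
 (.leaf (nat_lit 0x1c14d3d582) (nat_lit 1283))
) (.node (nat_lit 0x1c14deb582) (.leaf (nat_lit 0x1c14ddd502) (nat_lit 1283))
 (.leaf (nat_lit 0x1c14deb582) (nat_lit 1539))
))) (.node (nat_lit 0x1c16d4f582) (.node (nat_lit 0x1c155bcd02) (.node (nat_lit 0x1c1555cd82) (.leaf (nat_lit 0x1c15508d02) (nat_lit 771))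
 (.leaf (nat_lit 0x1c1555cd82) (nat_lit 1027))
) (.node (nat_lit 0x1c155ead82) (.leaf (nat_lit 0x1c155bcd02) (nat_lit 1539))
 (.leaf (nat_lit 0x1c155ead82) (nat_lit 1537))
)) (.node (nat_lit 0x1c16d99582) (.node (nat_lit 0x1c16d7b502) (.leaf (nat_lit 0x1c16d4f582) (nat_lit 1537))
 (.leaf (nat_lit 0x1c16d7b502) (nat_lit 1539))
) (.node (nat_lit 0x1c16daf502) (.leaf (nat_lit 0x1c16d99582) (nat_lit 1281))
 (.leaf (nat_lit 0x1c16daf502) (nat_lit 1537))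
)))))) (.node (nat_lit 0x1c324af502) (.node (nat_lit 0x1c224dcd82) (.node (nat_lit 0x1c204bcd02) (.node (nat_lit 0x1c175ced02) (.node (nat_lit 0x1c1757ad02) (.leaf (nat_lit 0x1c1752ed82) (nat_lit 1539))
 (.node (nat_lit 0x1c17598d82) (.leaf (nat_lit 0x1c1757ad02) (nat_lit 1283))
 (.leaf (nat_lit 0x1c17598d82) (nat_lit 1025))
)) (.node (nat_lit 0x1c20418d82) (.node (nat_lit 0x1c20408d02) (.leaf (nat_lit 0x1c175ced02) (nat_lit 1281))
 (.leaf (nat_lit 0x1c20408d02) (nat_lit 1539))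
) (.node (nat_lit 0x1c204aed82) (.leaf (nat_lit 0x1c20418d82) (nat_lit 1795))
 (.leaf (nat_lit 0x1c204aed82) (nat_lit 2051))
))) (.node (nat_lit 0x1c20dae482) (.node (nat_lit 0x1c20d3c482) (.node (nat_lit 0x1c20d08402) (.leaf (nat_lit 0x1c204bcd02) (nat_lit 1795))
 (.leaf (nat_lit 0x1c20d08402) (nat_lit 770))
) (.node (nat_lit 0x1c20d98402) (.leaf (nat_lit 0x1c20d3c482) (nat_lit 1794))
 (.leaf (nat_lit 0x1c20d98402) (nat_lit 1795))
)) (.node (nat_lit 0x1c2247ad02) (.node (nat_lit 0x1c2246ad82) (.leaf (nat_lit 0x1c20dae482) (nat_lit 1538))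
 (.leaf (nat_lit 0x1c2246ad82) (nat_lit 2051))
) (.node (nat_lit 0x1c224ced02) (.leaf (nat_lit 0x1c2247ad02) (nat_lit 2051))
 (.leaf (nat_lit 0x1c224ced02) (nat_lit 2051))
)))) (.node (nat_lit 0x1c304cf582) (.node (nat_lit 0x1c22ddc482) (.node (nat_lit 0x1c22d4e482) (.leaf (nat_lit 0x1c224dcd82) (nat_lit 1795))
 (.node (nat_lit 0x1c22d7a402) (.leaf (nat_lit 0x1c22d4e482) (nat_lit 2051))
 (.leaf (nat_lit 0x1c22d7a402) (nat_lit 1282))
)) (.node (nat_lit 0x1c30409502) (.node (nat_lit 0x1c22dea402) (.leaf (nat_lit 0x1c22ddc482) (nat_lit 1026))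
 (.leaf (nat_lit 0x1c22dea402) (nat_lit 2050))
) (.node (nat_lit 0x1c30419582) (.leaf (nat_lit 0x1c30409502) (nat_lit 1539))
 (.leaf (nat_lit 0x1c30419582) (nat_lit 1795))
))) (.node (nat_lit 0x1c31598402) (.node (nat_lit 0x1c31508402) (.node (nat_lit 0x1c304dd502) (.leaf (nat_lit 0x1c304cf582) (nat_lit 2051))
 (.leaf (nat_lit 0x1c304dd502) (nat_lit 1795))
) (.node (nat_lit 0x1c3155c482) (.leaf (nat_lit 0x1c31508402) (nat_lit 1024))
 (.leaf (nat_lit 0x1c3155c482) (nat_lit 1280))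
)) (.node (nat_lit 0x1c3246b582) (.node (nat_lit 0x1c315ce482) (.leaf (nat_lit 0x1c31598402) (nat_lit 2048))
 (.leaf (nat_lit 0x1c315ce482) (nat_lit 1792))
) (.node (nat_lit 0x1c3247b502) (.leaf (nat_lit 0x1c3246b582) (nat_lit 2049))
 (.leaf (nat_lit 0x1c3247b502) (nat_lit 2051))
))))) (.node (nat_lit 0x1c4247b502) (.node (nat_lit 0x1c40419582) (.node (nat_lit 0x1c3357a402) (.node (nat_lit 0x1c324bd582) (.leaf (nat_lit 0x1c324af502) (nat_lit 2049))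
 (.node (nat_lit 0x1c3352e482) (.leaf (nat_lit 0x1c324bd582) (nat_lit 1793))
 (.leaf (nat_lit 0x1c3352e482) (nat_lit 1792))
)) (.node (nat_lit 0x1c335ea402) (.node (nat_lit 0x1c335bc482) (.leaf (nat_lit 0x1c3357a402) (nat_lit 1536))
 (.leaf (nat_lit 0x1c335bc482) (nat_lit 1280))
) (.node (nat_lit 0x1c40409502) (.leaf (nat_lit 0x1c335ea402) (nat_lit 1536))
 (.leaf (nat_lit 0x1c40409502) (nat_lit 1539))
))) (.node (nat_lit 0x1c4155c482) (.node (nat_lit 0x1c404dd502) (.node (nat_lit 0x1c404cf582) (.leaf (nat_lit 0x1c40419582) (nat_lit 1795))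
 (.leaf (nat_lit 0x1c404cf582) (nat_lit 2051))
) (.node (nat_lit 0x1c41508402) (.leaf (nat_lit 0x1c404dd502) (nat_lit 1795))
 (.leaf (nat_lit 0x1c41508402) (nat_lit 1282))
)) (.node (nat_lit 0x1c415ce482) (.node (nat_lit 0x1c41598402) (.leaf (nat_lit 0x1c4155c482) (nat_lit 1538))
 (.leaf (nat_lit 0x1c41598402) (nat_lit 2048))
) (.node (nat_lit 0x1c4246b582) (.leaf (nat_lit 0x1c415ce482) (nat_lit 2050))
 (.leaf (nat_lit 0x1c4246b582) (nat_lit 2049))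
)))) (.node (nat_lit 0x1c50408d02) (.node (nat_lit 0x1c4352e482) (.node (nat_lit 0x1c424af502) (.leaf (nat_lit 0x1c4247b502) (nat_lit 2051))
 (.node (nat_lit 0x1c424bd582) (.leaf (nat_lit 0x1c424af502) (nat_lit 2049))
 (.leaf (nat_lit 0x1c424bd582) (nat_lit 1793))
)) (.node (nat_lit 0x1c435bc482) (.node (nat_lit 0x1c4357a402) (.leaf (nat_lit 0x1c4352e482) (nat_lit 2050))
 (.leaf (nat_lit 0x1c4357a402) (nat_lit 1794))
) (.node (nat_lit 0x1c435ea402) (.leaf (nat_lit 0x1c435bc482) (nat_lit 1538))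
 (.leaf (nat_lit 0x1c435ea402) (nat_lit 1794))
))) (.node (nat_lit 0x1c50d08402) (.node (nat_lit 0x1c504aed82) (.node (nat_lit 0x1c50418d82) (.leaf (nat_lit 0x1c50408d02) (nat_lit 1539))
 (.leaf (nat_lit 0x1c50418d82) (nat_lit 1795))
) (.node (nat_lit 0x1c504bcd02) (.leaf (nat_lit 0x1c504aed82) (nat_lit 2051))
 (.leaf (nat_lit 0x1c504bcd02) (nat_lit 1795))
)) (.node (nat_lit 0x1c50d98402) (.node (nat_lit 0x1c50d3c482) (.leaf (nat_lit 0x1c50d08402) (nat_lit 512))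
 (.leaf (nat_lit 0x1c50d3c482) (nat_lit 1538))
) (.node (nat_lit 0x1c50dae482) (.leaf (nat_lit 0x1c50d98402) (nat_lit 2051))
 (.leaf (nat_lit 0x1c50dae482) (nat_lit 1537))
))))))) (.node (nat_lit 0x1cb153a402) (.node (nat_lit 0x1c955aad02) (.node (nat_lit 0x1c655ead82) (.node (nat_lit 0x1c52dea402) (.node (nat_lit 0x1c524dcd82) (.node (nat_lit 0x1c5247ad02) (.leaf (nat_lit 0x1c5246ad82) (nat_lit 2051))
 (.node (nat_lit 0x1c524ced02) (.leaf (nat_lit 0x1c5247ad02) (nat_lit 2051))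
 (.leaf (nat_lit 0x1c524ced02) (nat_lit 2051))
)) (.node (nat_lit 0x1c52d7a402) (.node (nat_lit 0x1c52d4e482) (.leaf (nat_lit 0x1c524dcd82) (nat_lit 1795))
 (.leaf (nat_lit 0x1c52d4e482) (nat_lit 2050))
) (.node (nat_lit 0x1c52ddc482) (.leaf (nat_lit 0x1c52d7a402) (nat_lit 1282))
 (.leaf (nat_lit 0x1c52ddc482) (nat_lit 768))
))) (.node (nat_lit 0x1c64deb582) (.node (nat_lit 0x1c64d3d582) (.node (nat_lit 0x1c64d09502) (.leaf (nat_lit 0x1c52dea402) (nat_lit 1794))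
 (.leaf (nat_lit 0x1c64d09502) (nat_lit 1283))
) (.node (nat_lit 0x1c64ddd502) (.leaf (nat_lit 0x1c64d3d582) (nat_lit 1539))
 (.leaf (nat_lit 0x1c64ddd502) (nat_lit 1539))
)) (.node (nat_lit 0x1c6555cd82) (.node (nat_lit 0x1c65508d02) (.leaf (nat_lit 0x1c64deb582) (nat_lit 1795))
 (.leaf (nat_lit 0x1c65508d02) (nat_lit 771))
) (.node (nat_lit 0x1c655bcd02) (.leaf (nat_lit 0x1c6555cd82) (nat_lit 1027))
 (.leaf (nat_lit 0x1c655bcd02) (nat_lit 1793))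
)))) (.node (nat_lit 0x1c67598d82) (.node (nat_lit 0x1c66d99582) (.node (nat_lit 0x1c66d4f582) (.leaf (nat_lit 0x1c655ead82) (nat_lit 1537))
 (.node (nat_lit 0x1c66d7b502) (.leaf (nat_lit 0x1c66d4f582) (nat_lit 1793))
 (.leaf (nat_lit 0x1c66d7b502) (nat_lit 1795))
)) (.node (nat_lit 0x1c6752ed82) (.node (nat_lit 0x1c66daf502) (.leaf (nat_lit 0x1c66d99582) (nat_lit 1537))
 (.leaf (nat_lit 0x1c66daf502) (nat_lit 1793))
) (.node (nat_lit 0x1c6757ad02) (.leaf (nat_lit 0x1c6752ed82) (nat_lit 1539))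
 (.leaf (nat_lit 0x1c6757ad02) (nat_lit 1283))
))) (.node (nat_lit 0x1c94dcb502) (.node (nat_lit 0x1c94d1f502) (.node (nat_lit 0x1c675ced02) (.leaf (nat_lit 0x1c67598d82) (nat_lit 1025))
 (.leaf (nat_lit 0x1c675ced02) (nat_lit 1281))
) (.node (nat_lit 0x1c94d2b582) (.leaf (nat_lit 0x1c94d1f502) (nat_lit 1537))
 (.leaf (nat_lit 0x1c94d2b582) (nat_lit 1539))
)) (.node (nat_lit 0x1c9551ed02) (.node (nat_lit 0x1c94dfd582) (.leaf (nat_lit 0x1c94dcb502) (nat_lit 1539))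
 (.leaf (nat_lit 0x1c94dfd582) (nat_lit 1283))
) (.node (nat_lit 0x1c9554ad82) (.leaf (nat_lit 0x1c9551ed02) (nat_lit 1281))
 (.leaf (nat_lit 0x1c9554ad82) (nat_lit 1537))
))))) (.node (nat_lit 0x1ca0d2a402) (.node (nat_lit 0x1c9756ed02) (.node (nat_lit 0x1c96d6f502) (.node (nat_lit 0x1c955fcd82) (.leaf (nat_lit 0x1c955aad02) (nat_lit 1283))
 (.node (nat_lit 0x1c96d5b582) (.leaf (nat_lit 0x1c955fcd82) (nat_lit 1027))
 (.leaf (nat_lit 0x1c96d5b582) (nat_lit 1539))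
)) (.node (nat_lit 0x1c96dbb502) (.node (nat_lit 0x1c96d8d582) (.leaf (nat_lit 0x1c96d6f502) (nat_lit 1537))
 (.leaf (nat_lit 0x1c96d8d582) (nat_lit 1283))
) (.node (nat_lit 0x1c9753ad82) (.leaf (nat_lit 0x1c96dbb502) (nat_lit 1539))
 (.leaf (nat_lit 0x1c9753ad82) (nat_lit 1537))
))) (.node (nat_lit 0x1ca043ad82) (.node (nat_lit 0x1c975dad02) (.node (nat_lit 0x1c9758cd82) (.leaf (nat_lit 0x1c9756ed02) (nat_lit 1281))
 (.leaf (nat_lit 0x1c9758cd82) (nat_lit 1027))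
) (.node (nat_lit 0x1ca042ad02) (.leaf (nat_lit 0x1c975dad02) (nat_lit 1283))
 (.leaf (nat_lit 0x1ca042ad02) (nat_lit 2051))
)) (.node (nat_lit 0x1ca049ed02) (.node (nat_lit 0x1ca048cd82) (.leaf (nat_lit 0x1ca043ad82) (nat_lit 2051))
 (.leaf (nat_lit 0x1ca048cd82) (nat_lit 1795))
) (.node (nat_lit 0x1ca0d1e482) (.leaf (nat_lit 0x1ca049ed02) (nat_lit 2051))
 (.leaf (nat_lit 0x1ca0d1e482) (nat_lit 2051))
)))) (.node (nat_lit 0x1ca2d5a402) (.node (nat_lit 0x1ca244ad82) (.node (nat_lit 0x1ca0d8c482) (.leaf (nat_lit 0x1ca0d2a402) (nat_lit 1282))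
 (.node (nat_lit 0x1ca0dba402) (.leaf (nat_lit 0x1ca0d8c482) (nat_lit 1026))
 (.leaf (nat_lit 0x1ca0dba402) (nat_lit 2050))
)) (.node (nat_lit 0x1ca24eed02) (.node (nat_lit 0x1ca245ad02) (.leaf (nat_lit 0x1ca244ad82) (nat_lit 2051))
 (.leaf (nat_lit 0x1ca245ad02) (nat_lit 2051))
) (.node (nat_lit 0x1ca24fcd82) (.leaf (nat_lit 0x1ca24eed02) (nat_lit 2051))
 (.leaf (nat_lit 0x1ca24fcd82) (nat_lit 1795))
))) (.node (nat_lit 0x1cb042b582) (.node (nat_lit 0x1ca2dca402) (.node (nat_lit 0x1ca2d6e482) (.leaf (nat_lit 0x1ca2d5a402) (nat_lit 1282))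
 (.leaf (nat_lit 0x1ca2d6e482) (nat_lit 2051))
) (.node (nat_lit 0x1ca2dfc482) (.leaf (nat_lit 0x1ca2dca402) (nat_lit 2050))
 (.leaf (nat_lit 0x1ca2dfc482) (nat_lit 1026))
)) (.node (nat_lit 0x1cb04ef502) (.node (nat_lit 0x1cb043b502) (.leaf (nat_lit 0x1cb042b582) (nat_lit 2051))
 (.leaf (nat_lit 0x1cb043b502) (nat_lit 2049))
) (.node (nat_lit 0x1cb04fd582) (.leaf (nat_lit 0x1cb04ef502) (nat_lit 2051))
 (.leaf (nat_lit 0x1cb04fd582) (nat_lit 1795))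
)))))) (.node (nat_lit 0x1cd04eed02) (.node (nat_lit 0x1cc049f502) (.node (nat_lit 0x1cb249f502) (.node (nat_lit 0x1cb15fc482) (.node (nat_lit 0x1cb156e482) (.leaf (nat_lit 0x1cb153a402) (nat_lit 1536))
 (.node (nat_lit 0x1cb15aa402) (.leaf (nat_lit 0x1cb156e482) (nat_lit 1792))
 (.leaf (nat_lit 0x1cb15aa402) (nat_lit 1536))
)) (.node (nat_lit 0x1cb245b582) (.node (nat_lit 0x1cb244b502) (.leaf (nat_lit 0x1cb15fc482) (nat_lit 1280))
 (.leaf (nat_lit 0x1cb244b502) (nat_lit 2049))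
) (.node (nat_lit 0x1cb248d582) (.leaf (nat_lit 0x1cb245b582) (nat_lit 2051))
 (.leaf (nat_lit 0x1cb248d582) (nat_lit 1795))
))) (.node (nat_lit 0x1cb35da402) (.node (nat_lit 0x1cb354a402) (.node (nat_lit 0x1cb351e482) (.leaf (nat_lit 0x1cb249f502) (nat_lit 2051))
 (.leaf (nat_lit 0x1cb351e482) (nat_lit 1792))
) (.node (nat_lit 0x1cb358c482) (.leaf (nat_lit 0x1cb354a402) (nat_lit 1536))
 (.leaf (nat_lit 0x1cb358c482) (nat_lit 1280))
)) (.node (nat_lit 0x1cc045b582) (.node (nat_lit 0x1cc044b502) (.leaf (nat_lit 0x1cb35da402) (nat_lit 1536))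
 (.leaf (nat_lit 0x1cc044b502) (nat_lit 2049))
) (.node (nat_lit 0x1cc048d582) (.leaf (nat_lit 0x1cc045b582) (nat_lit 2051))
 (.leaf (nat_lit 0x1cc048d582) (nat_lit 1795))
)))) (.node (nat_lit 0x1cc24ef502) (.node (nat_lit 0x1cc158c482) (.node (nat_lit 0x1cc151e482) (.leaf (nat_lit 0x1cc049f502) (nat_lit 2051))
 (.node (nat_lit 0x1cc154a402) (.leaf (nat_lit 0x1cc151e482) (nat_lit 2050))
 (.leaf (nat_lit 0x1cc154a402) (nat_lit 1794))
)) (.node (nat_lit 0x1cc242b582) (.node (nat_lit 0x1cc15da402) (.leaf (nat_lit 0x1cc158c482) (nat_lit 1538))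
 (.leaf (nat_lit 0x1cc15da402) (nat_lit 1794))
) (.node (nat_lit 0x1cc243b502) (.leaf (nat_lit 0x1cc242b582) (nat_lit 2051))
 (.leaf (nat_lit 0x1cc243b502) (nat_lit 2049))
))) (.node (nat_lit 0x1cc35aa402) (.node (nat_lit 0x1cc353a402) (.node (nat_lit 0x1cc24fd582) (.leaf (nat_lit 0x1cc24ef502) (nat_lit 2051))
 (.leaf (nat_lit 0x1cc24fd582) (nat_lit 1795))
) (.node (nat_lit 0x1cc356e482) (.leaf (nat_lit 0x1cc353a402) (nat_lit 1794))
 (.leaf (nat_lit 0x1cc356e482) (nat_lit 2050))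
)) (.node (nat_lit 0x1cd044ad82) (.node (nat_lit 0x1cc35fc482) (.leaf (nat_lit 0x1cc35aa402) (nat_lit 1794))
 (.leaf (nat_lit 0x1cc35fc482) (nat_lit 1538))
) (.node (nat_lit 0x1cd045ad02) (.leaf (nat_lit 0x1cd044ad82) (nat_lit 2051))
 (.leaf (nat_lit 0x1cd045ad02) (nat_lit 2051))
))))) (.node (nat_lit 0x1ce4d6f502) (.node (nat_lit 0x1cd243ad82) (.node (nat_lit 0x1cd0d6e482) (.node (nat_lit 0x1cd04fcd82) (.leaf (nat_lit 0x1cd04eed02) (nat_lit 2051))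
 (.node (nat_lit 0x1cd0d5a402) (.leaf (nat_lit 0x1cd04fcd82) (nat_lit 1795))
 (.leaf (nat_lit 0x1cd0d5a402) (nat_lit 1024))
)) (.node (nat_lit 0x1cd0dfc482) (.node (nat_lit 0x1cd0dca402) (.leaf (nat_lit 0x1cd0d6e482) (nat_lit 2050))
 (.leaf (nat_lit 0x1cd0dca402) (nat_lit 1794))
) (.node (nat_lit 0x1cd242ad02) (.leaf (nat_lit 0x1cd0dfc482) (nat_lit 1026))
 (.leaf (nat_lit 0x1cd242ad02) (nat_lit 2051))
))) (.node (nat_lit 0x1cd2d2a402) (.node (nat_lit 0x1cd249ed02) (.node (nat_lit 0x1cd248cd82) (.leaf (nat_lit 0x1cd243ad82) (nat_lit 2051))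
 (.leaf (nat_lit 0x1cd248cd82) (nat_lit 1795))
) (.node (nat_lit 0x1cd2d1e482) (.leaf (nat_lit 0x1cd249ed02) (nat_lit 2051))
 (.leaf (nat_lit 0x1cd2d1e482) (nat_lit 2050))
)) (.node (nat_lit 0x1cd2dba402) (.node (nat_lit 0x1cd2d8c482) (.leaf (nat_lit 0x1cd2d2a402) (nat_lit 1281))
 (.leaf (nat_lit 0x1cd2d8c482) (nat_lit 768))
) (.node (nat_lit 0x1ce4d5b582) (.leaf (nat_lit 0x1cd2dba402) (nat_lit 1794))
 (.leaf (nat_lit 0x1ce4d5b582) (nat_lit 1795))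
)))) (.node (nat_lit 0x1ce6d1f502) (.node (nat_lit 0x1ce553ad82) (.node (nat_lit 0x1ce4d8d582) (.leaf (nat_lit 0x1ce4d6f502) (nat_lit 1793))
 (.node (nat_lit 0x1ce4dbb502) (.leaf (nat_lit 0x1ce4d8d582) (nat_lit 1539))
 (.leaf (nat_lit 0x1ce4dbb502) (nat_lit 1795))
)) (.node (nat_lit 0x1ce558cd82) (.node (nat_lit 0x1ce556ed02) (.leaf (nat_lit 0x1ce553ad82) (nat_lit 1537))
 (.leaf (nat_lit 0x1ce556ed02) (nat_lit 1281))
) (.node (nat_lit 0x1ce55dad02) (.leaf (nat_lit 0x1ce558cd82) (nat_lit 1027))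
 (.leaf (nat_lit 0x1ce55dad02) (nat_lit 1283))
))) (.node (nat_lit 0x1ce751ed02) (.node (nat_lit 0x1ce6dcb502) (.node (nat_lit 0x1ce6d2b582) (.leaf (nat_lit 0x1ce6d1f502) (nat_lit 1793))
 (.leaf (nat_lit 0x1ce6d2b582) (nat_lit 1795))
) (.node (nat_lit 0x1ce6dfd582) (.leaf (nat_lit 0x1ce6dcb502) (nat_lit 1795))
 (.leaf (nat_lit 0x1ce6dfd582) (nat_lit 1539))
)) (.node (nat_lit 0x1ce75aad02) (.node (nat_lit 0x1ce754ad82) (.leaf (nat_lit 0x1ce751ed02) (nat_lit 1281))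
 (.leaf (nat_lit 0x1ce754ad82) (nat_lit 1537))
) (.node (nat_lit 0x1ce75fcd82) (.leaf (nat_lit 0x1ce75aad02) (nat_lit 1283))
 (.leaf (nat_lit 0x1ce75fcd82) (nat_lit 1027))
)))))))))))

theorem NB_ok : genOK A2 [(nat_lit 0x1820408102), (nat_lit 0x10224dc182), (nat_lit 0x860408102), (nat_lit 0x850d08402)] NB_t (nat_lit 1920) = true := by decide +kernel

noncomputable def CY_t : ST :=
(.node (nat_lit 0x1120234084) (.node (nat_lit 0x9c064e106) (.node (nat_lit 0x8e046a102) (.node (nat_lit 0x864234084) (.node (nat_lit 0x84662e106) (.node (nat_lit 0x842b92084) (.node (nat_lit 0x840610086) (.node (nat_lit 0x840408102) (.node (nat_lit 0x840312084) (.node (nat_lit 0x840218184) (.leaf (nat_lit 0x840210084) (nat_lit 1539))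
 (.leaf (nat_lit 0x840218184) (nat_lit 517))
) (.node (nat_lit 0x84031e184) (.leaf (nat_lit 0x840312084) (nat_lit 1025))
 (.leaf (nat_lit 0x84031e184) (nat_lit 1538))
)) (.node (nat_lit 0x84048c102) (.node (nat_lit 0x840418182) (.leaf (nat_lit 0x840408102) (nat_lit 516))
 (.leaf (nat_lit 0x840418182) (nat_lit 1283))
) (.node (nat_lit 0x84049e182) (.leaf (nat_lit 0x84048c102) (nat_lit 1537))
 (.node (nat_lit 0x840608106) (.leaf (nat_lit 0x84049e182) (nat_lit 1281))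
 (.leaf (nat_lit 0x840608106) (nat_lit 1282))
)))) (.node (nat_lit 0x84243a182) (.node (nat_lit 0x840792086) (.node (nat_lit 0x84078c106) (.leaf (nat_lit 0x840610086) (nat_lit 768))
 (.leaf (nat_lit 0x84078c106) (nat_lit 1280))
) (.node (nat_lit 0x84242a102) (.leaf (nat_lit 0x840792086) (nat_lit 1537))
 (.leaf (nat_lit 0x84242a102) (nat_lit 1028))
)) (.node (nat_lit 0x8424bc182) (.node (nat_lit 0x8424ae102) (.leaf (nat_lit 0x84243a182) (nat_lit 1280))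
 (.leaf (nat_lit 0x8424ae102) (nat_lit 1541))
) (.node (nat_lit 0x842a90084) (.leaf (nat_lit 0x8424bc182) (nat_lit 769))
 (.node (nat_lit 0x842aba184) (.leaf (nat_lit 0x842a90084) (nat_lit 1281))
 (.leaf (nat_lit 0x842aba184) (nat_lit 1029))
))))) (.node (nat_lit 0x84433a184) (.node (nat_lit 0x842f12086) (.node (nat_lit 0x842e90086) (.node (nat_lit 0x842bbc184) (.leaf (nat_lit 0x842b92084) (nat_lit 1283))
 (.leaf (nat_lit 0x842bbc184) (nat_lit 1283))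
) (.node (nat_lit 0x842eaa106) (.leaf (nat_lit 0x842e90086) (nat_lit 1024))
 (.leaf (nat_lit 0x842eaa106) (nat_lit 1282))
)) (.node (nat_lit 0x844234084) (.node (nat_lit 0x842f2e106) (.leaf (nat_lit 0x842f12086) (nat_lit 1536))
 (.leaf (nat_lit 0x842f2e106) (nat_lit 1024))
) (.node (nat_lit 0x84423c184) (.leaf (nat_lit 0x844234084) (nat_lit 1541))
 (.node (nat_lit 0x844336084) (.leaf (nat_lit 0x84423c184) (nat_lit 773))
 (.leaf (nat_lit 0x844336084) (nat_lit 769))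
)))) (.node (nat_lit 0x844dba182) (.node (nat_lit 0x844d3c182) (.node (nat_lit 0x844d08102) (.leaf (nat_lit 0x84433a184) (nat_lit 1539))
 (.leaf (nat_lit 0x844d08102) (nat_lit 772))
) (.node (nat_lit 0x844d8c102) (.leaf (nat_lit 0x844d3c182) (nat_lit 1283))
 (.leaf (nat_lit 0x844d8c102) (nat_lit 1541))
)) (.node (nat_lit 0x844eb6086) (.node (nat_lit 0x844e8c106) (.leaf (nat_lit 0x844dba182) (nat_lit 1024))
 (.leaf (nat_lit 0x844e8c106) (nat_lit 1285))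
) (.node (nat_lit 0x844f08106) (.leaf (nat_lit 0x844eb6086) (nat_lit 1281))
 (.node (nat_lit 0x844f34086) (.leaf (nat_lit 0x844f08106) (nat_lit 1283))
 (.leaf (nat_lit 0x844f34086) (nat_lit 1024))
)))))) (.node (nat_lit 0x86048c102) (.node (nat_lit 0x846d2a102) (.node (nat_lit 0x846a9e184) (.node (nat_lit 0x8467aa106) (.node (nat_lit 0x846636086) (.leaf (nat_lit 0x84662e106) (nat_lit 1280))
 (.leaf (nat_lit 0x846636086) (nat_lit 1285))
) (.node (nat_lit 0x8467b4086) (.leaf (nat_lit 0x8467aa106) (nat_lit 1025))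
 (.leaf (nat_lit 0x8467b4086) (nat_lit 1283))
)) (.node (nat_lit 0x846b98184) (.node (nat_lit 0x846ab4084) (.leaf (nat_lit 0x846a9e184) (nat_lit 1285))
 (.leaf (nat_lit 0x846ab4084) (nat_lit 1537))
) (.node (nat_lit 0x846bb6084) (.leaf (nat_lit 0x846b98184) (nat_lit 1027))
 (.node (nat_lit 0x846d1e182) (.leaf (nat_lit 0x846bb6084) (nat_lit 1283))
 (.leaf (nat_lit 0x846d1e182) (nat_lit 1536))
)))) (.node (nat_lit 0x860218184) (.node (nat_lit 0x846dae102) (.node (nat_lit 0x846d98182) (.leaf (nat_lit 0x846d2a102) (nat_lit 1284))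
 (.leaf (nat_lit 0x846d98182) (nat_lit 1025))
) (.node (nat_lit 0x860210084) (.leaf (nat_lit 0x846dae102) (nat_lit 1285))
 (.leaf (nat_lit 0x860210084) (nat_lit 1539))
)) (.node (nat_lit 0x86031e184) (.node (nat_lit 0x860312084) (.leaf (nat_lit 0x860218184) (nat_lit 261))
 (.leaf (nat_lit 0x860312084) (nat_lit 769))
) (.node (nat_lit 0x860408102) (.leaf (nat_lit 0x86031e184) (nat_lit 1282))
 (.node (nat_lit 0x860418182) (.leaf (nat_lit 0x860408102) (nat_lit 260))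
 (.leaf (nat_lit 0x860418182) (nat_lit 1283))
))))) (.node (nat_lit 0x8624bc182) (.node (nat_lit 0x86078c106) (.node (nat_lit 0x860608106) (.node (nat_lit 0x86049e182) (.leaf (nat_lit 0x86048c102) (nat_lit 1793))
 (.leaf (nat_lit 0x86049e182) (nat_lit 1537))
) (.node (nat_lit 0x860610086) (.leaf (nat_lit 0x860608106) (nat_lit 1283))
 (.leaf (nat_lit 0x860610086) (nat_lit 1024))
)) (.node (nat_lit 0x86242a102) (.node (nat_lit 0x860792086) (.leaf (nat_lit 0x86078c106) (nat_lit 1536))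
 (.leaf (nat_lit 0x860792086) (nat_lit 1538))
) (.node (nat_lit 0x86243a182) (.leaf (nat_lit 0x86242a102) (nat_lit 1284))
 (.node (nat_lit 0x8624ae102) (.leaf (nat_lit 0x86243a182) (nat_lit 1536))
 (.leaf (nat_lit 0x8624ae102) (nat_lit 1537))
)))) (.node (nat_lit 0x862bbc184) (.node (nat_lit 0x862aba184) (.node (nat_lit 0x862a90084) (.leaf (nat_lit 0x8624bc182) (nat_lit 513))
 (.leaf (nat_lit 0x862a90084) (nat_lit 1025))
) (.node (nat_lit 0x862b92084) (.leaf (nat_lit 0x862aba184) (nat_lit 1285))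
 (.leaf (nat_lit 0x862b92084) (nat_lit 1281))
)) (.node (nat_lit 0x862eaa106) (.node (nat_lit 0x862e90086) (.leaf (nat_lit 0x862bbc184) (nat_lit 1027))
 (.leaf (nat_lit 0x862e90086) (nat_lit 1280))
) (.node (nat_lit 0x862f12086) (.leaf (nat_lit 0x862eaa106) (nat_lit 1026))
 (.node (nat_lit 0x862f2e106) (.leaf (nat_lit 0x862f12086) (nat_lit 1539))
 (.leaf (nat_lit 0x862f2e106) (nat_lit 1029))
))))))) (.node (nat_lit 0x8c246a102) (.node (nat_lit 0x866b98184) (.node (nat_lit 0x864eb6086) (.node (nat_lit 0x864d08102) (.node (nat_lit 0x864336084) (.node (nat_lit 0x86423c184) (.leaf (nat_lit 0x864234084) (nat_lit 1537))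
 (.leaf (nat_lit 0x86423c184) (nat_lit 517))
) (.node (nat_lit 0x86433a184) (.leaf (nat_lit 0x864336084) (nat_lit 513))
 (.leaf (nat_lit 0x86433a184) (nat_lit 1538))
)) (.node (nat_lit 0x864d8c102) (.node (nat_lit 0x864d3c182) (.leaf (nat_lit 0x864d08102) (nat_lit 516))
 (.leaf (nat_lit 0x864d3c182) (nat_lit 1027))
) (.node (nat_lit 0x864dba182) (.leaf (nat_lit 0x864d8c102) (nat_lit 1541))
 (.node (nat_lit 0x864e8c106) (.leaf (nat_lit 0x864dba182) (nat_lit 1280))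
 (.leaf (nat_lit 0x864e8c106) (nat_lit 1285))
)))) (.node (nat_lit 0x866636086) (.node (nat_lit 0x864f34086) (.node (nat_lit 0x864f08106) (.leaf (nat_lit 0x864eb6086) (nat_lit 1281))
 (.leaf (nat_lit 0x864f08106) (nat_lit 1282))
) (.node (nat_lit 0x86662e106) (.leaf (nat_lit 0x864f34086) (nat_lit 1026))
 (.leaf (nat_lit 0x86662e106) (nat_lit 1285))
)) (.node (nat_lit 0x8667b4086) (.node (nat_lit 0x8667aa106) (.leaf (nat_lit 0x866636086) (nat_lit 1285))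
 (.leaf (nat_lit 0x8667aa106) (nat_lit 1027))
) (.node (nat_lit 0x866a9e184) (.leaf (nat_lit 0x8667b4086) (nat_lit 1027))
 (.node (nat_lit 0x866ab4084) (.leaf (nat_lit 0x866a9e184) (nat_lit 1029))
 (.leaf (nat_lit 0x866ab4084) (nat_lit 1281))
))))) (.node (nat_lit 0x8c04dc182) (.node (nat_lit 0x866d98182) (.node (nat_lit 0x866d1e182) (.node (nat_lit 0x866bb6084) (.leaf (nat_lit 0x866b98184) (nat_lit 771))
 (.leaf (nat_lit 0x866bb6084) (nat_lit 1027))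
) (.node (nat_lit 0x866d2a102) (.leaf (nat_lit 0x866d1e182) (nat_lit 1538))
 (.leaf (nat_lit 0x866d2a102) (nat_lit 1028))
)) (.node (nat_lit 0x8c044a102) (.node (nat_lit 0x866dae102) (.leaf (nat_lit 0x866d98182) (nat_lit 769))
 (.leaf (nat_lit 0x866dae102) (nat_lit 1281))
) (.node (nat_lit 0x8c045a182) (.leaf (nat_lit 0x8c044a102) (nat_lit 1025))
 (.node (nat_lit 0x8c04ce102) (.leaf (nat_lit 0x8c045a182) (nat_lit 1538))
 (.leaf (nat_lit 0x8c04ce102) (nat_lit 1539))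
)))) (.node (nat_lit 0x8c13dc184) (.node (nat_lit 0x8c12da184) (.node (nat_lit 0x8c1290084) (.leaf (nat_lit 0x8c04dc182) (nat_lit 772))
 (.leaf (nat_lit 0x8c1290084) (nat_lit 1539))
) (.node (nat_lit 0x8c1392084) (.leaf (nat_lit 0x8c12da184) (nat_lit 1541))
 (.leaf (nat_lit 0x8c1392084) (nat_lit 1024))
)) (.node (nat_lit 0x8c16ca106) (.node (nat_lit 0x8c1690086) (.leaf (nat_lit 0x8c13dc184) (nat_lit 1026))
 (.leaf (nat_lit 0x8c1690086) (nat_lit 1026))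
) (.node (nat_lit 0x8c1712086) (.leaf (nat_lit 0x8c16ca106) (nat_lit 1283))
 (.node (nat_lit 0x8c174e106) (.leaf (nat_lit 0x8c1712086) (nat_lit 1537))
 (.leaf (nat_lit 0x8c174e106) (nat_lit 773))
)))))) (.node (nat_lit 0x8c53b4084) (.node (nat_lit 0x8c3eea106) (.node (nat_lit 0x8c3a90084) (.node (nat_lit 0x8c24ee102) (.node (nat_lit 0x8c247a182) (.leaf (nat_lit 0x8c246a102) (nat_lit 1025))
 (.leaf (nat_lit 0x8c247a182) (nat_lit 1539))
) (.node (nat_lit 0x8c24fc182) (.leaf (nat_lit 0x8c24ee102) (nat_lit 1536))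
 (.leaf (nat_lit 0x8c24fc182) (nat_lit 772))
)) (.node (nat_lit 0x8c3b92084) (.node (nat_lit 0x8c3afa184) (.leaf (nat_lit 0x8c3a90084) (nat_lit 1280))
 (.leaf (nat_lit 0x8c3afa184) (nat_lit 1280))
) (.node (nat_lit 0x8c3bfc184) (.leaf (nat_lit 0x8c3b92084) (nat_lit 1283))
 (.node (nat_lit 0x8c3e90086) (.leaf (nat_lit 0x8c3bfc184) (nat_lit 1027))
 (.leaf (nat_lit 0x8c3e90086) (nat_lit 1027))
)))) (.node (nat_lit 0x8c4d7a182) (.node (nat_lit 0x8c3f6e106) (.node (nat_lit 0x8c3f12086) (.leaf (nat_lit 0x8c3eea106) (nat_lit 1282))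
 (.leaf (nat_lit 0x8c3f12086) (nat_lit 1280))
) (.node (nat_lit 0x8c4d4e102) (.leaf (nat_lit 0x8c3f6e106) (nat_lit 773))
 (.leaf (nat_lit 0x8c4d4e102) (nat_lit 1281))
)) (.node (nat_lit 0x8c4dfc182) (.node (nat_lit 0x8c4dca102) (.leaf (nat_lit 0x8c4d7a182) (nat_lit 1541))
 (.leaf (nat_lit 0x8c4dca102) (nat_lit 1539))
) (.node (nat_lit 0x8c52b6084) (.leaf (nat_lit 0x8c4dfc182) (nat_lit 1028))
 (.node (nat_lit 0x8c52fc184) (.leaf (nat_lit 0x8c52b6084) (nat_lit 1026))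
 (.leaf (nat_lit 0x8c52fc184) (nat_lit 1026))
))))) (.node (nat_lit 0x8c6dea102) (.node (nat_lit 0x8c5f36086) (.node (nat_lit 0x8c5eb4086) (.node (nat_lit 0x8c53fa184) (.leaf (nat_lit 0x8c53b4084) (nat_lit 1541))
 (.leaf (nat_lit 0x8c53fa184) (nat_lit 1536))
) (.node (nat_lit 0x8c5ece106) (.leaf (nat_lit 0x8c5eb4086) (nat_lit 1025))
 (.leaf (nat_lit 0x8c5ece106) (nat_lit 1283))
)) (.node (nat_lit 0x8c6d5a182) (.node (nat_lit 0x8c5f4a106) (.leaf (nat_lit 0x8c5f36086) (nat_lit 1280))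
 (.leaf (nat_lit 0x8c5f4a106) (nat_lit 1029))
) (.node (nat_lit 0x8c6d6e102) (.leaf (nat_lit 0x8c6d5a182) (nat_lit 1539))
 (.node (nat_lit 0x8c6ddc182) (.leaf (nat_lit 0x8c6d6e102) (nat_lit 1281))
 (.leaf (nat_lit 0x8c6ddc182) (nat_lit 1028))
)))) (.node (nat_lit 0x8c776a106) (.node (nat_lit 0x8c76ee106) (.node (nat_lit 0x8c76b4086) (.leaf (nat_lit 0x8c6dea102) (nat_lit 1538))
 (.leaf (nat_lit 0x8c76b4086) (nat_lit 1025))
) (.node (nat_lit 0x8c7736086) (.leaf (nat_lit 0x8c76ee106) (nat_lit 1283))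
 (.leaf (nat_lit 0x8c7736086) (nat_lit 1536))
)) (.node (nat_lit 0x8c7adc184) (.node (nat_lit 0x8c7ab6084) (.leaf (nat_lit 0x8c776a106) (nat_lit 1029))
 (.leaf (nat_lit 0x8c7ab6084) (nat_lit 1027))
) (.node (nat_lit 0x8c7bb4084) (.leaf (nat_lit 0x8c7adc184) (nat_lit 1027))
 (.node (nat_lit 0x8c7bda184) (.leaf (nat_lit 0x8c7bb4084) (nat_lit 1537))
 (.leaf (nat_lit 0x8c7bda184) (nat_lit 1541))
)))))))) (.node (nat_lit 0x944274084) (.node (nat_lit 0x8e6d4e102) (.node (nat_lit 0x8e3392084) (.node (nat_lit 0x8e1eea106) (.node (nat_lit 0x8e1a90084) (.node (nat_lit 0x8e04ee102) (.node (nat_lit 0x8e047a182) (.leaf (nat_lit 0x8e046a102) (nat_lit 769))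
 (.leaf (nat_lit 0x8e047a182) (nat_lit 1541))
) (.node (nat_lit 0x8e04fc182) (.leaf (nat_lit 0x8e04ee102) (nat_lit 1539))
 (.leaf (nat_lit 0x8e04fc182) (nat_lit 1028))
)) (.node (nat_lit 0x8e1b92084) (.node (nat_lit 0x8e1afa184) (.leaf (nat_lit 0x8e1a90084) (nat_lit 1283))
 (.leaf (nat_lit 0x8e1afa184) (nat_lit 1285))
) (.node (nat_lit 0x8e1bfc184) (.leaf (nat_lit 0x8e1b92084) (nat_lit 1026))
 (.node (nat_lit 0x8e1e90086) (.leaf (nat_lit 0x8e1bfc184) (nat_lit 770))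
 (.leaf (nat_lit 0x8e1e90086) (nat_lit 1025))
)))) (.node (nat_lit 0x8e245a182) (.node (nat_lit 0x8e1f6e106) (.node (nat_lit 0x8e1f12086) (.leaf (nat_lit 0x8e1eea106) (nat_lit 1283))
 (.leaf (nat_lit 0x8e1f12086) (nat_lit 1281))
) (.node (nat_lit 0x8e244a102) (.leaf (nat_lit 0x8e1f6e106) (nat_lit 1029))
 (.leaf (nat_lit 0x8e244a102) (nat_lit 1281))
)) (.node (nat_lit 0x8e24dc182) (.node (nat_lit 0x8e24ce102) (.leaf (nat_lit 0x8e245a182) (nat_lit 1539))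
 (.leaf (nat_lit 0x8e24ce102) (nat_lit 1539))
) (.node (nat_lit 0x8e3290084) (.leaf (nat_lit 0x8e24dc182) (nat_lit 516))
 (.node (nat_lit 0x8e32da184) (.leaf (nat_lit 0x8e3290084) (nat_lit 1282))
 (.leaf (nat_lit 0x8e32da184) (nat_lit 1285))
))))) (.node (nat_lit 0x8e4dea102) (.node (nat_lit 0x8e3712086) (.node (nat_lit 0x8e3690086) (.node (nat_lit 0x8e33dc184) (.leaf (nat_lit 0x8e3392084) (nat_lit 1027))
 (.leaf (nat_lit 0x8e33dc184) (nat_lit 1027))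
) (.node (nat_lit 0x8e36ca106) (.leaf (nat_lit 0x8e3690086) (nat_lit 1025))
 (.leaf (nat_lit 0x8e36ca106) (nat_lit 1026))
)) (.node (nat_lit 0x8e4d5a182) (.node (nat_lit 0x8e374e106) (.leaf (nat_lit 0x8e3712086) (nat_lit 1536))
 (.leaf (nat_lit 0x8e374e106) (nat_lit 517))
) (.node (nat_lit 0x8e4d6e102) (.leaf (nat_lit 0x8e4d5a182) (nat_lit 1537))
 (.node (nat_lit 0x8e4ddc182) (.leaf (nat_lit 0x8e4d6e102) (nat_lit 1025))
 (.leaf (nat_lit 0x8e4ddc182) (nat_lit 772))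
)))) (.node (nat_lit 0x8e576a106) (.node (nat_lit 0x8e56ee106) (.node (nat_lit 0x8e56b4086) (.leaf (nat_lit 0x8e4dea102) (nat_lit 1283))
 (.leaf (nat_lit 0x8e56b4086) (nat_lit 769))
) (.node (nat_lit 0x8e5736086) (.leaf (nat_lit 0x8e56ee106) (nat_lit 1539))
 (.leaf (nat_lit 0x8e5736086) (nat_lit 1281))
)) (.node (nat_lit 0x8e5adc184) (.node (nat_lit 0x8e5ab6084) (.leaf (nat_lit 0x8e576a106) (nat_lit 773))
 (.leaf (nat_lit 0x8e5ab6084) (nat_lit 770))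
) (.node (nat_lit 0x8e5bb4084) (.leaf (nat_lit 0x8e5adc184) (nat_lit 1026))
 (.node (nat_lit 0x8e5bda184) (.leaf (nat_lit 0x8e5bb4084) (nat_lit 1537))
 (.leaf (nat_lit 0x8e5bda184) (nat_lit 1541))
)))))) (.node (nat_lit 0x94158c102) (.node (nat_lit 0x8e7ece106) (.node (nat_lit 0x8e72b6084) (.node (nat_lit 0x8e6dca102) (.node (nat_lit 0x8e6d7a182) (.leaf (nat_lit 0x8e6d4e102) (nat_lit 1025))
 (.leaf (nat_lit 0x8e6d7a182) (nat_lit 1537))
) (.node (nat_lit 0x8e6dfc182) (.leaf (nat_lit 0x8e6dca102) (nat_lit 1282))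
 (.leaf (nat_lit 0x8e6dfc182) (nat_lit 772))
)) (.node (nat_lit 0x8e73b4084) (.node (nat_lit 0x8e72fc184) (.leaf (nat_lit 0x8e72b6084) (nat_lit 771))
 (.leaf (nat_lit 0x8e72fc184) (nat_lit 771))
) (.node (nat_lit 0x8e73fa184) (.leaf (nat_lit 0x8e73b4084) (nat_lit 1541))
 (.node (nat_lit 0x8e7eb4086) (.leaf (nat_lit 0x8e73fa184) (nat_lit 1541))
 (.leaf (nat_lit 0x8e7eb4086) (nat_lit 1281))
)))) (.node (nat_lit 0x94025c184) (.node (nat_lit 0x8e7f4a106) (.node (nat_lit 0x8e7f36086) (.leaf (nat_lit 0x8e7ece106) (nat_lit 1027))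
 (.leaf (nat_lit 0x8e7f36086) (nat_lit 1537))
) (.node (nat_lit 0x940254084) (.leaf (nat_lit 0x8e7f4a106) (nat_lit 773))
 (.leaf (nat_lit 0x940254084) (nat_lit 1536))
)) (.node (nat_lit 0x94035a184) (.node (nat_lit 0x940356084) (.leaf (nat_lit 0x94025c184) (nat_lit 773))
 (.leaf (nat_lit 0x940356084) (nat_lit 1025))
) (.node (nat_lit 0x941508102) (.leaf (nat_lit 0x94035a184) (nat_lit 1541))
 (.node (nat_lit 0x94155c182) (.leaf (nat_lit 0x941508102) (nat_lit 772))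
 (.leaf (nat_lit 0x94155c182) (nat_lit 1028))
))))) (.node (nat_lit 0x942bfa184) (.node (nat_lit 0x941708106) (.node (nat_lit 0x94168c106) (.node (nat_lit 0x9415da182) (.leaf (nat_lit 0x94158c102) (nat_lit 1536))
 (.leaf (nat_lit 0x9415da182) (nat_lit 1280))
) (.node (nat_lit 0x9416d6086) (.leaf (nat_lit 0x94168c106) (nat_lit 1285))
 (.leaf (nat_lit 0x9416d6086) (nat_lit 1281))
)) (.node (nat_lit 0x942ad6084) (.node (nat_lit 0x941754086) (.leaf (nat_lit 0x941708106) (nat_lit 1029))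
 (.leaf (nat_lit 0x941754086) (nat_lit 1280))
) (.node (nat_lit 0x942afc184) (.leaf (nat_lit 0x942ad6084) (nat_lit 1282))
 (.node (nat_lit 0x942bd4084) (.leaf (nat_lit 0x942afc184) (nat_lit 1285))
 (.leaf (nat_lit 0x942bd4084) (nat_lit 1537))
)))) (.node (nat_lit 0x9435fc182) (.node (nat_lit 0x94357a182) (.node (nat_lit 0x94352e102) (.leaf (nat_lit 0x942bfa184) (nat_lit 1537))
 (.leaf (nat_lit 0x94352e102) (nat_lit 1540))
) (.node (nat_lit 0x9435aa102) (.leaf (nat_lit 0x94357a182) (nat_lit 1796))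
 (.leaf (nat_lit 0x9435aa102) (nat_lit 1284))
)) (.node (nat_lit 0x943ed4086) (.node (nat_lit 0x943eae106) (.leaf (nat_lit 0x9435fc182) (nat_lit 1028))
 (.leaf (nat_lit 0x943eae106) (nat_lit 1281))
) (.node (nat_lit 0x943f2a106) (.leaf (nat_lit 0x943ed4086) (nat_lit 1537))
 (.node (nat_lit 0x943f56086) (.leaf (nat_lit 0x943f2a106) (nat_lit 1029))
 (.leaf (nat_lit 0x943f56086) (nat_lit 1283))
))))))) (.node (nat_lit 0x962adc184) (.node (nat_lit 0x94772a106) (.node (nat_lit 0x945ef6086) (.node (nat_lit 0x945d08102) (.node (nat_lit 0x944376084) (.node (nat_lit 0x94427c184) (.leaf (nat_lit 0x944274084) (nat_lit 1538))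
 (.leaf (nat_lit 0x94427c184) (nat_lit 773))
) (.node (nat_lit 0x94437a184) (.leaf (nat_lit 0x944376084) (nat_lit 1025))
 (.leaf (nat_lit 0x94437a184) (nat_lit 1539))
)) (.node (nat_lit 0x945d8c102) (.node (nat_lit 0x945d7c182) (.leaf (nat_lit 0x945d08102) (nat_lit 771))
 (.leaf (nat_lit 0x945d7c182) (nat_lit 1027))
) (.node (nat_lit 0x945dfa182) (.leaf (nat_lit 0x945d8c102) (nat_lit 1797))
 (.node (nat_lit 0x945e8c106) (.leaf (nat_lit 0x945dfa182) (nat_lit 1285))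
 (.leaf (nat_lit 0x945e8c106) (nat_lit 1541))
)))) (.node (nat_lit 0x946af6084) (.node (nat_lit 0x945f74086) (.node (nat_lit 0x945f08106) (.leaf (nat_lit 0x945ef6086) (nat_lit 1281))
 (.leaf (nat_lit 0x945f08106) (nat_lit 1285))
) (.node (nat_lit 0x946adc184) (.leaf (nat_lit 0x945f74086) (nat_lit 1024))
 (.leaf (nat_lit 0x946adc184) (nat_lit 1283))
)) (.node (nat_lit 0x946bf4084) (.node (nat_lit 0x946bda184) (.leaf (nat_lit 0x946af6084) (nat_lit 1283))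
 (.leaf (nat_lit 0x946bda184) (nat_lit 1285))
) (.node (nat_lit 0x9476ae106) (.leaf (nat_lit 0x946bf4084) (nat_lit 1537))
 (.node (nat_lit 0x9476f4086) (.leaf (nat_lit 0x9476ae106) (nat_lit 1283))
 (.leaf (nat_lit 0x9476f4086) (nat_lit 1281))
))))) (.node (nat_lit 0x96037a184) (.node (nat_lit 0x947daa102) (.node (nat_lit 0x947d2e102) (.node (nat_lit 0x947776086) (.leaf (nat_lit 0x94772a106) (nat_lit 1029))
 (.leaf (nat_lit 0x947776086) (nat_lit 1282))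
) (.node (nat_lit 0x947d5a182) (.leaf (nat_lit 0x947d2e102) (nat_lit 1284))
 (.leaf (nat_lit 0x947d5a182) (nat_lit 1536))
)) (.node (nat_lit 0x960274084) (.node (nat_lit 0x947ddc182) (.leaf (nat_lit 0x947daa102) (nat_lit 1281))
 (.leaf (nat_lit 0x947ddc182) (nat_lit 1025))
) (.node (nat_lit 0x96027c184) (.leaf (nat_lit 0x960274084) (nat_lit 1538))
 (.node (nat_lit 0x960376084) (.leaf (nat_lit 0x96027c184) (nat_lit 517))
 (.leaf (nat_lit 0x960376084) (nat_lit 1025))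
)))) (.node (nat_lit 0x961dfa182) (.node (nat_lit 0x961d7c182) (.node (nat_lit 0x961d08102) (.leaf (nat_lit 0x96037a184) (nat_lit 1538))
 (.leaf (nat_lit 0x961d08102) (nat_lit 516))
) (.node (nat_lit 0x961d8c102) (.leaf (nat_lit 0x961d7c182) (nat_lit 1027))
 (.leaf (nat_lit 0x961d8c102) (nat_lit 1541))
)) (.node (nat_lit 0x961ef6086) (.node (nat_lit 0x961e8c106) (.leaf (nat_lit 0x961dfa182) (nat_lit 1285))
 (.leaf (nat_lit 0x961e8c106) (nat_lit 1285))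
) (.node (nat_lit 0x961f08106) (.leaf (nat_lit 0x961ef6086) (nat_lit 1281))
 (.node (nat_lit 0x961f74086) (.leaf (nat_lit 0x961f08106) (nat_lit 1285))
 (.leaf (nat_lit 0x961f74086) (nat_lit 1282))
)))))) (.node (nat_lit 0x96558c102) (.node (nat_lit 0x963d5a182) (.node (nat_lit 0x9636ae106) (.node (nat_lit 0x962bda184) (.node (nat_lit 0x962af6084) (.leaf (nat_lit 0x962adc184) (nat_lit 1283))
 (.leaf (nat_lit 0x962af6084) (nat_lit 1026))
) (.node (nat_lit 0x962bf4084) (.leaf (nat_lit 0x962bda184) (nat_lit 1281))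
 (.leaf (nat_lit 0x962bf4084) (nat_lit 1281))
)) (.node (nat_lit 0x96372a106) (.node (nat_lit 0x9636f4086) (.leaf (nat_lit 0x9636ae106) (nat_lit 1282))
 (.leaf (nat_lit 0x9636f4086) (nat_lit 1281))
) (.node (nat_lit 0x963776086) (.leaf (nat_lit 0x96372a106) (nat_lit 773))
 (.node (nat_lit 0x963d2e102) (.leaf (nat_lit 0x963776086) (nat_lit 1539))
 (.leaf (nat_lit 0x963d2e102) (nat_lit 1541))
)))) (.node (nat_lit 0x96425c184) (.node (nat_lit 0x963ddc182) (.node (nat_lit 0x963daa102) (.leaf (nat_lit 0x963d5a182) (nat_lit 1540))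
 (.leaf (nat_lit 0x963daa102) (nat_lit 1283))
) (.node (nat_lit 0x964254084) (.leaf (nat_lit 0x963ddc182) (nat_lit 772))
 (.leaf (nat_lit 0x964254084) (nat_lit 1536))
)) (.node (nat_lit 0x96435a184) (.node (nat_lit 0x964356084) (.leaf (nat_lit 0x96425c184) (nat_lit 773))
 (.leaf (nat_lit 0x964356084) (nat_lit 769))
) (.node (nat_lit 0x965508102) (.leaf (nat_lit 0x96435a184) (nat_lit 1541))
 (.node (nat_lit 0x96555c182) (.leaf (nat_lit 0x965508102) (nat_lit 515))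
 (.leaf (nat_lit 0x96555c182) (nat_lit 771))
))))) (.node (nat_lit 0x966bfa184) (.node (nat_lit 0x965708106) (.node (nat_lit 0x96568c106) (.node (nat_lit 0x9655da182) (.leaf (nat_lit 0x96558c102) (nat_lit 1541))
 (.leaf (nat_lit 0x9655da182) (nat_lit 1285))
) (.node (nat_lit 0x9656d6086) (.leaf (nat_lit 0x96568c106) (nat_lit 1541))
 (.leaf (nat_lit 0x9656d6086) (nat_lit 1025))
)) (.node (nat_lit 0x966ad6084) (.node (nat_lit 0x965754086) (.leaf (nat_lit 0x965708106) (nat_lit 1029))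
 (.leaf (nat_lit 0x965754086) (nat_lit 1280))
) (.node (nat_lit 0x966afc184) (.leaf (nat_lit 0x966ad6084) (nat_lit 1027))
 (.node (nat_lit 0x966bd4084) (.leaf (nat_lit 0x966afc184) (nat_lit 1027))
 (.leaf (nat_lit 0x966bd4084) (nat_lit 1539))
)))) (.node (nat_lit 0x9675fc182) (.node (nat_lit 0x96757a182) (.node (nat_lit 0x96752e102) (.leaf (nat_lit 0x966bfa184) (nat_lit 1285))
 (.leaf (nat_lit 0x96752e102) (nat_lit 1284))
) (.node (nat_lit 0x9675aa102) (.leaf (nat_lit 0x96757a182) (nat_lit 1540))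
 (.leaf (nat_lit 0x9675aa102) (nat_lit 1025))
)) (.node (nat_lit 0x967ed4086) (.node (nat_lit 0x967eae106) (.leaf (nat_lit 0x9675fc182) (nat_lit 769))
 (.leaf (nat_lit 0x967eae106) (nat_lit 1283))
) (.node (nat_lit 0x967f2a106) (.leaf (nat_lit 0x967ed4086) (nat_lit 1283))
 (.node (nat_lit 0x967f56086) (.leaf (nat_lit 0x967f2a106) (nat_lit 1029))
 (.leaf (nat_lit 0x967f56086) (nat_lit 1283))
))))))))) (.node (nat_lit 0x1060210084) (.node (nat_lit 0x9e4ed4086) (.node (nat_lit 0x9c666e106) (.node (nat_lit 0x9c35bc182) (.node (nat_lit 0x9c154a102) (.node (nat_lit 0x9c129e184) (.node (nat_lit 0x9c07ca106) (.node (nat_lit 0x9c0656086) (.leaf (nat_lit 0x9c064e106) (nat_lit 1026))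
 (.leaf (nat_lit 0x9c0656086) (nat_lit 1024))
) (.node (nat_lit 0x9c07d4086) (.leaf (nat_lit 0x9c07ca106) (nat_lit 1283))
 (.leaf (nat_lit 0x9c07d4086) (nat_lit 1281))
)) (.node (nat_lit 0x9c1398184) (.node (nat_lit 0x9c12d4084) (.leaf (nat_lit 0x9c129e184) (nat_lit 1285))
 (.leaf (nat_lit 0x9c12d4084) (nat_lit 1541))
) (.node (nat_lit 0x9c13d6084) (.leaf (nat_lit 0x9c1398184) (nat_lit 770))
 (.node (nat_lit 0x9c151e182) (.leaf (nat_lit 0x9c13d6084) (nat_lit 1281))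
 (.leaf (nat_lit 0x9c151e182) (nat_lit 1541))
)))) (.node (nat_lit 0x9c2eee106) (.node (nat_lit 0x9c15ce102) (.node (nat_lit 0x9c1598182) (.leaf (nat_lit 0x9c154a102) (nat_lit 1284))
 (.leaf (nat_lit 0x9c1598182) (nat_lit 1283))
) (.node (nat_lit 0x9c2ed4086) (.leaf (nat_lit 0x9c15ce102) (nat_lit 1285))
 (.leaf (nat_lit 0x9c2ed4086) (nat_lit 1281))
)) (.node (nat_lit 0x9c2f6a106) (.node (nat_lit 0x9c2f56086) (.leaf (nat_lit 0x9c2eee106) (nat_lit 1026))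
 (.leaf (nat_lit 0x9c2f56086) (nat_lit 1281))
) (.node (nat_lit 0x9c353a182) (.leaf (nat_lit 0x9c2f6a106) (nat_lit 1029))
 (.node (nat_lit 0x9c356e102) (.leaf (nat_lit 0x9c353a182) (nat_lit 1283))
 (.leaf (nat_lit 0x9c356e102) (nat_lit 1539))
))))) (.node (nat_lit 0x9c4f76086) (.node (nat_lit 0x9c3bba184) (.node (nat_lit 0x9c3abc184) (.node (nat_lit 0x9c35ea102) (.leaf (nat_lit 0x9c35bc182) (nat_lit 1028))
 (.leaf (nat_lit 0x9c35ea102) (nat_lit 1284))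
) (.node (nat_lit 0x9c3ad6084) (.leaf (nat_lit 0x9c3abc184) (nat_lit 1027))
 (.leaf (nat_lit 0x9c3ad6084) (nat_lit 1025))
)) (.node (nat_lit 0x9c4ece106) (.node (nat_lit 0x9c3bd4084) (.leaf (nat_lit 0x9c3bba184) (nat_lit 1282))
 (.leaf (nat_lit 0x9c3bd4084) (nat_lit 1537))
) (.node (nat_lit 0x9c4ef4086) (.leaf (nat_lit 0x9c4ece106) (nat_lit 1027))
 (.node (nat_lit 0x9c4f4a106) (.leaf (nat_lit 0x9c4ef4086) (nat_lit 1281))
 (.leaf (nat_lit 0x9c4f4a106) (nat_lit 1029))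
)))) (.node (nat_lit 0x9c53f4084) (.node (nat_lit 0x9c52f6084) (.node (nat_lit 0x9c52bc184) (.leaf (nat_lit 0x9c4f76086) (nat_lit 1281))
 (.leaf (nat_lit 0x9c52bc184) (nat_lit 1026))
) (.node (nat_lit 0x9c53ba184) (.leaf (nat_lit 0x9c52f6084) (nat_lit 1025))
 (.leaf (nat_lit 0x9c53ba184) (nat_lit 1283))
)) (.node (nat_lit 0x9c5d4e102) (.node (nat_lit 0x9c5d3a182) (.leaf (nat_lit 0x9c53f4084) (nat_lit 1280))
 (.leaf (nat_lit 0x9c5d3a182) (nat_lit 1282))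
) (.node (nat_lit 0x9c5dbc182) (.leaf (nat_lit 0x9c5d4e102) (nat_lit 1284))
 (.node (nat_lit 0x9c5dca102) (.leaf (nat_lit 0x9c5dbc182) (nat_lit 1027))
 (.leaf (nat_lit 0x9c5dca102) (nat_lit 1283))
)))))) (.node (nat_lit 0x9e1b98184) (.node (nat_lit 0x9c7d6a102) (.node (nat_lit 0x9c7a9e184) (.node (nat_lit 0x9c67ea106) (.node (nat_lit 0x9c6676086) (.leaf (nat_lit 0x9c666e106) (nat_lit 1027))
 (.leaf (nat_lit 0x9c6676086) (nat_lit 1024))
) (.node (nat_lit 0x9c67f4086) (.leaf (nat_lit 0x9c67ea106) (nat_lit 1024))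
 (.leaf (nat_lit 0x9c67f4086) (nat_lit 1281))
)) (.node (nat_lit 0x9c7b98184) (.node (nat_lit 0x9c7af4084) (.leaf (nat_lit 0x9c7a9e184) (nat_lit 1285))
 (.leaf (nat_lit 0x9c7af4084) (nat_lit 1285))
) (.node (nat_lit 0x9c7bf6084) (.leaf (nat_lit 0x9c7b98184) (nat_lit 771))
 (.node (nat_lit 0x9c7d1e182) (.leaf (nat_lit 0x9c7bf6084) (nat_lit 1281))
 (.leaf (nat_lit 0x9c7d1e182) (nat_lit 1537))
)))) (.node (nat_lit 0x9e0676086) (.node (nat_lit 0x9c7dee102) (.node (nat_lit 0x9c7d98182) (.leaf (nat_lit 0x9c7d6a102) (nat_lit 1281))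
 (.leaf (nat_lit 0x9c7d98182) (nat_lit 1028))
) (.node (nat_lit 0x9e066e106) (.leaf (nat_lit 0x9c7dee102) (nat_lit 1285))
 (.leaf (nat_lit 0x9e066e106) (nat_lit 1282))
)) (.node (nat_lit 0x9e07f4086) (.node (nat_lit 0x9e07ea106) (.leaf (nat_lit 0x9e0676086) (nat_lit 1280))
 (.leaf (nat_lit 0x9e07ea106) (nat_lit 1027))
) (.node (nat_lit 0x9e1a9e184) (.leaf (nat_lit 0x9e07f4086) (nat_lit 1025))
 (.node (nat_lit 0x9e1af4084) (.leaf (nat_lit 0x9e1a9e184) (nat_lit 1029))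
 (.leaf (nat_lit 0x9e1af4084) (nat_lit 1285))
))))) (.node (nat_lit 0x9e2f76086) (.node (nat_lit 0x9e1d98182) (.node (nat_lit 0x9e1d1e182) (.node (nat_lit 0x9e1bf6084) (.leaf (nat_lit 0x9e1b98184) (nat_lit 514))
 (.leaf (nat_lit 0x9e1bf6084) (nat_lit 1025))
) (.node (nat_lit 0x9e1d6a102) (.leaf (nat_lit 0x9e1d1e182) (nat_lit 1285))
 (.leaf (nat_lit 0x9e1d6a102) (nat_lit 1028))
)) (.node (nat_lit 0x9e2ece106) (.node (nat_lit 0x9e1dee102) (.leaf (nat_lit 0x9e1d98182) (nat_lit 1027))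
 (.leaf (nat_lit 0x9e1dee102) (nat_lit 1283))
) (.node (nat_lit 0x9e2ef4086) (.leaf (nat_lit 0x9e2ece106) (nat_lit 770))
 (.node (nat_lit 0x9e2f4a106) (.leaf (nat_lit 0x9e2ef4086) (nat_lit 1281))
 (.leaf (nat_lit 0x9e2f4a106) (nat_lit 773))
)))) (.node (nat_lit 0x9e33f4084) (.node (nat_lit 0x9e32f6084) (.node (nat_lit 0x9e32bc184) (.leaf (nat_lit 0x9e2f76086) (nat_lit 1537))
 (.leaf (nat_lit 0x9e32bc184) (nat_lit 771))
) (.node (nat_lit 0x9e33ba184) (.leaf (nat_lit 0x9e32f6084) (nat_lit 769))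
 (.leaf (nat_lit 0x9e33ba184) (nat_lit 1538))
)) (.node (nat_lit 0x9e3d4e102) (.node (nat_lit 0x9e3d3a182) (.leaf (nat_lit 0x9e33f4084) (nat_lit 1536))
 (.leaf (nat_lit 0x9e3d3a182) (nat_lit 1539))
) (.node (nat_lit 0x9e3dbc182) (.leaf (nat_lit 0x9e3d4e102) (nat_lit 1283))
 (.node (nat_lit 0x9e3dca102) (.leaf (nat_lit 0x9e3dbc182) (nat_lit 772))
 (.leaf (nat_lit 0x9e3dca102) (nat_lit 1540))
))))))) (.node (nat_lit 0x102244a102) (.node (nat_lit 0x9e7398184) (.node (nat_lit 0x9e5ad6084) (.node (nat_lit 0x9e553a182) (.node (nat_lit 0x9e4f56086) (.node (nat_lit 0x9e4eee106) (.leaf (nat_lit 0x9e4ed4086) (nat_lit 1025))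
 (.leaf (nat_lit 0x9e4eee106) (nat_lit 1283))
) (.node (nat_lit 0x9e4f6a106) (.leaf (nat_lit 0x9e4f56086) (nat_lit 1025))
 (.leaf (nat_lit 0x9e4f6a106) (nat_lit 1026))
)) (.node (nat_lit 0x9e55bc182) (.node (nat_lit 0x9e556e102) (.leaf (nat_lit 0x9e553a182) (nat_lit 1538))
 (.leaf (nat_lit 0x9e556e102) (nat_lit 1284))
) (.node (nat_lit 0x9e55ea102) (.leaf (nat_lit 0x9e55bc182) (nat_lit 771))
 (.node (nat_lit 0x9e5abc184) (.leaf (nat_lit 0x9e55ea102) (nat_lit 1027))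
 (.leaf (nat_lit 0x9e5abc184) (nat_lit 770))
)))) (.node (nat_lit 0x9e6656086) (.node (nat_lit 0x9e5bd4084) (.node (nat_lit 0x9e5bba184) (.leaf (nat_lit 0x9e5ad6084) (nat_lit 769))
 (.leaf (nat_lit 0x9e5bba184) (nat_lit 1285))
) (.node (nat_lit 0x9e664e106) (.leaf (nat_lit 0x9e5bd4084) (nat_lit 1281))
 (.leaf (nat_lit 0x9e664e106) (nat_lit 771))
)) (.node (nat_lit 0x9e67d4086) (.node (nat_lit 0x9e67ca106) (.leaf (nat_lit 0x9e6656086) (nat_lit 1280))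
 (.leaf (nat_lit 0x9e67ca106) (nat_lit 1026))
) (.node (nat_lit 0x9e729e184) (.leaf (nat_lit 0x9e67d4086) (nat_lit 1537))
 (.node (nat_lit 0x9e72d4084) (.leaf (nat_lit 0x9e729e184) (nat_lit 1282))
 (.leaf (nat_lit 0x9e72d4084) (nat_lit 1285))
))))) (.node (nat_lit 0x102031e184) (.node (nat_lit 0x9e7598182) (.node (nat_lit 0x9e751e182) (.node (nat_lit 0x9e73d6084) (.leaf (nat_lit 0x9e7398184) (nat_lit 515))
 (.leaf (nat_lit 0x9e73d6084) (nat_lit 1025))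
) (.node (nat_lit 0x9e754a102) (.leaf (nat_lit 0x9e751e182) (nat_lit 1281))
 (.leaf (nat_lit 0x9e754a102) (nat_lit 1025))
)) (.node (nat_lit 0x1020210084) (.node (nat_lit 0x9e75ce102) (.leaf (nat_lit 0x9e7598182) (nat_lit 1028))
 (.leaf (nat_lit 0x9e75ce102) (nat_lit 1284))
) (.node (nat_lit 0x1020218184) (.leaf (nat_lit 0x1020210084) (nat_lit 1541))
 (.node (nat_lit 0x1020312084) (.leaf (nat_lit 0x1020218184) (nat_lit 773))
 (.leaf (nat_lit 0x1020312084) (nat_lit 1284))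
)))) (.node (nat_lit 0x102049e182) (.node (nat_lit 0x1020418182) (.node (nat_lit 0x1020408102) (.leaf (nat_lit 0x102031e184) (nat_lit 1537))
 (.leaf (nat_lit 0x1020408102) (nat_lit 0))
) (.node (nat_lit 0x102048c102) (.leaf (nat_lit 0x1020418182) (nat_lit 1283))
 (.leaf (nat_lit 0x102048c102) (nat_lit 1795))
)) (.node (nat_lit 0x1020610086) (.node (nat_lit 0x1020608106) (.leaf (nat_lit 0x102049e182) (nat_lit 1285))
 (.leaf (nat_lit 0x1020608106) (nat_lit 1540))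
) (.node (nat_lit 0x102078c106) (.leaf (nat_lit 0x1020610086) (nat_lit 773))
 (.node (nat_lit 0x1020792086) (.leaf (nat_lit 0x102078c106) (nat_lit 1285))
 (.leaf (nat_lit 0x1020792086) (nat_lit 1537))
)))))) (.node (nat_lit 0x102558c102) (.node (nat_lit 0x10236ca106) (.node (nat_lit 0x1023290084) (.node (nat_lit 0x10224ce102) (.node (nat_lit 0x102245a182) (.leaf (nat_lit 0x102244a102) (nat_lit 1029))
 (.leaf (nat_lit 0x102245a182) (nat_lit 1541))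
) (.node (nat_lit 0x10224dc182) (.leaf (nat_lit 0x10224ce102) (nat_lit 1539))
 (.leaf (nat_lit 0x10224dc182) (nat_lit 257))
)) (.node (nat_lit 0x1023392084) (.node (nat_lit 0x10232da184) (.leaf (nat_lit 0x1023290084) (nat_lit 1281))
 (.leaf (nat_lit 0x10232da184) (nat_lit 1285))
) (.node (nat_lit 0x10233dc184) (.leaf (nat_lit 0x1023392084) (nat_lit 1029))
 (.node (nat_lit 0x1023690086) (.leaf (nat_lit 0x10233dc184) (nat_lit 1284))
 (.leaf (nat_lit 0x1023690086) (nat_lit 1028))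
)))) (.node (nat_lit 0x102425c184) (.node (nat_lit 0x102374e106) (.node (nat_lit 0x1023712086) (.leaf (nat_lit 0x10236ca106) (nat_lit 1281))
 (.leaf (nat_lit 0x1023712086) (nat_lit 1285))
) (.node (nat_lit 0x1024254084) (.leaf (nat_lit 0x102374e106) (nat_lit 1029))
 (.leaf (nat_lit 0x1024254084) (nat_lit 1285))
)) (.node (nat_lit 0x102435a184) (.node (nat_lit 0x1024356084) (.leaf (nat_lit 0x102425c184) (nat_lit 1029))
 (.leaf (nat_lit 0x1024356084) (nat_lit 1025))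
) (.node (nat_lit 0x1025508102) (.leaf (nat_lit 0x102435a184) (nat_lit 1541))
 (.node (nat_lit 0x102555c182) (.leaf (nat_lit 0x1025508102) (nat_lit 515))
 (.leaf (nat_lit 0x102555c182) (nat_lit 771))
))))) (.node (nat_lit 0x10267d4086) (.node (nat_lit 0x1025708106) (.node (nat_lit 0x102568c106) (.node (nat_lit 0x10255da182) (.leaf (nat_lit 0x102558c102) (nat_lit 1285))
 (.leaf (nat_lit 0x10255da182) (nat_lit 1285))
) (.node (nat_lit 0x10256d6086) (.leaf (nat_lit 0x102568c106) (nat_lit 1285))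
 (.leaf (nat_lit 0x10256d6086) (nat_lit 1281))
)) (.node (nat_lit 0x102664e106) (.node (nat_lit 0x1025754086) (.leaf (nat_lit 0x1025708106) (nat_lit 1285))
 (.leaf (nat_lit 0x1025754086) (nat_lit 1029))
) (.node (nat_lit 0x1026656086) (.leaf (nat_lit 0x102664e106) (nat_lit 1284))
 (.node (nat_lit 0x10267ca106) (.leaf (nat_lit 0x1026656086) (nat_lit 1029))
 (.leaf (nat_lit 0x10267ca106) (nat_lit 1025))
)))) (.node (nat_lit 0x10273d6084) (.node (nat_lit 0x10272d4084) (.node (nat_lit 0x102729e184) (.leaf (nat_lit 0x10267d4086) (nat_lit 1540))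
 (.leaf (nat_lit 0x102729e184) (nat_lit 1281))
) (.node (nat_lit 0x1027398184) (.leaf (nat_lit 0x10272d4084) (nat_lit 1536))
 (.leaf (nat_lit 0x1027398184) (nat_lit 1028))
)) (.node (nat_lit 0x102754a102) (.node (nat_lit 0x102751e182) (.leaf (nat_lit 0x10273d6084) (nat_lit 1285))
 (.leaf (nat_lit 0x102751e182) (nat_lit 1536))
) (.node (nat_lit 0x1027598182) (.leaf (nat_lit 0x102754a102) (nat_lit 1280))
 (.node (nat_lit 0x10275ce102) (.leaf (nat_lit 0x1027598182) (nat_lit 769))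
 (.leaf (nat_lit 0x10275ce102) (nat_lit 1025))
)))))))) (.node (nat_lit 0x10a4ad6084) (.node (nat_lit 0x106664e106) (.node (nat_lit 0x1063392084) (.node (nat_lit 0x1060610086) (.node (nat_lit 0x1060408102) (.node (nat_lit 0x1060312084) (.node (nat_lit 0x1060218184) (.leaf (nat_lit 0x1060210084) (nat_lit 1541))
 (.leaf (nat_lit 0x1060218184) (nat_lit 512))
) (.node (nat_lit 0x106031e184) (.leaf (nat_lit 0x1060312084) (nat_lit 1024))
 (.leaf (nat_lit 0x106031e184) (nat_lit 1537))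
)) (.node (nat_lit 0x106048c102) (.node (nat_lit 0x1060418182) (.leaf (nat_lit 0x1060408102) (nat_lit 512))
 (.leaf (nat_lit 0x1060418182) (nat_lit 1283))
) (.node (nat_lit 0x106049e182) (.leaf (nat_lit 0x106048c102) (nat_lit 1794))
 (.node (nat_lit 0x1060608106) (.leaf (nat_lit 0x106049e182) (nat_lit 1285))
 (.leaf (nat_lit 0x1060608106) (nat_lit 1538))
)))) (.node (nat_lit 0x106245a182) (.node (nat_lit 0x1060792086) (.node (nat_lit 0x106078c106) (.leaf (nat_lit 0x1060610086) (nat_lit 773))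
 (.leaf (nat_lit 0x106078c106) (nat_lit 1281))
) (.node (nat_lit 0x106244a102) (.leaf (nat_lit 0x1060792086) (nat_lit 1281))
 (.leaf (nat_lit 0x106244a102) (nat_lit 1284))
)) (.node (nat_lit 0x10624dc182) (.node (nat_lit 0x10624ce102) (.leaf (nat_lit 0x106245a182) (nat_lit 1797))
 (.leaf (nat_lit 0x10624ce102) (nat_lit 1539))
) (.node (nat_lit 0x1063290084) (.leaf (nat_lit 0x10624dc182) (nat_lit 768))
 (.node (nat_lit 0x10632da184) (.leaf (nat_lit 0x1063290084) (nat_lit 1025))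
 (.leaf (nat_lit 0x10632da184) (nat_lit 1285))
))))) (.node (nat_lit 0x106435a184) (.node (nat_lit 0x1063712086) (.node (nat_lit 0x1063690086) (.node (nat_lit 0x10633dc184) (.leaf (nat_lit 0x1063392084) (nat_lit 1029))
 (.leaf (nat_lit 0x10633dc184) (nat_lit 1284))
) (.node (nat_lit 0x10636ca106) (.leaf (nat_lit 0x1063690086) (nat_lit 1283))
 (.leaf (nat_lit 0x10636ca106) (nat_lit 1281))
)) (.node (nat_lit 0x1064254084) (.node (nat_lit 0x106374e106) (.leaf (nat_lit 0x1063712086) (nat_lit 1285))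
 (.leaf (nat_lit 0x106374e106) (nat_lit 768))
) (.node (nat_lit 0x106425c184) (.leaf (nat_lit 0x1064254084) (nat_lit 1285))
 (.node (nat_lit 0x1064356084) (.leaf (nat_lit 0x106425c184) (nat_lit 1029))
 (.leaf (nat_lit 0x1064356084) (nat_lit 769))
)))) (.node (nat_lit 0x10655da182) (.node (nat_lit 0x106555c182) (.node (nat_lit 0x1065508102) (.leaf (nat_lit 0x106435a184) (nat_lit 1794))
 (.leaf (nat_lit 0x1065508102) (nat_lit 768))
) (.node (nat_lit 0x106558c102) (.leaf (nat_lit 0x106555c182) (nat_lit 1024))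
 (.leaf (nat_lit 0x106558c102) (nat_lit 1541))
)) (.node (nat_lit 0x10656d6086) (.node (nat_lit 0x106568c106) (.leaf (nat_lit 0x10655da182) (nat_lit 1285))
 (.leaf (nat_lit 0x106568c106) (nat_lit 1537))
) (.node (nat_lit 0x1065708106) (.leaf (nat_lit 0x10656d6086) (nat_lit 1025))
 (.node (nat_lit 0x1065754086) (.leaf (nat_lit 0x1065708106) (nat_lit 1285))
 (.leaf (nat_lit 0x1065754086) (nat_lit 1029))
)))))) (.node (nat_lit 0x10a0b92084) (.node (nat_lit 0x106754a102) (.node (nat_lit 0x106729e184) (.node (nat_lit 0x10667ca106) (.node (nat_lit 0x1066656086) (.leaf (nat_lit 0x106664e106) (nat_lit 1024))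
 (.leaf (nat_lit 0x1066656086) (nat_lit 1029))
) (.node (nat_lit 0x10667d4086) (.leaf (nat_lit 0x10667ca106) (nat_lit 1025))
 (.leaf (nat_lit 0x10667d4086) (nat_lit 1541))
)) (.node (nat_lit 0x1067398184) (.node (nat_lit 0x10672d4084) (.leaf (nat_lit 0x106729e184) (nat_lit 1281))
 (.leaf (nat_lit 0x10672d4084) (nat_lit 1541))
) (.node (nat_lit 0x10673d6084) (.leaf (nat_lit 0x1067398184) (nat_lit 768))
 (.node (nat_lit 0x106751e182) (.leaf (nat_lit 0x10673d6084) (nat_lit 1285))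
 (.leaf (nat_lit 0x106751e182) (nat_lit 1536))
)))) (.node (nat_lit 0x10a043a182) (.node (nat_lit 0x10675ce102) (.node (nat_lit 0x1067598182) (.leaf (nat_lit 0x106754a102) (nat_lit 1280))
 (.leaf (nat_lit 0x1067598182) (nat_lit 1025))
) (.node (nat_lit 0x10a042a102) (.leaf (nat_lit 0x10675ce102) (nat_lit 1281))
 (.leaf (nat_lit 0x10a042a102) (nat_lit 1025))
)) (.node (nat_lit 0x10a04bc182) (.node (nat_lit 0x10a04ae102) (.leaf (nat_lit 0x10a043a182) (nat_lit 1282))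
 (.leaf (nat_lit 0x10a04ae102) (nat_lit 1539))
) (.node (nat_lit 0x10a0a90084) (.leaf (nat_lit 0x10a04bc182) (nat_lit 771))
 (.node (nat_lit 0x10a0aba184) (.leaf (nat_lit 0x10a0a90084) (nat_lit 1541))
 (.leaf (nat_lit 0x10a0aba184) (nat_lit 1285))
))))) (.node (nat_lit 0x10a24fc182) (.node (nat_lit 0x10a0f12086) (.node (nat_lit 0x10a0e90086) (.node (nat_lit 0x10a0bbc184) (.leaf (nat_lit 0x10a0b92084) (nat_lit 1029))
 (.leaf (nat_lit 0x10a0bbc184) (nat_lit 1282))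
) (.node (nat_lit 0x10a0eaa106) (.leaf (nat_lit 0x10a0e90086) (nat_lit 1026))
 (.leaf (nat_lit 0x10a0eaa106) (nat_lit 1285))
)) (.node (nat_lit 0x10a246a102) (.node (nat_lit 0x10a0f2e106) (.leaf (nat_lit 0x10a0f12086) (nat_lit 1285))
 (.leaf (nat_lit 0x10a0f2e106) (nat_lit 1029))
) (.node (nat_lit 0x10a247a182) (.leaf (nat_lit 0x10a246a102) (nat_lit 1027))
 (.node (nat_lit 0x10a24ee102) (.leaf (nat_lit 0x10a247a182) (nat_lit 1283))
 (.leaf (nat_lit 0x10a24ee102) (nat_lit 1285))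
)))) (.node (nat_lit 0x10a3bfc184) (.node (nat_lit 0x10a3afa184) (.node (nat_lit 0x10a3a90084) (.leaf (nat_lit 0x10a24fc182) (nat_lit 768))
 (.leaf (nat_lit 0x10a3a90084) (nat_lit 1285))
) (.node (nat_lit 0x10a3b92084) (.leaf (nat_lit 0x10a3afa184) (nat_lit 1285))
 (.leaf (nat_lit 0x10a3b92084) (nat_lit 1285))
)) (.node (nat_lit 0x10a3eea106) (.node (nat_lit 0x10a3e90086) (.leaf (nat_lit 0x10a3bfc184) (nat_lit 1283))
 (.leaf (nat_lit 0x10a3e90086) (nat_lit 1027))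
) (.node (nat_lit 0x10a3f12086) (.leaf (nat_lit 0x10a3eea106) (nat_lit 1284))
 (.node (nat_lit 0x10a3f6e106) (.leaf (nat_lit 0x10a3f12086) (nat_lit 1285))
 (.leaf (nat_lit 0x10a3f6e106) (nat_lit 1029))
))))))) (.node (nat_lit 0x10e242a102) (.node (nat_lit 0x10a75bc182) (.node (nat_lit 0x10a5ed4086) (.node (nat_lit 0x10a552e102) (.node (nat_lit 0x10a4bd4084) (.node (nat_lit 0x10a4afc184) (.leaf (nat_lit 0x10a4ad6084) (nat_lit 1285))
 (.leaf (nat_lit 0x10a4afc184) (nat_lit 1282))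
) (.node (nat_lit 0x10a4bfa184) (.leaf (nat_lit 0x10a4bd4084) (nat_lit 1285))
 (.leaf (nat_lit 0x10a4bfa184) (nat_lit 1540))
)) (.node (nat_lit 0x10a55aa102) (.node (nat_lit 0x10a557a182) (.leaf (nat_lit 0x10a552e102) (nat_lit 1025))
 (.leaf (nat_lit 0x10a557a182) (nat_lit 1281))
) (.node (nat_lit 0x10a55fc182) (.leaf (nat_lit 0x10a55aa102) (nat_lit 1027))
 (.node (nat_lit 0x10a5eae106) (.leaf (nat_lit 0x10a55fc182) (nat_lit 771))
 (.leaf (nat_lit 0x10a5eae106) (nat_lit 1284))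
)))) (.node (nat_lit 0x10a6eee106) (.node (nat_lit 0x10a5f56086) (.node (nat_lit 0x10a5f2a106) (.leaf (nat_lit 0x10a5ed4086) (nat_lit 1282))
 (.leaf (nat_lit 0x10a5f2a106) (nat_lit 1285))
) (.node (nat_lit 0x10a6ed4086) (.leaf (nat_lit 0x10a5f56086) (nat_lit 1285))
 (.leaf (nat_lit 0x10a6ed4086) (nat_lit 1281))
)) (.node (nat_lit 0x10a6f6a106) (.node (nat_lit 0x10a6f56086) (.leaf (nat_lit 0x10a6eee106) (nat_lit 1284))
 (.leaf (nat_lit 0x10a6f56086) (nat_lit 1285))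
) (.node (nat_lit 0x10a753a182) (.leaf (nat_lit 0x10a6f6a106) (nat_lit 1285))
 (.node (nat_lit 0x10a756e102) (.leaf (nat_lit 0x10a753a182) (nat_lit 1281))
 (.leaf (nat_lit 0x10a756e102) (nat_lit 1025))
))))) (.node (nat_lit 0x10e04fc182) (.node (nat_lit 0x10a7bba184) (.node (nat_lit 0x10a7abc184) (.node (nat_lit 0x10a75ea102) (.leaf (nat_lit 0x10a75bc182) (nat_lit 770))
 (.leaf (nat_lit 0x10a75ea102) (nat_lit 1026))
) (.node (nat_lit 0x10a7ad6084) (.leaf (nat_lit 0x10a7abc184) (nat_lit 1283))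
 (.leaf (nat_lit 0x10a7ad6084) (nat_lit 1285))
)) (.node (nat_lit 0x10e046a102) (.node (nat_lit 0x10a7bd4084) (.leaf (nat_lit 0x10a7bba184) (nat_lit 1540))
 (.leaf (nat_lit 0x10a7bd4084) (nat_lit 1285))
) (.node (nat_lit 0x10e047a182) (.leaf (nat_lit 0x10e046a102) (nat_lit 1024))
 (.node (nat_lit 0x10e04ee102) (.leaf (nat_lit 0x10e047a182) (nat_lit 1538))
 (.leaf (nat_lit 0x10e04ee102) (nat_lit 1537))
)))) (.node (nat_lit 0x10e1bfc184) (.node (nat_lit 0x10e1afa184) (.node (nat_lit 0x10e1a90084) (.leaf (nat_lit 0x10e04fc182) (nat_lit 1028))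
 (.leaf (nat_lit 0x10e1a90084) (nat_lit 1283))
) (.node (nat_lit 0x10e1b92084) (.leaf (nat_lit 0x10e1afa184) (nat_lit 1285))
 (.leaf (nat_lit 0x10e1b92084) (nat_lit 1029))
)) (.node (nat_lit 0x10e1eea106) (.node (nat_lit 0x10e1e90086) (.leaf (nat_lit 0x10e1bfc184) (nat_lit 1026))
 (.leaf (nat_lit 0x10e1e90086) (nat_lit 1026))
) (.node (nat_lit 0x10e1f12086) (.leaf (nat_lit 0x10e1eea106) (nat_lit 1283))
 (.node (nat_lit 0x10e1f6e106) (.leaf (nat_lit 0x10e1f12086) (nat_lit 1285))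
 (.leaf (nat_lit 0x10e1f6e106) (nat_lit 1029))
)))))) (.node (nat_lit 0x10e55bc182) (.node (nat_lit 0x10e2eaa106) (.node (nat_lit 0x10e2a90084) (.node (nat_lit 0x10e24ae102) (.node (nat_lit 0x10e243a182) (.leaf (nat_lit 0x10e242a102) (nat_lit 1281))
 (.leaf (nat_lit 0x10e243a182) (nat_lit 1283))
) (.node (nat_lit 0x10e24bc182) (.leaf (nat_lit 0x10e24ae102) (nat_lit 1793))
 (.leaf (nat_lit 0x10e24bc182) (nat_lit 768))
)) (.node (nat_lit 0x10e2b92084) (.node (nat_lit 0x10e2aba184) (.leaf (nat_lit 0x10e2a90084) (nat_lit 1280))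
 (.leaf (nat_lit 0x10e2aba184) (nat_lit 1285))
) (.node (nat_lit 0x10e2bbc184) (.leaf (nat_lit 0x10e2b92084) (nat_lit 1282))
 (.node (nat_lit 0x10e2e90086) (.leaf (nat_lit 0x10e2bbc184) (nat_lit 1027))
 (.leaf (nat_lit 0x10e2e90086) (nat_lit 1027))
)))) (.node (nat_lit 0x10e4eee106) (.node (nat_lit 0x10e2f2e106) (.node (nat_lit 0x10e2f12086) (.leaf (nat_lit 0x10e2eaa106) (nat_lit 1282))
 (.leaf (nat_lit 0x10e2f12086) (nat_lit 1537))
) (.node (nat_lit 0x10e4ed4086) (.leaf (nat_lit 0x10e2f2e106) (nat_lit 1029))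
 (.leaf (nat_lit 0x10e4ed4086) (nat_lit 1282))
)) (.node (nat_lit 0x10e4f6a106) (.node (nat_lit 0x10e4f56086) (.leaf (nat_lit 0x10e4eee106) (nat_lit 1284))
 (.leaf (nat_lit 0x10e4f56086) (nat_lit 1285))
) (.node (nat_lit 0x10e553a182) (.leaf (nat_lit 0x10e4f6a106) (nat_lit 1285))
 (.node (nat_lit 0x10e556e102) (.leaf (nat_lit 0x10e553a182) (nat_lit 1282))
 (.leaf (nat_lit 0x10e556e102) (nat_lit 1281))
))))) (.node (nat_lit 0x10e6bfa184) (.node (nat_lit 0x10e5bba184) (.node (nat_lit 0x10e5abc184) (.node (nat_lit 0x10e55ea102) (.leaf (nat_lit 0x10e55bc182) (nat_lit 1024))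
 (.leaf (nat_lit 0x10e55ea102) (nat_lit 1280))
) (.node (nat_lit 0x10e5ad6084) (.leaf (nat_lit 0x10e5abc184) (nat_lit 1026))
 (.leaf (nat_lit 0x10e5ad6084) (nat_lit 1026))
)) (.node (nat_lit 0x10e6ad6084) (.node (nat_lit 0x10e5bd4084) (.leaf (nat_lit 0x10e5bba184) (nat_lit 1540))
 (.leaf (nat_lit 0x10e5bd4084) (nat_lit 1285))
) (.node (nat_lit 0x10e6afc184) (.leaf (nat_lit 0x10e6ad6084) (nat_lit 1027))
 (.node (nat_lit 0x10e6bd4084) (.leaf (nat_lit 0x10e6afc184) (nat_lit 1027))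
 (.leaf (nat_lit 0x10e6bd4084) (nat_lit 1537))
)))) (.node (nat_lit 0x10e75fc182) (.node (nat_lit 0x10e757a182) (.node (nat_lit 0x10e752e102) (.leaf (nat_lit 0x10e6bfa184) (nat_lit 1536))
 (.leaf (nat_lit 0x10e752e102) (nat_lit 1281))
) (.node (nat_lit 0x10e75aa102) (.leaf (nat_lit 0x10e757a182) (nat_lit 1539))
 (.leaf (nat_lit 0x10e75aa102) (nat_lit 1280))
)) (.node (nat_lit 0x10e7ed4086) (.node (nat_lit 0x10e7eae106) (.leaf (nat_lit 0x10e75fc182) (nat_lit 1024))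
 (.leaf (nat_lit 0x10e7eae106) (nat_lit 1538))
) (.node (nat_lit 0x10e7f2a106) (.leaf (nat_lit 0x10e7ed4086) (nat_lit 1281))
 (.node (nat_lit 0x10e7f56086) (.leaf (nat_lit 0x10e7f2a106) (nat_lit 1285))
 (.leaf (nat_lit 0x10e7f56086) (nat_lit 1282))
)))))))))) (.node (nat_lit 0x18a042a102) (.node (nat_lit 0x11e066e106) (.node (nat_lit 0x1164234084) (.node (nat_lit 0x1126ece106) (.node (nat_lit 0x11233b4084) (.node (nat_lit 0x1120eb6086) (.node (nat_lit 0x1120d08102) (.node (nat_lit 0x1120336084) (.node (nat_lit 0x112023c184) (.leaf (nat_lit 0x1120234084) (nat_lit 1541))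
 (.leaf (nat_lit 0x112023c184) (nat_lit 1029))
) (.node (nat_lit 0x112033a184) (.leaf (nat_lit 0x1120336084) (nat_lit 1028))
 (.leaf (nat_lit 0x112033a184) (nat_lit 1538))
)) (.node (nat_lit 0x1120d8c102) (.node (nat_lit 0x1120d3c182) (.leaf (nat_lit 0x1120d08102) (nat_lit 258))
 (.leaf (nat_lit 0x1120d3c182) (nat_lit 1027))
) (.node (nat_lit 0x1120dba182) (.leaf (nat_lit 0x1120d8c102) (nat_lit 1541))
 (.node (nat_lit 0x1120e8c106) (.leaf (nat_lit 0x1120dba182) (nat_lit 1029))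
 (.leaf (nat_lit 0x1120e8c106) (nat_lit 1029))
)))) (.node (nat_lit 0x1122d7a182) (.node (nat_lit 0x1120f34086) (.node (nat_lit 0x1120f08106) (.leaf (nat_lit 0x1120eb6086) (nat_lit 1282))
 (.leaf (nat_lit 0x1120f08106) (nat_lit 1285))
) (.node (nat_lit 0x1122d4e102) (.leaf (nat_lit 0x1120f34086) (nat_lit 1029))
 (.leaf (nat_lit 0x1122d4e102) (nat_lit 1283))
)) (.node (nat_lit 0x1122dfc182) (.node (nat_lit 0x1122dca102) (.leaf (nat_lit 0x1122d7a182) (nat_lit 1539))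
 (.leaf (nat_lit 0x1122dca102) (nat_lit 1281))
) (.node (nat_lit 0x11232b6084) (.leaf (nat_lit 0x1122dfc182) (nat_lit 513))
 (.node (nat_lit 0x11232fc184) (.leaf (nat_lit 0x11232b6084) (nat_lit 1285))
 (.leaf (nat_lit 0x11232fc184) (nat_lit 1284))
))))) (.node (nat_lit 0x112437a184) (.node (nat_lit 0x1123f36086) (.node (nat_lit 0x1123eb4086) (.node (nat_lit 0x11233fa184) (.leaf (nat_lit 0x11233b4084) (nat_lit 1285))
 (.leaf (nat_lit 0x11233fa184) (nat_lit 1541))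
) (.node (nat_lit 0x1123ece106) (.leaf (nat_lit 0x1123eb4086) (nat_lit 1284))
 (.leaf (nat_lit 0x1123ece106) (nat_lit 1282))
)) (.node (nat_lit 0x1124274084) (.node (nat_lit 0x1123f4a106) (.leaf (nat_lit 0x1123f36086) (nat_lit 1285))
 (.leaf (nat_lit 0x1123f4a106) (nat_lit 1285))
) (.node (nat_lit 0x112427c184) (.leaf (nat_lit 0x1124274084) (nat_lit 1283))
 (.node (nat_lit 0x1124376084) (.leaf (nat_lit 0x112427c184) (nat_lit 1029))
 (.leaf (nat_lit 0x1124376084) (nat_lit 1028))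
)))) (.node (nat_lit 0x1125dfa182) (.node (nat_lit 0x1125d7c182) (.node (nat_lit 0x1125d08102) (.leaf (nat_lit 0x112437a184) (nat_lit 1539))
 (.leaf (nat_lit 0x1125d08102) (nat_lit 259))
) (.node (nat_lit 0x1125d8c102) (.leaf (nat_lit 0x1125d7c182) (nat_lit 1027))
 (.leaf (nat_lit 0x1125d8c102) (nat_lit 1541))
)) (.node (nat_lit 0x1125ef6086) (.node (nat_lit 0x1125e8c106) (.leaf (nat_lit 0x1125dfa182) (nat_lit 1029))
 (.leaf (nat_lit 0x1125e8c106) (nat_lit 1541))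
) (.node (nat_lit 0x1125f08106) (.leaf (nat_lit 0x1125ef6086) (nat_lit 1283))
 (.node (nat_lit 0x1125f74086) (.leaf (nat_lit 0x1125f08106) (nat_lit 1541))
 (.leaf (nat_lit 0x1125f74086) (nat_lit 1029))
)))))) (.node (nat_lit 0x1161d8c102) (.node (nat_lit 0x1127d4e102) (.node (nat_lit 0x11272bc184) (.node (nat_lit 0x1126f4a106) (.node (nat_lit 0x1126ef4086) (.leaf (nat_lit 0x1126ece106) (nat_lit 1283))
 (.leaf (nat_lit 0x1126ef4086) (nat_lit 1284))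
) (.node (nat_lit 0x1126f76086) (.leaf (nat_lit 0x1126f4a106) (nat_lit 1285))
 (.leaf (nat_lit 0x1126f76086) (nat_lit 1285))
)) (.node (nat_lit 0x11273ba184) (.node (nat_lit 0x11272f6084) (.leaf (nat_lit 0x11272bc184) (nat_lit 1284))
 (.leaf (nat_lit 0x11272f6084) (nat_lit 1285))
) (.node (nat_lit 0x11273f4084) (.leaf (nat_lit 0x11273ba184) (nat_lit 1541))
 (.node (nat_lit 0x1127d3a182) (.leaf (nat_lit 0x11273f4084) (nat_lit 1285))
 (.leaf (nat_lit 0x1127d3a182) (nat_lit 1285))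
)))) (.node (nat_lit 0x116027c184) (.node (nat_lit 0x1127dca102) (.node (nat_lit 0x1127dbc182) (.leaf (nat_lit 0x1127d4e102) (nat_lit 1282))
 (.leaf (nat_lit 0x1127dbc182) (nat_lit 513))
) (.node (nat_lit 0x1160274084) (.leaf (nat_lit 0x1127dca102) (nat_lit 1281))
 (.leaf (nat_lit 0x1160274084) (nat_lit 1541))
)) (.node (nat_lit 0x116037a184) (.node (nat_lit 0x1160376084) (.leaf (nat_lit 0x116027c184) (nat_lit 768))
 (.leaf (nat_lit 0x1160376084) (nat_lit 1025))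
) (.node (nat_lit 0x1161d08102) (.leaf (nat_lit 0x116037a184) (nat_lit 1538))
 (.node (nat_lit 0x1161d7c182) (.leaf (nat_lit 0x1161d08102) (nat_lit 768))
 (.leaf (nat_lit 0x1161d7c182) (nat_lit 1284))
))))) (.node (nat_lit 0x1162f76086) (.node (nat_lit 0x1161f08106) (.node (nat_lit 0x1161e8c106) (.node (nat_lit 0x1161dfa182) (.leaf (nat_lit 0x1161d8c102) (nat_lit 1541))
 (.leaf (nat_lit 0x1161dfa182) (nat_lit 1285))
) (.node (nat_lit 0x1161ef6086) (.leaf (nat_lit 0x1161e8c106) (nat_lit 1538))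
 (.leaf (nat_lit 0x1161ef6086) (nat_lit 1282))
)) (.node (nat_lit 0x1162ece106) (.node (nat_lit 0x1161f74086) (.leaf (nat_lit 0x1161f08106) (nat_lit 1285))
 (.leaf (nat_lit 0x1161f74086) (nat_lit 1029))
) (.node (nat_lit 0x1162ef4086) (.leaf (nat_lit 0x1162ece106) (nat_lit 1026))
 (.node (nat_lit 0x1162f4a106) (.leaf (nat_lit 0x1162ef4086) (nat_lit 1540))
 (.leaf (nat_lit 0x1162f4a106) (nat_lit 1024))
)))) (.node (nat_lit 0x11633f4084) (.node (nat_lit 0x11632f6084) (.node (nat_lit 0x11632bc184) (.leaf (nat_lit 0x1162f76086) (nat_lit 1285))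
 (.leaf (nat_lit 0x11632bc184) (nat_lit 1024))
) (.node (nat_lit 0x11633ba184) (.leaf (nat_lit 0x11632f6084) (nat_lit 1024))
 (.leaf (nat_lit 0x11633ba184) (nat_lit 1281))
)) (.node (nat_lit 0x1163d4e102) (.node (nat_lit 0x1163d3a182) (.leaf (nat_lit 0x11633f4084) (nat_lit 1285))
 (.leaf (nat_lit 0x1163d3a182) (nat_lit 1539))
) (.node (nat_lit 0x1163dbc182) (.leaf (nat_lit 0x1163d4e102) (nat_lit 1541))
 (.node (nat_lit 0x1163dca102) (.leaf (nat_lit 0x1163dbc182) (nat_lit 1024))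
 (.leaf (nat_lit 0x1163dca102) (nat_lit 1540))
))))))) (.node (nat_lit 0x11a2d5a182) (.node (nat_lit 0x11673b4084) (.node (nat_lit 0x1164eb6086) (.node (nat_lit 0x1164d08102) (.node (nat_lit 0x1164336084) (.node (nat_lit 0x116423c184) (.leaf (nat_lit 0x1164234084) (nat_lit 1541))
 (.leaf (nat_lit 0x116423c184) (nat_lit 768))
) (.node (nat_lit 0x116433a184) (.leaf (nat_lit 0x1164336084) (nat_lit 768))
 (.leaf (nat_lit 0x116433a184) (nat_lit 1539))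
)) (.node (nat_lit 0x1164d8c102) (.node (nat_lit 0x1164d3c182) (.leaf (nat_lit 0x1164d08102) (nat_lit 768))
 (.leaf (nat_lit 0x1164d3c182) (nat_lit 1027))
) (.node (nat_lit 0x1164dba182) (.leaf (nat_lit 0x1164d8c102) (nat_lit 1541))
 (.node (nat_lit 0x1164e8c106) (.leaf (nat_lit 0x1164dba182) (nat_lit 1029))
 (.leaf (nat_lit 0x1164e8c106) (nat_lit 1285))
)))) (.node (nat_lit 0x1166d7a182) (.node (nat_lit 0x1164f34086) (.node (nat_lit 0x1164f08106) (.leaf (nat_lit 0x1164eb6086) (nat_lit 1281))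
 (.leaf (nat_lit 0x1164f08106) (nat_lit 1541))
) (.node (nat_lit 0x1166d4e102) (.leaf (nat_lit 0x1164f34086) (nat_lit 1029))
 (.leaf (nat_lit 0x1166d4e102) (nat_lit 1285))
)) (.node (nat_lit 0x1166dfc182) (.node (nat_lit 0x1166dca102) (.leaf (nat_lit 0x1166d7a182) (nat_lit 1795))
 (.leaf (nat_lit 0x1166dca102) (nat_lit 1281))
) (.node (nat_lit 0x11672b6084) (.leaf (nat_lit 0x1166dfc182) (nat_lit 1024))
 (.node (nat_lit 0x11672fc184) (.leaf (nat_lit 0x11672b6084) (nat_lit 1024))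
 (.leaf (nat_lit 0x11672fc184) (nat_lit 1024))
))))) (.node (nat_lit 0x11a07b4086) (.node (nat_lit 0x1167f36086) (.node (nat_lit 0x1167eb4086) (.node (nat_lit 0x11673fa184) (.leaf (nat_lit 0x11673b4084) (nat_lit 1281))
 (.leaf (nat_lit 0x11673fa184) (nat_lit 1281))
) (.node (nat_lit 0x1167ece106) (.leaf (nat_lit 0x1167eb4086) (nat_lit 1284))
 (.leaf (nat_lit 0x1167ece106) (nat_lit 1027))
)) (.node (nat_lit 0x11a062e106) (.node (nat_lit 0x1167f4a106) (.leaf (nat_lit 0x1167f36086) (nat_lit 1285))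
 (.leaf (nat_lit 0x1167f4a106) (nat_lit 1024))
) (.node (nat_lit 0x11a0636086) (.leaf (nat_lit 0x11a062e106) (nat_lit 1285))
 (.node (nat_lit 0x11a07aa106) (.leaf (nat_lit 0x11a0636086) (nat_lit 1029))
 (.leaf (nat_lit 0x11a07aa106) (nat_lit 1281))
)))) (.node (nat_lit 0x11a0bb6084) (.node (nat_lit 0x11a0ab4084) (.node (nat_lit 0x11a0a9e184) (.leaf (nat_lit 0x11a07b4086) (nat_lit 1282))
 (.leaf (nat_lit 0x11a0a9e184) (nat_lit 1541))
) (.node (nat_lit 0x11a0b98184) (.leaf (nat_lit 0x11a0ab4084) (nat_lit 1285))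
 (.leaf (nat_lit 0x11a0b98184) (nat_lit 1026))
)) (.node (nat_lit 0x11a0d2a102) (.node (nat_lit 0x11a0d1e182) (.leaf (nat_lit 0x11a0bb6084) (nat_lit 1285))
 (.leaf (nat_lit 0x11a0d1e182) (nat_lit 1537))
) (.node (nat_lit 0x11a0d98182) (.leaf (nat_lit 0x11a0d2a102) (nat_lit 769))
 (.node (nat_lit 0x11a0dae102) (.leaf (nat_lit 0x11a0d98182) (nat_lit 1027))
 (.leaf (nat_lit 0x11a0dae102) (nat_lit 1283))
)))))) (.node (nat_lit 0x11a572a106) (.node (nat_lit 0x11a3adc184) (.node (nat_lit 0x11a36b4086) (.node (nat_lit 0x11a2ddc182) (.node (nat_lit 0x11a2d6e102) (.leaf (nat_lit 0x11a2d5a182) (nat_lit 1539))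
 (.leaf (nat_lit 0x11a2d6e102) (nat_lit 1285))
) (.node (nat_lit 0x11a2dea102) (.leaf (nat_lit 0x11a2ddc182) (nat_lit 514))
 (.leaf (nat_lit 0x11a2dea102) (nat_lit 1283))
)) (.node (nat_lit 0x11a3736086) (.node (nat_lit 0x11a36ee106) (.leaf (nat_lit 0x11a36b4086) (nat_lit 1284))
 (.leaf (nat_lit 0x11a36ee106) (nat_lit 1282))
) (.node (nat_lit 0x11a376a106) (.leaf (nat_lit 0x11a3736086) (nat_lit 1541))
 (.node (nat_lit 0x11a3ab6084) (.leaf (nat_lit 0x11a376a106) (nat_lit 1285))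
 (.leaf (nat_lit 0x11a3ab6084) (nat_lit 1285))
)))) (.node (nat_lit 0x11a4af6084) (.node (nat_lit 0x11a3bda184) (.node (nat_lit 0x11a3bb4084) (.leaf (nat_lit 0x11a3adc184) (nat_lit 1283))
 (.leaf (nat_lit 0x11a3bb4084) (nat_lit 1541))
) (.node (nat_lit 0x11a4adc184) (.leaf (nat_lit 0x11a3bda184) (nat_lit 1285))
 (.leaf (nat_lit 0x11a4adc184) (nat_lit 1282))
)) (.node (nat_lit 0x11a4bf4084) (.node (nat_lit 0x11a4bda184) (.leaf (nat_lit 0x11a4af6084) (nat_lit 1285))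
 (.leaf (nat_lit 0x11a4bda184) (nat_lit 1541))
) (.node (nat_lit 0x11a56ae106) (.leaf (nat_lit 0x11a4bf4084) (nat_lit 1539))
 (.node (nat_lit 0x11a56f4086) (.leaf (nat_lit 0x11a56ae106) (nat_lit 1283))
 (.leaf (nat_lit 0x11a56f4086) (nat_lit 1284))
))))) (.node (nat_lit 0x11a67f4086) (.node (nat_lit 0x11a5daa102) (.node (nat_lit 0x11a5d2e102) (.node (nat_lit 0x11a5776086) (.leaf (nat_lit 0x11a572a106) (nat_lit 1285))
 (.leaf (nat_lit 0x11a5776086) (nat_lit 1285))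
) (.node (nat_lit 0x11a5d5a182) (.leaf (nat_lit 0x11a5d2e102) (nat_lit 1285))
 (.leaf (nat_lit 0x11a5d5a182) (nat_lit 1281))
)) (.node (nat_lit 0x11a666e106) (.node (nat_lit 0x11a5ddc182) (.leaf (nat_lit 0x11a5daa102) (nat_lit 1283))
 (.leaf (nat_lit 0x11a5ddc182) (nat_lit 515))
) (.node (nat_lit 0x11a6676086) (.leaf (nat_lit 0x11a666e106) (nat_lit 1285))
 (.node (nat_lit 0x11a67ea106) (.leaf (nat_lit 0x11a6676086) (nat_lit 1029))
 (.leaf (nat_lit 0x11a67ea106) (nat_lit 1028))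
)))) (.node (nat_lit 0x11a7bf6084) (.node (nat_lit 0x11a7af4084) (.node (nat_lit 0x11a7a9e184) (.leaf (nat_lit 0x11a67f4086) (nat_lit 1283))
 (.leaf (nat_lit 0x11a7a9e184) (nat_lit 1541))
) (.node (nat_lit 0x11a7b98184) (.leaf (nat_lit 0x11a7af4084) (nat_lit 1029))
 (.leaf (nat_lit 0x11a7b98184) (nat_lit 1027))
)) (.node (nat_lit 0x11a7d6a102) (.node (nat_lit 0x11a7d1e182) (.leaf (nat_lit 0x11a7bf6084) (nat_lit 1283))
 (.leaf (nat_lit 0x11a7d1e182) (nat_lit 1537))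
) (.node (nat_lit 0x11a7d98182) (.leaf (nat_lit 0x11a7d6a102) (nat_lit 769))
 (.node (nat_lit 0x11a7dee102) (.leaf (nat_lit 0x11a7d98182) (nat_lit 1026))
 (.leaf (nat_lit 0x11a7dee102) (nat_lit 1029))
)))))))) (.node (nat_lit 0x1824274084) (.node (nat_lit 0x11e662e106) (.node (nat_lit 0x11e372a106) (.node (nat_lit 0x11e1d6a102) (.node (nat_lit 0x11e1a9e184) (.node (nat_lit 0x11e07ea106) (.node (nat_lit 0x11e0676086) (.leaf (nat_lit 0x11e066e106) (nat_lit 1282))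
 (.leaf (nat_lit 0x11e0676086) (nat_lit 1029))
) (.node (nat_lit 0x11e07f4086) (.leaf (nat_lit 0x11e07ea106) (nat_lit 1280))
 (.leaf (nat_lit 0x11e07f4086) (nat_lit 1280))
)) (.node (nat_lit 0x11e1b98184) (.node (nat_lit 0x11e1af4084) (.leaf (nat_lit 0x11e1a9e184) (nat_lit 1280))
 (.leaf (nat_lit 0x11e1af4084) (nat_lit 1285))
) (.node (nat_lit 0x11e1bf6084) (.leaf (nat_lit 0x11e1b98184) (nat_lit 770))
 (.node (nat_lit 0x11e1d1e182) (.leaf (nat_lit 0x11e1bf6084) (nat_lit 1285))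
 (.leaf (nat_lit 0x11e1d1e182) (nat_lit 1538))
)))) (.node (nat_lit 0x11e2af6084) (.node (nat_lit 0x11e1dee102) (.node (nat_lit 0x11e1d98182) (.leaf (nat_lit 0x11e1d6a102) (nat_lit 1280))
 (.leaf (nat_lit 0x11e1d98182) (nat_lit 1280))
) (.node (nat_lit 0x11e2adc184) (.leaf (nat_lit 0x11e1dee102) (nat_lit 1285))
 (.leaf (nat_lit 0x11e2adc184) (nat_lit 1283))
)) (.node (nat_lit 0x11e2bf4084) (.node (nat_lit 0x11e2bda184) (.leaf (nat_lit 0x11e2af6084) (nat_lit 1025))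
 (.leaf (nat_lit 0x11e2bda184) (nat_lit 1538))
) (.node (nat_lit 0x11e36ae106) (.leaf (nat_lit 0x11e2bf4084) (nat_lit 1538))
 (.node (nat_lit 0x11e36f4086) (.leaf (nat_lit 0x11e36ae106) (nat_lit 1282))
 (.leaf (nat_lit 0x11e36f4086) (nat_lit 1281))
))))) (.node (nat_lit 0x11e4dea102) (.node (nat_lit 0x11e3daa102) (.node (nat_lit 0x11e3d2e102) (.node (nat_lit 0x11e3776086) (.leaf (nat_lit 0x11e372a106) (nat_lit 1024))
 (.leaf (nat_lit 0x11e3776086) (nat_lit 1537))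
) (.node (nat_lit 0x11e3d5a182) (.leaf (nat_lit 0x11e3d2e102) (nat_lit 1541))
 (.leaf (nat_lit 0x11e3d5a182) (nat_lit 1539))
)) (.node (nat_lit 0x11e4d5a182) (.node (nat_lit 0x11e3ddc182) (.leaf (nat_lit 0x11e3daa102) (nat_lit 1540))
 (.leaf (nat_lit 0x11e3ddc182) (nat_lit 1024))
) (.node (nat_lit 0x11e4d6e102) (.leaf (nat_lit 0x11e4d5a182) (nat_lit 1538))
 (.node (nat_lit 0x11e4ddc182) (.leaf (nat_lit 0x11e4d6e102) (nat_lit 1285))
 (.leaf (nat_lit 0x11e4ddc182) (nat_lit 1024))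
)))) (.node (nat_lit 0x11e576a106) (.node (nat_lit 0x11e56ee106) (.node (nat_lit 0x11e56b4086) (.leaf (nat_lit 0x11e4dea102) (nat_lit 1283))
 (.leaf (nat_lit 0x11e56b4086) (nat_lit 1024))
) (.node (nat_lit 0x11e5736086) (.leaf (nat_lit 0x11e56ee106) (nat_lit 1283))
 (.leaf (nat_lit 0x11e5736086) (nat_lit 1285))
)) (.node (nat_lit 0x11e5adc184) (.node (nat_lit 0x11e5ab6084) (.leaf (nat_lit 0x11e576a106) (nat_lit 1024))
 (.leaf (nat_lit 0x11e5ab6084) (nat_lit 1025))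
) (.node (nat_lit 0x11e5bb4084) (.leaf (nat_lit 0x11e5adc184) (nat_lit 1282))
 (.node (nat_lit 0x11e5bda184) (.leaf (nat_lit 0x11e5bb4084) (nat_lit 1541))
 (.leaf (nat_lit 0x11e5bda184) (nat_lit 1541))
)))))) (.node (nat_lit 0x182048c102) (.node (nat_lit 0x11e6d2a102) (.node (nat_lit 0x11e6a9e184) (.node (nat_lit 0x11e67aa106) (.node (nat_lit 0x11e6636086) (.leaf (nat_lit 0x11e662e106) (nat_lit 1285))
 (.leaf (nat_lit 0x11e6636086) (nat_lit 1285))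
) (.node (nat_lit 0x11e67b4086) (.leaf (nat_lit 0x11e67aa106) (nat_lit 1281))
 (.leaf (nat_lit 0x11e67b4086) (nat_lit 1283))
)) (.node (nat_lit 0x11e6b98184) (.node (nat_lit 0x11e6ab4084) (.leaf (nat_lit 0x11e6a9e184) (nat_lit 1280))
 (.leaf (nat_lit 0x11e6ab4084) (nat_lit 1285))
) (.node (nat_lit 0x11e6bb6084) (.leaf (nat_lit 0x11e6b98184) (nat_lit 771))
 (.node (nat_lit 0x11e6d1e182) (.leaf (nat_lit 0x11e6bb6084) (nat_lit 1027))
 (.leaf (nat_lit 0x11e6d1e182) (nat_lit 1539))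
)))) (.node (nat_lit 0x1820218184) (.node (nat_lit 0x11e6dae102) (.node (nat_lit 0x11e6d98182) (.leaf (nat_lit 0x11e6d2a102) (nat_lit 1280))
 (.leaf (nat_lit 0x11e6d98182) (nat_lit 1024))
) (.node (nat_lit 0x1820210084) (.leaf (nat_lit 0x11e6dae102) (nat_lit 1536))
 (.leaf (nat_lit 0x1820210084) (nat_lit 1539))
)) (.node (nat_lit 0x182031e184) (.node (nat_lit 0x1820312084) (.leaf (nat_lit 0x1820218184) (nat_lit 773))
 (.leaf (nat_lit 0x1820312084) (nat_lit 1283))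
) (.node (nat_lit 0x1820408102) (.leaf (nat_lit 0x182031e184) (nat_lit 1793))
 (.node (nat_lit 0x1820418182) (.leaf (nat_lit 0x1820408102) (nat_lit 256))
 (.leaf (nat_lit 0x1820418182) (nat_lit 1283))
))))) (.node (nat_lit 0x18224fc182) (.node (nat_lit 0x182078c106) (.node (nat_lit 0x1820608106) (.node (nat_lit 0x182049e182) (.leaf (nat_lit 0x182048c102) (nat_lit 1539))
 (.leaf (nat_lit 0x182049e182) (nat_lit 1285))
) (.node (nat_lit 0x1820610086) (.leaf (nat_lit 0x1820608106) (nat_lit 1539))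
 (.leaf (nat_lit 0x1820610086) (nat_lit 773))
)) (.node (nat_lit 0x182246a102) (.node (nat_lit 0x1820792086) (.leaf (nat_lit 0x182078c106) (nat_lit 1281))
 (.leaf (nat_lit 0x1820792086) (nat_lit 1540))
) (.node (nat_lit 0x182247a182) (.leaf (nat_lit 0x182246a102) (nat_lit 1285))
 (.node (nat_lit 0x18224ee102) (.leaf (nat_lit 0x182247a182) (nat_lit 1536))
 (.leaf (nat_lit 0x18224ee102) (nat_lit 1538))
)))) (.node (nat_lit 0x1823bfc184) (.node (nat_lit 0x1823afa184) (.node (nat_lit 0x1823a90084) (.leaf (nat_lit 0x18224fc182) (nat_lit 513))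
 (.leaf (nat_lit 0x1823a90084) (nat_lit 1281))
) (.node (nat_lit 0x1823b92084) (.leaf (nat_lit 0x1823afa184) (nat_lit 1285))
 (.leaf (nat_lit 0x1823b92084) (nat_lit 1285))
)) (.node (nat_lit 0x1823eea106) (.node (nat_lit 0x1823e90086) (.leaf (nat_lit 0x1823bfc184) (nat_lit 1284))
 (.leaf (nat_lit 0x1823e90086) (nat_lit 1284))
) (.node (nat_lit 0x1823f12086) (.leaf (nat_lit 0x1823eea106) (nat_lit 1281))
 (.node (nat_lit 0x1823f6e106) (.leaf (nat_lit 0x1823f12086) (nat_lit 1285))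
 (.leaf (nat_lit 0x1823f6e106) (nat_lit 1285))
))))))) (.node (nat_lit 0x184246a102) (.node (nat_lit 0x1827b98184) (.node (nat_lit 0x1825ef6086) (.node (nat_lit 0x1825d08102) (.node (nat_lit 0x1824376084) (.node (nat_lit 0x182427c184) (.leaf (nat_lit 0x1824274084) (nat_lit 1541))
 (.leaf (nat_lit 0x182427c184) (nat_lit 1029))
) (.node (nat_lit 0x182437a184) (.leaf (nat_lit 0x1824376084) (nat_lit 1025))
 (.leaf (nat_lit 0x182437a184) (nat_lit 1797))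
)) (.node (nat_lit 0x1825d8c102) (.node (nat_lit 0x1825d7c182) (.leaf (nat_lit 0x1825d08102) (nat_lit 512))
 (.leaf (nat_lit 0x1825d7c182) (nat_lit 1027))
) (.node (nat_lit 0x1825dfa182) (.leaf (nat_lit 0x1825d8c102) (nat_lit 1541))
 (.node (nat_lit 0x1825e8c106) (.leaf (nat_lit 0x1825dfa182) (nat_lit 1281))
 (.leaf (nat_lit 0x1825e8c106) (nat_lit 1541))
)))) (.node (nat_lit 0x1826676086) (.node (nat_lit 0x1825f74086) (.node (nat_lit 0x1825f08106) (.leaf (nat_lit 0x1825ef6086) (nat_lit 1537))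
 (.leaf (nat_lit 0x1825f08106) (nat_lit 1541))
) (.node (nat_lit 0x182666e106) (.leaf (nat_lit 0x1825f74086) (nat_lit 1029))
 (.leaf (nat_lit 0x182666e106) (nat_lit 1540))
)) (.node (nat_lit 0x18267f4086) (.node (nat_lit 0x18267ea106) (.leaf (nat_lit 0x1826676086) (nat_lit 1029))
 (.leaf (nat_lit 0x18267ea106) (nat_lit 1025))
) (.node (nat_lit 0x1827a9e184) (.leaf (nat_lit 0x18267f4086) (nat_lit 1541))
 (.node (nat_lit 0x1827af4084) (.leaf (nat_lit 0x1827a9e184) (nat_lit 1537))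
 (.leaf (nat_lit 0x1827af4084) (nat_lit 1280))
))))) (.node (nat_lit 0x184031e184) (.node (nat_lit 0x1827d98182) (.node (nat_lit 0x1827d1e182) (.node (nat_lit 0x1827bf6084) (.leaf (nat_lit 0x1827b98184) (nat_lit 1028))
 (.leaf (nat_lit 0x1827bf6084) (nat_lit 1541))
) (.node (nat_lit 0x1827d6a102) (.leaf (nat_lit 0x1827d1e182) (nat_lit 1538))
 (.leaf (nat_lit 0x1827d6a102) (nat_lit 1024))
)) (.node (nat_lit 0x1840210084) (.node (nat_lit 0x1827dee102) (.leaf (nat_lit 0x1827d98182) (nat_lit 769))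
 (.leaf (nat_lit 0x1827dee102) (nat_lit 1281))
) (.node (nat_lit 0x1840218184) (.leaf (nat_lit 0x1840210084) (nat_lit 1541))
 (.node (nat_lit 0x1840312084) (.leaf (nat_lit 0x1840218184) (nat_lit 517))
 (.leaf (nat_lit 0x1840312084) (nat_lit 1026))
)))) (.node (nat_lit 0x184049e182) (.node (nat_lit 0x1840418182) (.node (nat_lit 0x1840408102) (.leaf (nat_lit 0x184031e184) (nat_lit 1539))
 (.leaf (nat_lit 0x1840408102) (nat_lit 516))
) (.node (nat_lit 0x184048c102) (.leaf (nat_lit 0x1840418182) (nat_lit 1283))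
 (.leaf (nat_lit 0x184048c102) (nat_lit 1538))
)) (.node (nat_lit 0x1840610086) (.node (nat_lit 0x1840608106) (.leaf (nat_lit 0x184049e182) (nat_lit 1029))
 (.leaf (nat_lit 0x1840608106) (nat_lit 1282))
) (.node (nat_lit 0x184078c106) (.leaf (nat_lit 0x1840610086) (nat_lit 517))
 (.node (nat_lit 0x1840792086) (.leaf (nat_lit 0x184078c106) (nat_lit 1025))
 (.leaf (nat_lit 0x1840792086) (nat_lit 1537))
)))))) (.node (nat_lit 0x1845d8c102) (.node (nat_lit 0x1843eea106) (.node (nat_lit 0x1843a90084) (.node (nat_lit 0x18424ee102) (.node (nat_lit 0x184247a182) (.leaf (nat_lit 0x184246a102) (nat_lit 1028))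
 (.leaf (nat_lit 0x184247a182) (nat_lit 1541))
) (.node (nat_lit 0x18424fc182) (.leaf (nat_lit 0x18424ee102) (nat_lit 1283))
 (.leaf (nat_lit 0x18424fc182) (nat_lit 769))
)) (.node (nat_lit 0x1843b92084) (.node (nat_lit 0x1843afa184) (.leaf (nat_lit 0x1843a90084) (nat_lit 1025))
 (.leaf (nat_lit 0x1843afa184) (nat_lit 1029))
) (.node (nat_lit 0x1843bfc184) (.leaf (nat_lit 0x1843b92084) (nat_lit 1027))
 (.node (nat_lit 0x1843e90086) (.leaf (nat_lit 0x1843bfc184) (nat_lit 1028))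
 (.leaf (nat_lit 0x1843e90086) (nat_lit 1027))
)))) (.node (nat_lit 0x184427c184) (.node (nat_lit 0x1843f6e106) (.node (nat_lit 0x1843f12086) (.leaf (nat_lit 0x1843eea106) (nat_lit 1025))
 (.leaf (nat_lit 0x1843f12086) (nat_lit 1029))
) (.node (nat_lit 0x1844274084) (.leaf (nat_lit 0x1843f6e106) (nat_lit 1024))
 (.leaf (nat_lit 0x1844274084) (nat_lit 1282))
)) (.node (nat_lit 0x184437a184) (.node (nat_lit 0x1844376084) (.leaf (nat_lit 0x184427c184) (nat_lit 773))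
 (.leaf (nat_lit 0x1844376084) (nat_lit 769))
) (.node (nat_lit 0x1845d08102) (.leaf (nat_lit 0x184437a184) (nat_lit 1538))
 (.node (nat_lit 0x1845d7c182) (.leaf (nat_lit 0x1845d08102) (nat_lit 772))
 (.leaf (nat_lit 0x1845d7c182) (nat_lit 1280))
))))) (.node (nat_lit 0x18467f4086) (.node (nat_lit 0x1845f08106) (.node (nat_lit 0x1845e8c106) (.node (nat_lit 0x1845dfa182) (.leaf (nat_lit 0x1845d8c102) (nat_lit 1539))
 (.leaf (nat_lit 0x1845dfa182) (nat_lit 1285))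
) (.node (nat_lit 0x1845ef6086) (.leaf (nat_lit 0x1845e8c106) (nat_lit 1281))
 (.leaf (nat_lit 0x1845ef6086) (nat_lit 1281))
)) (.node (nat_lit 0x184666e106) (.node (nat_lit 0x1845f74086) (.leaf (nat_lit 0x1845f08106) (nat_lit 1283))
 (.leaf (nat_lit 0x1845f74086) (nat_lit 773))
) (.node (nat_lit 0x1846676086) (.leaf (nat_lit 0x184666e106) (nat_lit 1280))
 (.node (nat_lit 0x18467ea106) (.leaf (nat_lit 0x1846676086) (nat_lit 773))
 (.leaf (nat_lit 0x18467ea106) (nat_lit 769))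
)))) (.node (nat_lit 0x1847bf6084) (.node (nat_lit 0x1847af4084) (.node (nat_lit 0x1847a9e184) (.leaf (nat_lit 0x18467f4086) (nat_lit 1285))
 (.leaf (nat_lit 0x1847a9e184) (nat_lit 1285))
) (.node (nat_lit 0x1847b98184) (.leaf (nat_lit 0x1847af4084) (nat_lit 1285))
 (.leaf (nat_lit 0x1847b98184) (nat_lit 772))
)) (.node (nat_lit 0x1847d6a102) (.node (nat_lit 0x1847d1e182) (.leaf (nat_lit 0x1847bf6084) (nat_lit 1282))
 (.leaf (nat_lit 0x1847d1e182) (nat_lit 1539))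
) (.node (nat_lit 0x1847d98182) (.leaf (nat_lit 0x1847d6a102) (nat_lit 1284))
 (.node (nat_lit 0x1847dee102) (.leaf (nat_lit 0x1847d98182) (nat_lit 1025))
 (.leaf (nat_lit 0x1847dee102) (nat_lit 1282))
))))))))) (.node (nat_lit 0x1940254084) (.node (nat_lit 0x18c4ece106) (.node (nat_lit 0x18a6ece106) (.node (nat_lit 0x18a3392084) (.node (nat_lit 0x18a0eaa106) (.node (nat_lit 0x18a0a90084) (.node (nat_lit 0x18a04ae102) (.node (nat_lit 0x18a043a182) (.leaf (nat_lit 0x18a042a102) (nat_lit 769))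
 (.leaf (nat_lit 0x18a043a182) (nat_lit 1282))
) (.node (nat_lit 0x18a04bc182) (.leaf (nat_lit 0x18a04ae102) (nat_lit 1539))
 (.leaf (nat_lit 0x18a04bc182) (nat_lit 1027))
)) (.node (nat_lit 0x18a0b92084) (.node (nat_lit 0x18a0aba184) (.leaf (nat_lit 0x18a0a90084) (nat_lit 1541))
 (.leaf (nat_lit 0x18a0aba184) (nat_lit 1541))
) (.node (nat_lit 0x18a0bbc184) (.leaf (nat_lit 0x18a0b92084) (nat_lit 1285))
 (.node (nat_lit 0x18a0e90086) (.leaf (nat_lit 0x18a0bbc184) (nat_lit 1282))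
 (.leaf (nat_lit 0x18a0e90086) (nat_lit 1026))
)))) (.node (nat_lit 0x18a245a182) (.node (nat_lit 0x18a0f2e106) (.node (nat_lit 0x18a0f12086) (.leaf (nat_lit 0x18a0eaa106) (nat_lit 1541))
 (.leaf (nat_lit 0x18a0f12086) (nat_lit 1285))
) (.node (nat_lit 0x18a244a102) (.leaf (nat_lit 0x18a0f2e106) (nat_lit 1029))
 (.leaf (nat_lit 0x18a244a102) (nat_lit 1283))
)) (.node (nat_lit 0x18a24dc182) (.node (nat_lit 0x18a24ce102) (.leaf (nat_lit 0x18a245a182) (nat_lit 1283))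
 (.leaf (nat_lit 0x18a24ce102) (nat_lit 1541))
) (.node (nat_lit 0x18a3290084) (.leaf (nat_lit 0x18a24dc182) (nat_lit 512))
 (.node (nat_lit 0x18a32da184) (.leaf (nat_lit 0x18a3290084) (nat_lit 1284))
 (.leaf (nat_lit 0x18a32da184) (nat_lit 1541))
))))) (.node (nat_lit 0x18a4bf4084) (.node (nat_lit 0x18a3712086) (.node (nat_lit 0x18a3690086) (.node (nat_lit 0x18a33dc184) (.leaf (nat_lit 0x18a3392084) (nat_lit 1029))
 (.leaf (nat_lit 0x18a33dc184) (nat_lit 1283))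
) (.node (nat_lit 0x18a36ca106) (.leaf (nat_lit 0x18a3690086) (nat_lit 1027))
 (.leaf (nat_lit 0x18a36ca106) (nat_lit 1540))
)) (.node (nat_lit 0x18a4adc184) (.node (nat_lit 0x18a374e106) (.leaf (nat_lit 0x18a3712086) (nat_lit 1541))
 (.leaf (nat_lit 0x18a374e106) (nat_lit 1029))
) (.node (nat_lit 0x18a4af6084) (.leaf (nat_lit 0x18a4adc184) (nat_lit 1282))
 (.node (nat_lit 0x18a4bda184) (.leaf (nat_lit 0x18a4af6084) (nat_lit 1285))
 (.leaf (nat_lit 0x18a4bda184) (nat_lit 1796))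
)))) (.node (nat_lit 0x18a5776086) (.node (nat_lit 0x18a56f4086) (.node (nat_lit 0x18a56ae106) (.leaf (nat_lit 0x18a4bf4084) (nat_lit 1541))
 (.leaf (nat_lit 0x18a56ae106) (nat_lit 1540))
) (.node (nat_lit 0x18a572a106) (.leaf (nat_lit 0x18a56f4086) (nat_lit 1281))
 (.leaf (nat_lit 0x18a572a106) (nat_lit 1285))
)) (.node (nat_lit 0x18a5d5a182) (.node (nat_lit 0x18a5d2e102) (.leaf (nat_lit 0x18a5776086) (nat_lit 1283))
 (.leaf (nat_lit 0x18a5d2e102) (nat_lit 1025))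
) (.node (nat_lit 0x18a5daa102) (.leaf (nat_lit 0x18a5d5a182) (nat_lit 1282))
 (.node (nat_lit 0x18a5ddc182) (.leaf (nat_lit 0x18a5daa102) (nat_lit 1283))
 (.leaf (nat_lit 0x18a5ddc182) (nat_lit 768))
)))))) (.node (nat_lit 0x18c1392084) (.node (nat_lit 0x18a7d4e102) (.node (nat_lit 0x18a72bc184) (.node (nat_lit 0x18a6f4a106) (.node (nat_lit 0x18a6ef4086) (.leaf (nat_lit 0x18a6ece106) (nat_lit 1284))
 (.leaf (nat_lit 0x18a6ef4086) (nat_lit 1283))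
) (.node (nat_lit 0x18a6f76086) (.leaf (nat_lit 0x18a6f4a106) (nat_lit 1285))
 (.leaf (nat_lit 0x18a6f76086) (nat_lit 1285))
)) (.node (nat_lit 0x18a73ba184) (.node (nat_lit 0x18a72f6084) (.leaf (nat_lit 0x18a72bc184) (nat_lit 1281))
 (.leaf (nat_lit 0x18a72f6084) (nat_lit 1285))
) (.node (nat_lit 0x18a73f4084) (.leaf (nat_lit 0x18a73ba184) (nat_lit 1540))
 (.node (nat_lit 0x18a7d3a182) (.leaf (nat_lit 0x18a73f4084) (nat_lit 1285))
 (.leaf (nat_lit 0x18a7d3a182) (nat_lit 1283))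
)))) (.node (nat_lit 0x18c045a182) (.node (nat_lit 0x18a7dca102) (.node (nat_lit 0x18a7dbc182) (.leaf (nat_lit 0x18a7d4e102) (nat_lit 1025))
 (.leaf (nat_lit 0x18a7dbc182) (nat_lit 768))
) (.node (nat_lit 0x18c044a102) (.leaf (nat_lit 0x18a7dca102) (nat_lit 1282))
 (.leaf (nat_lit 0x18c044a102) (nat_lit 1025))
)) (.node (nat_lit 0x18c04dc182) (.node (nat_lit 0x18c04ce102) (.leaf (nat_lit 0x18c045a182) (nat_lit 1282))
 (.leaf (nat_lit 0x18c04ce102) (nat_lit 1281))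
) (.node (nat_lit 0x18c1290084) (.leaf (nat_lit 0x18c04dc182) (nat_lit 772))
 (.node (nat_lit 0x18c12da184) (.leaf (nat_lit 0x18c1290084) (nat_lit 1285))
 (.leaf (nat_lit 0x18c12da184) (nat_lit 1281))
))))) (.node (nat_lit 0x18c24bc182) (.node (nat_lit 0x18c1712086) (.node (nat_lit 0x18c1690086) (.node (nat_lit 0x18c13dc184) (.leaf (nat_lit 0x18c1392084) (nat_lit 773))
 (.leaf (nat_lit 0x18c13dc184) (nat_lit 1026))
) (.node (nat_lit 0x18c16ca106) (.leaf (nat_lit 0x18c1690086) (nat_lit 770))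
 (.leaf (nat_lit 0x18c16ca106) (nat_lit 1283))
)) (.node (nat_lit 0x18c242a102) (.node (nat_lit 0x18c174e106) (.leaf (nat_lit 0x18c1712086) (nat_lit 1285))
 (.leaf (nat_lit 0x18c174e106) (nat_lit 773))
) (.node (nat_lit 0x18c243a182) (.leaf (nat_lit 0x18c242a102) (nat_lit 1025))
 (.node (nat_lit 0x18c24ae102) (.leaf (nat_lit 0x18c243a182) (nat_lit 1027))
 (.leaf (nat_lit 0x18c24ae102) (nat_lit 1537))
)))) (.node (nat_lit 0x18c2bbc184) (.node (nat_lit 0x18c2aba184) (.node (nat_lit 0x18c2a90084) (.leaf (nat_lit 0x18c24bc182) (nat_lit 772))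
 (.leaf (nat_lit 0x18c2a90084) (nat_lit 1285))
) (.node (nat_lit 0x18c2b92084) (.leaf (nat_lit 0x18c2aba184) (nat_lit 1280))
 (.leaf (nat_lit 0x18c2b92084) (nat_lit 1283))
)) (.node (nat_lit 0x18c2eaa106) (.node (nat_lit 0x18c2e90086) (.leaf (nat_lit 0x18c2bbc184) (nat_lit 1027))
 (.leaf (nat_lit 0x18c2e90086) (nat_lit 771))
) (.node (nat_lit 0x18c2f12086) (.leaf (nat_lit 0x18c2eaa106) (nat_lit 1284))
 (.node (nat_lit 0x18c2f2e106) (.leaf (nat_lit 0x18c2f12086) (nat_lit 1281))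
 (.leaf (nat_lit 0x18c2f2e106) (nat_lit 773))
))))))) (.node (nat_lit 0x1922d5a182) (.node (nat_lit 0x18c772a106) (.node (nat_lit 0x18c5d4e102) (.node (nat_lit 0x18c52bc184) (.node (nat_lit 0x18c4f4a106) (.node (nat_lit 0x18c4ef4086) (.leaf (nat_lit 0x18c4ece106) (nat_lit 1028))
 (.leaf (nat_lit 0x18c4ef4086) (nat_lit 1026))
) (.node (nat_lit 0x18c4f76086) (.leaf (nat_lit 0x18c4f4a106) (nat_lit 1029))
 (.leaf (nat_lit 0x18c4f76086) (nat_lit 1029))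
)) (.node (nat_lit 0x18c53ba184) (.node (nat_lit 0x18c52f6084) (.leaf (nat_lit 0x18c52bc184) (nat_lit 1025))
 (.leaf (nat_lit 0x18c52f6084) (nat_lit 1029))
) (.node (nat_lit 0x18c53f4084) (.leaf (nat_lit 0x18c53ba184) (nat_lit 1536))
 (.node (nat_lit 0x18c5d3a182) (.leaf (nat_lit 0x18c53f4084) (nat_lit 1029))
 (.leaf (nat_lit 0x18c5d3a182) (nat_lit 1026))
)))) (.node (nat_lit 0x18c6af6084) (.node (nat_lit 0x18c5dca102) (.node (nat_lit 0x18c5dbc182) (.leaf (nat_lit 0x18c5d4e102) (nat_lit 1281))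
 (.leaf (nat_lit 0x18c5dbc182) (nat_lit 1028))
) (.node (nat_lit 0x18c6adc184) (.leaf (nat_lit 0x18c5dca102) (nat_lit 1536))
 (.leaf (nat_lit 0x18c6adc184) (nat_lit 1027))
)) (.node (nat_lit 0x18c6bf4084) (.node (nat_lit 0x18c6bda184) (.leaf (nat_lit 0x18c6af6084) (nat_lit 1029))
 (.leaf (nat_lit 0x18c6bda184) (nat_lit 1537))
) (.node (nat_lit 0x18c76ae106) (.leaf (nat_lit 0x18c6bf4084) (nat_lit 1537))
 (.node (nat_lit 0x18c76f4086) (.leaf (nat_lit 0x18c76ae106) (nat_lit 1282))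
 (.leaf (nat_lit 0x18c76f4086) (nat_lit 1025))
))))) (.node (nat_lit 0x192033a184) (.node (nat_lit 0x18c7daa102) (.node (nat_lit 0x18c7d2e102) (.node (nat_lit 0x18c7776086) (.leaf (nat_lit 0x18c772a106) (nat_lit 1029))
 (.leaf (nat_lit 0x18c7776086) (nat_lit 1026))
) (.node (nat_lit 0x18c7d5a182) (.leaf (nat_lit 0x18c7d2e102) (nat_lit 1281))
 (.leaf (nat_lit 0x18c7d5a182) (nat_lit 1283))
)) (.node (nat_lit 0x1920234084) (.node (nat_lit 0x18c7ddc182) (.leaf (nat_lit 0x18c7daa102) (nat_lit 1281))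
 (.leaf (nat_lit 0x18c7ddc182) (nat_lit 1028))
) (.node (nat_lit 0x192023c184) (.leaf (nat_lit 0x1920234084) (nat_lit 1539))
 (.node (nat_lit 0x1920336084) (.leaf (nat_lit 0x192023c184) (nat_lit 1029))
 (.leaf (nat_lit 0x1920336084) (nat_lit 1028))
)))) (.node (nat_lit 0x1920dba182) (.node (nat_lit 0x1920d3c182) (.node (nat_lit 0x1920d08102) (.leaf (nat_lit 0x192033a184) (nat_lit 1794))
 (.leaf (nat_lit 0x1920d08102) (nat_lit 514))
) (.node (nat_lit 0x1920d8c102) (.leaf (nat_lit 0x1920d3c182) (nat_lit 1027))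
 (.leaf (nat_lit 0x1920d8c102) (nat_lit 1541))
)) (.node (nat_lit 0x1920eb6086) (.node (nat_lit 0x1920e8c106) (.leaf (nat_lit 0x1920dba182) (nat_lit 1029))
 (.leaf (nat_lit 0x1920e8c106) (nat_lit 1285))
) (.node (nat_lit 0x1920f08106) (.leaf (nat_lit 0x1920eb6086) (nat_lit 1282))
 (.node (nat_lit 0x1920f34086) (.leaf (nat_lit 0x1920f08106) (nat_lit 1285))
 (.leaf (nat_lit 0x1920f34086) (nat_lit 1029))
)))))) (.node (nat_lit 0x192558c102) (.node (nat_lit 0x1923adc184) (.node (nat_lit 0x19236b4086) (.node (nat_lit 0x1922ddc182) (.node (nat_lit 0x1922d6e102) (.leaf (nat_lit 0x1922d5a182) (nat_lit 1539))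
 (.leaf (nat_lit 0x1922d6e102) (nat_lit 1285))
) (.node (nat_lit 0x1922dea102) (.leaf (nat_lit 0x1922ddc182) (nat_lit 769))
 (.leaf (nat_lit 0x1922dea102) (nat_lit 1283))
)) (.node (nat_lit 0x1923736086) (.node (nat_lit 0x19236ee106) (.leaf (nat_lit 0x19236b4086) (nat_lit 1284))
 (.leaf (nat_lit 0x19236ee106) (nat_lit 1538))
) (.node (nat_lit 0x192376a106) (.leaf (nat_lit 0x1923736086) (nat_lit 1283))
 (.node (nat_lit 0x1923ab6084) (.leaf (nat_lit 0x192376a106) (nat_lit 1285))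
 (.leaf (nat_lit 0x1923ab6084) (nat_lit 1285))
)))) (.node (nat_lit 0x192425c184) (.node (nat_lit 0x1923bda184) (.node (nat_lit 0x1923bb4084) (.leaf (nat_lit 0x1923adc184) (nat_lit 1540))
 (.leaf (nat_lit 0x1923bb4084) (nat_lit 1541))
) (.node (nat_lit 0x1924254084) (.leaf (nat_lit 0x1923bda184) (nat_lit 1541))
 (.leaf (nat_lit 0x1924254084) (nat_lit 1539))
)) (.node (nat_lit 0x192435a184) (.node (nat_lit 0x1924356084) (.leaf (nat_lit 0x192425c184) (nat_lit 1029))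
 (.leaf (nat_lit 0x1924356084) (nat_lit 1028))
) (.node (nat_lit 0x1925508102) (.leaf (nat_lit 0x192435a184) (nat_lit 1795))
 (.node (nat_lit 0x192555c182) (.leaf (nat_lit 0x1925508102) (nat_lit 515))
 (.leaf (nat_lit 0x192555c182) (nat_lit 771))
))))) (.node (nat_lit 0x1926f6a106) (.node (nat_lit 0x1925708106) (.node (nat_lit 0x192568c106) (.node (nat_lit 0x19255da182) (.leaf (nat_lit 0x192558c102) (nat_lit 1285))
 (.leaf (nat_lit 0x19255da182) (nat_lit 1029))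
) (.node (nat_lit 0x19256d6086) (.leaf (nat_lit 0x192568c106) (nat_lit 1541))
 (.leaf (nat_lit 0x19256d6086) (nat_lit 1284))
)) (.node (nat_lit 0x1926ed4086) (.node (nat_lit 0x1925754086) (.leaf (nat_lit 0x1925708106) (nat_lit 1285))
 (.leaf (nat_lit 0x1925754086) (nat_lit 1285))
) (.node (nat_lit 0x1926eee106) (.leaf (nat_lit 0x1926ed4086) (nat_lit 1540))
 (.node (nat_lit 0x1926f56086) (.leaf (nat_lit 0x1926eee106) (nat_lit 1281))
 (.leaf (nat_lit 0x1926f56086) (nat_lit 1285))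
)))) (.node (nat_lit 0x19275ea102) (.node (nat_lit 0x192756e102) (.node (nat_lit 0x192753a182) (.leaf (nat_lit 0x1926f6a106) (nat_lit 1285))
 (.leaf (nat_lit 0x192753a182) (nat_lit 1541))
) (.node (nat_lit 0x19275bc182) (.leaf (nat_lit 0x192756e102) (nat_lit 1280))
 (.leaf (nat_lit 0x19275bc182) (nat_lit 769))
)) (.node (nat_lit 0x1927ad6084) (.node (nat_lit 0x1927abc184) (.leaf (nat_lit 0x19275ea102) (nat_lit 1025))
 (.leaf (nat_lit 0x1927abc184) (nat_lit 1284))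
) (.node (nat_lit 0x1927bba184) (.leaf (nat_lit 0x1927ad6084) (nat_lit 1284))
 (.node (nat_lit 0x1927bd4084) (.leaf (nat_lit 0x1927bba184) (nat_lit 1537))
 (.leaf (nat_lit 0x1927bd4084) (nat_lit 1541))
)))))))) (.node (nat_lit 0x19a4ad6084) (.node (nat_lit 0x1946d5a182) (.node (nat_lit 0x19435bc182) (.node (nat_lit 0x19416d6086) (.node (nat_lit 0x1941508102) (.node (nat_lit 0x1940356084) (.node (nat_lit 0x194025c184) (.leaf (nat_lit 0x1940254084) (nat_lit 1285))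
 (.leaf (nat_lit 0x194025c184) (nat_lit 773))
) (.node (nat_lit 0x194035a184) (.leaf (nat_lit 0x1940356084) (nat_lit 1025))
 (.leaf (nat_lit 0x194035a184) (nat_lit 1538))
)) (.node (nat_lit 0x194158c102) (.node (nat_lit 0x194155c182) (.leaf (nat_lit 0x1941508102) (nat_lit 772))
 (.leaf (nat_lit 0x194155c182) (nat_lit 1028))
) (.node (nat_lit 0x19415da182) (.leaf (nat_lit 0x194158c102) (nat_lit 1285))
 (.node (nat_lit 0x194168c106) (.leaf (nat_lit 0x19415da182) (nat_lit 1029))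
 (.leaf (nat_lit 0x194168c106) (nat_lit 1282))
)))) (.node (nat_lit 0x1942eee106) (.node (nat_lit 0x1941754086) (.node (nat_lit 0x1941708106) (.leaf (nat_lit 0x19416d6086) (nat_lit 1026))
 (.leaf (nat_lit 0x1941708106) (nat_lit 1029))
) (.node (nat_lit 0x1942ed4086) (.leaf (nat_lit 0x1941754086) (nat_lit 1029))
 (.leaf (nat_lit 0x1942ed4086) (nat_lit 1284))
)) (.node (nat_lit 0x1942f6a106) (.node (nat_lit 0x1942f56086) (.leaf (nat_lit 0x1942eee106) (nat_lit 1025))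
 (.leaf (nat_lit 0x1942f56086) (nat_lit 1029))
) (.node (nat_lit 0x194353a182) (.leaf (nat_lit 0x1942f6a106) (nat_lit 1029))
 (.node (nat_lit 0x194356e102) (.leaf (nat_lit 0x194353a182) (nat_lit 1283))
 (.leaf (nat_lit 0x194356e102) (nat_lit 1285))
))))) (.node (nat_lit 0x194433a184) (.node (nat_lit 0x1943bba184) (.node (nat_lit 0x1943abc184) (.node (nat_lit 0x19435ea102) (.leaf (nat_lit 0x19435bc182) (nat_lit 1028))
 (.leaf (nat_lit 0x19435ea102) (nat_lit 1284))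
) (.node (nat_lit 0x1943ad6084) (.leaf (nat_lit 0x1943abc184) (nat_lit 1028))
 (.leaf (nat_lit 0x1943ad6084) (nat_lit 1028))
)) (.node (nat_lit 0x1944234084) (.node (nat_lit 0x1943bd4084) (.leaf (nat_lit 0x1943bba184) (nat_lit 1281))
 (.leaf (nat_lit 0x1943bd4084) (nat_lit 1541))
) (.node (nat_lit 0x194423c184) (.leaf (nat_lit 0x1944234084) (nat_lit 1541))
 (.node (nat_lit 0x1944336084) (.leaf (nat_lit 0x194423c184) (nat_lit 773))
 (.leaf (nat_lit 0x1944336084) (nat_lit 772))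
)))) (.node (nat_lit 0x1944dba182) (.node (nat_lit 0x1944d3c182) (.node (nat_lit 0x1944d08102) (.leaf (nat_lit 0x194433a184) (nat_lit 1539))
 (.leaf (nat_lit 0x1944d08102) (nat_lit 772))
) (.node (nat_lit 0x1944d8c102) (.leaf (nat_lit 0x1944d3c182) (nat_lit 1027))
 (.leaf (nat_lit 0x1944d8c102) (nat_lit 1541))
)) (.node (nat_lit 0x1944eb6086) (.node (nat_lit 0x1944e8c106) (.leaf (nat_lit 0x1944dba182) (nat_lit 773))
 (.leaf (nat_lit 0x1944e8c106) (nat_lit 1281))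
) (.node (nat_lit 0x1944f08106) (.leaf (nat_lit 0x1944eb6086) (nat_lit 1282))
 (.node (nat_lit 0x1944f34086) (.leaf (nat_lit 0x1944f08106) (nat_lit 1285))
 (.leaf (nat_lit 0x1944f34086) (nat_lit 773))
)))))) (.node (nat_lit 0x19a0b98184) (.node (nat_lit 0x1947adc184) (.node (nat_lit 0x19476b4086) (.node (nat_lit 0x1946ddc182) (.node (nat_lit 0x1946d6e102) (.leaf (nat_lit 0x1946d5a182) (nat_lit 1539))
 (.leaf (nat_lit 0x1946d6e102) (nat_lit 1029))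
) (.node (nat_lit 0x1946dea102) (.leaf (nat_lit 0x1946ddc182) (nat_lit 1028))
 (.leaf (nat_lit 0x1946dea102) (nat_lit 1283))
)) (.node (nat_lit 0x1947736086) (.node (nat_lit 0x19476ee106) (.leaf (nat_lit 0x19476b4086) (nat_lit 1028))
 (.leaf (nat_lit 0x19476ee106) (nat_lit 1283))
) (.node (nat_lit 0x194776a106) (.leaf (nat_lit 0x1947736086) (nat_lit 1285))
 (.node (nat_lit 0x1947ab6084) (.leaf (nat_lit 0x194776a106) (nat_lit 1029))
 (.leaf (nat_lit 0x1947ab6084) (nat_lit 1029))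
)))) (.node (nat_lit 0x19a0636086) (.node (nat_lit 0x1947bda184) (.node (nat_lit 0x1947bb4084) (.leaf (nat_lit 0x1947adc184) (nat_lit 1280))
 (.leaf (nat_lit 0x1947bb4084) (nat_lit 1281))
) (.node (nat_lit 0x19a062e106) (.leaf (nat_lit 0x1947bda184) (nat_lit 1285))
 (.leaf (nat_lit 0x19a062e106) (nat_lit 1285))
)) (.node (nat_lit 0x19a07b4086) (.node (nat_lit 0x19a07aa106) (.leaf (nat_lit 0x19a0636086) (nat_lit 1029))
 (.leaf (nat_lit 0x19a07aa106) (nat_lit 1281))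
) (.node (nat_lit 0x19a0a9e184) (.leaf (nat_lit 0x19a07b4086) (nat_lit 1282))
 (.node (nat_lit 0x19a0ab4084) (.leaf (nat_lit 0x19a0a9e184) (nat_lit 1541))
 (.leaf (nat_lit 0x19a0ab4084) (nat_lit 1541))
))))) (.node (nat_lit 0x19a2dfc182) (.node (nat_lit 0x19a0d98182) (.node (nat_lit 0x19a0d1e182) (.node (nat_lit 0x19a0bb6084) (.leaf (nat_lit 0x19a0b98184) (nat_lit 1026))
 (.leaf (nat_lit 0x19a0bb6084) (nat_lit 1284))
) (.node (nat_lit 0x19a0d2a102) (.leaf (nat_lit 0x19a0d1e182) (nat_lit 1538))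
 (.leaf (nat_lit 0x19a0d2a102) (nat_lit 1025))
)) (.node (nat_lit 0x19a2d4e102) (.node (nat_lit 0x19a0dae102) (.leaf (nat_lit 0x19a0d98182) (nat_lit 1027))
 (.leaf (nat_lit 0x19a0dae102) (nat_lit 1283))
) (.node (nat_lit 0x19a2d7a182) (.leaf (nat_lit 0x19a2d4e102) (nat_lit 1283))
 (.node (nat_lit 0x19a2dca102) (.leaf (nat_lit 0x19a2d7a182) (nat_lit 1539))
 (.leaf (nat_lit 0x19a2dca102) (nat_lit 1539))
)))) (.node (nat_lit 0x19a33fa184) (.node (nat_lit 0x19a32fc184) (.node (nat_lit 0x19a32b6084) (.leaf (nat_lit 0x19a2dfc182) (nat_lit 770))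
 (.leaf (nat_lit 0x19a32b6084) (nat_lit 1285))
) (.node (nat_lit 0x19a33b4084) (.leaf (nat_lit 0x19a32fc184) (nat_lit 1283))
 (.leaf (nat_lit 0x19a33b4084) (nat_lit 1285))
)) (.node (nat_lit 0x19a3ece106) (.node (nat_lit 0x19a3eb4086) (.leaf (nat_lit 0x19a33fa184) (nat_lit 1541))
 (.leaf (nat_lit 0x19a3eb4086) (nat_lit 1283))
) (.node (nat_lit 0x19a3f36086) (.leaf (nat_lit 0x19a3ece106) (nat_lit 1282))
 (.node (nat_lit 0x19a3f4a106) (.leaf (nat_lit 0x19a3f36086) (nat_lit 1285))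
 (.leaf (nat_lit 0x19a3f4a106) (nat_lit 1285))
))))))) (.node (nat_lit 0x19c2ad6084) (.node (nat_lit 0x19a7398184) (.node (nat_lit 0x19a5ed4086) (.node (nat_lit 0x19a552e102) (.node (nat_lit 0x19a4bd4084) (.node (nat_lit 0x19a4afc184) (.leaf (nat_lit 0x19a4ad6084) (nat_lit 1281))
 (.leaf (nat_lit 0x19a4afc184) (nat_lit 1282))
) (.node (nat_lit 0x19a4bfa184) (.leaf (nat_lit 0x19a4bd4084) (nat_lit 1536))
 (.leaf (nat_lit 0x19a4bfa184) (nat_lit 1539))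
)) (.node (nat_lit 0x19a55aa102) (.node (nat_lit 0x19a557a182) (.leaf (nat_lit 0x19a552e102) (nat_lit 1281))
 (.leaf (nat_lit 0x19a557a182) (nat_lit 1537))
) (.node (nat_lit 0x19a55fc182) (.leaf (nat_lit 0x19a55aa102) (nat_lit 1027))
 (.node (nat_lit 0x19a5eae106) (.leaf (nat_lit 0x19a55fc182) (nat_lit 771))
 (.leaf (nat_lit 0x19a5eae106) (nat_lit 1283))
)))) (.node (nat_lit 0x19a6656086) (.node (nat_lit 0x19a5f56086) (.node (nat_lit 0x19a5f2a106) (.leaf (nat_lit 0x19a5ed4086) (nat_lit 1540))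
 (.leaf (nat_lit 0x19a5f2a106) (nat_lit 1285))
) (.node (nat_lit 0x19a664e106) (.leaf (nat_lit 0x19a5f56086) (nat_lit 1285))
 (.leaf (nat_lit 0x19a664e106) (nat_lit 1283))
)) (.node (nat_lit 0x19a67d4086) (.node (nat_lit 0x19a67ca106) (.leaf (nat_lit 0x19a6656086) (nat_lit 1029))
 (.leaf (nat_lit 0x19a67ca106) (nat_lit 1284))
) (.node (nat_lit 0x19a729e184) (.leaf (nat_lit 0x19a67d4086) (nat_lit 1539))
 (.node (nat_lit 0x19a72d4084) (.leaf (nat_lit 0x19a729e184) (nat_lit 1540))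
 (.leaf (nat_lit 0x19a72d4084) (nat_lit 1285))
))))) (.node (nat_lit 0x19c07d4086) (.node (nat_lit 0x19a7598182) (.node (nat_lit 0x19a751e182) (.node (nat_lit 0x19a73d6084) (.leaf (nat_lit 0x19a7398184) (nat_lit 1027))
 (.leaf (nat_lit 0x19a73d6084) (nat_lit 1285))
) (.node (nat_lit 0x19a754a102) (.leaf (nat_lit 0x19a751e182) (nat_lit 1281))
 (.leaf (nat_lit 0x19a754a102) (nat_lit 1025))
)) (.node (nat_lit 0x19c064e106) (.node (nat_lit 0x19a75ce102) (.leaf (nat_lit 0x19a7598182) (nat_lit 1024))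
 (.leaf (nat_lit 0x19a75ce102) (nat_lit 1285))
) (.node (nat_lit 0x19c0656086) (.leaf (nat_lit 0x19c064e106) (nat_lit 1026))
 (.node (nat_lit 0x19c07ca106) (.leaf (nat_lit 0x19c0656086) (nat_lit 773))
 (.leaf (nat_lit 0x19c07ca106) (nat_lit 1284))
)))) (.node (nat_lit 0x19c13d6084) (.node (nat_lit 0x19c12d4084) (.node (nat_lit 0x19c129e184) (.leaf (nat_lit 0x19c07d4086) (nat_lit 1282))
 (.leaf (nat_lit 0x19c129e184) (nat_lit 1285))
) (.node (nat_lit 0x19c1398184) (.leaf (nat_lit 0x19c12d4084) (nat_lit 1285))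
 (.leaf (nat_lit 0x19c1398184) (nat_lit 770))
)) (.node (nat_lit 0x19c154a102) (.node (nat_lit 0x19c151e182) (.leaf (nat_lit 0x19c13d6084) (nat_lit 1029))
 (.leaf (nat_lit 0x19c151e182) (nat_lit 1282))
) (.node (nat_lit 0x19c1598182) (.leaf (nat_lit 0x19c154a102) (nat_lit 1284))
 (.node (nat_lit 0x19c15ce102) (.leaf (nat_lit 0x19c1598182) (nat_lit 1284))
 (.leaf (nat_lit 0x19c15ce102) (nat_lit 1541))
)))))) (.node (nat_lit 0x19c53b4084) (.node (nat_lit 0x19c3ed4086) (.node (nat_lit 0x19c352e102) (.node (nat_lit 0x19c2bd4084) (.node (nat_lit 0x19c2afc184) (.leaf (nat_lit 0x19c2ad6084) (nat_lit 1025))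
 (.leaf (nat_lit 0x19c2afc184) (nat_lit 1027))
) (.node (nat_lit 0x19c2bfa184) (.leaf (nat_lit 0x19c2bd4084) (nat_lit 1537))
 (.leaf (nat_lit 0x19c2bfa184) (nat_lit 1282))
)) (.node (nat_lit 0x19c35aa102) (.node (nat_lit 0x19c357a182) (.leaf (nat_lit 0x19c352e102) (nat_lit 1537))
 (.leaf (nat_lit 0x19c357a182) (nat_lit 1539))
) (.node (nat_lit 0x19c35fc182) (.leaf (nat_lit 0x19c35aa102) (nat_lit 1284))
 (.node (nat_lit 0x19c3eae106) (.leaf (nat_lit 0x19c35fc182) (nat_lit 1028))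
 (.leaf (nat_lit 0x19c3eae106) (nat_lit 1026))
)))) (.node (nat_lit 0x19c4d7a182) (.node (nat_lit 0x19c3f56086) (.node (nat_lit 0x19c3f2a106) (.leaf (nat_lit 0x19c3ed4086) (nat_lit 1281))
 (.leaf (nat_lit 0x19c3f2a106) (nat_lit 1029))
) (.node (nat_lit 0x19c4d4e102) (.leaf (nat_lit 0x19c3f56086) (nat_lit 1281))
 (.leaf (nat_lit 0x19c4d4e102) (nat_lit 1284))
)) (.node (nat_lit 0x19c4dfc182) (.node (nat_lit 0x19c4dca102) (.leaf (nat_lit 0x19c4d7a182) (nat_lit 1538))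
 (.leaf (nat_lit 0x19c4dca102) (nat_lit 1283))
) (.node (nat_lit 0x19c52b6084) (.leaf (nat_lit 0x19c4dfc182) (nat_lit 1028))
 (.node (nat_lit 0x19c52fc184) (.leaf (nat_lit 0x19c52b6084) (nat_lit 1029))
 (.leaf (nat_lit 0x19c52fc184) (nat_lit 1026))
))))) (.node (nat_lit 0x19c67b4086) (.node (nat_lit 0x19c5f36086) (.node (nat_lit 0x19c5eb4086) (.node (nat_lit 0x19c53fa184) (.leaf (nat_lit 0x19c53b4084) (nat_lit 1285))
 (.leaf (nat_lit 0x19c53fa184) (nat_lit 1285))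
) (.node (nat_lit 0x19c5ece106) (.leaf (nat_lit 0x19c5eb4086) (nat_lit 1026))
 (.leaf (nat_lit 0x19c5ece106) (nat_lit 1027))
)) (.node (nat_lit 0x19c662e106) (.node (nat_lit 0x19c5f4a106) (.leaf (nat_lit 0x19c5f36086) (nat_lit 1029))
 (.leaf (nat_lit 0x19c5f4a106) (nat_lit 1029))
) (.node (nat_lit 0x19c6636086) (.leaf (nat_lit 0x19c662e106) (nat_lit 1029))
 (.node (nat_lit 0x19c67aa106) (.leaf (nat_lit 0x19c6636086) (nat_lit 1029))
 (.leaf (nat_lit 0x19c67aa106) (nat_lit 1025))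
)))) (.node (nat_lit 0x19c6bb6084) (.node (nat_lit 0x19c6ab4084) (.node (nat_lit 0x19c6a9e184) (.leaf (nat_lit 0x19c67b4086) (nat_lit 1027))
 (.leaf (nat_lit 0x19c6a9e184) (nat_lit 1285))
) (.node (nat_lit 0x19c6b98184) (.leaf (nat_lit 0x19c6ab4084) (nat_lit 1285))
 (.leaf (nat_lit 0x19c6b98184) (nat_lit 771))
)) (.node (nat_lit 0x19c6d2a102) (.node (nat_lit 0x19c6d1e182) (.leaf (nat_lit 0x19c6bb6084) (nat_lit 1027))
 (.leaf (nat_lit 0x19c6d1e182) (nat_lit 1283))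
) (.node (nat_lit 0x19c6d98182) (.leaf (nat_lit 0x19c6d2a102) (nat_lit 1284))
 (.node (nat_lit 0x19c6dae102) (.leaf (nat_lit 0x19c6d98182) (nat_lit 1028))
 (.leaf (nat_lit 0x19c6dae102) (nat_lit 1540))
)))))))))))

theorem CY_ok : genOK A2 [(nat_lit 0x1820408102), (nat_lit 0x10224dc182), (nat_lit 0x1120d08102), (nat_lit 0x1125d08102), (nat_lit 0x860408102), (nat_lit 0x860218184)] CY_t (nat_lit 1152) = true := by decide +kernel

noncomputable def K3_t : ST :=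
(.node (nat_lit 0x1065508102) (.node (nat_lit 0xfdfbf7efc) (.node (nat_lit 0xa4840816a) (.node (nat_lit 0x945d08102) (.node (nat_lit 0x8c246a102) (.leaf (nat_lit 0x840408102) (nat_lit 513))
 (.leaf (nat_lit 0x8c246a102) (nat_lit 769))
) (.node (nat_lit 0x9c7dee102) (.leaf (nat_lit 0x945d08102) (nat_lit 770))
 (.leaf (nat_lit 0x9c7dee102) (nat_lit 1026))
)) (.node (nat_lit 0xc50409d02) (.node (nat_lit 0xb4df0816e) (.leaf (nat_lit 0xa4840816a) (nat_lit 771))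
 (.leaf (nat_lit 0xb4df0816e) (nat_lit 1026))
) (.node (nat_lit 0xcd247bd82) (.leaf (nat_lit 0xc50409d02) (nat_lit 1026))
 (.node (nat_lit 0xe58409f7a) (.leaf (nat_lit 0xcd247bd82) (nat_lit 1282))
 (.leaf (nat_lit 0xe58409f7a) (nat_lit 1280))
)))) (.node (nat_lit 0x1020402108) (.node (nat_lit 0x102019e482) (.node (nat_lit 0x1020108402) (.leaf (nat_lit 0xfdfbf7efc) (nat_lit 768))
 (.leaf (nat_lit 0x1020108402) (nat_lit 770))
) (.node (nat_lit 0x102030861e) (.leaf (nat_lit 0x102019e482) (nat_lit 1026))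
 (.leaf (nat_lit 0x102030861e) (nat_lit 1024))
)) (.node (nat_lit 0x102078610c) (.node (nat_lit 0x1020412798) (.leaf (nat_lit 0x1020402108) (nat_lit 1280))
 (.leaf (nat_lit 0x1020412798) (nat_lit 1282))
) (.node (nat_lit 0x1060408102) (.leaf (nat_lit 0x102078610c) (nat_lit 1538))
 (.node (nat_lit 0x106244a102) (.leaf (nat_lit 0x1060408102) (nat_lit 257))
 (.leaf (nat_lit 0x106244a102) (nat_lit 513))
))))) (.node (nat_lit 0x18a042a102) (.node (nat_lit 0x1070409502) (.node (nat_lit 0x106840814a) (.node (nat_lit 0x10675ce102) (.leaf (nat_lit 0x1065508102) (nat_lit 769))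
 (.leaf (nat_lit 0x10675ce102) (nat_lit 1025))
) (.node (nat_lit 0x106d70814e) (.leaf (nat_lit 0x106840814a) (nat_lit 769))
 (.leaf (nat_lit 0x106d70814e) (nat_lit 1283))
)) (.node (nat_lit 0x107840975a) (.node (nat_lit 0x107245b582) (.leaf (nat_lit 0x1070409502) (nat_lit 1026))
 (.leaf (nat_lit 0x107245b582) (nat_lit 1282))
) (.node (nat_lit 0x107f3d76dc) (.leaf (nat_lit 0x107840975a) (nat_lit 1282))
 (.node (nat_lit 0x1820408102) (.leaf (nat_lit 0x107f3d76dc) (nat_lit 1027))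
 (.leaf (nat_lit 0x1820408102) (nat_lit 0))
)))) (.node (nat_lit 0x1b20f0812e) (.node (nat_lit 0x19a0dae102) (.node (nat_lit 0x1920d08102) (.leaf (nat_lit 0x18a042a102) (nat_lit 256))
 (.leaf (nat_lit 0x1920d08102) (nat_lit 514))
) (.node (nat_lit 0x1a2040812a) (.leaf (nat_lit 0x19a0dae102) (nat_lit 770))
 (.leaf (nat_lit 0x1a2040812a) (nat_lit 515))
)) (.node (nat_lit 0x1ca043ad82) (.node (nat_lit 0x1c20408d02) (.leaf (nat_lit 0x1b20f0812e) (nat_lit 1027))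
 (.leaf (nat_lit 0x1c20408d02) (nat_lit 1026))
) (.node (nat_lit 0x1e20408f3a) (.leaf (nat_lit 0x1ca043ad82) (nat_lit 1282))
 (.node (nat_lit 0x1fa0bb6ebc) (.leaf (nat_lit 0x1e20408f3a) (nat_lit 1280))
 (.leaf (nat_lit 0x1fa0bb6ebc) (nat_lit 1024))
))))))

theorem K3_ok : orbOK A2 [(nat_lit 0x10224dc182), (nat_lit 0x860408102), (nat_lit 0x850d08402), (nat_lit 0x1820402108)] (nat_lit 0x1820408102) K3_t (nat_lit 36) = true := by decide +kernel

noncomputable def K4_t : ST :=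
(.node (nat_lit 0x1070409712) (.node (nat_lit 0xa1a35b2f6) (.node (nat_lit 0x745e86f34) (.node (nat_lit 0x550d03d08) (.node (nat_lit 0x39adfd5ea) (.node (nat_lit 0x2c812a46a) (.node (nat_lit 0x29d53b3fa) (.node (nat_lit 0x2976ef52e) (.node (nat_lit 0x29757b3ba) (.leaf (nat_lit 0x2973f56b4) (nat_lit 1538))
 (.leaf (nat_lit 0x29757b3ba) (nat_lit 1538))
) (.node (nat_lit 0x29d3b56f4) (.leaf (nat_lit 0x2976ef52e) (nat_lit 1026))
 (.leaf (nat_lit 0x29d3b56f4) (nat_lit 1538))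
)) (.node (nat_lit 0x2c216a42a) (.node (nat_lit 0x29d6af56e) (.leaf (nat_lit 0x29d53b3fa) (nat_lit 1282))
 (.leaf (nat_lit 0x29d6af56e) (nat_lit 1026))
) (.node (nat_lit 0x2c76f47b4) (.leaf (nat_lit 0x2c216a42a) (nat_lit 1025))
 (.leaf (nat_lit 0x2c76f47b4) (nat_lit 1793))
))) (.node (nat_lit 0x395ab72bc) (.node (nat_lit 0x2d27f53b4) (.node (nat_lit 0x2cd6b47f4) (.leaf (nat_lit 0x2c812a46a) (nat_lit 1025))
 (.leaf (nat_lit 0x2cd6b47f4) (nat_lit 2051))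
) (.node (nat_lit 0x2d87b53f4) (.leaf (nat_lit 0x2d27f53b4) (nat_lit 1537))
 (.leaf (nat_lit 0x2d87b53f4) (nat_lit 1539))
)) (.node (nat_lit 0x395f2b736) (.node (nat_lit 0x395dbd5aa) (.leaf (nat_lit 0x395ab72bc) (nat_lit 1281))
 (.leaf (nat_lit 0x395dbd5aa) (nat_lit 1793))
) (.node (nat_lit 0x39aaf72fc) (.leaf (nat_lit 0x395f2b736) (nat_lit 1537))
 (.leaf (nat_lit 0x39aaf72fc) (nat_lit 1537))
)))) (.node (nat_lit 0x50fad6adc) (.node (nat_lit 0x3c8aae676) (.node (nat_lit 0x3c2afc4ae) (.node (nat_lit 0x39af6b776) (.leaf (nat_lit 0x39adfd5ea) (nat_lit 1793))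
 (.leaf (nat_lit 0x39af6b776) (nat_lit 1792))
) (.node (nat_lit 0x3c7aee636) (.leaf (nat_lit 0x3c2afc4ae) (nat_lit 1536))
 (.leaf (nat_lit 0x3c7aee636) (nat_lit 1795))
)) (.node (nat_lit 0x3d0bbd2b6) (.node (nat_lit 0x3cdabc4ee) (.leaf (nat_lit 0x3c8aae676) (nat_lit 2049))
 (.leaf (nat_lit 0x3cdabc4ee) (nat_lit 1536))
) (.node (nat_lit 0x3dfbfd2f6) (.leaf (nat_lit 0x3d0bbd2b6) (nat_lit 1792))
 (.leaf (nat_lit 0x3dfbfd2f6) (nat_lit 1792))
))) (.node (nat_lit 0x51addddca) (.node (nat_lit 0x50ff4af56) (.node (nat_lit 0x50fddcdca) (.leaf (nat_lit 0x50fad6adc) (nat_lit 1283))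
 (.leaf (nat_lit 0x50fddcdca) (nat_lit 1539))
) (.node (nat_lit 0x51aad7adc) (.leaf (nat_lit 0x50ff4af56) (nat_lit 1795))
 (.leaf (nat_lit 0x51aad7adc) (nat_lit 1538))
)) (.node (nat_lit 0x545d02d08) (.node (nat_lit 0x51af4bf56) (.leaf (nat_lit 0x51addddca) (nat_lit 2049))
 (.leaf (nat_lit 0x51af4bf56) (nat_lit 1793))
) (.node (nat_lit 0x547adca9e) (.leaf (nat_lit 0x545d02d08) (nat_lit 1793))
 (.node (nat_lit 0x54da9ead6) (.leaf (nat_lit 0x547adca9e) (nat_lit 1538))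
 (.leaf (nat_lit 0x54da9ead6) (nat_lit 1539))
)))))) (.node (nat_lit 0x68f76af76) (.node (nat_lit 0x59deafd4e) (.node (nat_lit 0x58ad7abda) (.node (nat_lit 0x558a9fad6) (.node (nat_lit 0x552adda9e) (.leaf (nat_lit 0x550d03d08) (nat_lit 1539))
 (.leaf (nat_lit 0x552adda9e) (nat_lit 1794))
) (.node (nat_lit 0x58abf4ed4) (.leaf (nat_lit 0x558a9fad6) (nat_lit 1794))
 (.leaf (nat_lit 0x58abf4ed4) (nat_lit 1793))
)) (.node (nat_lit 0x59dbb5ed4) (.node (nat_lit 0x58aeeed4e) (.leaf (nat_lit 0x58ad7abda) (nat_lit 1280))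
 (.leaf (nat_lit 0x58aeeed4e) (nat_lit 1026))
) (.node (nat_lit 0x59dd3bbda) (.leaf (nat_lit 0x59dbb5ed4) (nat_lit 1793))
 (.leaf (nat_lit 0x59dd3bbda) (nat_lit 1536))
))) (.node (nat_lit 0x5d0db5b98) (.node (nat_lit 0x5c7df4b98) (.node (nat_lit 0x5c5eb4d8c) (.leaf (nat_lit 0x59deafd4e) (nat_lit 1026))
 (.leaf (nat_lit 0x5c5eb4d8c) (nat_lit 1282))
) (.node (nat_lit 0x5c8eb6bd4) (.leaf (nat_lit 0x5c7df4b98) (nat_lit 1280))
 (.leaf (nat_lit 0x5c8eb6bd4) (nat_lit 1026))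
)) (.node (nat_lit 0x5dfef7bd4) (.node (nat_lit 0x5d2ef5d8c) (.leaf (nat_lit 0x5d0db5b98) (nat_lit 1280))
 (.leaf (nat_lit 0x5d2ef5d8c) (nat_lit 1026))
) (.node (nat_lit 0x68f2f6afc) (.leaf (nat_lit 0x5dfef7bd4) (nat_lit 1538))
 (.node (nat_lit 0x68f5fcdea) (.leaf (nat_lit 0x68f2f6afc) (nat_lit 1024))
 (.leaf (nat_lit 0x68f5fcdea) (nat_lit 1536))
))))) (.node (nat_lit 0x6d81bdafa) (.node (nat_lit 0x6c21fcaba) (.node (nat_lit 0x6955bddaa) (.node (nat_lit 0x6952b7abc) (.leaf (nat_lit 0x68f76af76) (nat_lit 1280))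
 (.leaf (nat_lit 0x6952b7abc) (nat_lit 1536))
) (.node (nat_lit 0x69572bf36) (.leaf (nat_lit 0x6955bddaa) (nat_lit 1536))
 (.leaf (nat_lit 0x69572bf36) (nat_lit 1536))
)) (.node (nat_lit 0x6c833aaf6) (.node (nat_lit 0x6c52bceb6) (.leaf (nat_lit 0x6c21fcaba) (nat_lit 1794))
 (.leaf (nat_lit 0x6c52bceb6) (nat_lit 2048))
) (.node (nat_lit 0x6d237bab6) (.leaf (nat_lit 0x6c833aaf6) (nat_lit 2050))
 (.leaf (nat_lit 0x6d237bab6) (nat_lit 1794))
))) (.node (nat_lit 0x70aeced6e) (.node (nat_lit 0x70abd4ef4) (.node (nat_lit 0x6df2fdef6) (.leaf (nat_lit 0x6d81bdafa) (nat_lit 1794))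
 (.leaf (nat_lit 0x6df2fdef6) (nat_lit 2048))
) (.node (nat_lit 0x70ad5abfa) (.leaf (nat_lit 0x70abd4ef4) (nat_lit 1536))
 (.leaf (nat_lit 0x70ad5abfa) (nat_lit 1280))
)) (.node (nat_lit 0x717d5bbba) (.node (nat_lit 0x717bd5eb4) (.leaf (nat_lit 0x70aeced6e) (nat_lit 1280))
 (.leaf (nat_lit 0x717bd5eb4) (nat_lit 1536))
) (.node (nat_lit 0x717ecfd2e) (.leaf (nat_lit 0x717d5bbba) (nat_lit 1536))
 (.node (nat_lit 0x742ed4bbc) (.leaf (nat_lit 0x717ecfd2e) (nat_lit 1280))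
 (.leaf (nat_lit 0x742ed4bbc) (nat_lit 1283))
))))))) (.node (nat_lit 0x8d247b392) (.node (nat_lit 0x840608106) (.node (nat_lit 0x840184218) (.node (nat_lit 0x75fed5bfc) (.node (nat_lit 0x750f13bb4) (.node (nat_lit 0x74df12bf4) (.leaf (nat_lit 0x745e86f34) (nat_lit 1282))
 (.leaf (nat_lit 0x74df12bf4) (nat_lit 1536))
) (.node (nat_lit 0x758e87f74) (.leaf (nat_lit 0x750f13bb4) (nat_lit 1536))
 (.leaf (nat_lit 0x758e87f74) (nat_lit 1283))
)) (.node (nat_lit 0x840086610) (.node (nat_lit 0x840084210) (.leaf (nat_lit 0x75fed5bfc) (nat_lit 1282))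
 (.leaf (nat_lit 0x840084210) (nat_lit 2050))
) (.node (nat_lit 0x840102408) (.leaf (nat_lit 0x840086610) (nat_lit 1794))
 (.leaf (nat_lit 0x840102408) (nat_lit 1536))
))) (.node (nat_lit 0x840408312) (.node (nat_lit 0x84021048c) (.node (nat_lit 0x840210084) (.leaf (nat_lit 0x840184218) (nat_lit 1792))
 (.leaf (nat_lit 0x840210084) (nat_lit 1792))
) (.node (nat_lit 0x840312084) (.leaf (nat_lit 0x84021048c) (nat_lit 1538))
 (.leaf (nat_lit 0x840312084) (nat_lit 2050))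
)) (.node (nat_lit 0x840418792) (.node (nat_lit 0x840418182) (.leaf (nat_lit 0x840408312) (nat_lit 1539))
 (.leaf (nat_lit 0x840418182) (nat_lit 1538))
) (.node (nat_lit 0x84048c102) (.leaf (nat_lit 0x840418792) (nat_lit 2048))
 (.node (nat_lit 0x84049e182) (.leaf (nat_lit 0x84048c102) (nat_lit 769))
 (.leaf (nat_lit 0x84049e182) (nat_lit 513))
))))) (.node (nat_lit 0x8c24ee102) (.node (nat_lit 0x88f2fc4ce) (.node (nat_lit 0x84078c106) (.node (nat_lit 0x84060831e) (.leaf (nat_lit 0x840608106) (nat_lit 771))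
 (.leaf (nat_lit 0x84060831e) (nat_lit 515))
) (.node (nat_lit 0x88a16a44a) (.leaf (nat_lit 0x84078c106) (nat_lit 2306))
 (.leaf (nat_lit 0x88a16a44a) (nat_lit 768))
)) (.node (nat_lit 0x89d6b53dc) (.node (nat_lit 0x89a1fd2da) (.leaf (nat_lit 0x88f2fc4ce) (nat_lit 1538))
 (.leaf (nat_lit 0x89a1fd2da) (nat_lit 1792))
) (.node (nat_lit 0x8c247a182) (.leaf (nat_lit 0x89d6b53dc) (nat_lit 1281))
 (.leaf (nat_lit 0x8c247a182) (nat_lit 1282))
))) (.node (nat_lit 0x8c76ee106) (.node (nat_lit 0x8c52b6084) (.node (nat_lit 0x8c24fc182) (.leaf (nat_lit 0x8c24ee102) (nat_lit 513))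
 (.leaf (nat_lit 0x8c24fc182) (nat_lit 769))
) (.node (nat_lit 0x8c53b4084) (.leaf (nat_lit 0x8c52b6084) (nat_lit 1024))
 (.leaf (nat_lit 0x8c53b4084) (nat_lit 2050))
)) (.node (nat_lit 0x8d00b5690) (.node (nat_lit 0x8c776a106) (.leaf (nat_lit 0x8c76ee106) (nat_lit 1537))
 (.leaf (nat_lit 0x8c776a106) (nat_lit 2051))
) (.node (nat_lit 0x8d00b7290) (.leaf (nat_lit 0x8d00b5690) (nat_lit 1794))
 (.node (nat_lit 0x8d246b712) (.leaf (nat_lit 0x8d00b7290) (nat_lit 1792))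
 (.leaf (nat_lit 0x8d246b712) (nat_lit 2048))
)))))) (.node (nat_lit 0x98faee656) (.node (nat_lit 0x945e8c106) (.node (nat_lit 0x91de87754) (.node (nat_lit 0x917ed558c) (.node (nat_lit 0x915d03508) (.leaf (nat_lit 0x8d247b392) (nat_lit 2049))
 (.leaf (nat_lit 0x915d03508) (nat_lit 1792))
) (.node (nat_lit 0x91aadd6d6) (.leaf (nat_lit 0x917ed558c) (nat_lit 1024))
 (.leaf (nat_lit 0x91aadd6d6) (nat_lit 2305))
)) (.node (nat_lit 0x942bd4084) (.node (nat_lit 0x942ad6084) (.leaf (nat_lit 0x91de87754) (nat_lit 1539))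
 (.leaf (nat_lit 0x942ad6084) (nat_lit 1281))
) (.node (nat_lit 0x945d8c102) (.leaf (nat_lit 0x942bd4084) (nat_lit 2048))
 (.leaf (nat_lit 0x945d8c102) (nat_lit 1794))
))) (.node (nat_lit 0x948a8425c) (.node (nat_lit 0x947d5a182) (.node (nat_lit 0x945f08106) (.leaf (nat_lit 0x945e8c106) (nat_lit 1536))
 (.leaf (nat_lit 0x945f08106) (nat_lit 1794))
) (.node (nat_lit 0x947ddc182) (.leaf (nat_lit 0x947d5a182) (nat_lit 770))
 (.leaf (nat_lit 0x947ddc182) (nat_lit 1026))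
)) (.node (nat_lit 0x94dd0835a) (.node (nat_lit 0x948b84254) (.leaf (nat_lit 0x948a8425c) (nat_lit 1537))
 (.leaf (nat_lit 0x948b84254) (nat_lit 2051))
) (.node (nat_lit 0x94df08356) (.leaf (nat_lit 0x94dd0835a) (nat_lit 770))
 (.node (nat_lit 0x98aef47d4) (.leaf (nat_lit 0x94df08356) (nat_lit 1026))
 (.leaf (nat_lit 0x98aef47d4) (nat_lit 2049))
))))) (.node (nat_lit 0x9c7bf6084) (.node (nat_lit 0x9c2f6a106) (.node (nat_lit 0x997df5398) (.node (nat_lit 0x995abd29e) (.leaf (nat_lit 0x98faee656) (nat_lit 1795))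
 (.leaf (nat_lit 0x995abd29e) (nat_lit 1537))
) (.node (nat_lit 0x9c2eee106) (.leaf (nat_lit 0x997df5398) (nat_lit 1538))
 (.leaf (nat_lit 0x9c2eee106) (nat_lit 1536))
)) (.node (nat_lit 0x9c5dbc182) (.node (nat_lit 0x9c5d3a182) (.leaf (nat_lit 0x9c2f6a106) (nat_lit 2051))
 (.leaf (nat_lit 0x9c5d3a182) (nat_lit 770))
) (.node (nat_lit 0x9c7af4084) (.leaf (nat_lit 0x9c5dbc182) (nat_lit 1026))
 (.leaf (nat_lit 0x9c7af4084) (nat_lit 1281))
))) (.node (nat_lit 0x9dfbf72d4) (.node (nat_lit 0x9d8ebd5ce) (.node (nat_lit 0x9c7d6a102) (.leaf (nat_lit 0x9c7bf6084) (nat_lit 2049))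
 (.leaf (nat_lit 0x9c7d6a102) (nat_lit 1538))
) (.node (nat_lit 0x9d8f3b3d6) (.leaf (nat_lit 0x9d8ebd5ce) (nat_lit 1792))
 (.leaf (nat_lit 0x9d8f3b3d6) (nat_lit 1539))
)) (.node (nat_lit 0xa0a14a46a) (.node (nat_lit 0x9dfdef54a) (.leaf (nat_lit 0x9dfbf72d4) (nat_lit 1538))
 (.leaf (nat_lit 0x9dfdef54a) (nat_lit 1282))
) (.node (nat_lit 0xa0f2ce676) (.leaf (nat_lit 0xa0a14a46a) (nat_lit 770))
 (.node (nat_lit 0xa176d73b4) (.leaf (nat_lit 0xa0f2ce676) (nat_lit 1794))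
 (.leaf (nat_lit 0xa176d73b4) (nat_lit 1281))
)))))))) (.node (nat_lit 0xe58211af4) (.node (nat_lit 0xc48210adc) (.node (nat_lit 0xb45d0833a) (.node (nat_lit 0xa502112bc) (.node (nat_lit 0xa4860816e) (.node (nat_lit 0xa45384234) (.node (nat_lit 0xa4528423c) (.leaf (nat_lit 0xa1a35b2f6) (nat_lit 2048))
 (.leaf (nat_lit 0xa4528423c) (nat_lit 1283))
) (.node (nat_lit 0xa4840837a) (.leaf (nat_lit 0xa45384234) (nat_lit 2050))
 (.leaf (nat_lit 0xa4840837a) (nat_lit 1283))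
)) (.node (nat_lit 0xa4d58c16a) (.node (nat_lit 0xa48608376) (.leaf (nat_lit 0xa4860816e) (nat_lit 515))
 (.leaf (nat_lit 0xa48608376) (nat_lit 771))
) (.node (nat_lit 0xa4d68c16e) (.leaf (nat_lit 0xa4d58c16a) (nat_lit 1792))
 (.leaf (nat_lit 0xa4d68c16e) (nat_lit 1537))
))) (.node (nat_lit 0xb0aed47f4) (.node (nat_lit 0xa584193fa) (.node (nat_lit 0xa502116b4) (.leaf (nat_lit 0xa502112bc) (nat_lit 1795))
 (.leaf (nat_lit 0xa502116b4) (nat_lit 1794))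
) (.node (nat_lit 0xa584195ea) (.leaf (nat_lit 0xa584193fa) (nat_lit 1792))
 (.leaf (nat_lit 0xa584195ea) (nat_lit 1792))
)) (.node (nat_lit 0xb15a9f2b6) (.node (nat_lit 0xb0fadc4ee) (.leaf (nat_lit 0xb0aed47f4) (nat_lit 1536))
 (.leaf (nat_lit 0xb0fadc4ee) (nat_lit 1793))
) (.node (nat_lit 0xb1df133f4) (.leaf (nat_lit 0xb15a9f2b6) (nat_lit 1539))
 (.leaf (nat_lit 0xb1df133f4) (nat_lit 1282))
)))) (.node (nat_lit 0xb52ecf736) (.node (nat_lit 0xb4da84274) (.node (nat_lit 0xb48d8c16a) (.node (nat_lit 0xb45f08336) (.leaf (nat_lit 0xb45d0833a) (nat_lit 770))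
 (.leaf (nat_lit 0xb45f08336) (nat_lit 1026))
) (.node (nat_lit 0xb48e8c16e) (.leaf (nat_lit 0xb48d8c16a) (nat_lit 1794))
 (.leaf (nat_lit 0xb48e8c16e) (nat_lit 1024))
)) (.node (nat_lit 0xb4dd0816a) (.node (nat_lit 0xb4db8427c) (.leaf (nat_lit 0xb4da84274) (nat_lit 1283))
 (.leaf (nat_lit 0xb4db8427c) (nat_lit 1794))
) (.node (nat_lit 0xb52ddd3ba) (.leaf (nat_lit 0xb4dd0816a) (nat_lit 1538))
 (.leaf (nat_lit 0xb52ddd3ba) (nat_lit 1282))
))) (.node (nat_lit 0xc15503d08) (.node (nat_lit 0xb5ff4b56e) (.node (nat_lit 0xb5fbd52fc) (.leaf (nat_lit 0xb52ecf736) (nat_lit 1792))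
 (.leaf (nat_lit 0xb5fbd52fc) (nat_lit 1280))
) (.node (nat_lit 0xc0f3dcad6) (.leaf (nat_lit 0xb5ff4b56e) (nat_lit 1282))
 (.leaf (nat_lit 0xc0f3dcad6) (nat_lit 2050))
)) (.node (nat_lit 0xc1d713bd4) (.node (nat_lit 0xc175d5b98) (.leaf (nat_lit 0xc15503d08) (nat_lit 1537))
 (.leaf (nat_lit 0xc175d5b98) (nat_lit 1538))
) (.node (nat_lit 0xc420d4e90) (.leaf (nat_lit 0xc1d713bd4) (nat_lit 1282))
 (.node (nat_lit 0xc420d6a90) (.leaf (nat_lit 0xc420d4e90) (nat_lit 1792))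
 (.leaf (nat_lit 0xc420d6a90) (nat_lit 1793))
)))))) (.node (nat_lit 0xcd04afd02) (.node (nat_lit 0xc58609f56) (.node (nat_lit 0xc50419d82) (.node (nat_lit 0xc50409f12) (.node (nat_lit 0xc48210ed4) (.leaf (nat_lit 0xc48210adc) (nat_lit 1538))
 (.leaf (nat_lit 0xc48210ed4) (nat_lit 2051))
) (.node (nat_lit 0xc50419b92) (.leaf (nat_lit 0xc50409f12) (nat_lit 1538))
 (.leaf (nat_lit 0xc50419b92) (nat_lit 2049))
)) (.node (nat_lit 0xc524ddd82) (.node (nat_lit 0xc524cfd02) (.leaf (nat_lit 0xc50419d82) (nat_lit 1282))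
 (.leaf (nat_lit 0xc524cfd02) (nat_lit 1026))
) (.node (nat_lit 0xc58609d4e) (.leaf (nat_lit 0xc524ddd82) (nat_lit 1537))
 (.leaf (nat_lit 0xc58609d4e) (nat_lit 1282))
))) (.node (nat_lit 0xc9a37bad6) (.node (nat_lit 0xc952bda9e) (.node (nat_lit 0xc8a7f4bd4) (.leaf (nat_lit 0xc58609f56) (nat_lit 1793))
 (.leaf (nat_lit 0xc8a7f4bd4) (nat_lit 1282))
) (.node (nat_lit 0xc976f5d8c) (.leaf (nat_lit 0xc952bda9e) (nat_lit 1280))
 (.leaf (nat_lit 0xc976f5d8c) (nat_lit 1281))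
)) (.node (nat_lit 0xcc247ab92) (.node (nat_lit 0xcc246af12) (.leaf (nat_lit 0xc9a37bad6) (nat_lit 2050))
 (.leaf (nat_lit 0xcc246af12) (nat_lit 1795))
) (.node (nat_lit 0xccd5bcbda) (.leaf (nat_lit 0xcc247ab92) (nat_lit 1795))
 (.node (nat_lit 0xccd6aef56) (.leaf (nat_lit 0xccd5bcbda) (nat_lit 1536))
 (.leaf (nat_lit 0xccd6aef56) (nat_lit 1795))
))))) (.node (nat_lit 0xe1529fab6) (.node (nat_lit 0xcd246bd02) (.node (nat_lit 0xcd20f5a90) (.node (nat_lit 0xcd04bdd82) (.leaf (nat_lit 0xcd04afd02) (nat_lit 1281))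
 (.leaf (nat_lit 0xcd04bdd82) (nat_lit 1282))
) (.node (nat_lit 0xcd20f7e90) (.leaf (nat_lit 0xcd20f5a90) (nat_lit 1793))
 (.leaf (nat_lit 0xcd20f7e90) (nat_lit 1794))
)) (.node (nat_lit 0xcdf57bdca) (.node (nat_lit 0xcdf2f7ed4) (.leaf (nat_lit 0xcd246bd02) (nat_lit 1026))
 (.leaf (nat_lit 0xcdf2f7ed4) (nat_lit 1795))
) (.node (nat_lit 0xe0a7d4bf4) (.leaf (nat_lit 0xcdf57bdca) (nat_lit 1025))
 (.leaf (nat_lit 0xe0a7d4bf4) (nat_lit 1280))
))) (.node (nat_lit 0xe4775abb6) (.node (nat_lit 0xe1d687f74) (.node (nat_lit 0xe1a1ddafa) (.leaf (nat_lit 0xe1529fab6) (nat_lit 1792))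
 (.leaf (nat_lit 0xe1a1ddafa) (nat_lit 1794))
) (.node (nat_lit 0xe476dcdae) (.leaf (nat_lit 0xe1d687f74) (nat_lit 1283))
 (.leaf (nat_lit 0xe476dcdae) (nat_lit 1792))
)) (.node (nat_lit 0xe48418dea) (.node (nat_lit 0xe48418bfa) (.leaf (nat_lit 0xe4775abb6) (nat_lit 1536))
 (.leaf (nat_lit 0xe48418bfa) (nat_lit 1536))
) (.node (nat_lit 0xe50609d2e) (.leaf (nat_lit 0xe48418dea) (nat_lit 1538))
 (.node (nat_lit 0xe50609f36) (.leaf (nat_lit 0xe50609d2e) (nat_lit 1024))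
 (.leaf (nat_lit 0xe50609f36) (nat_lit 1538))
))))))) (.node (nat_lit 0x103819f2da) (.node (nat_lit 0xfdfdeff7a) (.node (nat_lit 0xf9deb5bfc) (.node (nat_lit 0xe5f54bf7a) (.node (nat_lit 0xe58409d6a) (.node (nat_lit 0xe58211efc) (.leaf (nat_lit 0xe58211af4) (nat_lit 1795))
 (.leaf (nat_lit 0xe58211efc) (nat_lit 1794))
) (.node (nat_lit 0xe5f2d5efc) (.leaf (nat_lit 0xe58409d6a) (nat_lit 1282))
 (.leaf (nat_lit 0xe5f2d5efc) (nat_lit 1536))
)) (.node (nat_lit 0xf97ef7bb4) (.node (nat_lit 0xf8fbfcaf6) (.leaf (nat_lit 0xe5f54bf7a) (nat_lit 1281))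
 (.leaf (nat_lit 0xf8fbfcaf6) (nat_lit 2050))
) (.node (nat_lit 0xf9aafdef6) (.leaf (nat_lit 0xf97ef7bb4) (nat_lit 1280))
 (.leaf (nat_lit 0xf9aafdef6) (nat_lit 2048))
))) (.node (nat_lit 0xfcdf2ad6e) (.node (nat_lit 0xfc7deed2a) (.node (nat_lit 0xfc7bf6ab4) (.leaf (nat_lit 0xf9deb5bfc) (nat_lit 1539))
 (.leaf (nat_lit 0xfc7bf6ab4) (nat_lit 1538))
) (.node (nat_lit 0xfcdbb4afc) (.leaf (nat_lit 0xfc7deed2a) (nat_lit 1282))
 (.leaf (nat_lit 0xfcdbb4afc) (nat_lit 1538))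
)) (.node (nat_lit 0xfd2d7bdaa) (.node (nat_lit 0xfd2af7eb4) (.leaf (nat_lit 0xfcdf2ad6e) (nat_lit 1538))
 (.leaf (nat_lit 0xfd2af7eb4) (nat_lit 1794))
) (.node (nat_lit 0xfd8ab5efc) (.leaf (nat_lit 0xfd2d7bdaa) (nat_lit 1283))
 (.node (nat_lit 0xfd8d2bf7a) (.leaf (nat_lit 0xfd8ab5efc) (nat_lit 1538))
 (.leaf (nat_lit 0xfd8d2bf7a) (nat_lit 512))
))))) (.node (nat_lit 0x10275d4798) (.node (nat_lit 0x10221dc482) (.node (nat_lit 0xfdff7bdee) (.node (nat_lit 0xfdfefdbf6) (.leaf (nat_lit 0xfdfdeff7a) (nat_lit 1536))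
 (.leaf (nat_lit 0xfdfefdbf6) (nat_lit 1536))
) (.node (nat_lit 0x102214a402) (.leaf (nat_lit 0xfdff7bdee) (nat_lit 1794))
 (.leaf (nat_lit 0x102214a402) (nat_lit 1025))
)) (.node (nat_lit 0x102568610c) (.node (nat_lit 0x1025502108) (.leaf (nat_lit 0x10221dc482) (nat_lit 1281))
 (.leaf (nat_lit 0x1025502108) (nat_lit 1794))
) (.node (nat_lit 0x10272ce61e) (.leaf (nat_lit 0x102568610c) (nat_lit 1537))
 (.leaf (nat_lit 0x10272ce61e) (nat_lit 1536))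
))) (.node (nat_lit 0x102d7127d4) (.node (nat_lit 0x1028308656) (.node (nat_lit 0x102810844a) (.leaf (nat_lit 0x10275d4798) (nat_lit 768))
 (.leaf (nat_lit 0x102810844a) (nat_lit 768))
) (.node (nat_lit 0x102d29e4ce) (.leaf (nat_lit 0x1028308656) (nat_lit 1283))
 (.leaf (nat_lit 0x102d29e4ce) (nat_lit 1794))
)) (.node (nat_lit 0x1030413398) (.node (nat_lit 0x1030403508) (.leaf (nat_lit 0x102d7127d4) (nat_lit 1283))
 (.leaf (nat_lit 0x1030403508) (nat_lit 1794))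
) (.node (nat_lit 0x103235b29e) (.leaf (nat_lit 0x1030413398) (nat_lit 1538))
 (.node (nat_lit 0x10327d558c) (.leaf (nat_lit 0x103235b29e) (nat_lit 1536))
 (.leaf (nat_lit 0x10327d558c) (nat_lit 1280))
)))))) (.node (nat_lit 0x106060831e) (.node (nat_lit 0x1060210084) (.node (nat_lit 0x1060084210) (.node (nat_lit 0x103f3dd6d6) (.node (nat_lit 0x1038787754) (.leaf (nat_lit 0x103819f2da) (nat_lit 1537))
 (.leaf (nat_lit 0x1038787754) (nat_lit 1793))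
) (.node (nat_lit 0x103f6d73dc) (.leaf (nat_lit 0x103f3dd6d6) (nat_lit 2049))
 (.leaf (nat_lit 0x103f6d73dc) (nat_lit 1538))
)) (.node (nat_lit 0x1060102408) (.node (nat_lit 0x1060086610) (.leaf (nat_lit 0x1060084210) (nat_lit 2048))
 (.leaf (nat_lit 0x1060086610) (nat_lit 1538))
) (.node (nat_lit 0x1060184218) (.leaf (nat_lit 0x1060102408) (nat_lit 1793))
 (.leaf (nat_lit 0x1060184218) (nat_lit 2050))
))) (.node (nat_lit 0x1060418182) (.node (nat_lit 0x1060312084) (.node (nat_lit 0x106021048c) (.leaf (nat_lit 0x1060210084) (nat_lit 2048))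
 (.leaf (nat_lit 0x106021048c) (nat_lit 1538))
) (.node (nat_lit 0x1060408312) (.leaf (nat_lit 0x1060312084) (nat_lit 1792))
 (.leaf (nat_lit 0x1060408312) (nat_lit 1282))
)) (.node (nat_lit 0x106048c102) (.node (nat_lit 0x1060418792) (.leaf (nat_lit 0x1060418182) (nat_lit 1282))
 (.leaf (nat_lit 0x1060418792) (nat_lit 2050))
) (.node (nat_lit 0x106049e182) (.leaf (nat_lit 0x106048c102) (nat_lit 513))
 (.node (nat_lit 0x1060608106) (.leaf (nat_lit 0x106049e182) (nat_lit 258))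
 (.leaf (nat_lit 0x1060608106) (nat_lit 769))
))))) (.node (nat_lit 0x10672d4084) (.node (nat_lit 0x10624dc182) (.node (nat_lit 0x106245a182) (.node (nat_lit 0x106078c106) (.leaf (nat_lit 0x106060831e) (nat_lit 514))
 (.leaf (nat_lit 0x106078c106) (nat_lit 2048))
) (.node (nat_lit 0x10624ce102) (.leaf (nat_lit 0x106245a182) (nat_lit 1026))
 (.leaf (nat_lit 0x10624ce102) (nat_lit 257))
)) (.node (nat_lit 0x106568c106) (.node (nat_lit 0x106558c102) (.leaf (nat_lit 0x10624dc182) (nat_lit 514))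
 (.leaf (nat_lit 0x106558c102) (nat_lit 1538))
) (.node (nat_lit 0x1065708106) (.leaf (nat_lit 0x106568c106) (nat_lit 1793))
 (.leaf (nat_lit 0x1065708106) (nat_lit 1538))
))) (.node (nat_lit 0x106860814e) (.node (nat_lit 0x106754a102) (.node (nat_lit 0x10673d6084) (.leaf (nat_lit 0x10672d4084) (nat_lit 1024))
 (.leaf (nat_lit 0x10673d6084) (nat_lit 1794))
) (.node (nat_lit 0x106840835a) (.leaf (nat_lit 0x106754a102) (nat_lit 1282))
 (.leaf (nat_lit 0x106840835a) (nat_lit 1026))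
)) (.node (nat_lit 0x106d284254) (.node (nat_lit 0x1068608356) (.leaf (nat_lit 0x106860814e) (nat_lit 513))
 (.leaf (nat_lit 0x1068608356) (nat_lit 770))
) (.node (nat_lit 0x106d38425c) (.leaf (nat_lit 0x106d284254) (nat_lit 1539))
 (.node (nat_lit 0x106d50814a) (.leaf (nat_lit 0x106d38425c) (nat_lit 1794))
 (.leaf (nat_lit 0x106d50814a) (nat_lit 1282))
))))))))) (.node (nat_lit 0x18a043a182) (.node (nat_lit 0x1368b84274) (.node (nat_lit 0x1168e8c14e) (.node (nat_lit 0x10e553a182) (.node (nat_lit 0x107840954a) (.node (nat_lit 0x10720d7690) (.node (nat_lit 0x1070419582) (.node (nat_lit 0x1070419392) (.leaf (nat_lit 0x1070409712) (nat_lit 1538))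
 (.leaf (nat_lit 0x1070419392) (nat_lit 1794))
) (.node (nat_lit 0x10720d5290) (.leaf (nat_lit 0x1070419582) (nat_lit 1282))
 (.leaf (nat_lit 0x10720d5290) (nat_lit 1536))
)) (.node (nat_lit 0x10782112d4) (.node (nat_lit 0x107244b502) (.leaf (nat_lit 0x10720d7690) (nat_lit 1794))
 (.leaf (nat_lit 0x107244b502) (nat_lit 1026))
) (.node (nat_lit 0x10782116dc) (.leaf (nat_lit 0x10782112d4) (nat_lit 1794))
 (.leaf (nat_lit 0x10782116dc) (nat_lit 2050))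
))) (.node (nat_lit 0x10a012a402) (.node (nat_lit 0x107f6dd3d6) (.node (nat_lit 0x107f5cf75a) (.leaf (nat_lit 0x107840954a) (nat_lit 1282))
 (.leaf (nat_lit 0x107f5cf75a) (nat_lit 1538))
) (.node (nat_lit 0x107f75b5ce) (.leaf (nat_lit 0x107f6dd3d6) (nat_lit 1794))
 (.leaf (nat_lit 0x107f75b5ce) (nat_lit 1538))
)) (.node (nat_lit 0x10a216a402) (.node (nat_lit 0x10a01bc482) (.leaf (nat_lit 0x10a012a402) (nat_lit 770))
 (.leaf (nat_lit 0x10a01bc482) (nat_lit 1026))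
) (.node (nat_lit 0x10a21fc482) (.leaf (nat_lit 0x10a216a402) (nat_lit 770))
 (.leaf (nat_lit 0x10a21fc482) (nat_lit 1026))
)))) (.node (nat_lit 0x1120d02108) (.node (nat_lit 0x10f04af502) (.node (nat_lit 0x10e757a182) (.node (nat_lit 0x10e55bc182) (.leaf (nat_lit 0x10e553a182) (nat_lit 769))
 (.leaf (nat_lit 0x10e55bc182) (nat_lit 1025))
) (.node (nat_lit 0x10e75fc182) (.leaf (nat_lit 0x10e757a182) (nat_lit 769))
 (.leaf (nat_lit 0x10e75fc182) (nat_lit 1025))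
)) (.node (nat_lit 0x10f24ef502) (.node (nat_lit 0x10f04bd582) (.leaf (nat_lit 0x10f04af502) (nat_lit 1282))
 (.leaf (nat_lit 0x10f04bd582) (nat_lit 1282))
) (.node (nat_lit 0x10f24fd582) (.leaf (nat_lit 0x10f24ef502) (nat_lit 1026))
 (.leaf (nat_lit 0x10f24fd582) (nat_lit 1538))
))) (.node (nat_lit 0x1162ece106) (.node (nat_lit 0x1125d02108) (.node (nat_lit 0x1120e8610c) (.leaf (nat_lit 0x1120d02108) (nat_lit 1792))
 (.leaf (nat_lit 0x1120e8610c) (nat_lit 1280))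
) (.node (nat_lit 0x1125e8610c) (.leaf (nat_lit 0x1125d02108) (nat_lit 2050))
 (.leaf (nat_lit 0x1125e8610c) (nat_lit 1280))
)) (.node (nat_lit 0x1167ece106) (.node (nat_lit 0x1162f4a106) (.leaf (nat_lit 0x1162ece106) (nat_lit 1280))
 (.leaf (nat_lit 0x1162f4a106) (nat_lit 2050))
) (.node (nat_lit 0x1167f4a106) (.leaf (nat_lit 0x1167ece106) (nat_lit 1792))
 (.node (nat_lit 0x1168d8c14a) (.leaf (nat_lit 0x1167f4a106) (nat_lit 2050))
 (.leaf (nat_lit 0x1168d8c14a) (nat_lit 1792))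
)))))) (.node (nat_lit 0x122810846a) (.node (nat_lit 0x11e2bf4084) (.node (nat_lit 0x11a0db4798) (.node (nat_lit 0x116de8c14e) (.node (nat_lit 0x116dd8c14a) (.leaf (nat_lit 0x1168e8c14e) (nat_lit 1280))
 (.leaf (nat_lit 0x116dd8c14a) (nat_lit 1792))
) (.node (nat_lit 0x11a0aae61e) (.leaf (nat_lit 0x116de8c14e) (nat_lit 1537))
 (.leaf (nat_lit 0x11a0aae61e) (nat_lit 1538))
)) (.node (nat_lit 0x11a7df4798) (.node (nat_lit 0x11a7aee61e) (.leaf (nat_lit 0x11a0db4798) (nat_lit 1281))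
 (.leaf (nat_lit 0x11a7aee61e) (nat_lit 1538))
) (.node (nat_lit 0x11e2af6084) (.leaf (nat_lit 0x11a7df4798) (nat_lit 1025))
 (.leaf (nat_lit 0x11e2af6084) (nat_lit 1537))
))) (.node (nat_lit 0x11f8d2b75a) (.node (nat_lit 0x11e5bb4084) (.node (nat_lit 0x11e5ab6084) (.leaf (nat_lit 0x11e2bf4084) (nat_lit 1794))
 (.leaf (nat_lit 0x11e5ab6084) (nat_lit 1025))
) (.node (nat_lit 0x11f8ab56dc) (.leaf (nat_lit 0x11e5bb4084) (nat_lit 1794))
 (.leaf (nat_lit 0x11f8ab56dc) (nat_lit 1794))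
)) (.node (nat_lit 0x11ffd6b75a) (.node (nat_lit 0x11ffaf56dc) (.leaf (nat_lit 0x11f8d2b75a) (nat_lit 1025))
 (.leaf (nat_lit 0x11ffaf56dc) (nat_lit 1538))
) (.node (nat_lit 0x122010842a) (.leaf (nat_lit 0x11ffd6b75a) (nat_lit 1025))
 (.node (nat_lit 0x1220308636) (.leaf (nat_lit 0x122010842a) (nat_lit 1026))
 (.leaf (nat_lit 0x1220308636) (nat_lit 1282))
))))) (.node (nat_lit 0x127860956e) (.node (nat_lit 0x126d50837a) (.node (nat_lit 0x126550833a) (.node (nat_lit 0x1228308676) (.leaf (nat_lit 0x122810846a) (nat_lit 1026))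
 (.leaf (nat_lit 0x1228308676) (nat_lit 1282))
) (.node (nat_lit 0x1265708336) (.leaf (nat_lit 0x126550833a) (nat_lit 1027))
 (.leaf (nat_lit 0x1265708336) (nat_lit 1281))
)) (.node (nat_lit 0x127060952e) (.node (nat_lit 0x126d708376) (.leaf (nat_lit 0x126d50837a) (nat_lit 1025))
 (.leaf (nat_lit 0x126d708376) (nat_lit 1283))
) (.node (nat_lit 0x1270609736) (.leaf (nat_lit 0x127060952e) (nat_lit 1026))
 (.leaf (nat_lit 0x1270609736) (nat_lit 1539))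
))) (.node (nat_lit 0x132da9e4ee) (.node (nat_lit 0x1320a9e4ae) (.node (nat_lit 0x1278609776) (.leaf (nat_lit 0x127860956e) (nat_lit 1283))
 (.leaf (nat_lit 0x1278609776) (nat_lit 1538))
) (.node (nat_lit 0x1320f127b4) (.leaf (nat_lit 0x1320a9e4ae) (nat_lit 1794))
 (.leaf (nat_lit 0x1320f127b4) (nat_lit 1281))
)) (.node (nat_lit 0x1365a8423c) (.node (nat_lit 0x132df127f4) (.leaf (nat_lit 0x132da9e4ee) (nat_lit 1794))
 (.leaf (nat_lit 0x132df127f4) (nat_lit 1027))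
) (.node (nat_lit 0x1365b84234) (.leaf (nat_lit 0x1365a8423c) (nat_lit 1283))
 (.node (nat_lit 0x1368a8427c) (.leaf (nat_lit 0x1365b84234) (nat_lit 2050))
 (.leaf (nat_lit 0x1368a8427c) (nat_lit 1281))
))))))) (.node (nat_lit 0x16675ced2a) (.node (nat_lit 0x14a033aa9e) (.node (nat_lit 0x1430413b98) (.node (nat_lit 0x137fd5b5ea) (.node (nat_lit 0x1372d5b5aa) (.node (nat_lit 0x1372ad76b4) (.leaf (nat_lit 0x1368b84274) (nat_lit 2050))
 (.leaf (nat_lit 0x1372ad76b4) (nat_lit 1794))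
) (.node (nat_lit 0x137fad76f4) (.leaf (nat_lit 0x1372d5b5aa) (nat_lit 771))
 (.leaf (nat_lit 0x137fad76f4) (nat_lit 1795))
)) (.node (nat_lit 0x1420412b98) (.node (nat_lit 0x1420402d08) (.leaf (nat_lit 0x137fd5b5ea) (nat_lit 1281))
 (.leaf (nat_lit 0x1420402d08) (nat_lit 1536))
) (.node (nat_lit 0x1430403d08) (.leaf (nat_lit 0x1420412b98) (nat_lit 1794))
 (.leaf (nat_lit 0x1430403d08) (nat_lit 1794))
))) (.node (nat_lit 0x1468418dca) (.node (nat_lit 0x146245ab92) (.node (nat_lit 0x146244af12) (.leaf (nat_lit 0x1430413b98) (nat_lit 1538))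
 (.leaf (nat_lit 0x146244af12) (nat_lit 1795))
) (.node (nat_lit 0x1468418bda) (.leaf (nat_lit 0x146245ab92) (nat_lit 1792))
 (.leaf (nat_lit 0x1468418bda) (nat_lit 1538))
)) (.node (nat_lit 0x147245bb92) (.node (nat_lit 0x147244bf12) (.leaf (nat_lit 0x1468418dca) (nat_lit 1536))
 (.leaf (nat_lit 0x147244bf12) (nat_lit 1794))
) (.node (nat_lit 0x1478419bda) (.leaf (nat_lit 0x147245bb92) (nat_lit 1792))
 (.node (nat_lit 0x1478419dca) (.leaf (nat_lit 0x1478419bda) (nat_lit 1794))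
 (.leaf (nat_lit 0x1478419dca) (nat_lit 1794))
))))) (.node (nat_lit 0x14f00b5e90) (.node (nat_lit 0x14e20f4e90) (.node (nat_lit 0x14b237ba9e) (.node (nat_lit 0x14a07b4d8c) (.leaf (nat_lit 0x14a033aa9e) (nat_lit 1282))
 (.leaf (nat_lit 0x14a07b4d8c) (nat_lit 1794))
) (.node (nat_lit 0x14b27f5d8c) (.leaf (nat_lit 0x14b237ba9e) (nat_lit 1538))
 (.leaf (nat_lit 0x14b27f5d8c) (nat_lit 1537))
)) (.node (nat_lit 0x14ed3b4adc) (.node (nat_lit 0x14e20f6a90) (.leaf (nat_lit 0x14e20f4e90) (nat_lit 1794))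
 (.leaf (nat_lit 0x14e20f6a90) (nat_lit 1538))
) (.node (nat_lit 0x14ed72ad4e) (.leaf (nat_lit 0x14ed3b4adc) (nat_lit 1538))
 (.leaf (nat_lit 0x14ed72ad4e) (nat_lit 1539))
))) (.node (nat_lit 0x162019eaba) (.node (nat_lit 0x14ff3f5adc) (.node (nat_lit 0x14f00b7a90) (.leaf (nat_lit 0x14f00b5e90) (nat_lit 1794))
 (.leaf (nat_lit 0x14f00b7a90) (nat_lit 1538))
) (.node (nat_lit 0x14ff76bd4e) (.leaf (nat_lit 0x14ff3f5adc) (nat_lit 1282))
 (.leaf (nat_lit 0x14ff76bd4e) (nat_lit 1537))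
)) (.node (nat_lit 0x163819fafa) (.node (nat_lit 0x1620786f34) (.leaf (nat_lit 0x162019eaba) (nat_lit 1282))
 (.leaf (nat_lit 0x1620786f34) (nat_lit 1538))
) (.node (nat_lit 0x1638787f74) (.leaf (nat_lit 0x163819fafa) (nat_lit 1282))
 (.node (nat_lit 0x16673d6ab4) (.leaf (nat_lit 0x1638787f74) (nat_lit 1538))
 (.leaf (nat_lit 0x16673d6ab4) (nat_lit 1538))
)))))) (.node (nat_lit 0x17f8ebddee) (.node (nat_lit 0x17a0eb6bbc) (.node (nat_lit 0x1670211eb4) (.node (nat_lit 0x1668210ef4) (.node (nat_lit 0x1668210afc) (.leaf (nat_lit 0x16675ced2a) (nat_lit 1793))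
 (.leaf (nat_lit 0x1668210afc) (nat_lit 1538))
) (.node (nat_lit 0x1670211abc) (.leaf (nat_lit 0x1668210ef4) (nat_lit 2050))
 (.leaf (nat_lit 0x1670211abc) (nat_lit 1794))
)) (.node (nat_lit 0x167f5cfd6a) (.node (nat_lit 0x167f3d7af4) (.leaf (nat_lit 0x1670211eb4) (nat_lit 1794))
 (.leaf (nat_lit 0x167f3d7af4) (nat_lit 1539))
) (.node (nat_lit 0x17a0bbceb6) (.leaf (nat_lit 0x167f5cfd6a) (nat_lit 1538))
 (.leaf (nat_lit 0x17a0bbceb6) (nat_lit 1792))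
))) (.node (nat_lit 0x17e7f7abb6) (.node (nat_lit 0x17bfef7bfc) (.node (nat_lit 0x17bfbfdef6) (.leaf (nat_lit 0x17a0eb6bbc) (nat_lit 1280))
 (.leaf (nat_lit 0x17bfbfdef6) (nat_lit 1792))
) (.node (nat_lit 0x17e7efcdae) (.leaf (nat_lit 0x17bfef7bfc) (nat_lit 1280))
 (.leaf (nat_lit 0x17e7efcdae) (nat_lit 1536))
)) (.node (nat_lit 0x17edeaef76) (.node (nat_lit 0x17eddbcbfa) (.leaf (nat_lit 0x17e7f7abb6) (nat_lit 1792))
 (.leaf (nat_lit 0x17eddbcbfa) (nat_lit 1280))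
) (.node (nat_lit 0x17f2dfdbba) (.leaf (nat_lit 0x17edeaef76) (nat_lit 2050))
 (.node (nat_lit 0x17f2eeff36) (.leaf (nat_lit 0x17f2dfdbba) (nat_lit 1280))
 (.leaf (nat_lit 0x17f2eeff36) (nat_lit 1538))
))))) (.node (nat_lit 0x1820312084) (.node (nat_lit 0x1820102408) (.node (nat_lit 0x1820084210) (.node (nat_lit 0x17f8f3bbf6) (.leaf (nat_lit 0x17f8ebddee) (nat_lit 1794))
 (.leaf (nat_lit 0x17f8f3bbf6) (nat_lit 1539))
) (.node (nat_lit 0x1820086610) (.leaf (nat_lit 0x1820084210) (nat_lit 2050))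
 (.leaf (nat_lit 0x1820086610) (nat_lit 1538))
)) (.node (nat_lit 0x1820210084) (.node (nat_lit 0x1820184218) (.leaf (nat_lit 0x1820102408) (nat_lit 1538))
 (.leaf (nat_lit 0x1820184218) (nat_lit 1792))
) (.node (nat_lit 0x182021048c) (.leaf (nat_lit 0x1820210084) (nat_lit 2050))
 (.leaf (nat_lit 0x182021048c) (nat_lit 1538))
))) (.node (nat_lit 0x182048c102) (.node (nat_lit 0x1820418182) (.node (nat_lit 0x1820408312) (.leaf (nat_lit 0x1820312084) (nat_lit 1794))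
 (.leaf (nat_lit 0x1820408312) (nat_lit 1794))
) (.node (nat_lit 0x1820418792) (.leaf (nat_lit 0x1820418182) (nat_lit 1538))
 (.leaf (nat_lit 0x1820418792) (nat_lit 1792))
)) (.node (nat_lit 0x1820608106) (.node (nat_lit 0x182049e182) (.leaf (nat_lit 0x182048c102) (nat_lit 256))
 (.leaf (nat_lit 0x182049e182) (nat_lit 769))
) (.node (nat_lit 0x182060831e) (.leaf (nat_lit 0x1820608106) (nat_lit 515))
 (.node (nat_lit 0x182078c106) (.leaf (nat_lit 0x182060831e) (nat_lit 769))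
 (.leaf (nat_lit 0x182078c106) (nat_lit 2050))
)))))))) (.node (nat_lit 0x1b32bd52bc) (.node (nat_lit 0x19a2d7a182) (.node (nat_lit 0x1920e8c106) (.node (nat_lit 0x18b043b392) (.node (nat_lit 0x18a572a106) (.node (nat_lit 0x18a04bc182) (.node (nat_lit 0x18a04ae102) (.leaf (nat_lit 0x18a043a182) (nat_lit 1282))
 (.leaf (nat_lit 0x18a04ae102) (nat_lit 0))
) (.node (nat_lit 0x18a56ae106) (.leaf (nat_lit 0x18a04bc182) (nat_lit 1025))
 (.leaf (nat_lit 0x18a56ae106) (nat_lit 1793))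
)) (.node (nat_lit 0x18a73f4084) (.node (nat_lit 0x18a72f6084) (.leaf (nat_lit 0x18a572a106) (nat_lit 2050))
 (.leaf (nat_lit 0x18a72f6084) (nat_lit 768))
) (.node (nat_lit 0x18b042b712) (.leaf (nat_lit 0x18a73f4084) (nat_lit 1794))
 (.leaf (nat_lit 0x18b042b712) (nat_lit 1792))
))) (.node (nat_lit 0x18ed2bc4ce) (.node (nat_lit 0x18b20f7290) (.node (nat_lit 0x18b20f5690) (.leaf (nat_lit 0x18b043b392) (nat_lit 1795))
 (.leaf (nat_lit 0x18b20f5690) (nat_lit 1538))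
) (.node (nat_lit 0x18e812a44a) (.leaf (nat_lit 0x18b20f7290) (nat_lit 1795))
 (.leaf (nat_lit 0x18e812a44a) (nat_lit 1024))
)) (.node (nat_lit 0x18ff6f53dc) (.node (nat_lit 0x18f81bd2da) (.leaf (nat_lit 0x18ed2bc4ce) (nat_lit 1538))
 (.leaf (nat_lit 0x18f81bd2da) (nat_lit 1792))
) (.node (nat_lit 0x1920d8c102) (.leaf (nat_lit 0x18ff6f53dc) (nat_lit 1282))
 (.leaf (nat_lit 0x1920d8c102) (nat_lit 1538))
)))) (.node (nat_lit 0x192da8425c) (.node (nat_lit 0x1927ad6084) (.node (nat_lit 0x1922d5a182) (.node (nat_lit 0x1920f08106) (.leaf (nat_lit 0x1920e8c106) (nat_lit 1536))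
 (.leaf (nat_lit 0x1920f08106) (nat_lit 1538))
) (.node (nat_lit 0x1922ddc182) (.leaf (nat_lit 0x1922d5a182) (nat_lit 514))
 (.leaf (nat_lit 0x1922ddc182) (nat_lit 770))
)) (.node (nat_lit 0x1928d0835a) (.node (nat_lit 0x1927bd4084) (.leaf (nat_lit 0x1927ad6084) (nat_lit 1281))
 (.leaf (nat_lit 0x1927bd4084) (nat_lit 1792))
) (.node (nat_lit 0x1928f08356) (.leaf (nat_lit 0x1928d0835a) (nat_lit 771))
 (.leaf (nat_lit 0x1928f08356) (nat_lit 1027))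
))) (.node (nat_lit 0x1978e87754) (.node (nat_lit 0x1970d03508) (.node (nat_lit 0x192db84254) (.leaf (nat_lit 0x192da8425c) (nat_lit 1027))
 (.leaf (nat_lit 0x192db84254) (nat_lit 2051))
) (.node (nat_lit 0x1972ed558c) (.leaf (nat_lit 0x1970d03508) (nat_lit 1280))
 (.leaf (nat_lit 0x1972ed558c) (nat_lit 1024))
)) (.node (nat_lit 0x19a0ab4084) (.node (nat_lit 0x197fadd6d6) (.leaf (nat_lit 0x1978e87754) (nat_lit 1283))
 (.leaf (nat_lit 0x197fadd6d6) (nat_lit 2306))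
) (.node (nat_lit 0x19a0bb6084) (.leaf (nat_lit 0x19a0ab4084) (nat_lit 1537))
 (.node (nat_lit 0x19a0d2a102) (.leaf (nat_lit 0x19a0bb6084) (nat_lit 1794))
 (.leaf (nat_lit 0x19a0d2a102) (nat_lit 1282))
)))))) (.node (nat_lit 0x1a2d28427c) (.node (nat_lit 0x19e8aae656) (.node (nat_lit 0x19b8bb72d4) (.node (nat_lit 0x19a5eae106) (.node (nat_lit 0x19a2dfc182) (.leaf (nat_lit 0x19a2d7a182) (nat_lit 514))
 (.leaf (nat_lit 0x19a2dfc182) (nat_lit 770))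
) (.node (nat_lit 0x19a5f2a106) (.leaf (nat_lit 0x19a5eae106) (nat_lit 1539))
 (.leaf (nat_lit 0x19a5f2a106) (nat_lit 2048))
)) (.node (nat_lit 0x19bfefd5ce) (.node (nat_lit 0x19b8daf54a) (.leaf (nat_lit 0x19b8bb72d4) (nat_lit 1794))
 (.leaf (nat_lit 0x19b8daf54a) (nat_lit 1538))
) (.node (nat_lit 0x19bff7b3d6) (.leaf (nat_lit 0x19bfefd5ce) (nat_lit 1536))
 (.leaf (nat_lit 0x19bff7b3d6) (nat_lit 1538))
))) (.node (nat_lit 0x1a2040833a) (.node (nat_lit 0x19f0db5398) (.node (nat_lit 0x19edeb47d4) (.leaf (nat_lit 0x19e8aae656) (nat_lit 1795))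
 (.leaf (nat_lit 0x19edeb47d4) (nat_lit 2049))
) (.node (nat_lit 0x19f2afd29e) (.leaf (nat_lit 0x19f0db5398) (nat_lit 1282))
 (.leaf (nat_lit 0x19f2afd29e) (nat_lit 1792))
)) (.node (nat_lit 0x1a20608336) (.node (nat_lit 0x1a2060812e) (.leaf (nat_lit 0x1a2040833a) (nat_lit 1538))
 (.leaf (nat_lit 0x1a2060812e) (nat_lit 259))
) (.node (nat_lit 0x1a2558c12a) (.leaf (nat_lit 0x1a20608336) (nat_lit 1025))
 (.node (nat_lit 0x1a2568c12e) (.leaf (nat_lit 0x1a2558c12a) (nat_lit 1792))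
 (.leaf (nat_lit 0x1a2568c12e) (nat_lit 1281))
))))) (.node (nat_lit 0x1a7235b2b6) (.node (nat_lit 0x1a382112fc) (.node (nat_lit 0x1a304193ba) (.node (nat_lit 0x1a2d384274) (.leaf (nat_lit 0x1a2d28427c) (nat_lit 1539))
 (.leaf (nat_lit 0x1a2d384274) (nat_lit 2051))
) (.node (nat_lit 0x1a304195aa) (.leaf (nat_lit 0x1a304193ba) (nat_lit 1793))
 (.leaf (nat_lit 0x1a304195aa) (nat_lit 1792))
)) (.node (nat_lit 0x1a6214a42a) (.node (nat_lit 0x1a382116f4) (.leaf (nat_lit 0x1a382112fc) (nat_lit 1536))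
 (.leaf (nat_lit 0x1a382116f4) (nat_lit 1795))
) (.node (nat_lit 0x1a672ce636) (.leaf (nat_lit 0x1a6214a42a) (nat_lit 1282))
 (.leaf (nat_lit 0x1a672ce636) (nat_lit 1794))
))) (.node (nat_lit 0x1b20d0812a) (.node (nat_lit 0x1b20a84234) (.node (nat_lit 0x1a7f6d73f4) (.leaf (nat_lit 0x1a7235b2b6) (nat_lit 1792))
 (.leaf (nat_lit 0x1a7f6d73f4) (nat_lit 1281))
) (.node (nat_lit 0x1b20b8423c) (.leaf (nat_lit 0x1b20a84234) (nat_lit 1537))
 (.leaf (nat_lit 0x1b20b8423c) (nat_lit 1792))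
)) (.node (nat_lit 0x1b25e8c12e) (.node (nat_lit 0x1b25d8c12a) (.leaf (nat_lit 0x1b20d0812a) (nat_lit 1282))
 (.leaf (nat_lit 0x1b25d8c12a) (nat_lit 1794))
) (.node (nat_lit 0x1b28d0837a) (.leaf (nat_lit 0x1b25e8c12e) (nat_lit 1536))
 (.node (nat_lit 0x1b28f08376) (.leaf (nat_lit 0x1b28d0837a) (nat_lit 771))
 (.leaf (nat_lit 0x1b28f08376) (nat_lit 1027))
))))))) (.node (nat_lit 0x1ce56b4d8c) (.node (nat_lit 0x1c38211adc) (.node (nat_lit 0x1c20408f12) (.node (nat_lit 0x1b62adc4ae) (.node (nat_lit 0x1b3fddd3fa) (.node (nat_lit 0x1b32f4b52e) (.leaf (nat_lit 0x1b32bd52bc) (nat_lit 1538))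
 (.leaf (nat_lit 0x1b32f4b52e) (nat_lit 1282))
) (.node (nat_lit 0x1b3fecf776) (.leaf (nat_lit 0x1b3fddd3fa) (nat_lit 1538))
 (.leaf (nat_lit 0x1b3fecf776) (nat_lit 1536))
)) (.node (nat_lit 0x1b70f133b4) (.node (nat_lit 0x1b67ed47b4) (.leaf (nat_lit 0x1b62adc4ae) (nat_lit 1793))
 (.leaf (nat_lit 0x1b67ed47b4) (nat_lit 1792))
) (.node (nat_lit 0x1b78a9f2f6) (.leaf (nat_lit 0x1b70f133b4) (nat_lit 1282))
 (.leaf (nat_lit 0x1b78a9f2f6) (nat_lit 1793))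
))) (.node (nat_lit 0x1c224dcd82) (.node (nat_lit 0x1c20418d82) (.node (nat_lit 0x1c20418b92) (.leaf (nat_lit 0x1c20408f12) (nat_lit 1282))
 (.leaf (nat_lit 0x1c20418b92) (nat_lit 1792))
) (.node (nat_lit 0x1c224ced02) (.leaf (nat_lit 0x1c20418d82) (nat_lit 1282))
 (.leaf (nat_lit 0x1c224ced02) (nat_lit 1026))
)) (.node (nat_lit 0x1c28608f56) (.node (nat_lit 0x1c28608d4e) (.leaf (nat_lit 0x1c224dcd82) (nat_lit 1537))
 (.leaf (nat_lit 0x1c28608d4e) (nat_lit 1026))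
) (.node (nat_lit 0x1c320d5e90) (.leaf (nat_lit 0x1c28608f56) (nat_lit 1539))
 (.node (nat_lit 0x1c320d7a90) (.leaf (nat_lit 0x1c320d5e90) (nat_lit 1536))
 (.leaf (nat_lit 0x1c320d7a90) (nat_lit 1538))
))))) (.node (nat_lit 0x1ca042ad02) (.node (nat_lit 0x1c6d712bd4) (.node (nat_lit 0x1c65502d08) (.node (nat_lit 0x1c38211ed4) (.leaf (nat_lit 0x1c38211adc) (nat_lit 1538))
 (.leaf (nat_lit 0x1c38211ed4) (nat_lit 1795))
) (.node (nat_lit 0x1c675d4b98) (.leaf (nat_lit 0x1c65502d08) (nat_lit 1793))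
 (.leaf (nat_lit 0x1c675d4b98) (nat_lit 1280))
)) (.node (nat_lit 0x1ca00b4a90) (.node (nat_lit 0x1c7f3ddad6) (.leaf (nat_lit 0x1c6d712bd4) (nat_lit 1282))
 (.leaf (nat_lit 0x1c7f3ddad6) (nat_lit 1794))
) (.node (nat_lit 0x1ca00b6e90) (.leaf (nat_lit 0x1ca00b4a90) (nat_lit 2050))
 (.leaf (nat_lit 0x1ca00b6e90) (nat_lit 1794))
))) (.node (nat_lit 0x1cad53adca) (.node (nat_lit 0x1ca24fcd82) (.node (nat_lit 0x1ca24eed02) (.leaf (nat_lit 0x1ca042ad02) (nat_lit 1026))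
 (.leaf (nat_lit 0x1ca24eed02) (nat_lit 1281))
) (.node (nat_lit 0x1cad2b6ed4) (.leaf (nat_lit 0x1ca24fcd82) (nat_lit 1282))
 (.leaf (nat_lit 0x1cad2b6ed4) (nat_lit 1795))
)) (.node (nat_lit 0x1cb043bb92) (.node (nat_lit 0x1cb042bf12) (.leaf (nat_lit 0x1cad53adca) (nat_lit 1027))
 (.leaf (nat_lit 0x1cb042bf12) (nat_lit 1794))
) (.node (nat_lit 0x1cbf5fdbda) (.leaf (nat_lit 0x1cb043bb92) (nat_lit 2051))
 (.node (nat_lit 0x1cbf6eff56) (.leaf (nat_lit 0x1cbf5fdbda) (nat_lit 1537))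
 (.leaf (nat_lit 0x1cbf6eff56) (nat_lit 1795))
)))))) (.node (nat_lit 0x1e6d29eaf6) (.node (nat_lit 0x1e2754af3a) (.node (nat_lit 0x1e20210ab4) (.node (nat_lit 0x1ce833aad6) (.node (nat_lit 0x1ce72fca9e) (.leaf (nat_lit 0x1ce56b4d8c) (nat_lit 1281))
 (.leaf (nat_lit 0x1ce72fca9e) (nat_lit 1280))
) (.node (nat_lit 0x1cf87b5bd4) (.leaf (nat_lit 0x1ce833aad6) (nat_lit 1794))
 (.leaf (nat_lit 0x1cf87b5bd4) (nat_lit 1538))
)) (.node (nat_lit 0x1e20408d2a) (.node (nat_lit 0x1e20210ebc) (.leaf (nat_lit 0x1e20210ab4) (nat_lit 1792))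
 (.leaf (nat_lit 0x1e20210ebc) (nat_lit 1794))
) (.node (nat_lit 0x1e272d4ebc) (.leaf (nat_lit 0x1e20408d2a) (nat_lit 1026))
 (.leaf (nat_lit 0x1e272d4ebc) (nat_lit 1792))
))) (.node (nat_lit 0x1e30419daa) (.node (nat_lit 0x1e28608f76) (.node (nat_lit 0x1e28608d6e) (.leaf (nat_lit 0x1e2754af3a) (nat_lit 769))
 (.leaf (nat_lit 0x1e28608d6e) (nat_lit 1024))
) (.node (nat_lit 0x1e30419bba) (.leaf (nat_lit 0x1e28608f76) (nat_lit 1282))
 (.leaf (nat_lit 0x1e30419bba) (nat_lit 1536))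
)) (.node (nat_lit 0x1e3f75bbf6) (.node (nat_lit 0x1e3f6dddee) (.leaf (nat_lit 0x1e30419daa) (nat_lit 1794))
 (.leaf (nat_lit 0x1e3f6dddee) (nat_lit 1536))
) (.node (nat_lit 0x1e621dcaba) (.leaf (nat_lit 0x1e3f75bbf6) (nat_lit 1536))
 (.node (nat_lit 0x1e65686f34) (.leaf (nat_lit 0x1e621dcaba) (nat_lit 1794))
 (.leaf (nat_lit 0x1e65686f34) (nat_lit 1537))
))))) (.node (nat_lit 0x1fadd3adea) (.node (nat_lit 0x1fa0f3adae) (.node (nat_lit 0x1fa0daef3a) (.node (nat_lit 0x1e727d5bb4) (.leaf (nat_lit 0x1e6d29eaf6) (nat_lit 1536))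
 (.leaf (nat_lit 0x1e727d5bb4) (nat_lit 1280))
) (.node (nat_lit 0x1fa0ebcbb6) (.leaf (nat_lit 0x1fa0daef3a) (nat_lit 1538))
 (.leaf (nat_lit 0x1fa0ebcbb6) (nat_lit 1536))
)) (.node (nat_lit 0x1fa7d6af3a) (.node (nat_lit 0x1fa7af4ebc) (.leaf (nat_lit 0x1fa0f3adae) (nat_lit 1538))
 (.leaf (nat_lit 0x1fa7af4ebc) (nat_lit 1538))
) (.node (nat_lit 0x1fadab6ef4) (.leaf (nat_lit 0x1fa7d6af3a) (nat_lit 768))
 (.leaf (nat_lit 0x1fadab6ef4) (nat_lit 1794))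
))) (.node (nat_lit 0x1fb8dafd6a) (.node (nat_lit 0x1fb2f6bd2e) (.node (nat_lit 0x1fb2bf5abc) (.leaf (nat_lit 0x1fadd3adea) (nat_lit 1027))
 (.leaf (nat_lit 0x1fb2bf5abc) (nat_lit 1538))
) (.node (nat_lit 0x1fb8bb7af4) (.leaf (nat_lit 0x1fb2f6bd2e) (nat_lit 1282))
 (.leaf (nat_lit 0x1fb8bb7af4) (nat_lit 1794))
)) (.node (nat_lit 0x1fe5abceb6) (.node (nat_lit 0x1fe2ef4bbc) (.leaf (nat_lit 0x1fb8dafd6a) (nat_lit 1538))
 (.leaf (nat_lit 0x1fe2ef4bbc) (nat_lit 1024))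
) (.node (nat_lit 0x1fe8eb6bf4) (.leaf (nat_lit 0x1fe5abceb6) (nat_lit 2048))
 (.node (nat_lit 0x1ff0bbdab6) (.leaf (nat_lit 0x1fe8eb6bf4) (nat_lit 1024))
 (.leaf (nat_lit 0x1ff0bbdab6) (nat_lit 1794))
))))))))))

theorem K4_ok : orbOK A2 [(nat_lit 0x10224dc182), (nat_lit 0x860408102), (nat_lit 0x850d08402), (nat_lit 0x1820402108)] (nat_lit 0x18a04ae102) K4_t (nat_lit 540) = true := by decide +kernel

end Cfsg.Agent.S38
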