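import Mathlib
import Cfsg.Agent.S38.Data
import Cfsg.Agent.S38.DataP
import Cfsg.Agent.Loc.MssSyl

/-!
An involution `t` centralising a subgroup `L ≅ U₄(2) = W(E₆)'`: letters, listed subgroups, configurations.
Model and python helper: tools/s38/m.py. Notes: stubs/Cfsg/Agent/S38/NOTES.md.
-/

set_option autoImplicit false
set_option linter.unusedSectionVars false
set_option maxRecDepth 100000
set_option synthInstance.maxSize 100000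
set_option synthInstance.maxHeartbeats 1000000

namespace Cfsg.Agent.S38

open Cfsg.Agent.Rec Cfsg.Agent.Spor Cfsg.Agent.Loc.Mss Cfsg.Agent.SF6 Subgroup

/-- Letters with the codes of `t` and of elements of `W(E₆)'`: `a_i` sign changes off `i`, `z = a5`,
`z1 = a1 a2`, `z2 = a3 a4`, `b = a1 a3`, `p = (12)(34)`, `q = (13)(24)`, `c = (123)`, `f = (12345)`, `h = (345)`,
`t1 = t a1`, `k` of order three in `C_L(z)`. -/
structure Pre (G : Type*) [Group G] where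
  (t a1 a2 a3 a4 z z1 z2 b p q c f h g t1 k : G)
  C : Cod A2 G
  rep : C.RepL cX [t, a1, a2, a3, a4, z, z1, z2, b, p, q, c, f, h, g, t1, k]
  card : Nat.card (clos [a1, c, f, g]) = 25920
  tL : t ∉ clos [a1, c, f, g]

variable {G : Type*} [Group G]

/-- The codes of `t`, `t a1`, ..., `t a5`. -/
noncomputable def omD : Dom := listDom [nth A2.one cX 0, A2.mul (nth A2.one cX 0) (nth A2.one cX 1), A2.mul (nth A2.one cX 0) (nth A2.one cX 2), A2.mul (nth A2.one cX 0) (nth A2.one cX 3), A2.mul (nth A2.one cX 0) (nth A2.one cX 4), A2.mul (nth A2.one cX 0) (nth A2.one cX 5)]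

namespace Pre

variable (s : Pre G)

/-- Generators of `L`. -/
abbrev gL : List G := [s.a1, s.c, s.f, s.g]
/-- The group `U₄(2)`. -/
def L : Subgroup G := clos s.gL
/-- The diagonal group, of order 16. -/
def A : Subgroup G := clos [s.a1, s.a2, s.a3, s.a4]
/-- `A ∩ Q`, of order 8. -/
def A0 : Subgroup G := clos [s.z1, s.z2, s.b]
/-- `⟨t⟩ × A`, of order 32. -/
def B : Subgroup G := clos [s.t, s.a1, s.a2, s.a3, s.a4]
/-- `⟨t, z⟩`. -/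
def ZT : Subgroup G := clos [s.t, s.z]
/-- `⟨z1, z2⟩`. -/
def J1 : Subgroup G := clos [s.z1, s.z2]
/-- `⟨t, z1, z2⟩`. -/
def ZJ : Subgroup G := clos [s.t, s.z1, s.z2]
/-- `Q₈ ∘ Q₈ = O₂(C_L(z))`. -/
def Q : Subgroup G := clos [s.z1, s.b, s.p, s.q]
/-- A Sylow 2-subgroup of `L`, of order 64. -/
def U : Subgroup G := clos [s.a1, s.p, s.q]
/-- `⟨t⟩ × U`. -/
def TU : Subgroup G := clos [s.t, s.a1, s.p, s.q]
/-- The even permutations. -/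
def A5 : Subgroup G := clos [s.c, s.f]
/-- `N_L(A)`, of order 960. -/
def NA : Subgroup G := clos [s.a1, s.c, s.f]
/-- `C_L(z)`, of order 576. -/
def CZ : Subgroup G := clos [s.a1, s.p, s.q, s.c, s.k]
/-- `C_L(z1)`, of order 96. -/
def CA : Subgroup G := clos [s.a1, s.a3, s.p, s.h]
/-- The 45 conjugates of `z`. -/
def K1 : Set G := cls s.gL s.z
/-- The 270 conjugates of `z1`. -/
def K2 : Set G := cls s.gL s.z1
/-- The six elements `t`, `t a_i`. -/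
def Om : Set G := {x | x ∈ [s.t, s.t * s.a1, s.t * s.a2, s.t * s.a3, s.t * s.a4, s.t * s.z]}
/-- The conjugates of `t`. -/
def D : Set G := {x | IsConj s.t x}

theorem gA : s.C.Lists A_t.dom s.A ∧ Nat.card s.A = 16 :=
  (s.rep.pick [1, 2, 3, 4]).gen A_ok
theorem gA0 : s.C.Lists A0_t.dom s.A0 ∧ Nat.card s.A0 = 8 :=
  (s.rep.pick [6, 7, 8]).gen A0_ok
theorem gB : s.C.Lists B_t.dom s.B ∧ Nat.card s.B = 32 :=
  (s.rep.pick [0, 1, 2, 3, 4]).gen B_ok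
theorem gZT : s.C.Lists ZT_t.dom s.ZT ∧ Nat.card s.ZT = 4 :=
  (s.rep.pick [0, 5]).gen ZT_ok
theorem gJ1 : s.C.Lists J1_t.dom s.J1 ∧ Nat.card s.J1 = 4 :=
  (s.rep.pick [6, 7]).gen J1_ok
theorem gZJ : s.C.Lists ZJ_t.dom s.ZJ ∧ Nat.card s.ZJ = 8 :=
  (s.rep.pick [0, 6, 7]).gen ZJ_ok
theorem gQ : s.C.Lists Q_t.dom s.Q ∧ Nat.card s.Q = 32 :=
  (s.rep.pick [6, 8, 9, 10]).gen Q_ok
theorem gU : s.C.Lists U_t.dom s.U ∧ Nat.card s.U = 64 :=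
  (s.rep.pick [1, 9, 10]).gen U_ok
theorem gTU : s.C.Lists TU_t.dom s.TU ∧ Nat.card s.TU = 128 :=
  (s.rep.pick [0, 1, 9, 10]).gen TU_ok
theorem gA5 : s.C.Lists A5_t.dom s.A5 ∧ Nat.card s.A5 = 60 :=
  (s.rep.pick [11, 12]).gen A5_ok
theorem gNA : s.C.Lists NA_t.dom s.NA ∧ Nat.card s.NA = 960 :=
  (s.rep.pick [1, 11, 12]).gen NA_ok
theorem gCZ : s.C.Lists CZ_t.dom s.CZ ∧ Nat.card s.CZ = 576 :=
  (s.rep.pick [1, 9, 10, 11, 16]).gen CZ_ok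
theorem gCA : s.C.Lists CA_t.dom s.CA ∧ Nat.card s.CA = 96 :=
  (s.rep.pick [1, 3, 9, 13]).gen CA_ok
theorem gK1 : s.C.Lists K1_t.dom s.K1 ∧ s.K1.ncard = 45 := (s.rep.pick [1, 11, 12, 14]).orb (s.rep.nth 5) K1_ok
theorem gK2 : s.C.Lists K2_t.dom s.K2 ∧ s.K2.ncard = 270 := (s.rep.pick [1, 11, 12, 14]).orb (s.rep.nth 6) K2_ok
theorem gOm : s.C.Lists omD s.Om :=
  ((s.rep.nth 0).cons <| ((s.rep.nth 0).mul (s.rep.nth 1)).cons <| ((s.rep.nth 0).mul (s.rep.nth 2)).cons <|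
    ((s.rep.nth 0).mul (s.rep.nth 3)).cons <| ((s.rep.nth 0).mul (s.rep.nth 4)).cons <|
    ((s.rep.nth 0).mul (s.rep.nth 5)).cons Cod.repL_nil).lists

/-- All listed sets in `⟨t⟩ × L`: `s.hL.decide s.rep (by decide +kernel)` decides statements about them. -/
theorem hL : s.C.ListsL
    [A_t.dom, A0_t.dom, B_t.dom, ZT_t.dom, J1_t.dom, ZJ_t.dom, Q_t.dom, U_t.dom, TU_t.dom, A5_t.dom, NA_t.dom, CZ_t.dom, CA_t.dom, K1_t.dom, K2_t.dom, omD]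
    [s.A, s.A0, s.B, s.ZT, s.J1, s.ZJ, s.Q, s.U, s.TU, s.A5, s.NA, s.CZ, s.CA, s.K1, s.K2, s.Om] :=
  s.gA.1.cons <| s.gA0.1.cons <| s.gB.1.cons <| s.gZT.1.cons <| s.gJ1.1.cons <| s.gZJ.1.cons <| s.gQ.1.cons <| s.gU.1.cons <| s.gTU.1.cons <| s.gA5.1.cons <| s.gNA.1.cons <| s.gCZ.1.cons <| s.gCA.1.cons <| s.gK1.1.cons <| s.gK2.1.cons <| s.gOm.cons Cod.listsL_nil

end Pre

/-- `C(t) = ⟨t, u⟩ L O` in `G = X ⟨t⟩`, where `u = 1` or `u` is the reflection `(12)`. -/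
structure Cf (G : Type*) [Group G] extends Pre G where
  u : G
  O : Subgroup G
  X : Subgroup G
  hu : u = 1 ∨ C.Rep cu u
  odd : Odd (Nat.card O)
  Ot : ∀ o ∈ O, o * t = t * o
  OL : ∀ o ∈ O, ∀ l ∈ toPre.L, o * l = l * o
  uO : u ∈ 𝐍[O]
  cent : ∀ x, x * t = t * x → ∃ l ∈ toPre.L, ∃ o ∈ O, x = l * o ∨ x = t * l * o ∨ x = u * l * o ∨ x = t * u * l * o
  nX : X.Normal
  sX : IsSimpleGroup X
  LX : toPre.L ≤ X
  GX : ∀ x, x ∈ X ∨ t * x ∈ X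
  oc : oddCore G = ⊥
  nz : ∃ x, x * t ≠ t * x

namespace Cf

variable (s : Cf G)

/-- Case β: the outer involution exists. -/
def Be : Prop := s.C.Rep cu s.u
/-- The reflection `(34)` (case β). -/
def v : G := s.u * s.p
/-- `U ⟨u⟩`. -/
def T0 : Subgroup G := clos [s.u, s.a1, s.p, s.q]
/-- A Sylow 2-subgroup of `C(t)`. -/
def T : Subgroup G := clos [s.t, s.u, s.a1, s.p, s.q]
/-- `⟨t⟩ × D₈ × D₈` (case β). -/
def J : Subgroup G := clos [s.t, s.u, s.v, s.a1, s.a2, s.a3, s.a4]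
/-- `D₈ × D₈` (case β). -/
def J0 : Subgroup G := clos [s.u, s.v, s.a1, s.a2, s.a3, s.a4]
/-- An elementary group of order 32, normal in `T` (case β). -/
def F : Subgroup G := clos [s.t, s.u, s.v, s.z1, s.z2]
/-- An elementary group of order 32 (case β). -/
def M1 : Subgroup G := clos [s.t, s.v, s.a1, s.a2, s.z2]
/-- An elementary group of order 32 (case β). -/
def M2 : Subgroup G := clos [s.t, s.u, s.a3, s.a4, s.z1]
/-- A complement to `⟨t⟩` in `T` containing `t a1` (case β). -/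
def R : Subgroup G := clos [s.u, s.t1, s.q]
/-- `N(A)` in `L ⟨u⟩`. -/
def NB : Subgroup G := clos [s.u, s.a1, s.c, s.f]
/-- `C(z)` in `L ⟨u⟩`. -/
def CY : Subgroup G := clos [s.u, s.a1, s.p, s.q, s.c, s.k]
/-- The 36 conjugates of `u`. -/
def K3 : Set G := cls s.gL s.u
/-- The 540 conjugates of `u z2`. -/
def K4 : Set G := cls s.gL (s.u * s.z2)

theorem repY (hb : s.Be) : s.C.RepL cY
    [s.u, s.v, s.t, s.a1, s.a2, s.a3, s.a4, s.z, s.z1, s.z2, s.b, s.p, s.q, s.c, s.f, s.h, s.g, s.t1, s.k] := by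
  have h1 : cY = cu :: A2.mul cu (nth A2.one cX 9) :: cX := eq_of_beqL (by decide +kernel)
  rw [h1]
  exact Cod.Rep.cons hb (Cod.Rep.cons (Cod.Rep.mul hb (s.rep.nth 9)) s.rep)

theorem gT0 (hb : s.Be) : s.C.Lists T0_t.dom s.T0 ∧ Nat.card s.T0 = 128 :=
  ((s.repY hb).pick [0, 3, 11, 12]).gen T0_ok
theorem gT (hb : s.Be) : s.C.Lists T_t.dom s.T ∧ Nat.card s.T = 256 :=
  ((s.repY hb).pick [2, 0, 3, 11, 12]).gen T_ok
theorem gJ (hb : s.Be) : s.C.Lists J_t.dom s.J ∧ Nat.card s.J = 128 :=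
  ((s.repY hb).pick [2, 0, 1, 3, 4, 5, 6]).gen J_ok
theorem gJ0 (hb : s.Be) : s.C.Lists J0_t.dom s.J0 ∧ Nat.card s.J0 = 64 :=
  ((s.repY hb).pick [0, 1, 3, 4, 5, 6]).gen J0_ok
theorem gF (hb : s.Be) : s.C.Lists F_t.dom s.F ∧ Nat.card s.F = 32 :=
  ((s.repY hb).pick [2, 0, 1, 8, 9]).gen F_ok
theorem gM1 (hb : s.Be) : s.C.Lists M1_t.dom s.M1 ∧ Nat.card s.M1 = 32 :=
  ((s.repY hb).pick [2, 1, 3, 4, 9]).gen M1_ok
theorem gM2 (hb : s.Be) : s.C.Lists M2_t.dom s.M2 ∧ Nat.card s.M2 = 32 :=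
  ((s.repY hb).pick [2, 0, 5, 6, 8]).gen M2_ok
theorem gR (hb : s.Be) : s.C.Lists R_t.dom s.R ∧ Nat.card s.R = 128 :=
  ((s.repY hb).pick [0, 17, 12]).gen R_ok
theorem gNB (hb : s.Be) : s.C.Lists NB_t.dom s.NB ∧ Nat.card s.NB = 1920 :=
  ((s.repY hb).pick [0, 3, 13, 14]).gen NB_ok
theorem gCY (hb : s.Be) : s.C.Lists CY_t.dom s.CY ∧ Nat.card s.CY = 1152 :=
  ((s.repY hb).pick [0, 3, 11, 12, 13, 18]).gen CY_ok
theorem gK3 (hb : s.Be) : s.C.Lists K3_t.dom s.K3 ∧ s.K3.ncard = 36 :=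
  ((s.repY hb).pick [3, 13, 14, 16]).orb ((s.repY hb).nth 0) K3_ok
theorem gK4 (hb : s.Be) : s.C.Lists K4_t.dom s.K4 ∧ s.K4.ncard = 540 :=
  ((s.repY hb).pick [3, 13, 14, 16]).orb ((s.repY hb).term _ (by decide +kernel)) K4_ok

/-- All listed sets in case β: `(s.hY hb).decide (s.repY hb) (by decide +kernel)`. -/
theorem hY (hb : s.Be) : s.C.ListsL
    [T0_t.dom, T_t.dom, J_t.dom, J0_t.dom, F_t.dom, M1_t.dom, M2_t.dom, R_t.dom, NB_t.dom, CY_t.dom, K3_t.dom, K4_t.dom, A_t.dom, A0_t.dom, B_t.dom, ZT_t.dom, J1_t.dom, ZJ_t.dom, Q_t.dom, U_t.dom, TU_t.dom, A5_t.dom, NA_t.dom, CZ_t.dom, CA_t.dom, K1_t.dom, K2_t.dom, omD]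
    [s.T0, s.T, s.J, s.J0, s.F, s.M1, s.M2, s.R, s.NB, s.CY, s.K3, s.K4, s.A, s.A0, s.B, s.ZT, s.J1, s.ZJ, s.Q, s.U, s.TU, s.A5, s.NA, s.CZ, s.CA, s.K1, s.K2, s.Om] :=
  (s.gT0 hb).1.cons <| (s.gT hb).1.cons <| (s.gJ hb).1.cons <| (s.gJ0 hb).1.cons <| (s.gF hb).1.cons <| (s.gM1 hb).1.cons <| (s.gM2 hb).1.cons <| (s.gR hb).1.cons <| (s.gNB hb).1.cons <| (s.gCY hb).1.cons <| (s.gK3 hb).1.cons <| (s.gK4 hb).1.cons s.hL

/-- The normaliser of `B` fixes `t`. -/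
def H1 : Prop := ∀ n ∈ 𝐍[s.B], n * s.t * n⁻¹ = s.t
/-- The orbit of `t` under the normaliser of `B` has six elements. -/
def H6 : Prop := (∃ n ∈ 𝐍[s.B], n * s.t * n⁻¹ = s.t * s.z) ∧ ∀ n ∈ 𝐍[s.B], n * s.t * n⁻¹ ∈ s.Om
/-- The orbit of `t` under the normaliser of `B` is the coset `t A`. -/
def H16 : Prop := ∀ a ∈ s.A, ∃ n ∈ 𝐍[s.B], n * s.t * n⁻¹ = s.t * a

end Cf

end Cfsg.Agent.S38
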