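import Mathlib
import Cfsg.Agent.S38.Defs
import Cfsg.Agent.SF6.Fact
import Cfsg.Agent.GT.PGroupIso

/-! Facts about the coded group. -/

set_option autoImplicit false
set_option linter.unusedSectionVars false
set_option maxRecDepth 100000
set_option synthInstance.maxSize 100000
set_option synthInstance.maxHeartbeats 1000000

namespace Cfsg.Agent.S38

open Cfsg.Agent.Rec Cfsg.Agent.Spor Cfsg.Agent.Loc.Mss Cfsg.Agent.SF6 Subgroup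
open scoped commutatorElement

variable {G : Type*} [Group G] [Finite G]

namespace Fact

open Cfsg.Agent.GT

theorem q8 {i j : G} (h1 : i * i ≠ 1) (h2 : j * j = i * i) (h3 : i * j * i = j) :
    Nonempty ((zpowers i ⊔ zpowers j : Subgroup G) ≃* QuaternionGroup 2) := by
  have e1 : j * i * j⁻¹ = i⁻¹ := by
    rw [mul_inv_eq_iff_eq_mul, eq_inv_mul_iff_mul_eq, ← mul_assoc, h3]
  have e2 : i ^ 2 ^ (1 + 1) = 1 := by
    have : j * (i * i) * j⁻¹ = i * i := by rw [← h2]; group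
    rw [← conj_mul, e1] at this
    calc i ^ 2 ^ (1 + 1) = i * i * (i * i) := by norm_num [pow_succ, mul_assoc]
      _ = 1 := by rw [← this]; nth_rewrite 1 [this]; group
  have e3 : orderOf i = 2 * 2 := orderOf_eq_prime_pow (p := 2) (n := 1) (by simpa [pow_two] using h1) e2
  have e4 : j ∉ zpowers i := by
    rintro ⟨n, rfl⟩
    rw [show i ^ n * i * (i ^ n)⁻¹ = i by group] at e1
    exact h1 (mul_eq_one_iff_eq_inv.2 e1)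
  have e5 : j ∈ 𝐍[zpowers i] := mem_norm_of_cj_le (cj_le_iff.2 (by
    rintro _ ⟨n, rfl⟩
    rw [← conj_zpow, e1]; exact zpow_mem (inv_mem (mem_zpowers i)) n))
  have e6 := PG.relIndex_sup_zpowers Nat.prime_two e5 e4 (by
    rw [pow_two, h2]; exact mul_mem (mem_zpowers i) (mem_zpowers i))
  let a : (zpowers i ⊔ zpowers j : Subgroup G) := ⟨i, mem_sup_left (mem_zpowers i)⟩
  let b : (zpowers i ⊔ zpowers j : Subgroup G) := ⟨j, mem_sup_right (mem_zpowers j)⟩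
  have e7 : zpowers a = (zpowers i).subgroupOf _ := map_injective (subtype_injective _) (by
    rw [MonoidHom.map_zpowers, map_subgroupOf_eq_of_le le_sup_left]; rfl)
  obtain ⟨e, -⟩ := PG.exists_mulEquiv_quaternion (a := a) (b := b) (n := 2) ((Subgroup.orderOf_mk _ _).trans e3)
    (e7 ▸ e6) (e7 ▸ e4) (Subtype.ext e1) (Subtype.ext (by simpa [pow_two] using h2))
  exact ⟨e⟩

theorem mul_mem_half {E Q : Subgroup G} (h : E ≤ Q) (hc : Nat.card Q ≤ 2 * Nat.card E) {u v : G} (hu : u ∈ Q)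
    (hv : v ∈ Q) (h1 : u ∉ E) (h2 : v ∉ E) : u * v ∈ E := by
  have k := Inv.Fz.card_mul_relIndex h
  have k0 : 0 < Nat.card E := Nat.card_pos
  have k1 : E.relIndex Q ≠ 1 := fun e => h1 (relIndex_eq_one.1 e hu)
  have k2 : E.relIndex Q ≠ 0 := fun e => by
    rw [e] at k
    exact (Nat.card_pos (α := Q)).ne (by simpa using k)
  have k3 : E.relIndex Q ≤ 2 := by
    by_contra e
    have : 3 ≤ E.relIndex Q := by omega
    nlinarith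
  have k4 : (E.subgroupOf Q).index = 2 := by
    change E.relIndex Q = 2
    omega
  exact (mul_mem_iff_of_index_two k4 (a := ⟨u, hu⟩) (b := ⟨v, hv⟩)).2 (iff_of_false h1 h2)

end Fact

namespace Pre

variable (s : Pre G)

theorem tt : s.t * s.t = 1 := s.hL.decide s.rep (by decide +kernel)
theorem t_comm {l : G} (hl : l ∈ s.L) : l * s.t = s.t * l :=
  (commute_clos (g := s.t) (by
    simp only [List.forall_mem_cons, List.not_mem_nil, false_imp_iff, implies_true, and_true]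
    exact s.hL.decide s.rep (by decide +kernel)) l hl).symm
theorem t_nL : s.t ∉ s.L := s.tL
theorem cardL : Nat.card s.L = 25920 := s.card
theorem rels : s.z = s.a1 * s.a2 * s.a3 * s.a4 ∧ s.z1 = s.a1 * s.a2 ∧ s.z2 = s.a3 * s.a4 ∧ s.b = s.a1 * s.a3 ∧
    s.t1 = s.t * s.a1 ∧ s.z = s.z1 * s.z2 := s.hL.decide s.rep (by decide +kernel)
theorem NA_le : s.NA ≤ s.L := clos_le.2 fun y hy => mem_clos (by
  simp only [List.mem_cons, List.not_mem_nil, or_false] at hy ⊢; tauto)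
theorem CZ_le : s.CZ ≤ s.L := by
  have k : s.a1 ∈ s.NA ∧ s.p ∈ s.NA ∧ s.q ∈ s.NA ∧ s.c ∈ s.NA ∧ s.z ∈ s.NA ∧ s.a4 ∈ s.NA ∧
      s.k = s.c * s.g * s.z * s.g * s.a4 := s.hL.decide s.rep (by decide +kernel)
  obtain ⟨k1, k2, k3, k4, k5, k6, k7⟩ := k
  have hg : s.g ∈ s.L := mem_clos (by simp)
  refine clos_le.2 ?_
  simp only [List.forall_mem_cons, List.not_mem_nil, false_imp_iff, implies_true, and_true]
  refine ⟨s.NA_le k1, s.NA_le k2, s.NA_le k3, s.NA_le k4, ?_⟩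
  rw [k7]
  exact mul_mem (mul_mem (mul_mem (mul_mem (s.NA_le k4) hg) (s.NA_le k5)) hg) (s.NA_le k6)
theorem CA_le : s.CA ≤ s.L := le_trans (s.hL.decide s.rep (by decide +kernel) : s.CA ≤ s.NA) s.NA_le
theorem les : s.A ≤ s.U ∧ s.Q ≤ s.U ∧ s.U ≤ s.NA ∧ s.U ≤ s.CZ ∧ s.A0 ≤ s.A ∧ s.A0 ≤ s.Q ∧ s.J1 ≤ s.A0 ∧ s.A ≤ s.B ∧
    s.B ≤ s.TU ∧ s.U ≤ s.TU ∧ s.ZT ≤ s.ZJ ∧ s.J1 ≤ s.ZJ ∧ s.ZJ ≤ s.B ∧ s.A5 ≤ s.NA := s.hL.decide s.rep (by decide +kernel)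
theorem mems : s.t ∈ s.B ∧ s.a1 ∈ s.A ∧ s.a2 ∈ s.A ∧ s.a3 ∈ s.A ∧ s.a4 ∈ s.A ∧ s.z ∈ s.J1 ∧ s.z1 ∈ s.J1 ∧ s.z2 ∈ s.J1 ∧
    s.b ∈ s.A0 ∧ s.p ∈ s.Q ∧ s.q ∈ s.Q ∧ s.c ∈ s.A5 ∧ s.f ∈ s.A5 ∧ s.h ∈ s.A5 ∧ s.p ∈ s.A5 ∧ s.q ∈ s.A5 ∧
    s.c ∈ s.CZ ∧ s.k ∈ s.CZ ∧ s.t ∈ s.ZT ∧ s.z ∈ s.ZT := s.hL.decide s.rep (by decide +kernel)
theorem U_le : s.U ≤ s.L := s.les.2.2.1.trans s.NA_le
theorem A_le : s.A ≤ s.L := s.les.1.trans s.U_le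
theorem Q_le : s.Q ≤ s.L := s.les.2.1.trans s.U_le
theorem memB {x : G} : x ∈ s.B ↔ x ∈ s.A ∨ s.t * x ∈ s.A := by
  have h : ∀ g ∈ s.B, g ∈ s.A ∨ s.t * g ∈ s.A := s.hL.decide s.rep (by decide +kernel)
  have hA : s.A ≤ s.B := s.les.2.2.2.2.2.2.2.1
  exact ⟨h x, fun k => k.elim (fun k => hA k) fun k => (mul_mem_cancel_left s.mems.1).1 (hA k)⟩
theorem memTU {x : G} : x ∈ s.TU ↔ x ∈ s.U ∨ s.t * x ∈ s.U := by
  have h : ∀ g ∈ s.TU, g ∈ s.U ∨ s.t * g ∈ s.U := s.hL.decide s.rep (by decide +kernel)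
  have hA : s.U ≤ s.TU := s.les.2.2.2.2.2.2.2.2.2.1
  exact ⟨h x, fun k => k.elim (fun k => hA k) fun k =>
    (mul_mem_cancel_left (s.les.2.2.2.2.2.2.2.2.1 s.mems.1)).1 (hA k)⟩
theorem memZT {x : G} : x ∈ s.ZT ↔ x = 1 ∨ x = s.t ∨ x = s.z ∨ x = s.t * s.z := by
  have h : (∀ x ∈ s.ZT, x = 1 ∨ x = s.t ∨ x = s.z ∨ x = s.t * s.z) ∧ s.t ∈ s.ZT ∧ s.z ∈ s.ZT :=
    s.hL.decide s.rep (by decide +kernel)
  refine ⟨h.1 x, ?_⟩
  rintro (rfl | rfl | rfl | rfl)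
  exacts [one_mem _, h.2.1, h.2.2, mul_mem h.2.1 h.2.2]
theorem memJ1 {x : G} : x ∈ s.J1 ↔ x = 1 ∨ x = s.z1 ∨ x = s.z2 ∨ x = s.z := by
  have h : (∀ x ∈ s.J1, x = 1 ∨ x = s.z1 ∨ x = s.z2 ∨ x = s.z) ∧ s.z1 ∈ s.J1 ∧ s.z2 ∈ s.J1 ∧ s.z ∈ s.J1 :=
    s.hL.decide s.rep (by decide +kernel)
  refine ⟨h.1 x, ?_⟩
  rintro (rfl | rfl | rfl | rfl)
  exacts [one_mem _, h.2.1, h.2.2.1, h.2.2.2]
theorem memOm {x : G} : x ∈ s.Om ↔ x = s.t ∨ x = s.t * s.a1 ∨ x = s.t * s.a2 ∨ x = s.t * s.a3 ∨ x = s.t * s.a4 ∨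
    x = s.t * s.z := by
  simp only [Om, Set.mem_setOf_eq, List.mem_cons, List.not_mem_nil, or_false]
theorem B_sq {x : G} (hx : x ∈ s.B) : x * x = 1 :=
  (s.hL.decide s.rep (by decide +kernel) : ∀ g ∈ s.B, g * g = 1) x hx
theorem B_comm {x y : G} (hx : x ∈ s.B) (hy : y ∈ s.B) : x * y = y * x := comm_of_sq2 (fun _ => s.B_sq) hx hy
theorem B_L {x : G} (hx : x ∈ s.B) (hl : x ∈ s.L) : x ∈ s.A :=
  (s.memB.1 hx).resolve_right fun h => s.t_nL ((mul_mem_cancel_right hl).1 (s.A_le h))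
theorem TU_L {x : G} (hx : x ∈ s.TU) (hl : x ∈ s.L) : x ∈ s.U :=
  (s.memTU.1 hx).resolve_right fun h => s.t_nL ((mul_mem_cancel_right hl).1 (s.U_le h))
theorem NA_norm : s.NA ≤ 𝐍[s.A] ∧ s.NA ≤ 𝐍[s.B] := by
  refine ⟨fun g hg => mem_norm_of_cj_le (cj_le_iff.2 (le_normalizer_clos ?_ hg)),
    fun g hg => mem_norm_of_cj_le (cj_le_iff.2 (le_normalizer_clos ?_ hg))⟩ <;>
  · simp only [List.forall_mem_cons, List.not_mem_nil, false_imp_iff, implies_true, and_true]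
    exact s.hL.decide s.rep (by decide +kernel)
theorem CZ_norm : s.CZ ≤ 𝐍[s.Q] := by
  refine fun g hg => mem_norm_of_cj_le (cj_le_iff.2 (le_normalizer_clos ?_ hg))
  simp only [List.forall_mem_cons, List.not_mem_nil, false_imp_iff, implies_true, and_true]
  exact s.hL.decide s.rep (by decide +kernel)
theorem A_cls {a : G} (ha : a ∈ s.A) : a = 1 ∨ (∃ l ∈ s.A5, l * s.z * l⁻¹ = a) ∨ ∃ l ∈ s.A5, l * s.z1 * l⁻¹ = a :=
  (s.hL.decide s.rep (by decide +kernel) : ∀ a ∈ s.A, a = 1 ∨ (∃ l ∈ s.A5, l * s.z * l⁻¹ = a) ∨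
    ∃ l ∈ s.A5, l * s.z1 * l⁻¹ = a) a ha
theorem K1_cj {x : G} : x ∈ s.K1 ↔ ∃ l ∈ s.L, l * s.z * l⁻¹ = x := Iff.rfl
theorem K2_cj {x : G} : x ∈ s.K2 ↔ ∃ l ∈ s.L, l * s.z1 * l⁻¹ = x := Iff.rfl
theorem K1_NA {x : G} (h1 : x ∈ s.K1) (h2 : x ∈ s.NA) : x ∈ s.A ∧ s.t * x ∈ s.Om :=
  (s.hL.decide s.rep (by decide +kernel) : ∀ x ∈ s.K1, x ∈ s.NA → x ∈ s.A ∧ s.t * x ∈ s.Om) x h1 h2
theorem K1_pure {x y : G} (hx : x ∈ s.U) (hy : y ∈ s.U) (h1 : x ∈ s.K1) (h2 : y ∈ s.K1) (h : x * y = y * x) :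
    x * y ∉ s.K1 :=
  (s.hL.decide s.rep (by decide +kernel) : ∀ x ∈ s.U, x ∈ s.K1 → ∀ y ∈ s.U, y ∈ s.K1 → x * y = y * x → ¬ x * y ∈ s.K1)
    x hx h1 y hy h2 h
theorem cent_z {x : G} (hx : x ∈ s.L) (h : x * s.z = s.z * x) : x ∈ s.CZ := by
  refine cent_of_card s.CZ_le (fun k hk => (commute_clos (g := s.z) ?_ k hk).symm) (S := s.K1) (fun _ h => h)
    (by rw [s.gK1.2, s.gCZ.2, s.cardL]) hx h
  simp only [List.forall_mem_cons, List.not_mem_nil, false_imp_iff, implies_true, and_true]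
  exact s.hL.decide s.rep (by decide +kernel)
theorem cent_z1 {x : G} (hx : x ∈ s.L) (h : x * s.z1 = s.z1 * x) : x ∈ s.CA := by
  refine cent_of_card s.CA_le (fun k hk => (commute_clos (g := s.z1) ?_ k hk).symm) (S := s.K2) (fun _ h => h)
    (by rw [s.gK2.2, s.gCA.2, s.cardL]) hx h
  simp only [List.forall_mem_cons, List.not_mem_nil, false_imp_iff, implies_true, and_true]
  exact s.hL.decide s.rep (by decide +kernel)
theorem norm_A {x : G} (hx : x ∈ s.L) (h : x ∈ 𝐍[s.A]) : x ∈ s.NA := by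
  have k1 : (∀ v ∈ s.A, v ∈ s.K1 → ∃ l ∈ s.A5, l * s.z * l⁻¹ = v) ∧ s.z ∈ s.A ∧ s.a1 ∈ s.A ∧ s.A5 ≤ s.NA ∧
      ∀ k ∈ s.CZ, k * s.a1 * k⁻¹ ∈ s.A → k ∈ s.NA := s.hL.decide s.rep (by decide +kernel)
  obtain ⟨l, hl, e⟩ := k1.1 _ (conj_mem_of_norm h k1.2.1) ⟨x, hx, rfl⟩
  have hl' := k1.2.2.2.1 hl
  have h2 : l⁻¹ * x ∈ s.CZ := s.cent_z (mul_mem (inv_mem (s.NA_le hl')) hx) (by
    calc l⁻¹ * x * s.z = l⁻¹ * (x * s.z * x⁻¹) * x := by group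
      _ = _ := by rw [← e]; group)
  have h3 := k1.2.2.2.2 _ h2 (conj_mem_of_norm (mul_mem (inv_mem (s.NA_norm.1 hl')) h) k1.2.2.1)
  exact (mul_mem_cancel_left (inv_mem hl')).1 h3
theorem cent_A0 {x : G} (hx : x ∈ s.L) (h : ∀ a ∈ s.A0, x * a = a * x) : x ∈ s.A := by
  have k1 : (∀ k ∈ s.CZ, k * s.z1 = s.z1 * k → k * s.b = s.b * k → k ∈ s.A) ∧ s.z ∈ s.A0 ∧ s.z1 ∈ s.A0 ∧
      s.b ∈ s.A0 := s.hL.decide s.rep (by decide +kernel)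
  exact k1.1 x (s.cent_z hx (h _ k1.2.1)) (h _ k1.2.2.1) (h _ k1.2.2.2)
theorem cent_Q {x : G} (hx : x ∈ s.L) (h : ∀ a ∈ s.Q, x * a = a * x) : x = 1 ∨ x = s.z := by
  have k1 : (∀ k ∈ s.A, k * s.p = s.p * k → k * s.q = s.q * k → k = 1 ∨ k = s.z) ∧ s.p ∈ s.Q ∧ s.q ∈ s.Q :=
    s.hL.decide s.rep (by decide +kernel)
  exact k1.1 x (s.cent_A0 hx fun a ha => h a (s.les.2.2.2.2.2.1 ha)) (h _ k1.2.1) (h _ k1.2.2)
theorem pgTU : IsPGroup 2 s.TU := IsPGroup.of_card (n := 7) (by rw [s.gTU.2]; norm_num)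
theorem sylU : Syl 2 s.U s.L := by
  refine ⟨s.U_le, IsPGroup.of_card (n := 6) (by rw [s.gU.2]; norm_num), fun h => ?_⟩
  have := Inv.Fz.card_mul_relIndex s.U_le
  rw [s.gU.2, s.cardL] at this
  omega
theorem invol {x : G} (hx : x ∈ s.L) (h2 : x * x = 1) : x = 1 ∨ x ∈ s.K1 ∨ x ∈ s.K2 := by
  have k1 : ∀ u ∈ s.U, u * u = 1 → u = 1 ∨ u ∈ s.K1 ∨ u ∈ s.K2 := s.hL.decide s.rep (by decide +kernel)
  obtain ⟨k, hk, h3⟩ := s.sylU.conj_le (FG.ZL.isPGroup_zpowers_of_pow (x := x) (n := 1) (by rw [pow_one, pow_two, h2]))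
    (zpowers_le.2 hx)
  have e : x = k⁻¹ * (k * x * k⁻¹) * k⁻¹⁻¹ := by group
  rcases k1 _ (h3 (conj_mem_cj (mem_zpowers x))) (by rw [conj_mul, h2]; group) with h | h | h
  · exact Or.inl (conj_eq_one_iff.1 h)
  all_goals
    have := conj_mem_cls (inv_mem hk) h
    rw [← e] at this
    tauto
theorem elemTU {E : Subgroup G} (hE : E ≤ s.TU) (h2 : ∀ x ∈ E, x * x = 1) (h : 32 ≤ Nat.card E) : E = s.B := by
  by_cases hW : E ≤ s.B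
  · exact eq_of_le_of_card_ge hW (by rwa [s.gB.2])
  exfalso
  have k0 : (∀ g ∈ s.TU, ∀ x ∈ s.B, g * x * g⁻¹ ∈ s.B) ∧ s.p ∈ s.TU ∧ s.q ∈ s.TU ∧
      (∀ x ∈ s.B, s.p * x = x * s.p → s.q * x = x * s.q → x ∈ s.ZT) ∧
      ∀ l ∈ s.TU, ¬ l ∈ s.B → ∃ u ∈ s.A, l * u ≠ u * l ∧ ∃ v ∈ s.A, l * v ≠ v * l ∧ l * (u * v) ≠ u * v * l :=
    s.hL.decide s.rep (by decide +kernel)
  obtain ⟨k1, k2, k3, k4, k5⟩ := k0
  have AB : s.A ≤ s.B := s.les.2.2.2.2.2.2.2.1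
  have hn : E ≤ 𝐍[s.B] := fun g hg => mem_norm_of_cj_le (cj_le_iff.2 (k1 g (hE hg)))
  have c1 := GT.PG.card_sup_mul_card_inf hn
  have c2 : E ⊔ s.B ≤ s.TU := sup_le hE s.les.2.2.2.2.2.2.2.2.1
  have h3 := card_dvd_of_le c2
  rw [s.gTU.2] at h3
  rw [s.gB.2] at c1
  by_cases h6 : s.TU ≤ E ⊔ s.B
  · have cm : ∀ g ∈ s.TU, ∀ u ∈ E ⊓ s.B, g * u = u * g := fun g hg u hu => by
      obtain ⟨x, hx, w, hw, rfl⟩ := (mem_sup_norm' hn).1 (h6 hg)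
      rw [mul_assoc, s.B_comm hw hu.2, ← mul_assoc, comm_of_sq2 h2 hx hu.1, mul_assoc]
    have c3 := card_le_of_le (show E ⊓ s.B ≤ s.ZT from fun x hx => k4 x hx.2 (cm _ k2 x hx) (cm _ k3 x hx))
    have c4 := Nat.le_of_dvd (by norm_num) h3
    rw [s.gZT.2] at c3
    nlinarith
  · have c3 : Nat.card (E ⊔ s.B : Subgroup G) ≤ 64 := by
      by_contra h4
      have h5 : Nat.card (E ⊔ s.B : Subgroup G) = 128 := by
        obtain ⟨c, hc⟩ := h3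
        rcases c with _ | _ | c
        · omega
        · omega
        · nlinarith
      exact h6 (eq_of_le_of_card_ge c2 (by rw [s.gTU.2, h5])).ge
    obtain ⟨g, hg, hgW⟩ := SetLike.not_le_iff_exists.1 hW
    obtain ⟨u, hu, a1, v, hv, a2, a3⟩ := k5 g (hE hg) hgW
    have b1 := four_mul_card_le (A := E ⊓ s.B) inf_le_right (fun _ => s.B_sq) (AB hu) (AB hv)
      (fun k => a1 (comm_of_sq2 h2 hg k.1)) (fun k => a2 (comm_of_sq2 h2 hg k.1))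
      fun k => a3 (comm_of_sq2 h2 hg k.1)
    rw [s.gB.2] at b1
    nlinarith
theorem core_Q {y : G} (hy : y ∈ s.U) (h1 : s.c * y * s.c⁻¹ ∈ s.U) (h2 : s.k * y * s.k⁻¹ ∈ s.U) : y ∈ s.Q :=
  (s.hL.decide s.rep (by decide +kernel) : ∀ y ∈ s.U, s.c * y * s.c⁻¹ ∈ s.U → s.k * y * s.k⁻¹ ∈ s.U → y ∈ s.Q) y hy h1 h2
theorem Q_comm : s.Q ≤ ⁅s.CZ, s.CZ⁆ := by
  have k : s.z1 = ⁅s.p, s.a1⁆ ∧ s.b = ⁅s.z1, s.c⁆ ∧ s.p = ⁅s.q, s.c * s.c⁆ ∧ s.q = ⁅s.p, s.c⁆ ∧ s.p ∈ s.CZ ∧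
      s.a1 ∈ s.CZ ∧ s.z1 ∈ s.CZ ∧ s.c ∈ s.CZ ∧ s.q ∈ s.CZ := s.hL.decide s.rep (by decide +kernel)
  obtain ⟨e1, e2, e3, e4, m1, m2, m3, m4, m5⟩ := k
  refine clos_le.2 ?_
  simp only [List.forall_mem_cons, List.not_mem_nil, false_imp_iff, implies_true, and_true]
  exact ⟨e1 ▸ commutator_mem_commutator m1 m2, e2 ▸ commutator_mem_commutator m3 m4,
    e3 ▸ commutator_mem_commutator m5 (mul_mem m4 m4), e4 ▸ commutator_mem_commutator m1 m4⟩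
theorem Q_ab {E : Subgroup G} (hE : E ≤ s.Q) (h : ∀ x ∈ E, ∀ y ∈ E, x * y = y * x) : Nat.card E ≤ 8 := by
  by_contra hc
  have k : ∀ x ∈ s.Q, ¬ x ∈ s.ZT → ∃ u ∈ s.Q, x * u ≠ u * x ∧ ∃ v ∈ s.Q, x * v ≠ v * x ∧ ∃ w ∈ s.Q, x * w ≠ w * x ∧
      u * v * (u * w) ≠ u * w * (u * v) := s.hL.decide s.rep (by decide +kernel)
  have h1 := card_dvd_of_le hE
  rw [s.gQ.2] at h1
  have h2 : Nat.card s.Q ≤ 2 * Nat.card E := by
    rw [s.gQ.2]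
    obtain ⟨c, e⟩ := h1
    by_contra h3
    have h4 : Nat.card E < 16 := by omega
    have h5 : 8 < Nat.card E := by omega
    generalize Nat.card E = n at *
    interval_cases n <;> omega
  have h3 : ¬ E ≤ s.ZT := fun e => by
    have := card_le_of_le e
    rw [s.gZT.2] at this
    omega
  obtain ⟨x, hx, hn⟩ := SetLike.not_le_iff_exists.1 h3
  obtain ⟨u, hu, a1, v, hv, a2, w, hw, a3, a4⟩ := k x (hE hx) hn
  exact a4 (h _ (Fact.mul_mem_half hE h2 hu hv (fun e => a1 (h _ hx _ e)) fun e => a2 (h _ hx _ e)) _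
    (Fact.mul_mem_half hE h2 hu hw (fun e => a1 (h _ hx _ e)) fun e => a3 (h _ hx _ e)))
theorem Q_q8 : ∃ Q₁ Q₂ : Subgroup G, Nonempty (Q₁ ≃* QuaternionGroup 2) ∧ Nonempty (Q₂ ≃* QuaternionGroup 2) ∧
    (∀ x ∈ Q₁, ∀ y ∈ Q₂, x * y = y * x) ∧ Q₁ ⊔ Q₂ = s.Q := by
  have k : Let (s.q * s.z1) fun i => Let (s.z1 * s.p * s.b) fun j => Let (s.p * s.b) fun i' =>
      Let (s.b * s.q * s.z1) fun j' => (i * i ≠ 1 ∧ j * j = i * i ∧ i * j * i = j) ∧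
        (i' * i' ≠ 1 ∧ j' * j' = i' * i' ∧ i' * j' * i' = j') ∧
        (i * i' = i' * i ∧ j * i' = i' * j ∧ i * j' = j' * i ∧ j * j' = j' * j) ∧
        (i ∈ s.Q ∧ j ∈ s.Q ∧ i' ∈ s.Q ∧ j' ∈ s.Q) ∧
        s.z1 = i * i * j * i' ∧ s.b = i * i * i * j' ∧ s.p = i * j' * i' ∧ s.q = j * i * i' := s.hL.decide s.rep (by decide +kernel)
  unfold Let at k
  generalize s.q * s.z1 = i at k
  generalize s.z1 * s.p * s.b = j at k
  generalize s.p * s.b = i' at k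
  generalize s.b * s.q * s.z1 = j' at k
  obtain ⟨⟨a1, a2, a3⟩, ⟨b1, b2, b3⟩, ⟨c1, c2, c3, c4⟩, ⟨d1, d2, d3, d4⟩, e1, e2, e3, e4⟩ := k
  have hc : ∀ x y : G, x * y = y * x → zpowers x ≤ 𝐂[zpowers y] := fun x y e =>
    zpowers_le.2 (mem_cent.2 (by rintro _ ⟨n, rfl⟩; exact ((show Commute y x from e.symm).zpow_left n).eq))
  refine ⟨zpowers i ⊔ zpowers j, zpowers i' ⊔ zpowers j', Fact.q8 a1 a2 a3, Fact.q8 b1 b2 b3, fun x hx y hy =>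
    (mem_cent.1 (sup_le (le_cent_sup (hc _ _ c1) (hc _ _ c3)) (le_cent_sup (hc _ _ c2) (hc _ _ c4)) hx) y hy).symm,
    le_antisymm (sup_le (sup_le (zpowers_le.2 d1) (zpowers_le.2 d2)) (sup_le (zpowers_le.2 d3) (zpowers_le.2 d4)))
      (clos_le.2 ?_)⟩
  have m1 : i ∈ zpowers i ⊔ zpowers j ⊔ (zpowers i' ⊔ zpowers j') := mem_sup_left (mem_sup_left (mem_zpowers _))
  have m2 : j ∈ zpowers i ⊔ zpowers j ⊔ (zpowers i' ⊔ zpowers j') := mem_sup_left (mem_sup_right (mem_zpowers _))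
  have m3 : i' ∈ zpowers i ⊔ zpowers j ⊔ (zpowers i' ⊔ zpowers j') := mem_sup_right (mem_sup_left (mem_zpowers _))
  have m4 : j' ∈ zpowers i ⊔ zpowers j ⊔ (zpowers i' ⊔ zpowers j') := mem_sup_right (mem_sup_right (mem_zpowers _))
  simp only [List.forall_mem_cons, List.not_mem_nil, false_imp_iff, implies_true, and_true]
  exact ⟨e1 ▸ mul_mem (mul_mem (mul_mem m1 m1) m2) m3, e2 ▸ mul_mem (mul_mem (mul_mem m1 m1) m1) m4,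
    e3 ▸ mul_mem (mul_mem m1 m4) m3, e4 ▸ mul_mem (mul_mem m2 m1) m3⟩

end Pre

end Cfsg.Agent.S38
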