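import Mathlib
import Cfsg.Agent.S38.Defs

/-! The orbit of length six in case β: configurations. -/

set_option autoImplicit false
set_option linter.unusedSectionVars false
set_option maxRecDepth 100000
set_option synthInstance.maxSize 100000
set_option synthInstance.maxHeartbeats 1000000

namespace Cfsg.Agent.S38

open Cfsg.Agent.Rec Cfsg.Agent.Spor Cfsg.Agent.Loc.Mss Cfsg.Agent.SF6 Subgroup
open scoped commutatorElement

variable {G : Type*} [Group G]

/-- No element of the coset `x ⟨z1, z2⟩` is conjugate to `t`. -/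
def Cf.Good (s : Cf G) (x : G) : Prop := ∀ j ∈ s.J1, x * j ∉ s.D

/-- `x` moves one or two of the six points. -/
def Cf.Tr (s : Cf G) (x : G) : Prop := (∃ d ∈ s.Om, x * d ≠ d * x) ∧
  ∀ d ∈ s.Om, ∀ d' ∈ s.Om, ∀ d'' ∈ s.Om, x * d ≠ d * x → x * d' ≠ d' * x → x * d'' ≠ d'' * x → d = d' ∨ d = d'' ∨ d' = d''

/-- `N(B)` induces the symmetric group on six points; `w` is the transposition of `t` and `t z`. -/
structure Six (G : Type*) [Group G] extends Cf G where
  w : G
  hb : toCf.Be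
  h6 : toCf.H6
  ww : w * w = 1
  wt : w * t * w⁻¹ = t * z
  wR : ∀ r ∈ toCf.R, w * r = r * w
  syl : Syl 2 (toCf.T ⊔ zpowers w) 𝐍[toCf.B]

namespace Six

variable (s : Six G)

/-- A Sylow 2-subgroup of `N(B)`, of order 512. -/
def S1 : Subgroup G := s.T ⊔ zpowers s.w
/-- The subgroup `⟨U, w u⟩`, of order 128. -/
def S0 : Subgroup G := s.U ⊔ zpowers (s.w * s.u)
/-- The subgroup `⟨U, w u, t w⟩`, of order 256. -/
def N1 : Subgroup G := s.S0 ⊔ zpowers (s.t * s.w)
/-- The four points `t a_i`, `i ≤ 4`. -/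
def P4 (d : G) : Prop := d = s.t * s.a1 ∨ d = s.t * s.a2 ∨ d = s.t * s.a3 ∨ d = s.t * s.a4
/-- The four reflections in `R`. -/
def R4 (d : G) : Prop := d = s.u ∨ d = s.u * s.z1 ∨ d = s.v ∨ d = s.v * s.z2
/-- An involution of `N1`. -/
def ρ : G := s.w * s.t * (s.p * s.b)

end Six

/-- The case that `w` is conjugate to `t`. -/
structure Sev (G : Type*) [Group G] extends Six G where
  x : G
  hw : w ∈ toSix.D
  x2 : ∃ n : ℕ, x ^ 2 ^ n = 1
  xS : x ∈ 𝐍[toSix.S1]
  xt : x * t * x⁻¹ = w ∨ x * t * x⁻¹ = w * z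
  xw : x * w * x⁻¹ = t ∨ x * w * x⁻¹ = t * z
  xz : x * z = z * x

/-- A 2-group of order 1024. -/
def Sev.S2 (s : Sev G) : Subgroup G := s.S1 ⊔ zpowers s.x

end Cfsg.Agent.S38
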