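import Mathlib
import Cfsg.Agent.S38.Fact

/-! Facts about the coded group with the outer involution. -/

set_option autoImplicit false
set_option linter.unusedSectionVars false
set_option maxRecDepth 100000
set_option synthInstance.maxSize 100000
set_option synthInstance.maxHeartbeats 1000000

namespace Cfsg.Agent.S38

open Cfsg.Agent.Rec Cfsg.Agent.Spor Cfsg.Agent.Loc.Mss Cfsg.Agent.SF6 Subgroup
open scoped commutatorElement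

variable {G : Type*} [Group G] [Finite G]

namespace FB

theorem nrm {K : Subgroup G} {g : G} (h : ∀ r ∈ K, g * r * g⁻¹ ∈ K) : g ∈ 𝐍[K] :=
  mem_norm_of_cj_le (cj_le_iff.2 h)

theorem two_le {H K : Subgroup G} (h : ∀ x ∈ H, ∀ y ∈ H, x ∉ K → y ∉ K → x * y ∈ K) :
    Nat.card H ≤ 2 * Nat.card (H ⊓ K : Subgroup G) := by
  by_cases hle : H ≤ K
  · rw [inf_eq_left.2 hle]
    omega
  obtain ⟨x, hx, hx'⟩ := SetLike.not_le_iff_exists.1 hle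
  have h1 : (H : Set G) ⊆ (H ⊓ K : Subgroup G) ∪ (fun g => x⁻¹ * g) '' (H ⊓ K : Subgroup G) := fun y hy => by
    by_cases hy' : y ∈ K
    · exact .inl ⟨hy, hy'⟩
    · exact .inr ⟨x * y, ⟨mul_mem hx hy, h x hx y hy hx' hy'⟩, inv_mul_cancel_left x y⟩
  have h2 := (Set.ncard_le_ncard h1 (Set.toFinite _)).trans (Set.ncard_union_le _ _)
  have h3 := Set.ncard_image_le (s := ((H ⊓ K : Subgroup G) : Set G)) (f := fun g => x⁻¹ * g)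
  rw [← SetLike.coe_sort_coe, Nat.card_coe_set_eq, ← SetLike.coe_sort_coe, Nat.card_coe_set_eq]
  omega

theorem cls_cj {xs : List G} {u y x : G} (hu : u ∈ 𝐍[clos xs]) (h : u * y = y * u) (hx : x ∈ cls xs y) :
    u * x * u⁻¹ ∈ cls xs y := by
  obtain ⟨l, hl, rfl⟩ := hx
  refine ⟨_, conj_mem_of_norm hu hl, ?_⟩
  calc u * l * u⁻¹ * y * (u * l * u⁻¹)⁻¹ = u * l * u⁻¹ * (y * u) * l⁻¹ * u⁻¹ := by group
    _ = _ := by rw [← h]; group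

theorem ext2 {K H : Subgroup G} {w x : G} (hK : K ≤ H) (hw : w ∈ H) (h : ∀ y ∈ H, y ∈ K ∨ w * y ∈ K) :
    x ∈ H ↔ x ∈ K ∨ w * x ∈ K :=
  ⟨h x, fun k => k.elim (fun k => hK k) fun k => (mul_mem_cancel_left hw).1 (hK k)⟩

theorem c16 {Z P R : Subgroup G} {w : G} (hZ : Nat.card Z = 8) (hP : ∀ x ∈ P, x * x = 1) (h1 : Z ≤ P) (h2 : Z ≤ R)
    (h : w ∈ P ∧ w ∈ R ∧ w ∉ Z ∧ ∀ x ∈ P, x ∈ R → x ∈ Z ∨ w * x ∈ Z) : Nat.card ↥(P ⊓ R) = 16 := by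
  obtain ⟨A, k1, k2, k3⟩ := adjoin (W := P ⊓ R) (le_inf h1 h2) (fun x hx => hP x hx.1) ⟨h.1, h.2.1⟩ h.2.2.1
  rw [← le_antisymm k1 fun x hx => (k3 x).2 (h.2.2.2 x hx.1 hx.2), k2, hZ]

end FB

open FB

namespace Cf

variable (s : Cf G)

theorem fb_rel : s.u * s.u = 1 ∧ s.u * s.t = s.t * s.u ∧ s.u * s.z = s.z * s.u ∧ s.u * s.z1 = s.z1 * s.u ∧
    s.u * s.z2 = s.z2 * s.u ∧ (s.u * s.g * s.u⁻¹ = s.g ∨ s.u * s.g * s.u⁻¹ = s.g⁻¹) := by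
  rcases s.hu with h | hb
  · simp [h]
  · exact (s.hY hb).decide (s.repY hb) (by decide +kernel)

theorem uu : s.u * s.u = 1 := s.fb_rel.1
theorem ut : s.u * s.t = s.t * s.u := s.fb_rel.2.1

theorem fb_norm : s.u ∈ 𝐍[s.A] ∧ s.u ∈ 𝐍[s.B] ∧ s.u ∈ 𝐍[s.U] ∧ s.u ∈ 𝐍[s.Q] ∧ s.u ∈ 𝐍[s.NA] ∧
    s.u ∈ 𝐍[s.CZ] ∧ s.u ∈ 𝐍[s.TU] := by
  rcases s.hu with h | hb
  · simp only [h, one_mem, and_self]
  · refine ⟨nrm (conj_clos_mem ?_), nrm (conj_clos_mem ?_), nrm (conj_clos_mem ?_), nrm (conj_clos_mem ?_),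
      nrm (conj_clos_mem ?_), nrm (conj_clos_mem ?_), nrm (conj_clos_mem ?_)⟩ <;>
    · simp only [List.forall_mem_cons, List.not_mem_nil, false_imp_iff, implies_true, and_true]
      exact (s.hY hb).decide (s.repY hb) (by decide +kernel)

theorem u_norm : s.u ∈ 𝐍[s.L] ∧ s.u ∈ 𝐍[s.A] ∧ s.u ∈ 𝐍[s.B] ∧ s.u ∈ 𝐍[s.U] ∧ s.u ∈ 𝐍[s.Q] ∧ s.u ∈ 𝐍[s.NA] ∧
    s.u ∈ 𝐍[s.CZ] ∧ s.u * s.z = s.z * s.u := by
  obtain ⟨h1, h2, h3, h4, h5, h6, -⟩ := s.fb_norm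
  refine ⟨nrm (conj_clos_mem ?_), h1, h2, h3, h4, h5, h6, s.fb_rel.2.2.1⟩
  have k : ∀ x ∈ [s.a1, s.c, s.f], s.u * x * s.u⁻¹ ∈ s.L := fun x hx =>
    s.NA_le (conj_mem_of_norm h5 (mem_clos hx))
  have hg : s.g ∈ s.L := mem_clos (by simp)
  simp only [List.forall_mem_cons, List.not_mem_nil, false_imp_iff, implies_true, and_true] at k ⊢
  refine ⟨k.1, k.2.1, k.2.2, ?_⟩
  rcases s.fb_rel.2.2.2.2.2 with e | e <;> rw [e]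
  exacts [hg, inv_mem hg]

theorem u_K1 {x : G} (hx : x ∈ s.K1) : s.u * x * s.u⁻¹ ∈ s.K1 := cls_cj s.u_norm.1 s.fb_rel.2.2.1 hx
theorem u_K2 {x : G} (hx : x ∈ s.K2) : s.u * x * s.u⁻¹ ∈ s.K2 := cls_cj s.u_norm.1 s.fb_rel.2.2.2.1 hx

theorem u_nL (hb : s.Be) : s.u ∉ s.L ∧ s.t * s.u ∉ s.L := by
  have k : s.u ∉ s.NA ∧ s.t * s.u ∉ s.NA := (s.hY hb).decide (s.repY hb) (by decide +kernel)
  refine ⟨fun h => k.1 (s.norm_A h s.u_norm.2.1), fun h => k.2 (s.norm_A h (mul_mem ?_ s.u_norm.2.1))⟩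
  exact cent_le_norm _ (mem_cent.2 fun a ha => s.t_comm (s.A_le ha))

theorem TU_le : s.TU ≤ s.T := clos_le.2 fun y hy => mem_clos (by
  simp only [List.mem_cons, List.not_mem_nil, or_false] at hy ⊢; tauto)

theorem T_al (ha : s.u = 1) : s.T = s.TU := by
  refine le_antisymm (clos_le.2 fun y hy => ?_) s.TU_le
  by_cases e : y = s.u
  · rw [e, ha]; exact one_mem _
  · exact mem_clos (by simp only [List.mem_cons, List.not_mem_nil, or_false] at hy ⊢; tauto)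

theorem fb_u : s.u ∈ s.T0 ∧ s.u ∈ s.T ∧ s.t ∈ s.T ∧ s.U ≤ s.T0 :=
  ⟨mem_clos (by simp), mem_clos (by simp), mem_clos (by simp), clos_le.2 fun y hy => mem_clos (by
    simp only [List.mem_cons, List.not_mem_nil, or_false] at hy ⊢; tauto)⟩

theorem memT {x : G} : x ∈ s.T ↔ x ∈ s.TU ∨ s.u * x ∈ s.TU := by
  refine ext2 s.TU_le s.fb_u.2.1 ?_
  rcases s.hu with h | hb
  · exact fun y hy => Or.inl (s.T_al h ▸ hy)
  · exact (s.hY hb).decide (s.repY hb) (by decide +kernel)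

theorem memT0 {x : G} : x ∈ s.T0 ↔ x ∈ s.U ∨ s.u * x ∈ s.U := by
  refine ext2 s.fb_u.2.2.2 s.fb_u.1 ?_
  rcases s.hu with h | hb
  · refine fun y hy => Or.inl ((clos_le.2 fun y hy => ?_ : s.T0 ≤ s.U) hy)
    by_cases e : y = s.u
    · rw [e, h]; exact one_mem _
    · exact mem_clos (by simp only [List.mem_cons, List.not_mem_nil, or_false] at hy ⊢; tauto)
  · exact (s.hY hb).decide (s.repY hb) (by decide +kernel)

theorem T_comm {x : G} (hx : x ∈ s.T) : x * s.t = s.t * x ∧ x * s.z = s.z * x := by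
  rcases s.hu with h | hb
  · exact (s.hL.decide s.rep (by decide +kernel) : ∀ x ∈ s.TU, x * s.t = s.t * x ∧ x * s.z = s.z * x) x
      (s.T_al h ▸ hx)
  · exact ((s.hY hb).decide (s.repY hb) (by decide +kernel) :
      ∀ x ∈ s.T, x * s.t = s.t * x ∧ x * s.z = s.z * x) x hx

theorem T_L {x : G} (hx : x ∈ s.T) (hl : x ∈ s.L) : x ∈ s.U := by
  rcases s.hu with h | hb
  · exact s.TU_L (s.T_al h ▸ hx) hl
  rcases s.memT.1 hx with k | k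
  · exact s.TU_L k hl
  rcases s.memTU.1 k with k | k
  · exact absurd ((mul_mem_cancel_right hl).1 (s.U_le k)) (s.u_nL hb).1
  · exact absurd ((mul_mem_cancel_right hl).1 (mul_assoc s.t s.u x ▸ s.U_le k)) (s.u_nL hb).2

theorem T_norm : s.T ≤ 𝐍[s.B] ∧ s.T ≤ 𝐍[s.A] ∧ s.T ≤ 𝐍[s.U] ∧ s.T ≤ 𝐍[s.Q] ∧ s.T ≤ 𝐍[s.TU] := by
  have k : ∀ K : Subgroup G, s.u ∈ 𝐍[K] → (∀ x ∈ [s.t, s.a1, s.p, s.q], ∀ r ∈ K, x * r * x⁻¹ ∈ K) →
      s.T ≤ 𝐍[K] := fun K h1 h2 x hx => by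
    have h3 : s.TU ≤ 𝐍[K] := fun g hg => nrm (le_normalizer_clos h2 hg)
    exact (s.memT.1 hx).elim (fun k => h3 k) fun k => (mul_mem_cancel_left h1).1 (h3 k)
  obtain ⟨h1, h2, h3, h4, -, -, h5⟩ := s.fb_norm
  refine ⟨k _ h2 ?_, k _ h1 ?_, k _ h3 ?_, k _ h4 ?_,
    k _ h5 fun x hx r hr => conj_mem_of_norm (le_normalizer (mem_clos hx : x ∈ s.TU)) hr⟩ <;>
  · simp only [List.forall_mem_cons, List.not_mem_nil, false_imp_iff, implies_true, and_true]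
    exact s.hL.decide s.rep (by decide +kernel)

theorem cardT : (s.u = 1 ∧ Nat.card s.T = 128) ∨ (s.Be ∧ Nat.card s.T = 256) :=
  s.hu.imp (fun h => ⟨h, s.T_al h ▸ s.gTU.2⟩) fun hb => ⟨hb, (s.gT hb).2⟩

theorem pgT : IsPGroup 2 s.T :=
  s.cardT.elim (fun h => IsPGroup.of_card (n := 7) (by rw [h.2]; norm_num))
    fun h => IsPGroup.of_card (n := 8) (by rw [h.2]; norm_num)

theorem T_cent_Q {x : G} (hx : x ∈ s.T) (h : ∀ y ∈ s.Q, x * y = y * x) : x ∈ s.ZT := by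
  have k : ∀ x ∈ s.T, x * s.z1 = s.z1 * x → x * s.b = s.b * x → x * s.p = s.p * x → x * s.q = s.q * x →
      x ∈ s.ZT := by
    rcases s.hu with h | hb
    · rw [s.T_al h]; exact s.hL.decide s.rep (by decide +kernel)
    · exact (s.hY hb).decide (s.repY hb) (by decide +kernel)
  refine k x hx (h _ ?_) (h _ ?_) (h _ ?_) (h _ ?_) <;> exact mem_clos (by simp)

theorem ZT_eq {x : G} (hx : x ∈ s.T) (h : ∀ y ∈ s.T, x * y = y * x) : x ∈ s.ZT :=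
  s.T_cent_Q hx fun y hy => h y (s.TU_le (s.les.2.2.2.2.2.2.2.2.2.1 (s.les.2.1 hy)))

theorem out_A0 (hb : s.Be) {l : G} (hl : l ∈ s.L) : ¬ ∀ a ∈ s.A0, s.u * l * a = a * (s.u * l) := fun h => by
  have k : s.z ∈ s.A0 ∧ ∀ l ∈ s.CZ, s.u * l * s.z1 = s.z1 * (s.u * l) → s.u * l * s.b ≠ s.b * (s.u * l) :=
    (s.hY hb).decide (s.repY hb) (by decide +kernel)
  refine k.2 l (s.cent_z hl (mul_left_cancel (a := s.u) ?_)) (h _ (mem_clos (by simp))) (h _ (mem_clos (by simp)))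
  rw [← mul_assoc, h _ k.1, ← mul_assoc, ← mul_assoc, s.fb_rel.2.2.1]

theorem K3_cj {x : G} : x ∈ s.K3 ↔ ∃ l ∈ s.L, l * s.u * l⁻¹ = x := Iff.rfl
theorem K4_cj {x : G} : x ∈ s.K4 ↔ ∃ l ∈ s.L, l * (s.u * s.z2) * l⁻¹ = x := Iff.rfl

theorem invol_out (hb : s.Be) {l : G} (hl : l ∈ s.L) (h2 : s.u * l * (s.u * l) = 1) : s.u * l ∈ s.K3 ∨ s.u * l ∈ s.K4 := by
  have k1 : ∀ y ∈ s.T0, y * y = 1 → y ∈ s.U ∨ y ∈ s.K3 ∨ y ∈ s.K4 :=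
    (s.hY hb).decide (s.repY hb) (by decide +kernel)
  have hn := s.u_norm.1
  have h1 : s.u * s.u ∈ s.L := by rw [s.uu]; exact one_mem _
  have hu : s.u ∈ s.L ⊔ zpowers s.u := mem_sup_right (mem_zpowers _)
  have le : s.T0 ≤ s.L ⊔ zpowers s.u := fun y hy => (s.memT0.1 hy).elim (fun k => mem_sup_left (s.U_le k))
    fun k => (mul_mem_cancel_left hu).1 (mem_sup_left (s.U_le k))
  have sy : Syl 2 s.T0 (s.L ⊔ zpowers s.u) := by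
    refine ⟨le, IsPGroup.of_card (n := 7) (by rw [(s.gT0 hb).2]; norm_num), fun h => ?_⟩
    have := Inv.Fz.card_mul_relIndex le
    rw [(s.gT0 hb).2, FG.ZL.card_ext hn h1 (s.u_nL hb).1, s.cardL] at this
    omega
  obtain ⟨k, hk, h3⟩ := sy.conj_le (FG.ZL.isPGroup_zpowers_of_pow (x := s.u * l) (n := 1)
    (by rw [pow_one, pow_two, h2])) (zpowers_le.2 (mul_mem hu (mem_sup_left hl)))
  have e : s.u * l = k⁻¹ * (k * (s.u * l) * k⁻¹) * k⁻¹⁻¹ := by group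
  have inv : ∀ y, s.u * y = y * s.u → ∀ x ∈ cls s.gL y, k⁻¹ * x * k⁻¹⁻¹ ∈ cls s.gL y := fun y hy x hx => by
    rcases (FG.ZL.mem_ext hn h1).1 (inv_mem hk) with h | h
    · exact conj_mem_cls h hx
    · have := cls_cj hn hy (conj_mem_cls h hx)
      rwa [show s.u * (s.u * k⁻¹ * x * (s.u * k⁻¹)⁻¹) * s.u⁻¹ = s.u * s.u * k⁻¹ * x * k⁻¹⁻¹ * (s.u * s.u)⁻¹ by
        group, s.uu, one_mul, inv_one, mul_one] at this
  rcases k1 _ (h3 (conj_mem_cj (mem_zpowers _))) (by rw [conj_mul, h2]; group) with h | h | h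
  · have kn : k⁻¹ ∈ 𝐍[s.L] := (sup_le le_normalizer (zpowers_le.2 hn) : _ ≤ 𝐍[s.L]) (inv_mem hk)
    exact absurd ((mul_mem_cancel_right hl).1 (e ▸ conj_mem_of_norm kn (s.U_le h))) (s.u_nL hb).1
  · exact Or.inl (e ▸ inv _ rfl _ h)
  · exact Or.inr (e ▸ inv _ (by rw [mul_assoc, ← s.fb_rel.2.2.2.2.1]) _ h)

theorem elemT (hb : s.Be) {E : Subgroup G} (hE : E ≤ s.T) (h2 : ∀ x ∈ E, x * x = 1) (h : 32 ≤ Nat.card E) :
    E = s.B ∨ E = s.F ∨ E = s.M1 ∨ E = s.M2 := by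
  have cm : ∀ {x y}, x ∈ E → y ∈ E → x * y = y * x := comm_of_sq2 h2
  have hJ : E ≤ s.J := fun x hx => by
    by_contra hx'
    have k : (∀ x ∈ s.T, x ∉ s.J → ∀ y ∈ s.T, y ∉ s.J → x * y ∈ s.J) ∧
        ∀ x ∈ s.T, x ∉ s.J → x * x = 1 → ∀ y ∈ s.J, y ∉ s.ZT → x * y = y * x → y * y = 1 →
          ∀ w ∈ s.J, w ∉ s.ZT → x * w = w * x → w * w = 1 → y * w = w * y → y * w ∈ s.ZT :=
      (s.hY hb).decide (s.repY hb) (by decide +kernel)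
    have c1 := two_le (H := E) (K := s.J) fun y hy w hw a b => k.1 y (hE hy) a w (hE hw) b
    have c2 := two_le (H := E ⊓ s.J) (K := s.ZT) fun y hy w hw a b =>
      k.2 x (hE hx) hx' (h2 x hx) y hy.2 a (cm hx hy.1) (h2 y hy.1) w hw.2 b (cm hx hw.1) (h2 w hw.1) (cm hy.1 hw.1)
    have c3 := card_le_of_le (inf_le_right : E ⊓ s.J ⊓ s.ZT ≤ s.ZT)
    rw [s.gZT.2] at c3
    omega
  have k : (∀ y ∈ s.J, y * y = 1 → y * s.a1 ≠ s.a1 * y → ∀ w ∈ s.J, w * w = 1 → y * w = w * y → w * s.u = s.u * w) ∧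
      (∀ y ∈ s.J, y * y = 1 → y * s.a3 ≠ s.a3 * y → ∀ w ∈ s.J, w * w = 1 → y * w = w * y → w * s.v = s.v * w) ∧
      ∀ y ∈ s.J, (y * s.a1 = s.a1 * y → (y * s.a3 = s.a3 * y → y ∈ s.B) ∧ (y * s.v = s.v * y → y ∈ s.M1)) ∧
        (y * s.u = s.u * y → (y * s.a3 = s.a3 * y → y ∈ s.M2) ∧ (y * s.v = s.v * y → y ∈ s.F)) :=
    (s.hY hb).decide (s.repY hb) (by decide +kernel)
  have d : ∀ {a b : G}, (∀ y ∈ s.J, y * y = 1 → y * a ≠ a * y → ∀ w ∈ s.J, w * w = 1 → y * w = w * y →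
      w * b = b * w) → (∀ y ∈ E, y * a = a * y) ∨ ∀ y ∈ E, y * b = b * y := fun k => by
    rw [or_iff_not_imp_left]
    push Not
    exact fun ⟨y, hy, e⟩ w hw => k y (hJ hy) (h2 y hy) e w (hJ hw) (h2 w hw) (cm hy hw)
  have f : ∀ {P : Subgroup G}, Nat.card P = 32 → E ≤ P → E = P := fun c l => eq_of_le_of_card_ge l (c ▸ h)
  rcases d k.1 with a | a <;> rcases d k.2.1 with b | b
  · exact .inl (f s.gB.2 fun y hy => ((k.2.2 y (hJ hy)).1 (a y hy)).1 (b y hy))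
  · exact .inr (.inr (.inl (f (s.gM1 hb).2 fun y hy => ((k.2.2 y (hJ hy)).1 (a y hy)).2 (b y hy))))
  · exact .inr (.inr (.inr (f (s.gM2 hb).2 fun y hy => ((k.2.2 y (hJ hy)).2 (a y hy)).1 (b y hy))))
  · exact .inr (.inl (f (s.gF hb).2 fun y hy => ((k.2.2 y (hJ hy)).2 (a y hy)).2 (b y hy)))

theorem elem4 (hb : s.Be) : (∀ x ∈ s.F, x * x = 1) ∧ (∀ x ∈ s.M1, x * x = 1) ∧ (∀ x ∈ s.M2, x * x = 1) ∧
    s.B ≤ s.J ∧ s.F ≤ s.J ∧ s.M1 ≤ s.J ∧ s.M2 ≤ s.J ∧ s.J ≤ s.T ∧ s.B ⊔ s.F = s.J ∧ s.B ⊓ s.F = s.ZJ ∧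
    s.M1 ⊓ s.M2 = s.ZJ ∧ s.T ≤ 𝐍[s.F] ∧ s.T ≤ 𝐍[s.J] ∧ s.J ≤ 𝐍[s.M1] ∧ s.J ≤ 𝐍[s.M2] ∧ cj(s.q, s.M1) = s.M2 ∧
    Nat.card ↥(s.B ⊓ s.M1) = 16 ∧ Nat.card ↥(s.B ⊓ s.M2) = 16 ∧ Nat.card ↥(s.F ⊓ s.M1) = 16 ∧
    Nat.card ↥(s.F ⊓ s.M2) = 16 := by
  have k : ((∀ x ∈ s.F, x * x = 1) ∧ (∀ x ∈ s.M1, x * x = 1) ∧ (∀ x ∈ s.M2, x * x = 1) ∧
      s.B ≤ s.J ∧ s.F ≤ s.J ∧ s.M1 ≤ s.J ∧ s.M2 ≤ s.J ∧ s.J ≤ s.T) ∧
      (s.ZJ ≤ s.B ∧ s.ZJ ≤ s.F ∧ s.ZJ ≤ s.M1 ∧ s.ZJ ≤ s.M2 ∧ (∀ x ∈ s.B, x ∈ s.F → x ∈ s.ZJ) ∧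
      (∀ x ∈ s.M1, x ∈ s.M2 → x ∈ s.ZJ) ∧ ∀ x ∈ s.M1, s.q * x * s.q⁻¹ ∈ s.M2) :=
    (s.hY hb).decide (s.repY hb) (by decide +kernel)
  obtain ⟨⟨a1, a2, a3, a4, a5, a6, a7, a8⟩, b1, b2, b3, b4, b5, b6, b7⟩ := k
  have hB : ∀ x ∈ s.B, x * x = 1 := fun _ => s.B_sq
  refine ⟨a1, a2, a3, a4, a5, a6, a7, a8, le_antisymm (sup_le a4 a5) (clos_le.2 ?_),
    le_antisymm (fun x hx => b5 x hx.1 hx.2) (le_inf b1 b2), le_antisymm (fun x hx => b6 x hx.1 hx.2) (le_inf b3 b4),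
    fun g hg => nrm (le_normalizer_clos ?_ hg), fun g hg => nrm (le_normalizer_clos ?_ hg),
    fun g hg => nrm (le_normalizer_clos ?_ hg), fun g hg => nrm (le_normalizer_clos ?_ hg),
    eq_of_le_of_card_ge (cj_le_iff.2 b7) (by rw [card_cj, (s.gM1 hb).2, (s.gM2 hb).2]),
    c16 (w := s.a1) s.gZJ.2 hB b1 b3 ((s.hY hb).decide (s.repY hb) (by decide +kernel)),
    c16 (w := s.a3) s.gZJ.2 hB b1 b4 ((s.hY hb).decide (s.repY hb) (by decide +kernel)),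
    c16 (w := s.v) s.gZJ.2 a1 b2 b3 ((s.hY hb).decide (s.repY hb) (by decide +kernel)),
    c16 (w := s.u) s.gZJ.2 a1 b2 b4 ((s.hY hb).decide (s.repY hb) (by decide +kernel))⟩
  · simp only [List.forall_mem_cons, List.not_mem_nil, false_imp_iff, implies_true, and_true]
    refine ⟨mem_sup_left ?_, mem_sup_right ?_, mem_sup_right ?_, mem_sup_left ?_, mem_sup_left ?_, mem_sup_left ?_,
      mem_sup_left ?_⟩ <;> exact mem_clos (by simp)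
  all_goals
    simp only [List.forall_mem_cons, List.not_mem_nil, false_imp_iff, implies_true, and_true]
    exact (s.hY hb).decide (s.repY hb) (by decide +kernel)

theorem memTJ (hb : s.Be) {x : G} : x ∈ s.T ↔ x ∈ s.J ∨ s.q * x ∈ s.J :=
  ext2 (s.elem4 hb).2.2.2.2.2.2.2.1 (mem_clos (by simp)) ((s.hY hb).decide (s.repY hb) (by decide +kernel))

theorem memTR (hb : s.Be) {x : G} : x ∈ s.T ↔ x ∈ s.R ∨ s.t * x ∈ s.R :=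
  ext2 ((s.hY hb).decide (s.repY hb) (by decide +kernel)) s.fb_u.2.2.1
    ((s.hY hb).decide (s.repY hb) (by decide +kernel))

theorem t_nR (hb : s.Be) : s.t ∉ s.R ∧ s.t ∉ s.T0 ∧ s.q ∉ s.J ∧ s.Q ≤ s.R ∧ s.J0 ≤ s.T0 ∧ s.T0 ≤ s.T :=
  (s.hY hb).decide (s.repY hb) (by decide +kernel)

end Cf

end Cfsg.Agent.S38
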