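import Mathlib
import Cfsg.Agent.S38.FactB

/-! The centraliser of `t`. -/

set_option autoImplicit false
set_option linter.unusedSectionVars false
set_option maxRecDepth 100000
set_option synthInstance.maxSize 100000
set_option synthInstance.maxHeartbeats 1000000

namespace Cfsg.Agent.S38

open Cfsg.Agent.Rec Cfsg.Agent.Spor Cfsg.Agent.Loc.Mss Cfsg.Agent.SF6 Subgroup
open scoped commutatorElement

variable {G : Type*} [Group G] [Finite G]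

namespace Cf

variable (s : Cf G)

theorem Kit1_pow {o : G} (ho : o ∈ s.O) : o ^ Nat.card s.O = 1 :=
  congrArg Subtype.val (pow_card_eq_one' (x := (⟨o, ho⟩ : s.O)))

theorem Kit1_half {o : G} (ho : o ∈ s.O) : ∃ k : ℕ, (o * o) ^ k = o := by
  obtain ⟨k, hk⟩ := s.odd
  refine ⟨k + 1, ?_⟩
  rw [← pow_two, ← pow_mul, show 2 * (k + 1) = (2 * k + 1) + 1 by ring, pow_succ, ← hk, s.Kit1_pow ho, one_mul]

theorem O_two {o : G} (ho : o ∈ s.O) {n : ℕ} (h : o ^ 2 ^ n = 1) : o = 1 :=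
  orderOf_eq_one_iff.1 (Nat.eq_one_of_dvd_coprimes ((Nat.coprime_two_left.2 s.odd).pow_left n)
    (orderOf_dvd_of_pow_eq_one h) (orderOf_dvd_of_pow_eq_one (s.Kit1_pow ho)))

theorem Kit1_tm (g : G) : s.t * (s.t * g) = g := by rw [← mul_assoc, s.tt, one_mul]

theorem O_B {o x : G} (ho : o ∈ s.O) (hx : x ∈ s.TU) : o * x = x * o := by
  rcases s.memTU.1 hx with h | h
  · exact s.OL o ho x (s.U_le h)
  · have := s.OL o ho _ (s.U_le h)
    rwa [← mul_assoc, s.Ot o ho, mul_assoc, mul_assoc, mul_right_inj] at this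

theorem Kit1_dec {x : G} (h : x * s.t = s.t * x) : ∃ e, (e = 1 ∨ e = s.t) ∧ ∃ w, (w = 1 ∨ s.Be ∧ w = s.u) ∧
    ∃ l ∈ s.L, ∃ o ∈ s.O, x = e * (w * l) * o := by
  obtain ⟨l, hl, o, ho, k⟩ := s.cent x h
  have hu : s.u = 1 ∨ s.Be ∧ s.u = s.u := s.hu.imp_right fun k => ⟨k, rfl⟩
  rcases k with k | k | k | k
  · exact ⟨1, Or.inl rfl, 1, Or.inl rfl, l, hl, o, ho, by rw [k, one_mul, one_mul]⟩
  · exact ⟨_, Or.inr rfl, 1, Or.inl rfl, l, hl, o, ho, by rw [k, one_mul]⟩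
  · exact ⟨1, Or.inl rfl, _, hu, l, hl, o, ho, by rw [k, one_mul]⟩
  · exact ⟨_, Or.inr rfl, _, hu, l, hl, o, ho, by rw [k, mul_assoc s.t]⟩

theorem Kit1_ec {e y : G} (he : e = 1 ∨ e = s.t) (h : y * s.t = s.t * y) : Commute e y := by
  rcases he with rfl | rfl
  · exact Commute.one_left _
  · exact h.symm

theorem Kit1_ee {e : G} (he : e = 1 ∨ e = s.t) : e * e = 1 := by
  rcases he with rfl | rfl
  · exact one_mul _
  · exact s.tt

theorem Kit1_w {w : G} (hw : w = 1 ∨ s.Be ∧ w = s.u) : w ∈ 𝐍[s.L] ∧ w ∈ 𝐍[s.O] ∧ w ∈ 𝐍[s.B] ∧ w ∈ s.T ∧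
    w * s.t = s.t * w ∧ w * w = 1 := by
  rcases hw with rfl | ⟨-, rfl⟩
  · exact ⟨one_mem _, one_mem _, one_mem _, one_mem _, by simp, one_mul _⟩
  · exact ⟨s.u_norm.1, s.uO, s.u_norm.2.2.1, mem_clos (by simp), s.ut, s.uu⟩

theorem Kit1_LO : s.L ≤ 𝐍[s.O] := norm_of_cent fun l hl => mem_cent.2 fun o ho => s.OL o ho l hl

theorem C_norm {x : G} (h : x * s.t = s.t * x) : x ∈ 𝐍[s.L] ∧ x ∈ 𝐍[s.O] := by
  obtain ⟨e, he, w, hw, l, hl, o, ho, rfl⟩ := s.Kit1_dec h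
  obtain ⟨w1, w2, -⟩ := s.Kit1_w hw
  exact ⟨mul_mem (mul_mem (cent_le_norm _ (mem_cent.2 fun a ha => (s.Kit1_ec he (s.t_comm ha)).symm.eq))
      (mul_mem w1 (le_normalizer hl))) (cent_le_norm _ (mem_cent.2 fun a ha => (s.OL o ho a ha).symm)),
    mul_mem (mul_mem (cent_le_norm _ (mem_cent.2 fun a ha => (s.Kit1_ec he (s.Ot a ha)).symm.eq))
      (mul_mem w2 (s.Kit1_LO hl))) (le_normalizer ho)⟩

theorem Kit1_act {e w l o y : G} (he : e = 1 ∨ e = s.t) (hw : w = 1 ∨ s.Be ∧ w = s.u) (hl : l ∈ s.L) (ho : o ∈ s.O)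
    (hy : y ∈ s.L) : e * (w * l) * o * y * (e * (w * l) * o)⁻¹ = w * l * y * (w * l)⁻¹ := by
  have k := s.Kit1_ec he (s.t_comm (conj_mem_of_norm (mul_mem (s.Kit1_w hw).1 (le_normalizer hl)) hy))
  calc _ = e * (w * l * (o * y * o⁻¹) * (w * l)⁻¹) * e⁻¹ := by group
    _ = _ := by rw [s.OL o ho y hy, mul_inv_cancel_right, k.eq, mul_inv_cancel_right]

/-- The action of an element of `C(t)` on `L`. -/
theorem act {x : G} (h : x * s.t = s.t * x) : ∃ l ∈ s.L, (∀ y ∈ s.L, x * y * x⁻¹ = l * y * l⁻¹) ∨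
    (s.Be ∧ ∀ y ∈ s.L, x * y * x⁻¹ = s.u * l * y * (s.u * l)⁻¹) := by
  obtain ⟨e, he, w, hw, l, hl, o, ho, rfl⟩ := s.Kit1_dec h
  refine ⟨l, hl, hw.imp (fun k y hy => ?_) fun k => ⟨k.1, fun y hy => ?_⟩⟩
  · rw [s.Kit1_act he hw hl ho hy, k, one_mul]
  · rw [s.Kit1_act he hw hl ho hy, k.2]

theorem Kit1_mem : s.z ∈ s.A0 ∧ s.z1 ∈ s.A0 ∧ s.A0 ≤ s.L ∧ s.A0 ≤ s.B ∧ s.f ∈ s.L ∧ s.z * s.f ≠ s.f * s.z :=
  ⟨s.les.2.2.2.2.2.2.1 s.mems.2.2.2.2.2.1, s.les.2.2.2.2.2.2.1 s.mems.2.2.2.2.2.2.1, s.les.2.2.2.2.1.trans s.A_le,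
    s.les.2.2.2.2.1.trans s.les.2.2.2.2.2.2.2.1, mem_clos (by simp), s.hL.decide s.rep (by decide +kernel)⟩

theorem C_K1 {x y : G} (h : x * s.t = s.t * x) (hy : y ∈ s.K1) : x * y * x⁻¹ ∈ s.K1 := by
  have yL : y ∈ s.L := by
    obtain ⟨l, hl, rfl⟩ := s.K1_cj.1 hy
    exact mul_mem (mul_mem hl (s.Kit1_mem.2.2.1 s.Kit1_mem.1)) (inv_mem hl)
  obtain ⟨l, hl, k | ⟨-, k⟩⟩ := s.act h
  · rw [k y yL]; exact conj_mem_cls hl hy
  · rw [k y yL, show s.u * l * y * (s.u * l)⁻¹ = s.u * (l * y * l⁻¹) * s.u⁻¹ by group]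
    exact s.u_K1 (conj_mem_cls hl hy)

theorem C_K2 {x y : G} (h : x * s.t = s.t * x) (hy : y ∈ s.K2) : x * y * x⁻¹ ∈ s.K2 := by
  have yL : y ∈ s.L := by
    obtain ⟨l, hl, rfl⟩ := s.K2_cj.1 hy
    exact mul_mem (mul_mem hl (s.Kit1_mem.2.2.1 s.Kit1_mem.2.1)) (inv_mem hl)
  obtain ⟨l, hl, k | ⟨-, k⟩⟩ := s.act h
  · rw [k y yL]; exact conj_mem_cls hl hy
  · rw [k y yL, show s.u * l * y * (s.u * l)⁻¹ = s.u * (l * y * l⁻¹) * s.u⁻¹ by group]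
    exact s.u_K2 (conj_mem_cls hl hy)

theorem comm_LO : ⁅centralizer {s.t}, centralizer {s.t}⁆ ≤ s.L ⊔ s.O := by
  refine commutator_le.2 fun x hx y hy => ?_
  obtain ⟨e, he, w, hw, l, hl, o, ho, rfl⟩ := s.Kit1_dec (mem_centralizer_singleton_iff.1 hx)
  obtain ⟨e', he', w', hw', l', hl', o', ho', rfl⟩ := s.Kit1_dec (mem_centralizer_singleton_iff.1 hy)
  have n : ∀ {e w : G}, (e = 1 ∨ e = s.t) → (w = 1 ∨ s.Be ∧ w = s.u) → e * w ∈ 𝐍[s.L ⊔ s.O] := fun {e w} he hw => by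
    have k := s.C_norm (x := e * w) (((s.Kit1_ec he rfl).mul_left (s.Kit1_w hw).2.2.2.2.1 : Commute _ _).eq)
    exact norm_sup (zpowers_le.2 k.1) (zpowers_le.2 k.2) (mem_zpowers _)
  have c1 : Commute e e' := s.Kit1_ec he (s.Kit1_ec he' rfl).eq
  have c2 : Commute w w' := by
    rcases hw with rfl | ⟨-, rfl⟩
    · exact Commute.one_left _
    rcases hw' with rfl | ⟨-, rfl⟩
    · exact Commute.one_right _
    · exact Commute.refl _
  have c : Commute (e * w) (e' * w') := (c1.mul_right (s.Kit1_ec he (s.Kit1_w hw').2.2.2.2.1)).mul_left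
    ((s.Kit1_ec he' (s.Kit1_w hw).2.2.2.2.1).symm.mul_right c2)
  have m : l * o ∈ s.L ⊔ s.O := mul_mem (mem_sup_left hl) (mem_sup_right ho)
  have m' : l' * o' ∈ s.L ⊔ s.O := mul_mem (mem_sup_left hl') (mem_sup_right ho')
  have n1 := n he hw
  have n2 := n he' hw'
  rw [show e * (w * l) * o = e * w * (l * o) by group, show e' * (w' * l') * o' = e' * w' * (l' * o') by group]
  generalize e * w = a at *
  generalize e' * w' = b at *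
  generalize l * o = p at *
  generalize l' * o' = q at *
  have : ⁅a * p, b * q⁆ = a * p * a⁻¹ * (a * b * (q * p⁻¹) * (a * b)⁻¹) * ((a * b) * (b * a)⁻¹) * (b * q⁻¹ * b⁻¹) := by
    simp only [commutatorElement_def]; group
  rw [this, c.eq, mul_inv_cancel, mul_one, ← c.eq]
  exact mul_mem (mul_mem (conj_mem_of_norm n1 m) (conj_mem_of_norm (mul_mem n1 n2) (mul_mem m' (inv_mem m))))
    (conj_mem_of_norm n2 (inv_mem m'))

theorem Kit1_inf {x : G} (h1 : x ∈ s.L) (h2 : x ∈ s.O) : x = 1 := by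
  rcases s.cent_Q h1 (fun a ha => s.OL x h2 a (s.Q_le ha)) with k | k
  · exact k
  · exact s.O_two h2 (n := 1) (by rw [pow_one, pow_two, k, s.B_sq (s.Kit1_mem.2.2.2.1 s.Kit1_mem.1)])

theorem Kit1_two {l o : G} (hl : l ∈ s.L) (ho : o ∈ s.O) {n : ℕ} (h : (l * o) ^ 2 ^ n = 1) : o = 1 := by
  rw [Commute.mul_pow (s.OL o ho l hl).symm] at h
  exact s.O_two ho (s.Kit1_inf (eq_inv_of_mul_eq_one_right h ▸ inv_mem (pow_mem hl _)) (pow_mem ho _))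

theorem two_L {x : G} (hx : x ∈ s.L ⊔ s.O) {n : ℕ} (h : x ^ 2 ^ n = 1) : x ∈ s.L := by
  obtain ⟨l, hl, o, ho, rfl⟩ := (mem_sup_norm' s.Kit1_LO).1 hx
  rwa [s.Kit1_two hl ho h, mul_one]

theorem Kit1_eT {e : G} (he : e = 1 ∨ e = s.t) : e ∈ s.B := by
  rcases he with rfl | rfl
  · exact one_mem _
  · exact s.mems.1

theorem sylT : Syl 2 s.T (centralizer {s.t}) := by
  refine Syl.of_maximal s.pgT (fun x hx => mem_centralizer_singleton_iff.2 (s.T_comm hx).1) fun P hP hT hC x hx => ?_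
  obtain ⟨e, he, w, hw, l, hl, o, ho, rfl⟩ := s.Kit1_dec (mem_centralizer_singleton_iff.1 (hC hx))
  have UT : s.U ≤ s.T := s.les.2.2.2.2.2.2.2.2.2.1.trans s.TU_le
  have m : e * w ∈ s.T := mul_mem (s.TU_le (s.les.2.2.2.2.2.2.2.2.1 (s.Kit1_eT he))) (s.Kit1_w hw).2.2.2.1
  rw [show e * (w * l) * o = e * w * (l * o) by group] at hx ⊢
  have m1 := (mul_mem_cancel_left (hT m)).1 hx
  obtain ⟨n, hn⟩ := pg_iff.1 hP _ m1
  exact mul_mem m (UT (s.sylU.ge_of_le (hP.to_le inf_le_left) (le_inf (UT.trans hT) s.U_le) inf_le_right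
    ⟨m1, s.two_L (mul_mem (mem_sup_left hl) (mem_sup_right ho)) hn⟩))

theorem pg_cent {P : Subgroup G} (hP : IsPGroup 2 P) (hT : s.T ≤ P) {x : G} (hx : x ∈ P) (h : x * s.t = s.t * x) :
    x ∈ s.T :=
  s.sylT.ge_of_le (hP.to_le inf_le_left) (le_inf hT s.sylT.le) inf_le_right ⟨hx, mem_centralizer_singleton_iff.2 h⟩

theorem Kit1_A0 {x : G} (h : x * s.t = s.t * x) (ha : ∀ a ∈ s.A0, x * a = a * x) :
    ∃ e, (e = 1 ∨ e = s.t) ∧ ∃ l ∈ s.L, ∃ o ∈ s.O, x = e * l * o ∧ ∀ y ∈ s.L, x * y = y * x → l * y = y * l := by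
  obtain ⟨e, he, w, hw, l, hl, o, ho, rfl⟩ := s.Kit1_dec h
  have k : ∀ y ∈ s.L, e * (w * l) * o * y = y * (e * (w * l) * o) → w * l * y = y * (w * l) := fun y hy k => by
    rw [← mul_inv_eq_iff_eq_mul, ← s.Kit1_act he hw hl ho hy, k, mul_inv_cancel_right]
  rcases hw with rfl | ⟨hb, rfl⟩
  · simp only [one_mul] at k ⊢
    exact ⟨e, he, l, hl, o, ho, rfl, k⟩
  · exact (s.out_A0 hb hl fun a h => k a (s.Kit1_mem.2.2.1 h) (ha a h)).elim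

theorem cent_tL {x : G} (h : x * s.t = s.t * x) (hl : ∀ l ∈ s.L, x * l = l * x) : x ∈ s.O ∨ s.t * x ∈ s.O := by
  obtain ⟨e, he, l, hl', o, ho, e1, k⟩ := s.Kit1_A0 h fun a ha => hl a (s.Kit1_mem.2.2.1 ha)
  rcases s.cent_Q hl' (fun a ha => k a (s.Q_le ha) (hl a (s.Q_le ha))) with rfl | rfl
  · rcases he with rfl | rfl
    · exact Or.inl (by rwa [e1, one_mul, one_mul])
    · exact Or.inr (by rwa [e1, mul_one, s.Kit1_tm])
  · exact (s.Kit1_mem.2.2.2.2.2 (k _ s.Kit1_mem.2.2.2.2.1 (hl _ s.Kit1_mem.2.2.2.2.1))).elim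

theorem cent_tA0 {x : G} (h : x * s.t = s.t * x) (ha : ∀ a ∈ s.A0, x * a = a * x) : ∃ b ∈ s.B, ∃ o ∈ s.O, x = b * o := by
  obtain ⟨e, he, l, hl, o, ho, e1, k⟩ := s.Kit1_A0 h ha
  exact ⟨e * l, mul_mem (s.Kit1_eT he) (s.les.2.2.2.2.2.2.2.1
    (s.cent_A0 hl fun a h => k a (s.Kit1_mem.2.2.1 h) (ha a h))), o, ho, e1⟩

theorem cent_B {x : G} (h : ∀ b ∈ s.B, x * b = b * x) : ∃ b ∈ s.B, ∃ o ∈ s.O, x = b * o :=
  s.cent_tA0 (h _ s.mems.1) fun a ha => h a (s.Kit1_mem.2.2.2.1 ha)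

theorem Kit1_BO {b o : G} (hb : b ∈ s.B) (ho : o ∈ s.O) : Commute b o :=
  (s.O_B ho (s.les.2.2.2.2.2.2.2.2.1 hb)).symm

theorem cent_B2 {x : G} (h : ∀ b ∈ s.B, x * b = b * x) {n : ℕ} (h2 : x ^ 2 ^ n = 1) : x ∈ s.B := by
  obtain ⟨b, hb, o, ho, rfl⟩ := s.cent_B h
  have k : (b * o) ^ 2 ^ (n + 1) = 1 := by rw [pow_succ, pow_mul, h2, one_pow]
  rw [(s.Kit1_BO hb ho).mul_pow, pow_succ', pow_mul b, pow_two, s.B_sq hb, one_pow, one_mul, ← pow_succ'] at k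
  rwa [s.O_two ho k, mul_one]

theorem norm_BO : 𝐍[s.B] ≤ 𝐍[s.O] := fun n hn => by
  refine mem_norm_of_cj_le (cj_le_iff.2 fun o ho => ?_)
  obtain ⟨b, hb, o', ho', e⟩ := s.cent_B (x := n * o * n⁻¹) fun b hb => by
    calc _ = n * (o * (n⁻¹ * b * n)) * n⁻¹ := by group
      _ = _ := by rw [← (s.Kit1_BO (conj_mem_of_norm' hn hb) ho).eq]; group
  have k : (b * o') ^ Nat.card s.O = 1 := by rw [← e, conj_pow, s.Kit1_pow ho]; group
  obtain ⟨m, hm⟩ := s.odd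
  rw [(s.Kit1_BO hb ho').mul_pow, s.Kit1_pow ho', mul_one, hm, pow_succ, pow_mul, pow_two, s.B_sq hb, one_pow,
    one_mul] at k
  rwa [e, k, one_mul]

/-- Elements of `C(t)` normalising `B`. -/
theorem normB_t {x : G} (hx : x ∈ 𝐍[s.B]) (h : x * s.t = s.t * x) : ∃ l ∈ s.NA, ∃ o ∈ s.O,
    x = l * o ∨ x = s.t * l * o ∨ (s.Be ∧ (x = s.u * l * o ∨ x = s.t * s.u * l * o)) := by
  obtain ⟨e, he, w, hw, l, hl, o, ho, rfl⟩ := s.Kit1_dec h
  have k := (mul_mem_cancel_left (s.Kit1_w hw).2.2.1).1 ((mul_mem_cancel_left (le_normalizer (s.Kit1_eT he))).1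
    ((mul_mem_cancel_right (cent_le_norm _ (mem_cent.2 fun b hb => (s.Kit1_BO hb ho).eq))).1 hx))
  refine ⟨l, s.norm_A hl (mem_norm_of_cj_le (cj_le_iff.2 fun a ha => s.B_L
    (conj_mem_of_norm k (s.les.2.2.2.2.2.2.2.1 ha)) (mul_mem (mul_mem hl (s.A_le ha)) (inv_mem hl)))), o, ho, ?_⟩
  rcases he with rfl | rfl <;> rcases hw with rfl | ⟨hb, rfl⟩
  · exact Or.inl (by rw [one_mul, one_mul])
  · exact Or.inr (Or.inr ⟨hb, Or.inl (by rw [one_mul])⟩)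
  · exact Or.inr (Or.inl (by rw [one_mul]))
  · exact Or.inr (Or.inr ⟨hb, Or.inr (by rw [mul_assoc s.t s.u])⟩)

/-- Involutions of `C(t)`. -/
theorem invC {x : G} (h : x * s.t = s.t * x) (h2 : x * x = 1) : (∃ l ∈ s.L, l * l = 1 ∧ (x = l ∨ x = s.t * l)) ∨
    (s.Be ∧ ∃ y, y * s.t = s.t * y ∧ (y * x * y⁻¹ = s.u ∨ y * x * y⁻¹ = s.u * s.z2 ∨ y * x * y⁻¹ = s.t * s.u ∨
      y * x * y⁻¹ = s.t * (s.u * s.z2))) := by
  obtain ⟨e, he, w, hw, l, hl, o, ho, rfl⟩ := s.Kit1_dec h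
  have c0 : Commute (w * l) s.t := Commute.mul_left (s.Kit1_w hw).2.2.2.2.1 (s.t_comm hl)
  have c1 : Commute e (w * l * o) := s.Kit1_ec he (c0.mul_left (s.Ot o ho)).eq
  rw [mul_assoc e, c1.symm.mul_mul_mul_comm, s.Kit1_ee he, one_mul] at h2
  rcases hw with rfl | ⟨hb, rfl⟩
  · rw [one_mul] at h2 ⊢
    have := s.Kit1_two hl ho (n := 1) (by rw [pow_one, pow_two, h2])
    subst this
    rw [mul_one] at h2 ⊢
    exact Or.inl ⟨l, hl, h2, he.imp (fun k => by rw [k, one_mul]) fun k => by rw [k]⟩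
  refine Or.inr ⟨hb, ?_⟩
  have n : s.u * l ∈ 𝐍[s.O] := mul_mem s.uO (s.Kit1_LO hl)
  have m : s.u * l * (s.u * l) ∈ s.L := by
    rw [show s.u * l * (s.u * l) = s.u * l * s.u⁻¹ * (s.u * s.u) * l by group, s.uu, mul_one]
    exact mul_mem (conj_mem_of_norm s.u_norm.1 hl) hl
  have io := s.invol_out hb hl
  generalize s.u * l = v at *
  have e1 : v * v * (v⁻¹ * o * v * o) = 1 := by rw [← h2]; group
  have e2 : v * v = 1 := s.Kit1_inf m (eq_inv_of_mul_eq_one_left e1 ▸ inv_mem (mul_mem (conj_mem_of_norm' n ho) ho))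
  rw [e2, one_mul] at e1
  obtain ⟨k, hk⟩ := s.Kit1_half ho
  have e3 : v⁻¹ * o ^ k * v = (o ^ k)⁻¹ := by
    have := conj_pow (a := v⁻¹) (b := o) (i := k)
    rw [inv_inv] at this
    rw [← inv_pow, ← eq_inv_of_mul_eq_one_left e1, this]
  have e4 : o ^ k * (e * v * o) * (o ^ k)⁻¹ = e * v := by
    have c2 : Commute e (o ^ k) := (s.Kit1_ec he (s.Ot o ho)).pow_right k
    rw [(Commute.refl o).mul_pow] at hk
    calc _ = o ^ k * e * v * (o ^ k * o ^ k) * (o ^ k)⁻¹ := by rw [hk]; group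
      _ = e * v * (v⁻¹ * o ^ k * v) * o ^ k := by rw [← c2.eq]; group
      _ = _ := by rw [e3]; group
  have key : ∀ l' ∈ s.L, ∀ a, l' * a * l'⁻¹ = v → (l'⁻¹ * o ^ k) * s.t = s.t * (l'⁻¹ * o ^ k) ∧
      l'⁻¹ * o ^ k * (e * v * o) * (l'⁻¹ * o ^ k)⁻¹ = e * a := fun l' hl' a ha => by
    refine ⟨(Commute.mul_left (s.t_comm (inv_mem hl')) (s.Ot _ (pow_mem ho k)) : Commute _ _), ?_⟩
    calc _ = l'⁻¹ * (o ^ k * (e * v * o) * (o ^ k)⁻¹) * l' := by group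
      _ = l'⁻¹ * (e * l') * a := by rw [e4, ← ha]; group
      _ = _ := by rw [(s.Kit1_ec he (s.t_comm hl')).eq]; group
  rcases io e2 with k3 | k3
  · obtain ⟨l', hl', e5⟩ := s.K3_cj.1 k3
    obtain ⟨k1, k2⟩ := key l' hl' _ e5
    refine ⟨_, k1, ?_⟩
    rcases he with rfl | rfl
    · exact Or.inl (k2.trans (one_mul _))
    · exact Or.inr (Or.inr (Or.inl k2))
  · obtain ⟨l', hl', e5⟩ := s.K4_cj.1 k3
    obtain ⟨k1, k2⟩ := key l' hl' _ e5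
    refine ⟨_, k1, ?_⟩
    rcases he with rfl | rfl
    · exact Or.inr (Or.inl (k2.trans (one_mul _)))
    · exact Or.inr (Or.inr (Or.inr k2))

theorem O_le_X : s.O ≤ s.X := fun o ho => by
  obtain ⟨k, hk⟩ := s.Kit1_half ho
  rw [← hk]
  refine pow_mem ?_ k
  rcases s.GX o with h | h
  · exact mul_mem h h
  · have := mul_mem h h
    rwa [Commute.mul_mul_mul_comm (s.Ot o ho), s.tt, one_mul] at this

theorem X_le : s.X ≤ commutator G := by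
  have := s.sX
  obtain ⟨m1, -, m2, -, m3, m4⟩ := s.Kit1_mem
  rcases (inferInstance : ((commutator G).subgroupOf s.X).Normal).eq_bot_or_eq_top with h | h
  · have k : (⟨⁅s.z, s.f⁆, mul_mem (mul_mem (mul_mem (s.LX (m2 m1)) (s.LX m3)) (inv_mem (s.LX (m2 m1))))
        (inv_mem (s.LX m3))⟩ : s.X) ∈ (commutator G).subgroupOf s.X :=
      mem_subgroupOf.2 (commutator_mem_commutator (mem_top _) (mem_top _))
    rw [h, mem_bot] at k
    exact (m4 (commutatorElement_eq_one_iff_mul_comm.1 (congrArg Subtype.val k))).elim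
  · exact subgroupOf_eq_top.1 h

end Cf

end Cfsg.Agent.S38
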