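import Mathlib
import Cfsg.Agent.S38.Kit1
import Cfsg.Agent.GT.TransferCocycle
import Cfsg.Agent.Blk.ZStar

/-! The class of `t`. -/

set_option autoImplicit false
set_option linter.unusedSectionVars false
set_option maxRecDepth 100000
set_option synthInstance.maxSize 100000
set_option synthInstance.maxHeartbeats 1000000

namespace Cfsg.Agent.S38

open Cfsg.Agent.Rec Cfsg.Agent.Spor Cfsg.Agent.Loc.Mss Cfsg.Agent.SF6 Subgroup
open scoped commutatorElement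

variable {G : Type*} [Group G] [Finite G]

/-- Extremal transfer with an abelian quotient. -/
theorem ttN {S N C : Subgroup G} (hS : Syl 2 S ⊤) (hN : ∀ a ∈ S, ∀ b ∈ S, a * b * a⁻¹ * b⁻¹ ∈ N) {y : G} (hy : y ∈ S)
    (y2 : y * y = 1) (hp : y ∈ commutator G) (hC : IsPGroup 2 C) (hCy : ∀ x ∈ C, x * y = y * x)
    (h : ∀ g, g * y * g⁻¹ ∈ S → cj(g, C) ≤ S → g * y * g⁻¹ * y ∈ N) : y ∈ N := by
  by_contra hn
  have hnm : (N.subgroupOf S).Normal := ⟨fun a ha b => by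
    have := mul_mem (hN b b.2 a a.2) (mem_subgroupOf.1 ha)
    rwa [inv_mul_cancel_right] at this⟩
  let _ : CommGroup (S ⧸ N.subgroupOf S) :=
    { (inferInstance : Group (S ⧸ N.subgroupOf S)) with
      mul_comm := fun a b => by
        obtain ⟨a, rfl⟩ := QuotientGroup.mk_surjective a
        obtain ⟨b, rfl⟩ := QuotientGroup.mk_surjective b
        refine QuotientGroup.eq.2 (mem_subgroupOf.2 ?_)
        simpa [mul_assoc] using hN _ (inv_mem b.2) _ (inv_mem a.2) }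
  obtain ⟨ψ, hψ⟩ := CommGroup.exists_apply_ne_one_of_hasEnoughRootsOfUnity (S ⧸ N.subgroupOf S) ℂ
    (a := QuotientGroup.mk ⟨y, hy⟩) fun e =>
      hn (mem_subgroupOf.1 ((QuotientGroup.eq_one_iff (N := N.subgroupOf S) ⟨y, hy⟩).1 e))
  have sq : ∀ a : ℂˣ, a ^ 2 = 1 → a ≠ 1 → a = -1 := fun a h1 h2 => Units.ext
    ((sq_eq_one_iff.1 (show (a : ℂ) ^ 2 = 1 from by simpa using congrArg Units.val h1)).resolve_left
      fun e => h2 (Units.ext e))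
  obtain ⟨t, h1, h2, h3⟩ := GT.Tr.thompson_transfer (ψ.comp (QuotientGroup.mk' _))
    (relIndex_top_right S ▸ hS.nd) (fun a b ha hb a1 b1 => (sq a ha a1).trans (sq b hb b1).symm)
    ((pow_two y).trans y2) (GT.Tr.transfer_eq_one_of_mem_commutator _ hp) hC hCy
  have h4 := h t⁻¹ (by rwa [inv_inv]) (cj_le_iff.2 fun a ha => by rw [inv_inv]; exact h3 a ha)
  rw [inv_inv] at h4
  have h5 := congrArg ψ ((QuotientGroup.eq_one_iff (N := N.subgroupOf S) (⟨_, h1⟩ * ⟨y, hy⟩)).2 h4)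
  rw [QuotientGroup.mk_mul, map_mul, map_one, show ψ (QuotientGroup.mk ⟨_, h1⟩) = 1 from h2, one_mul] at h5
  exact hψ h5

/-- The same inside a normal subgroup `X` with `⁅X, X⁆ = X`; the quotient `S / N` is cyclic or `y ∉ N'` for a
subgroup `N'` of index two. Form used: some extremal conjugate lies in `N`. -/
theorem ttX {X S N C : Subgroup G} (hX : ⁅X, X⁆ = X) (hS : Syl 2 S X) (hN : N ≤ S) (hn : S ≤ 𝐍[N]) {x : G} (hx : x ∈ S)
    (hc : ∀ a ∈ S, ∃ n : ℕ, x ^ n * a ∈ N) {y : G} (hy : y ∈ X) (y2 : y * y = 1) (hC : IsPGroup 2 C) (hCX : C ≤ X)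
    (hCy : ∀ a ∈ C, a * y = y * a) : ∃ g ∈ X, g * y * g⁻¹ ∈ N ∧ cj(g, C) ≤ S := by
  have hnm : ((N.subgroupOf X).subgroupOf (S.subgroupOf X)).Normal :=
    ⟨fun a ha b => show ((b : X) : G) * ((a : X) : G) * ((b : X) : G)⁻¹ ∈ N from conj_mem_of_norm (hn b.2) ha⟩
  have hcy : IsCyclic (S.subgroupOf X ⧸ (N.subgroupOf X).subgroupOf (S.subgroupOf X)) := by
    refine ⟨⟨QuotientGroup.mk ⟨⟨x, hS.le hx⟩, hx⟩, fun q => ?_⟩⟩
    obtain ⟨a, rfl⟩ := QuotientGroup.mk_surjective q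
    obtain ⟨n, h⟩ := hc _ a.2
    have := (QuotientGroup.eq_one_iff (N := (N.subgroupOf X).subgroupOf (S.subgroupOf X))
      (⟨⟨x, hS.le hx⟩, hx⟩ ^ n * a)).2 h
    rw [QuotientGroup.mk_mul, QuotientGroup.mk_pow] at this
    exact ⟨-(n : ℤ), by simp only [zpow_neg, zpow_natCast]; exact inv_eq_of_mul_eq_one_right this⟩
  have hy' : (⟨y, hy⟩ : X) ∈ commutator X := by
    have := hX.ge hy
    rw [← map_subtype_commutator] at this
    obtain ⟨w, h1, h2⟩ := this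
    rwa [← show w = ⟨y, hy⟩ from Subtype.ext h2]
  obtain ⟨g, h1, -, h2⟩ := GT.Tr.thompson_transfer_of_isCyclic (H := S.subgroupOf X) hS.nd hcy
    (Subtype.ext ((pow_two y).trans y2)) hy' (C := C.subgroupOf X) (hC.comap_of_injective _ X.subtype_injective)
    fun a ha => Subtype.ext (hCy a ha)
  exact ⟨g, g.2, h1, cj_le_iff.2 fun a ha => h2 ⟨a, hCX ha⟩ ha⟩

theorem Kit2_cj {d x : G} (h : x ∈ ⁅centralizer ({d} : Set G), centralizer {d}⁆) (g : G) :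
    g * x * g⁻¹ ∈ ⁅centralizer ({g * d * g⁻¹} : Set G), centralizer {g * d * g⁻¹}⁆ := by
  have h1 : cj(g, centralizer ({d} : Set G)) ≤ centralizer {g * d * g⁻¹} := cj_le_iff.2 fun a ha =>
    mem_centralizer_singleton_iff.2 (by rw [conj_mul, conj_mul, mem_centralizer_singleton_iff.1 ha])
  exact commutator_mono h1 h1 ((cj_comm _ _ g).le (conj_mem_cj h))

theorem Kit2_pg {x : G} (h : x * x = 1) : IsPGroup 2 (zpowers x) := pg_iff.2 (by
  rintro _ ⟨k, rfl⟩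
  exact ⟨1, by rw [pow_one, ← zpow_natCast, ← zpow_mul, mul_comm, zpow_mul, zpow_natCast, pow_two, h, one_zpow]⟩)

namespace Cf

variable (s : Cf G)

theorem tD : s.t ∈ s.D := IsConj.refl _
theorem memD {d : G} : d ∈ s.D ↔ ∃ g, g * s.t * g⁻¹ = d := isConj_iff
theorem D_conj {d : G} (hd : d ∈ s.D) (g : G) : g * d * g⁻¹ ∈ s.D := IsConj.trans hd (isConj_iff.2 ⟨g, rfl⟩)
theorem D_conj' {d g : G} (hd : g * d * g⁻¹ ∈ s.D) : d ∈ s.D :=
  IsConj.trans hd (isConj_iff.2 ⟨g, rfl⟩).symm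
theorem D_sq {d : G} (hd : d ∈ s.D) : d * d = 1 := by
  obtain ⟨g, rfl⟩ := isConj_iff.1 hd
  rw [conj_mul, s.tt, mul_one, mul_inv_cancel]
theorem toT {d : G} (hd : d ∈ s.D) {P : Subgroup G} (hP : IsPGroup 2 P) (h : ∀ x ∈ P, x * d = d * x) :
    ∃ g, g * d * g⁻¹ = s.t ∧ cj(g, P) ≤ s.T := by
  obtain ⟨g, e⟩ := isConj_iff.1 (IsConj.symm hd)
  obtain ⟨m, hm, h2⟩ := s.sylT.conj_le (pg_cj hP g) (cj_le_iff.2 fun a ha =>
    mem_centralizer_singleton_iff.2 (by rw [← e, conj_mul, conj_mul, h a ha]))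
  refine ⟨m * g, ?_, by rwa [cj_cj] at h2⟩
  calc _ = m * (g * d * g⁻¹) * m⁻¹ := by group
    _ = _ := by rw [e, mem_centralizer_singleton_iff.1 hm, mul_inv_cancel_right]
theorem Kit2_L {x : G} (h : x ∈ ⁅centralizer ({s.t} : Set G), centralizer {s.t}⁆) (h2 : x * x = 1) : x ∈ s.L :=
  s.two_L (s.comm_LO h) (n := 1) (by rw [pow_one, pow_two, h2])
theorem not_comm {d : G} (hd : d ∈ s.D) : d ∉ ⁅centralizer {d}, centralizer {d}⁆ := fun h => by
  obtain ⟨g, e⟩ := isConj_iff.1 (IsConj.symm hd)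
  have := Kit2_cj h g
  rw [e] at this
  exact s.t_nL (s.Kit2_L this s.tt)
theorem D_nL {d : G} (hd : d ∈ s.D) : d ∉ s.L := fun h => by
  have k : (s.b * s.p * s.b⁻¹ * s.p⁻¹ = s.z ∧ s.b * s.z = s.z * s.b ∧ s.p * s.z = s.z * s.p) ∧
      s.a1 * s.p * s.a1⁻¹ * s.p⁻¹ = s.z1 ∧ s.a1 * s.z1 = s.z1 * s.a1 ∧ s.p * s.z1 = s.z1 * s.p :=
    s.hL.decide s.rep (by decide +kernel)
  have k' : ∀ {a b c : G}, a * b * a⁻¹ * b⁻¹ = c ∧ a * c = c * a ∧ b * c = c * b → c ∉ s.D := fun {a b c} e hc => by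
    have := commutator_mem_commutator (mem_centralizer_singleton_iff.2 e.2.1) (mem_centralizer_singleton_iff.2 e.2.2)
    rw [commutatorElement_def, e.1] at this
    exact s.not_comm hc this
  rcases s.invol h (s.D_sq hd) with rfl | h1 | h1
  · exact s.not_comm hd (one_mem _)
  · obtain ⟨l, -, rfl⟩ := s.K1_cj.1 h1
    exact k' k.1 (s.D_conj' hd)
  · obtain ⟨l, -, rfl⟩ := s.K2_cj.1 h1
    exact k' k.2 (s.D_conj' hd)
theorem D_X (ht : s.t ∉ s.X) {d : G} (hd : d ∈ s.D) : d ∉ s.X := fun h => by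
  obtain ⟨g, e⟩ := isConj_iff.1 (IsConj.symm hd)
  exact ht (e ▸ s.nX.conj_mem _ h g)
theorem D_tL (hz : s.t * s.z1 ∉ s.D) {l : G} (hl : l ∈ s.L) (hd : s.t * l ∈ s.D) : l = 1 ∨ l ∈ s.K1 := by
  have h2 := s.D_sq hd
  rw [mul_assoc, ← mul_assoc l, s.t_comm hl, ← mul_assoc, ← mul_assoc, s.tt, one_mul] at h2
  rcases s.invol hl h2 with h | h | h
  exacts [.inl h, .inr h, by
    obtain ⟨m, hm, rfl⟩ := s.K2_cj.1 h
    refine absurd (s.D_conj' (g := m) ?_) hz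
    rwa [← mul_assoc, s.t_comm hm, mul_assoc s.t, mul_assoc s.t]]
/-- No pure four-groups. -/
theorem pure (hz : s.t * s.z1 ∉ s.D) {d x y : G} (hd : d ∈ s.D) (hx : x ∈ ⁅centralizer {d}, centralizer {d}⁆)
    (hy : y ∈ ⁅centralizer {d}, centralizer {d}⁆) (x2 : x * x = 1) (y2 : y * y = 1) (hc : x * y = y * x)
    (x1 : x ≠ 1) (y1 : y ≠ 1) (xy : x ≠ y) (h1 : d * x ∈ s.D) (h2 : d * y ∈ s.D) : d * (x * y) ∉ s.D := fun h3 => by
  have c1 : zpowers x ≤ centralizer {d} := zpowers_le.2 (commutator_le_self _ hx)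
  have c2 : zpowers y ≤ centralizer {d} := zpowers_le.2 (commutator_le_self _ hy)
  obtain ⟨g, e, h4⟩ := s.toT hd (pg_sup (Kit2_pg x2) (Kit2_pg y2) (norm_of_cent (zpowers_le.2 (mem_cent.2
    fun _ ⟨k, hk⟩ => hk ▸ (Commute.zpow_left hc.symm k))))) fun a ha =>
      mem_centralizer_singleton_iff.1 (sup_le c1 c2 ha)
  have sq : ∀ {a : G}, a * a = 1 → g * a * g⁻¹ * (g * a * g⁻¹) = 1 := fun h => by
    rw [conj_mul, h, mul_one, mul_inv_cancel]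
  have l1 := s.Kit2_L (e ▸ Kit2_cj hx g) (sq x2)
  have l2 := s.Kit2_L (e ▸ Kit2_cj hy g) (sq y2)
  have k : ∀ {a : G}, g * a * g⁻¹ ∈ s.L → d * a ∈ s.D → a ≠ 1 → g * a * g⁻¹ ∈ s.K1 := fun hl ha a1 =>
    (s.D_tL hz hl (by rw [← e, conj_mul]; exact s.D_conj ha g)).resolve_left fun h => a1 (conj_eq_one_iff.1 h)
  refine s.K1_pure (s.T_L (h4 (conj_mem_cj (mem_sup_left (mem_zpowers x)))) l1)
    (s.T_L (h4 (conj_mem_cj (mem_sup_right (mem_zpowers y)))) l2) (k l1 h1 x1) (k l2 h2 y1)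
    (by rw [conj_mul, conj_mul, hc]) ?_
  rw [conj_mul]
  exact k (by rw [← conj_mul]; exact mul_mem l1 l2) h3 fun h => xy (mul_right_cancel (h.trans y2.symm))
theorem not_isol : ¬ ∀ d ∈ s.D, d * s.t = s.t * d → d = s.t := fun h => by
  have h1 : IsIsolatedInvolution s.t :=
    ⟨orderOf_eq_prime (p := 2) (by rw [pow_two, s.tt]) (fun e => s.t_nL (e ▸ one_mem _)),
      fun g hc => h _ (s.D_conj s.tD g) hc.symm.eq⟩
  obtain ⟨x, hx⟩ := s.nz
  have h2 := mem_center_iff.1 h1.mk_mem_center (QuotientGroup.mk x)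
  rw [← QuotientGroup.mk_mul, ← QuotientGroup.mk_mul, QuotientGroup.eq, s.oc, mem_bot, inv_mul_eq_one] at h2
  exact hx h2
theorem normQ {x : G} (hz : x * s.z = s.z * x) (ht : x * s.t * x⁻¹ = s.t ∨ x * s.t * x⁻¹ = s.t * s.z) : x ∈ 𝐍[s.Q] := by
  obtain ⟨K, hK⟩ : ∃ K : Subgroup G, ∀ g, g ∈ K ↔ g * s.t = s.t * g ∧ g * s.z = s.z * g :=
    ⟨centralizer {s.t} ⊓ centralizer {s.z}, fun g => by simp only [mem_inf, mem_centralizer_singleton_iff]⟩
  have k0 : ∀ y ∈ s.CZ, y * s.z = s.z * y := s.hL.decide s.rep (by decide +kernel)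
  have h1 : s.CZ ≤ K := fun y hy => (hK y).2 ⟨s.t_comm (s.CZ_le hy), k0 y hy⟩
  have h2 : x ∈ 𝐍[K] := inv_mem_iff.1 (mem_norm_of_cj_le (cj_le_iff.2 fun a ha => by
    obtain ⟨a1, a2⟩ := (hK a).1 ha
    have c : ∀ w, a * (x * w * x⁻¹) = x * w * x⁻¹ * a → x⁻¹ * a * x⁻¹⁻¹ * w = w * (x⁻¹ * a * x⁻¹⁻¹) := fun w e => by
      calc _ = x⁻¹ * (a * (x * w * x⁻¹)) * x := by group
        _ = _ := by rw [e]; group
    refine (hK _).2 ⟨c _ ?_, c _ (by rwa [hz, mul_inv_cancel_right])⟩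
    rcases ht with e | e <;> rw [e]
    · exact a1
    · rw [← mul_assoc, a1, mul_assoc, a2, mul_assoc]))
  have zQ : s.z ∈ s.L := s.A_le (s.les.2.2.2.2.1 (s.les.2.2.2.2.2.2.1 s.mems.2.2.2.2.2.1))
  have h3 : K ≤ 𝐍[s.Q] := fun g hg => mem_norm_of_cj_le (cj_le_iff.2 fun a ha => by
    obtain ⟨g1, g2⟩ := (hK g).1 hg
    obtain ⟨l, hl, e | ⟨-, e⟩⟩ := s.act g1
    · have := e _ zQ
      rw [g2, mul_inv_cancel_right, eq_mul_inv_iff_mul_eq] at this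
      rw [e a (s.Q_le ha)]
      exact conj_mem_of_norm (s.CZ_norm (s.cent_z hl this.symm)) ha
    · have := e _ zQ
      rw [g2, mul_inv_cancel_right, eq_mul_inv_iff_mul_eq, ← mul_assoc, ← s.u_norm.2.2.2.2.2.2.2, mul_assoc,
        mul_assoc, mul_right_inj] at this
      rw [e a (s.Q_le ha)]
      exact conj_mem_of_norm (mul_mem s.u_norm.2.2.2.2.1 (s.CZ_norm (s.cent_z hl this.symm))) ha)
  have h4 : K ≤ 𝐍[cj(x, s.Q)] := by
    rw [← cj_norm, ← cj_of_norm h2]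
    exact cj_mono x h3
  have h5 : IsPGroup 2 cj(x, s.Q) := pg_cj (s.sylU.pg.to_le s.les.2.1) x
  have h6 : K ≤ centralizer {s.t} := fun g hg => mem_centralizer_singleton_iff.2 ((hK g).1 hg).1
  have h7 : cj(x, s.Q) ≤ s.L := fun g hg => by
    obtain ⟨n, hn⟩ := pg_iff.1 h5 g hg
    refine s.two_L (s.comm_LO (commutator_mono h6 h6 ?_)) hn
    exact cj_le_of_norm (s.Q_comm.trans (commutator_mono h1 h1))
      (norm_comm (zpowers_le.2 h2) (zpowers_le.2 h2) (mem_zpowers x)) hg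
  have h8 : cj(x, s.Q) ≤ s.U := le_sup_right.trans (s.sylU.eq_of_le
    (pg_sup s.sylU.pg h5 (s.les.2.2.2.1.trans (h1.trans h4))) le_sup_left (sup_le s.U_le h7)).le
  obtain ⟨-, -, -, -, -, -, -, -, -, -, -, -, -, -, -, -, m1, m2, -⟩ := s.mems
  exact mem_norm_of_cj_le fun y hy => s.core_Q (h8 hy) (h8 (conj_mem_of_norm (h4 (h1 m1)) hy))
    (h8 (conj_mem_of_norm (h4 (h1 m2)) hy))
theorem normB_of_Q {x : G} (hq : ∀ a ∈ s.A0, x * a = a * x) (ht : x * s.t * x⁻¹ = s.t * s.z) : x ∈ 𝐍[s.B] := by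
  refine mem_norm_of_cj_le (cj_le_iff.2 fun b hb => ?_)
  obtain ⟨-, -, -, -, l1, -, l2, l3, l4, -⟩ := s.les
  have h1 : ∀ a ∈ s.A0, x * b * x⁻¹ * a = a * (x * b * x⁻¹) := fun a ha => by
    rw [← mul_inv_eq_iff_eq_mul.2 (hq a ha), conj_mul, conj_mul, s.B_comm hb (l3 (l1 ha))]
  have h2 : x * b * x⁻¹ * (s.t * s.z) = s.t * s.z * (x * b * x⁻¹) := by
    rw [← ht, conj_mul, conj_mul, s.B_comm hb s.mems.1]
  rw [mul_assoc s.t, ← h1 _ (l2 s.mems.2.2.2.2.2.1), ← mul_assoc, ← mul_assoc s.t, mul_left_inj] at h2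
  obtain ⟨c, hc, o, ho, e⟩ := s.cent_tA0 h2 h1
  have h3 : c * o * (c * o) = 1 := by rw [← e, conj_mul, s.B_sq hb, mul_one, mul_inv_cancel]
  rw [mul_assoc, ← mul_assoc o, s.O_B ho (l4 hc), ← mul_assoc, ← mul_assoc, s.B_sq hc, one_mul] at h3
  rwa [e, s.O_two ho (n := 1) (by rw [pow_one, pow_two, h3]), mul_one]

end Cf

end Cfsg.Agent.S38
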