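import Mathlib
import Cfsg.Agent.S38.Kit2
import Cfsg.Agent.S1233
import Cfsg.Agent.Inv.SecRank

/-! The orbit of `t` under the normaliser of `B`; the rank criterion. -/

set_option autoImplicit false
set_option linter.unusedSectionVars false
set_option maxRecDepth 100000
set_option synthInstance.maxSize 100000
set_option synthInstance.maxHeartbeats 1000000

namespace Cfsg.Agent.S38

open Cfsg.Agent.Rec Cfsg.Agent.Spor Cfsg.Agent.Loc.Mss Cfsg.Agent.SF6 Subgroup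
open scoped commutatorElement

variable {G : Type*} [Group G] [Finite G]

/-- The size of a conjugacy class under a subgroup. -/
theorem Kt3_orb (L : Subgroup G) (z : G) : {x | ∃ g ∈ L, g * z * g⁻¹ = x}.ncard = (centralizer {z}).relIndex L := by
  let ι : MulAction L G := MulAction.compHom G ((MulAut.conj (G := G)).comp L.subtype)
  have h := @MulAction.index_stabilizer L G _ ι z
  have h1 : @MulAction.stabilizer L G _ ι z = (centralizer {z}).subgroupOf L := Subgroup.ext fun g =>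
    (mul_inv_eq_iff_eq_mul (a := (g : G) * z)).trans (mem_centralizer_singleton_iff (g := z) (k := (g : G))).symm
  have h2 : @MulAction.orbit L G ι.toSMul z = {x | ∃ g ∈ L, g * z * g⁻¹ = x} :=
    Set.ext fun x => ⟨fun ⟨g, e⟩ => ⟨g, g.2, e⟩, fun ⟨g, hg, e⟩ => ⟨⟨g, hg⟩, e⟩⟩
  rw [h1, h2] at h
  exact h.symm

namespace Cf

variable (s : Cf G)

/-- The orbit of `t` under `N(B)`. -/
def Kt3Orb (d : G) : Prop := ∃ n ∈ 𝐍[s.B], n * s.t * n⁻¹ = d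

theorem Kt3_t : s.Kt3Orb s.t := ⟨1, one_mem _, by simp⟩

theorem Kt3_conj {d n : G} (h : s.Kt3Orb d) (hn : n ∈ 𝐍[s.B]) : s.Kt3Orb (n * d * n⁻¹) := by
  obtain ⟨m, hm, rfl⟩ := h
  exact ⟨n * m, mul_mem hn hm, by group⟩

theorem Kt3_back {d n : G} (h : s.Kt3Orb (n * d * n⁻¹)) (hn : n ∈ 𝐍[s.B]) : s.Kt3Orb d := by
  simpa [mul_assoc] using s.Kt3_conj h (inv_mem hn)

theorem Kt3_NA : s.A5 ≤ s.NA := s.les.2.2.2.2.2.2.2.2.2.2.2.2.2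

theorem Kt3_cjt {l : G} (hl : l ∈ s.A5) (a : G) : l * (s.t * a) * l⁻¹ = s.t * (l * a * l⁻¹) := by
  rw [← mul_assoc, s.t_comm (s.NA_le (s.Kt3_NA hl))]; group

theorem Kt3_iff {l : G} (hl : l ∈ s.A5) {a : G} : s.Kt3Orb (s.t * (l * a * l⁻¹)) ↔ s.Kt3Orb (s.t * a) := by
  rw [← s.Kt3_cjt hl]
  exact ⟨fun h => s.Kt3_back h (s.NA_norm.2 (s.Kt3_NA hl)), fun h => s.Kt3_conj h (s.NA_norm.2 (s.Kt3_NA hl))⟩

theorem Kt3_Om {l : G} (hl : l ∈ s.A5) : s.t * (l * s.z * l⁻¹) ∈ s.Om :=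
  (s.hL.decide s.rep (by decide +kernel) : ∀ l ∈ s.A5, s.t * (l * s.z * l⁻¹) ∈ s.Om) l hl

theorem Kt3_Om' {d : G} (hd : d ∈ s.Om) : d = s.t ∨ ∃ l ∈ s.A5, s.t * (l * s.z * l⁻¹) = d :=
  (s.hL.decide s.rep (by decide +kernel) : ∀ d ∈ s.Om, d = s.t ∨ ∃ l ∈ s.A5, s.t * (l * s.z * l⁻¹) = d) d hd

theorem Kt3_card : s.Om.ncard = 6 := by
  have : s.Om = {s.t, s.t * s.a1, s.t * s.a2, s.t * s.a3, s.t * s.a4, s.t * s.z} :=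
    Set.ext fun x => s.memOm.trans (by simp only [Set.mem_insert_iff, Set.mem_singleton_iff])
  rw [this]
  repeat rw [Set.ncard_insert_of_notMem (by
    simp only [Set.mem_insert_iff, Set.mem_singleton_iff]; exact s.hL.decide s.rep (by decide +kernel))]
  rw [Set.ncard_singleton]

theorem Kt3_tt (x : G) : s.t * (s.t * x) = x := by rw [← mul_assoc, s.tt, one_mul]

theorem orb_tA {n : G} (hn : n ∈ 𝐍[s.B]) : s.t * (n * s.t * n⁻¹) ∈ s.A :=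
  (s.memB.1 (conj_mem_of_norm hn s.mems.1)).resolve_left fun h => s.D_nL (s.D_conj s.tD n) (s.A_le h)
theorem Kt3_A {n a : G} (hn : n ∈ 𝐍[s.B]) (h : s.Kt3Orb (s.t * a)) : n * a * n⁻¹ ∈ s.A := by
  obtain ⟨m, hm, e⟩ := s.Kt3_conj h hn
  have := mul_mem (inv_mem (s.orb_tA hn)) (s.orb_tA hm)
  rw [e] at this
  convert this using 1
  group

theorem Kt3_cases {a : G} (ha : a ∈ s.A) (h : s.Kt3Orb (s.t * a)) :
    a = 1 ∨ (s.Kt3Orb (s.t * s.z) ∧ s.t * a ∈ s.Om) ∨ s.Kt3Orb (s.t * s.z1) := by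
  rcases s.A_cls ha with e | ⟨l, hl, rfl⟩ | ⟨l, hl, rfl⟩
  exacts [.inl e, .inr (.inl ⟨(s.Kt3_iff hl).1 h, s.Kt3_Om hl⟩), .inr (.inr ((s.Kt3_iff hl).1 h))]

theorem Kt3_normA {n : G} (hn : n ∈ 𝐍[s.B]) : n ∈ 𝐍[s.A] := by
  have k : (∀ l ∈ s.A5, n * (l * s.z * l⁻¹) * n⁻¹ ∈ s.A) → n ∈ 𝐍[s.A] := fun h => by
    refine mem_norm_of_cj_le (cj_le_iff.2 (conj_clos_mem ?_))
    simp only [List.forall_mem_cons, List.not_mem_nil, false_imp_iff, implies_true, and_true]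
    obtain ⟨⟨_, h1, e1⟩, ⟨_, h2, e2⟩, ⟨_, h3, e3⟩, _, h4, e4⟩ : (∃ l ∈ s.A5, l * s.z * l⁻¹ = s.a1) ∧
      (∃ l ∈ s.A5, l * s.z * l⁻¹ = s.a2) ∧ (∃ l ∈ s.A5, l * s.z * l⁻¹ = s.a3) ∧ ∃ l ∈ s.A5, l * s.z * l⁻¹ = s.a4 :=
      s.hL.decide s.rep (by decide +kernel)
    exact ⟨e1 ▸ h _ h1, e2 ▸ h _ h2, e3 ▸ h _ h3, e4 ▸ h _ h4⟩
  rcases s.Kt3_cases (s.orb_tA hn) ⟨n, hn, (s.Kt3_tt _).symm⟩ with e | e | e
  · have e1 : n * s.t = s.t * n := by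
      rw [← mul_inv_eq_iff_eq_mul, ← s.Kt3_tt (n * s.t * n⁻¹), e, mul_one]
    exact mem_norm_of_cj_le (cj_le_iff.2 fun a ha => s.B_L (conj_mem_of_norm hn (s.les.2.2.2.2.2.2.2.1 ha))
      (conj_mem_of_norm (s.C_norm e1).1 (s.A_le ha)))
  · exact k fun l hl => s.Kt3_A hn ((s.Kt3_iff hl).2 e.1)
  · refine k fun l hl => ?_
    obtain ⟨hq, e1⟩ : s.q ∈ s.A5 ∧ s.z = s.z1 * (s.q * s.z1 * s.q⁻¹) := s.hL.decide s.rep (by decide +kernel)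
    have := mul_mem (s.Kt3_A hn ((s.Kt3_iff hl).2 e)) (s.Kt3_A hn ((s.Kt3_iff (mul_mem hl hq)).2 e))
    rw [e1]
    convert this using 1
    group

theorem Kt3_eleven (h1 : s.Kt3Orb (s.t * s.z1)) : s.Kt3Orb (s.t * s.z) := by
  by_contra h5
  obtain ⟨n, hn, e⟩ := id h1
  have hz : s.z1 ∈ s.A ∧ (∀ l ∈ s.A5, l * s.z * l⁻¹ ∈ s.A) ∧ s.t * s.z1 ≠ s.t ∧
      s.t = s.t * s.a1 * (s.t * s.a2) * (s.t * s.a3) * (s.t * s.a4) * (s.t * s.z) :=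
    s.hL.decide s.rep (by decide +kernel)
  have k : ∀ d ∈ s.Om, d ≠ s.t → n * d * n⁻¹ ∈ s.Om ∧ n * d * n⁻¹ ≠ s.t := fun d hd dt => by
    obtain ⟨l, hl, rfl⟩ := (s.Kt3_Om' hd).resolve_left dt
    have no : ¬ s.Kt3Orb (n * (s.t * (l * s.z * l⁻¹)) * n⁻¹) := fun h => h5 ((s.Kt3_iff hl).1 (s.Kt3_back h hn))
    refine ⟨?_, fun e1 => no (by rw [e1]; exact s.Kt3_t)⟩
    have e1 : n * (s.t * (l * s.z * l⁻¹)) * n⁻¹ = s.t * (s.z1 * (n * (l * s.z * l⁻¹) * n⁻¹)) := by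
      rw [← mul_assoc s.t s.z1, ← e]; group
    rw [e1] at no ⊢
    rcases s.A_cls (mul_mem hz.1 (conj_mem_of_norm (s.Kt3_normA hn) (hz.2.1 l hl))) with e2 | ⟨m, hm, e2⟩ | ⟨m, hm, e2⟩
    · exact (no (by rw [e2, mul_one]; exact s.Kt3_t)).elim
    · exact e2 ▸ s.Kt3_Om hm
    · exact (no (e2 ▸ (s.Kt3_iff hm).2 h1)).elim
  have key : ∀ x1 ∈ s.Om, x1 ≠ s.t → ∀ x2 ∈ s.Om, x2 ≠ s.t → x1 ≠ x2 → ∀ x3 ∈ s.Om, x3 ≠ s.t → x1 ≠ x3 → x2 ≠ x3 →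
      ∀ x4 ∈ s.Om, x4 ≠ s.t → x1 ≠ x4 → x2 ≠ x4 → x3 ≠ x4 → ∀ x5 ∈ s.Om, x5 ≠ s.t → x1 ≠ x5 → x2 ≠ x5 → x3 ≠ x5 →
        x4 ≠ x5 → x1 * x2 * x3 * x4 * x5 = s.t := s.hL.decide s.rep (by decide +kernel)
  have inj : ∀ {x y : G}, x ≠ y → n * x * n⁻¹ ≠ n * y * n⁻¹ := fun h e => h (mul_left_cancel (mul_right_cancel e))
  obtain ⟨⟨m1, m2, m3, m4, m5⟩, ⟨t1, t2, t3, t4, t5⟩, d12, d13, d23, d14, d24, d34, d15, d25, d35, d45⟩ :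
      (s.t * s.a1 ∈ s.Om ∧ s.t * s.a2 ∈ s.Om ∧ s.t * s.a3 ∈ s.Om ∧ s.t * s.a4 ∈ s.Om ∧ s.t * s.z ∈ s.Om) ∧
      (s.t * s.a1 ≠ s.t ∧ s.t * s.a2 ≠ s.t ∧ s.t * s.a3 ≠ s.t ∧ s.t * s.a4 ≠ s.t ∧ s.t * s.z ≠ s.t) ∧
      s.t * s.a1 ≠ s.t * s.a2 ∧ s.t * s.a1 ≠ s.t * s.a3 ∧ s.t * s.a2 ≠ s.t * s.a3 ∧ s.t * s.a1 ≠ s.t * s.a4 ∧
      s.t * s.a2 ≠ s.t * s.a4 ∧ s.t * s.a3 ≠ s.t * s.a4 ∧ s.t * s.a1 ≠ s.t * s.z ∧ s.t * s.a2 ≠ s.t * s.z ∧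
      s.t * s.a3 ≠ s.t * s.z ∧ s.t * s.a4 ≠ s.t * s.z := s.hL.decide s.rep (by decide +kernel)
  have := key _ (k _ m1 t1).1 (k _ m1 t1).2 _ (k _ m2 t2).1 (k _ m2 t2).2 (inj d12) _ (k _ m3 t3).1 (k _ m3 t3).2
    (inj d13) (inj d23) _ (k _ m4 t4).1 (k _ m4 t4).2 (inj d14) (inj d24) (inj d34) _ (k _ m5 t5).1 (k _ m5 t5).2
    (inj d15) (inj d25) (inj d35) (inj d45)
  rw [conj_mul, conj_mul, conj_mul, conj_mul, ← hz.2.2.2, e] at this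
  exact hz.2.2.1 this

theorem trich : s.H1 ∨ s.H6 ∨ s.H16 := by
  have k : ∀ n ∈ 𝐍[s.B], n * s.t * n⁻¹ = s.t ∨ (s.Kt3Orb (s.t * s.z) ∧ n * s.t * n⁻¹ ∈ s.Om) ∨ s.Kt3Orb (s.t * s.z1) :=
    fun n hn => by
      have := s.Kt3_cases (s.orb_tA hn) ⟨n, hn, (s.Kt3_tt _).symm⟩
      rw [s.Kt3_tt] at this
      exact this.imp_left fun e => by rw [← s.Kt3_tt (n * s.t * n⁻¹), e, mul_one]
  by_cases h1 : s.Kt3Orb (s.t * s.z1)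
  · refine .inr (.inr fun a ha => ?_)
    rcases s.A_cls ha with rfl | ⟨l, hl, rfl⟩ | ⟨l, hl, rfl⟩
    exacts [⟨1, one_mem _, by simp⟩, (s.Kt3_iff hl).2 (s.Kt3_eleven h1), (s.Kt3_iff hl).2 h1]
  by_cases h5 : s.Kt3Orb (s.t * s.z)
  · refine .inr (.inl ⟨h5, fun n hn => ?_⟩)
    rcases k n hn with e | e | e
    exacts [s.memOm.2 (.inl e), e.2, (h1 e).elim]
  · exact .inl fun n hn => (k n hn).resolve_right fun e => e.elim (fun e => h5 e.1) h1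
theorem normB_A : 𝐍[s.B] ≤ 𝐍[s.A] := fun _ => s.Kt3_normA
theorem H6.onto (h : s.H6) {d : G} (hd : d ∈ s.Om) : ∃ n ∈ 𝐍[s.B], n * s.t * n⁻¹ = d := by
  rcases s.Kt3_Om' hd with rfl | ⟨l, hl, rfl⟩
  exacts [s.Kt3_t, (s.Kt3_iff hl).2 h.1]
theorem H6.perm (h : s.H6) {n d : G} (hn : n ∈ 𝐍[s.B]) (hd : d ∈ s.Om) : n * d * n⁻¹ ∈ s.Om := by
  obtain ⟨m, hm, e⟩ := s.Kt3_conj (H6.onto s h hd) hn
  exact e ▸ h.2 m hm
theorem H6.omD (h : s.H6) {d : G} (hd : d ∈ s.Om) : d ∈ s.D := by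
  obtain ⟨m, -, e⟩ := H6.onto s h hd
  exact s.memD.2 ⟨m, e⟩
theorem H6.Kt3_fix (h : s.H6) {P : Subgroup G} (hP : IsPGroup 2 P) (hT : s.T ≤ P) (hB : P ≤ 𝐍[s.B]) {x : G}
    (hx : x ∈ P) : x * s.t * x⁻¹ = s.t ∨ x * s.t * x⁻¹ = s.t * s.z := by
  by_contra hne
  rw [not_or] at hne
  have key : ∀ d ∈ s.Om, d ≠ s.t → d ≠ s.t * s.z → ∀ e ∈ s.Om, e ≠ s.t * s.z → e = s.t ∨ ∃ l ∈ s.Q, l * d * l⁻¹ = e :=
    s.hL.decide s.rep (by decide +kernel)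
  have h1 : {y | ∃ g ∈ P, g * s.t * g⁻¹ = y} ⊆ s.Om := fun _ ⟨g, hg, e⟩ => e ▸ h.2 g (hB hg)
  have h2 : s.Om \ {s.t * s.z} ⊆ {y | ∃ g ∈ P, g * s.t * g⁻¹ = y} := fun e he => by
    rcases key _ (h.2 x (hB hx)) hne.1 hne.2 e he.1 he.2 with rfl | ⟨l, hl, rfl⟩
    · exact ⟨1, one_mem _, by simp⟩
    · exact ⟨l * x, mul_mem (hT (s.TU_le (s.les.2.2.2.2.2.2.2.2.2.1 (s.les.2.1 hl)))) hx, by group⟩
  have h3 := Set.ncard_le_ncard h1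
  have h4 := Set.ncard_le_ncard h2
  rw [Set.ncard_sdiff_singleton_of_mem (s.memOm.2 (by simp)), s.Kt3_card, Kt3_orb] at h4
  rw [s.Kt3_card, Kt3_orb] at h3
  obtain ⟨k, hk⟩ := GT.PG.relIndex_eq_pow_of_isPGroup hP (centralizer {s.t})
  rw [hk] at h3 h4
  have : k < 3 := (Nat.pow_lt_pow_iff_right (show 1 < 2 by norm_num)).1 (by omega)
  interval_cases k <;> omega

/-- In a 2-group between `T` and `N(B)`, `t` has at most two conjugates. -/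
theorem H6.two (h : s.H6) {P : Subgroup G} (hP : IsPGroup 2 P) (hT : s.T ≤ P) (hB : P ≤ 𝐍[s.B]) {x : G} (hx : x ∈ P) :
    x * s.z = s.z * x ∧ (x * s.t * x⁻¹ = s.t ∨ x * s.t * x⁻¹ = s.t * s.z) := by
  have h1 := H6.Kt3_fix s h hP hT hB hx
  refine ⟨?_, h1⟩
  rcases h1 with e | e
  · exact (s.T_comm (s.pg_cent hP hT hx (mul_inv_eq_iff_eq_mul.1 e))).2
  · obtain ⟨z1, zz⟩ : s.t * s.z ≠ s.t ∧ (s.t * s.z)⁻¹ * s.t = s.z := s.hL.decide s.rep (by decide +kernel)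
    have e1 : x * x * s.t * (x * x)⁻¹ = x * (s.t * s.z) * x⁻¹ := by rw [← e]; group
    rcases H6.Kt3_fix s h hP hT hB (mul_mem hx hx) with e2 | e2
    · rw [← mul_inv_eq_iff_eq_mul]
      calc x * s.z * x⁻¹ = (x * s.t * x⁻¹)⁻¹ * (x * (s.t * s.z) * x⁻¹) := by group
        _ = _ := by rw [← e1, e2, e, zz]
    · rw [e1, ← e] at e2
      exact (z1 (e.symm.trans (mul_left_cancel (mul_right_cancel e2)))).elim
/-- A Sylow 2-subgroup of `N(B)` moves `t`. -/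
theorem H6.move (h : s.H6) {P : Subgroup G} (hP : Syl 2 P 𝐍[s.B]) : ∃ x ∈ P, x * s.t ≠ s.t * x := by
  by_contra hc
  push Not at hc
  have h1 : {y | ∃ g ∈ 𝐍[s.B], g * s.t * g⁻¹ = y} = s.Om :=
    Set.ext fun y => ⟨fun ⟨g, hg, e⟩ => e ▸ h.2 g hg, fun hy => H6.onto s h hy⟩
  have h2 := relIndex_dvd_of_le_left 𝐍[s.B]
    (show P ≤ centralizer {s.t} from fun x hx => mem_centralizer_singleton_iff.2 (hc x hx))
  rw [← Kt3_orb, h1, s.Kt3_card] at h2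
  exact hP.nd (Dvd.dvd.trans (by norm_num) h2)
theorem crit (ht : s.t ∉ s.X)
    (hw : ∀ w ∈ s.X, (∀ x ∈ s.Q, w * x = x * w) → w * s.t * w⁻¹ ≠ s.t * s.z) : SectionalPRankLE 2 4 s.X := by
  have := s.nX
  have : Fact (Nat.Prime 2) := ⟨Nat.prime_two⟩
  obtain ⟨S, hT, hS⟩ := Syl.exists_ge s.pgT le_top
  have hQ : s.Q ≤ S ⊓ s.X :=
    le_inf (s.les.2.1.trans (s.les.2.2.2.2.2.2.2.2.2.1.trans (s.TU_le.trans hT))) (s.Q_le.trans s.LX)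
  obtain ⟨zQ, ZTU, tZ⟩ : s.z ∈ s.Q ∧ s.ZT ≤ s.TU ∧ s.t ∈ s.ZT := s.hL.decide s.rep (by decide +kernel)
  have ZT : s.ZT ≤ s.T := ZTU.trans s.TU_le
  have cY : ∀ y ∈ 𝐂[s.Q] ⊓ (S ⊓ s.X), y * s.t = s.t * y → y ∈ s.ZT := fun y hy e =>
    s.T_cent_Q (s.pg_cent hS.pg hT hy.2.1 e) fun x hx => (mem_cent.1 hy.1 x hx).symm
  have hn : s.ZT ≤ 𝐍[𝐂[s.Q] ⊓ (S ⊓ s.X)] := ZT.trans (norm_inf (norm_cent s.T_norm.2.2.2.1)
    (norm_inf (norm_of_le hT) (le_top.trans (normalizer_eq_top s.X).ge)))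
  have hY : 𝐂[s.Q] ⊓ (S ⊓ s.X) ≤ s.ZT := by
    by_contra hne
    have hlt : s.ZT < 𝐂[s.Q] ⊓ (S ⊓ s.X) ⊔ s.ZT := lt_of_le_of_ne le_sup_right fun e => hne (le_sup_left.trans e.ge)
    obtain ⟨r, hr, hr'⟩ := SetLike.exists_of_lt
      (GT.Tr.lt_inf_normalizer (hS.pg.to_le (sup_le (inf_le_right.trans inf_le_left) (ZT.trans hT))) hlt)
    obtain ⟨w, hwY, ζ, hζ, rfl⟩ := (mem_sup_norm hn).1 hr.1
    have w1 : w ∈ 𝐍[s.ZT] := (mul_mem_cancel_right (le_normalizer hζ)).1 hr.2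
    have hD := s.D_nL (s.D_conj s.tD w)
    rcases s.memZT.1 (conj_mem_of_norm w1 tZ) with e | e | e | e
    · exact hD (e ▸ one_mem _)
    · exact hr' (mul_mem (cY w hwY (mul_inv_eq_iff_eq_mul.1 e)) hζ)
    · exact hD (e ▸ s.Q_le zQ)
    · exact hw w hwY.2.2 (fun x hx => (mem_cent.1 hwY.1 x hx).symm) e
  obtain ⟨Q₁, Q₂, ⟨e₁⟩, ⟨e₂⟩, hc, hsup⟩ := s.Q_q8
  have h1 : Q₁ ≤ S ⊓ s.X := (le_sup_left.trans hsup.le).trans hQ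
  have h2 : Q₂ ≤ S ⊓ s.X := (le_sup_right.trans hsup.le).trans hQ
  have hsec := S1233.result (S := ↥(S ⊓ s.X)) hS.pg.to_inf_left (s.Q.subgroupOf _) (Q₁.subgroupOf _) (Q₂.subgroupOf _)
    ((subgroupOfEquivOfLe h1).trans e₁) ((subgroupOfEquivOfLe h2).trans e₂)
    (fun a ha b hb => Subtype.ext (hc _ ha _ hb)) (by rw [← subgroupOf_sup h1 h2, hsup])
    ((Nat.card_congr (subgroupOfEquivOfLe hQ).toEquiv).trans s.gQ.2) fun y hy => by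
      have h3 := hY (x := y) ⟨mem_cent.2 fun a ha => congrArg Subtype.val (mem_cent.1 hy ⟨a, hQ ha⟩ ha), y.2⟩
      rw [mem_subgroupOf]
      rcases s.memZT.1 h3 with e | e | e | e
      · exact e ▸ one_mem _
      · exact (ht (e ▸ y.2.2)).elim
      · exact e ▸ zQ
      · exact (ht ((mul_mem_cancel_right (mem_inf.1 (hQ zQ)).2).1 (e ▸ (mem_inf.1 y.2).2))).elim
  obtain ⟨P, hP, -⟩ := (hS.inf (M := s.X) le_top (le_top.trans (normalizer_eq_top s.X).ge)).exists_sylow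
  refine Inv.Sec.sec_of_sylow P ?_
  rw [hP]
  exact FG.SR.of_injective hsec (subgroupOfEquivOfLe inf_le_right).toMonoidHom (MulEquiv.injective _)

end Cf

end Cfsg.Agent.S38
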