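import Mathlib
import Cfsg.Agent.S38.Kit3
import Cfsg.Agent.S38.D6

/-! Orbit of length one, case α. -/

set_option autoImplicit false
set_option linter.unusedSectionVars false
set_option maxRecDepth 100000
set_option synthInstance.maxSize 100000
set_option synthInstance.maxHeartbeats 1000000

namespace Cfsg.Agent.S38

open Cfsg.Agent.Rec Cfsg.Agent.Spor Cfsg.Agent.Loc.Mss Cfsg.Agent.SF6 Subgroup
open scoped commutatorElement

variable {G : Type*} [Group G] [Finite G]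

namespace Cf

variable (s : Cf G)

theorem OneA_B (ha : s.u = 1) (h : s.H1) {d : G} (hd : d ∈ s.D) (hB : d ∈ s.B) : d = s.t := by
  have le : s.B ≤ s.T := s.les.2.2.2.2.2.2.2.2.1.trans s.TU_le
  obtain ⟨g, e, k⟩ := s.toT hd (s.pgT.to_le le) fun x hx => s.B_comm hx hB
  rw [s.T_al ha] at k
  have h1 := s.elemTU k (fun x hx => by
    have := s.B_sq (mem_cj.1 hx)
    calc x * x = g * (g⁻¹ * x * g * (g⁻¹ * x * g)) * g⁻¹ := by group
      _ = 1 := by rw [this]; group) (by rw [card_cj, s.gB.2])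
  rw [← h g⁻¹ (inv_mem (cj_eq_iff.1 h1)), ← e]
  group

theorem OneA_cj (ha : s.u = 1) (h : s.H1) {a m : G} (hA : a ∈ s.J1) (hm : m ∈ s.L) (hd : s.t * (m * a * m⁻¹) ∈ s.D) :
    s.t * (m * a * m⁻¹) = s.t := by
  have e : s.t * (m * a * m⁻¹) = m * (s.t * a) * m⁻¹ := by
    rw [← mul_assoc m, s.t_comm hm]; group
  rw [e] at hd
  have h1 := s.OneA_B ha h (s.D_conj' hd) (mul_mem s.mems.1 (s.les.2.2.2.2.2.2.2.2.2.2.2.2.1
    (s.les.2.2.2.2.2.2.2.2.2.2.2.1 hA)))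
  rw [e, h1, s.t_comm hm, mul_inv_cancel_right]

theorem one_al (ha : s.u = 1) (h : s.H1) : False := by
  refine s.not_isol fun d hd hc => ?_
  rcases s.invC hc (s.D_sq hd) with ⟨l, hl, l2, rfl | rfl⟩ | ⟨hb, -⟩
  · exact absurd hl (s.D_nL hd)
  · rcases s.invol hl l2 with rfl | k | k
    · exact mul_one _
    · obtain ⟨m, hm, rfl⟩ := s.K1_cj.1 k
      exact s.OneA_cj ha h s.mems.2.2.2.2.2.1 hm hd
    · obtain ⟨m, hm, rfl⟩ := s.K2_cj.1 k
      exact s.OneA_cj ha h s.mems.2.2.2.2.2.2.1 hm hd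
  · exact absurd (ha ▸ one_mem s.L) (s.u_nL hb).1

end Cf

end Cfsg.Agent.S38
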