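import Mathlib
import Cfsg.Agent.S38.Kit3
import Cfsg.Agent.S38.D6

/-! Orbit of length one: a canonical subgroup of index two in `J`. -/

set_option autoImplicit false
set_option linter.unusedSectionVars false
set_option maxRecDepth 100000
set_option synthInstance.maxSize 100000
set_option synthInstance.maxHeartbeats 1000000

namespace Cfsg.Agent.S38

open Cfsg.Agent.Rec Cfsg.Agent.Spor Cfsg.Agent.Loc.Mss Cfsg.Agent.SF6 Subgroup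
open scoped commutatorElement

variable {G : Type*} [Group G] [Finite G]

namespace Cf

variable (s : Cf G)

theorem normJ (hb : s.Be) : 𝐍[s.J] ≤ 𝐍[s.J1] ∧ 𝐍[s.J] ≤ 𝐍[s.ZJ] := by
  have k : (∀ x ∈ s.J, ∀ y ∈ s.J, ⁅x, y⁆ ∈ s.J1) ∧ s.z1 = ⁅s.u, s.a1⁆ ∧ s.z2 = ⁅s.v, s.a3⁆ ∧ s.u ∈ s.J ∧
      s.v ∈ s.J ∧ s.a1 ∈ s.J ∧ s.a3 ∈ s.J ∧ (∀ x ∈ s.ZJ, x ∈ s.J ∧ ∀ y ∈ s.J, y * x = x * y) ∧
      ∀ x ∈ s.J, (∀ y ∈ s.J, y * x = x * y) → x ∈ s.ZJ :=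
    (s.hY hb).decide (s.repY hb) (by decide +kernel)
  obtain ⟨k1, k2, k3, m1, m2, m3, m4, k4, k5⟩ := k
  have e1 : s.J1 = ⁅s.J, s.J⁆ := le_antisymm (clos_le.2 (by
    simp only [List.forall_mem_cons, List.not_mem_nil, false_imp_iff, implies_true, and_true]
    exact ⟨k2 ▸ commutator_mem_commutator m1 m3, k3 ▸ commutator_mem_commutator m2 m4⟩)) (commutator_le.2 k1)
  have e2 : s.ZJ = s.J ⊓ 𝐂[s.J] :=
    le_antisymm (fun x hx => ⟨(k4 x hx).1, mem_cent.2 (k4 x hx).2⟩) fun x hx => k5 x hx.1 (mem_cent.1 hx.2)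
  exact ⟨e1 ▸ norm_comm le_rfl le_rfl, e2 ▸ norm_inf le_rfl (norm_cent le_rfl)⟩

theorem OG_J1L {j : G} (hj : j ∈ s.J1) : j ∈ s.L := s.Kit1_mem.2.2.1 (s.les.2.2.2.2.2.2.1 hj)

theorem normJ_t (hb : s.Be) {n : G} (hn : n ∈ 𝐍[s.J]) : n * s.t * n⁻¹ * s.t ∈ s.J1 := by
  have k : s.t ∈ s.ZJ ∧ ∀ x ∈ s.ZJ, x ∈ s.J1 ∨ x * s.t ∈ s.J1 := s.hL.decide s.rep (by decide +kernel)
  exact (k.2 _ (conj_mem_of_norm ((s.normJ hb).2 hn) k.1)).resolve_left fun h =>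
    s.D_nL (s.D_conj s.tD n) (s.OG_J1L h)

/-- Non-central involutions of `J` with two conjugates in `J`. -/
abbrev OG_S (y : G) : Prop :=
  y ∈ s.J ∧ y * y = 1 ∧ y ∉ s.ZJ ∧ ∃ j ∈ s.J1, ∀ x ∈ s.J, x * y * x⁻¹ = y ∨ x * y * x⁻¹ = y * j

variable {s}

theorem OG_S_conj (hb : s.Be) {n y : G} (hn : n ∈ 𝐍[s.J]) (h : s.OG_S y) : s.OG_S (n * y * n⁻¹) := by
  obtain ⟨h1, h2, h3, j, hj, h4⟩ := h
  refine ⟨conj_mem_of_norm hn h1, by rw [conj_mul, h2, mul_one, mul_inv_cancel], fun h => h3 ?_,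
    _, conj_mem_of_norm ((s.normJ hb).1 hn) hj, fun x hx => ?_⟩
  · simpa [mul_assoc] using conj_mem_of_norm' ((s.normJ hb).2 hn) h
  · rw [show x * (n * y * n⁻¹) * x⁻¹ = n * (n⁻¹ * x * n * y * (n⁻¹ * x * n)⁻¹) * n⁻¹ by group, conj_mul]
    exact (h4 _ (conj_mem_of_norm' hn hx)).imp (fun e => by rw [e]) fun e => by rw [e]

theorem OG_conj (hb : s.Be) {n y : G} (hn : n ∈ 𝐍[s.J]) (h : s.Good y) : s.Good (n * y * n⁻¹) := fun j hj hd =>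
  h _ (conj_mem_of_norm' ((s.normJ hb).1 hn) hj) (s.D_conj' (g := n) (by
    rwa [show n * (y * (n⁻¹ * j * n)) * n⁻¹ = n * y * n⁻¹ * j by group]))

theorem OG_mul {y j : G} (hj : j ∈ s.J1) : s.Good (y * j) ↔ s.Good y :=
  ⟨fun h i hi => by simpa [mul_assoc] using h _ (mul_mem (inv_mem hj) hi),
    fun h i hi => by simpa [mul_assoc] using h _ (mul_mem hj hi)⟩

theorem OG_L {y : G} (hy : y ∈ s.L) : s.Good y := fun _ hj hd => s.D_nL hd (mul_mem hy (s.OG_J1L hj))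

theorem OG_nD {y : G} (h : s.Good y) : y ∉ s.D := fun hd => h 1 (one_mem _) (by rwa [mul_one])

theorem OG_uv (hb : s.Be) : (s.Good s.v ↔ s.Good s.u) ∧ (s.Good (s.t * s.v) ↔ s.Good (s.t * s.u)) := by
  have k : s.q ∈ s.T ∧ s.q * s.u * s.q⁻¹ = s.v ∧ s.q * s.v * s.q⁻¹ = s.u ∧
      s.q * (s.t * s.u) * s.q⁻¹ = s.t * s.v ∧ s.q * (s.t * s.v) * s.q⁻¹ = s.t * s.u :=
    (s.hY hb).decide (s.repY hb) (by decide +kernel)
  have hq : s.q ∈ 𝐍[s.J] := (s.elem4 hb).2.2.2.2.2.2.2.2.2.2.2.2.1 k.1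
  exact ⟨⟨fun h => k.2.2.1 ▸ OG_conj hb hq h, fun h => k.2.1 ▸ OG_conj hb hq h⟩,
    fun h => k.2.2.2.2 ▸ OG_conj hb hq h, fun h => k.2.2.2.1 ▸ OG_conj hb hq h⟩

theorem OG_ta (hz : s.t * s.z ∈ s.D) : s.t * s.a1 ∈ s.D ∧ s.t * s.a3 ∈ s.D := by
  have k : s.f * (s.t * s.z) * s.f⁻¹ = s.t * s.a1 ∧ s.q * (s.t * s.a1) * s.q⁻¹ = s.t * s.a3 :=
    s.hL.decide s.rep (by decide +kernel)
  have h1 := k.1 ▸ s.D_conj hz s.f
  exact ⟨h1, k.2 ▸ s.D_conj h1 s.q⟩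

theorem OG_BF (hb : s.Be) (h : s.H1) {w : G} (hw : w ∈ 𝐍[s.T]) (ht : w * s.t ≠ s.t * w) : cj(w, s.B) = s.F := by
  obtain ⟨-, -, -, b1, -, -, -, b2, -, -, b3, -, -, -, -, b4, -⟩ := s.elem4 hb
  have k : s.q ∈ s.T ∧ s.q * s.q = 1 ∧ s.v ∈ s.M1 ∧ s.v ∉ s.M2 := (s.hY hb).decide (s.repY hb) (by decide +kernel)
  have hq : cj(s.q, cj(w, s.B)) = cj(w, s.B) := by
    refine cj_of_norm (mem_norm_of_cj_le (cj_le_iff.2 fun a ha => mem_cj.2 ?_))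
    have := conj_mem_of_norm (s.T_norm.1 (conj_mem_of_norm' hw k.1)) (mem_cj.1 ha)
    rwa [show w⁻¹ * s.q * w * (w⁻¹ * a * w) * (w⁻¹ * s.q * w)⁻¹ = w⁻¹ * (s.q * a * s.q⁻¹) * w by group] at this
  have ne : s.M1 ≠ s.M2 := fun e => k.2.2.2 (e ▸ k.2.2.1)
  rcases s.elemT hb (cj_le_of_norm (b1.trans b2) hw) (fun x hx => by
    have := s.B_sq (mem_cj.1 hx)
    rw [show w⁻¹ * x * w * (w⁻¹ * x * w) = w⁻¹ * (x * x) * w⁻¹⁻¹ by group] at this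
    exact conj_eq_one.1 this) (by rw [card_cj, s.gB.2]) with e | e | e | e
  · exact absurd (mul_inv_eq_iff_eq_mul.1 (h w (cj_eq_iff.1 e))) ht
  · exact e
  · rw [e, b4] at hq
    exact absurd hq.symm ne
  · rw [e, ← b4] at hq
    exact absurd ((MulAut.conj s.q).mapSubgroup.injective hq).symm (b4 ▸ ne)

variable (s)

theorem one_good (hb : s.Be) (h : s.H1) {w : G} (hw : w ∈ 𝐍[s.T]) (ht : w * s.t ≠ s.t * w) :
    s.t * s.z ∈ s.D ∧ ((s.Good s.u ∧ ¬ s.Good (s.t * s.u)) ∨ (s.Good (s.t * s.u) ∧ ¬ s.Good s.u)) := by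
  have hd := s.D_conj s.tD w
  have e : w * s.t * w⁻¹ = s.t * s.z := by
    have h1 := s.ZT_eq (conj_mem_of_norm hw s.fb_u.2.2.1) fun y hy => by
      have := (s.T_comm (conj_mem_of_norm' hw hy)).1
      rw [show w * s.t * w⁻¹ * y = w * (s.t * (w⁻¹ * y * w)) * w⁻¹ by group, ← this]
      group
    rcases s.memZT.1 h1 with e | e | e | e
    · exact absurd (e ▸ one_mem _) (s.D_nL hd)
    · exact absurd (mul_inv_eq_iff_eq_mul.1 e) ht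
    · exact absurd (e ▸ s.OG_J1L s.mems.2.2.2.2.2.1) (s.D_nL hd)
    · exact e
  have hz : s.t * s.z ∈ s.D := e ▸ hd
  refine ⟨hz, ?_⟩
  have e1 := OG_BF hb h hw ht
  have e2 := OG_BF hb h (inv_mem hw) fun e => ht (by
    rw [inv_mul_eq_iff_eq_mul, ← mul_assoc, eq_mul_inv_iff_mul_eq] at e; exact e.symm)
  have hJ : w ∈ 𝐍[s.J] := by
    rw [← (s.elem4 hb).2.2.2.2.2.2.2.2.1]
    refine mem_norm_of_cj_le ?_
    rw [Subgroup.map_sup, e1]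
    refine sup_le le_sup_right (le_trans (cj_le_iff.2 fun a ha => ?_) le_sup_left)
    simpa using mem_cj.1 (e2.ge ha)
  have k : s.OG_S s.a1 ∧ s.a1 ∈ s.B ∧ s.a1 ∈ s.A ∧ ∀ y ∈ s.F, s.OG_S y → ∃ j ∈ s.J1, ∃ i ∈ s.J1,
      (y = s.u * j ∧ s.t * s.z * y = s.t * s.u * i) ∨ (y = s.t * s.u * j ∧ s.t * s.z * y = s.u * i) ∨
      (y = s.v * j ∧ s.t * s.z * y = s.t * s.v * i) ∨ (y = s.t * s.v * j ∧ s.t * s.z * y = s.v * i) :=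
    (s.hY hb).decide (s.repY hb) (by decide +kernel)
  have g1 := OG_conj hb hJ (OG_L (s.A_le k.2.2.1))
  have g2 := s.D_conj (OG_ta hz).1 w
  rw [← conj_mul, e] at g2
  have g3 : ∀ {x i : G}, i ∈ s.J1 → s.t * s.z * (w * s.a1 * w⁻¹) = x * i → ¬ s.Good x := fun hi e h => h _ hi (e ▸ g2)
  obtain ⟨u1, u2⟩ := OG_uv hb
  obtain ⟨j, hj, i, hi, ⟨a, b⟩ | ⟨a, b⟩ | ⟨a, b⟩ | ⟨a, b⟩⟩ :=
    k.2.2.2 _ (e1.le (conj_mem_cj k.2.1)) (OG_S_conj hb hJ k.1) <;> rw [a, OG_mul hj] at g1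
  · exact Or.inl ⟨g1, g3 hi b⟩
  · exact Or.inr ⟨g1, g3 hi b⟩
  · exact Or.inl ⟨u1.1 g1, mt u2.2 (g3 hi b)⟩
  · exact Or.inr ⟨u2.1 g1, mt u1.2 (g3 hi b)⟩

theorem one_J0 (hb : s.Be) (hz : s.t * s.z ∈ s.D) (h1 : s.Good s.u) (h2 : ¬ s.Good (s.t * s.u)) : 𝐍[s.J] ≤ 𝐍[s.J0] := by
  have k : (s.OG_S s.u ∧ s.OG_S s.v ∧ s.OG_S s.a1 ∧ s.OG_S s.a2 ∧ s.OG_S s.a3 ∧ s.OG_S s.a4) ∧
      ∀ y ∈ s.J, s.OG_S y → y ∈ s.J0 ∨ ∃ j ∈ s.J1,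
        y = s.t * s.a1 * j ∨ y = s.t * s.a3 * j ∨ y = s.t * s.u * j ∨ y = s.t * s.v * j :=
    (s.hY hb).decide (s.repY hb) (by decide +kernel)
  obtain ⟨⟨k1, k2, k3, k4, k5, k6⟩, k7⟩ := k
  obtain ⟨u1, u2⟩ := OG_uv hb
  obtain ⟨-, m1, m2, m3, m4, -⟩ := s.mems
  intro n hn
  have key : ∀ {y}, s.OG_S y → s.Good y → n * y * n⁻¹ ∈ s.J0 := fun hy hg => by
    have g := OG_conj hb hn hg
    have hs := OG_S_conj hb hn hy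
    obtain e | ⟨j, hj, e | e | e | e⟩ := k7 _ hs.1 hs
    · exact e
    all_goals rw [e, OG_mul hj] at g
    · exact absurd (OG_ta hz).1 (OG_nD g)
    · exact absurd (OG_ta hz).2 (OG_nD g)
    · exact absurd g h2
    · exact absurd (u2.1 g) h2
  refine FB.nrm (conj_clos_mem ?_)
  simp only [List.forall_mem_cons, List.not_mem_nil, false_imp_iff, implies_true, and_true]
  exact ⟨key k1 h1, key k2 (u1.2 h1), key k3 (OG_L (s.A_le m1)), key k4 (OG_L (s.A_le m2)),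
    key k5 (OG_L (s.A_le m3)), key k6 (OG_L (s.A_le m4))⟩

end Cf

end Cfsg.Agent.S38
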