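import Mathlib
import Cfsg.Agent.S38.OneG
import Cfsg.Agent.Cmp.Defs

/-! Orbit of length one: `t` is not in the derived group. -/

set_option autoImplicit false
set_option linter.unusedSectionVars false
set_option maxRecDepth 100000
set_option synthInstance.maxSize 100000
set_option synthInstance.maxHeartbeats 1000000

namespace Cfsg.Agent.S38

open Cfsg.Agent.Rec Cfsg.Agent.Spor Cfsg.Agent.Loc.Mss Cfsg.Agent.SF6 Subgroup
open scoped commutatorElement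

variable {G : Type*} [Group G] [Finite G]

theorem OneN_ab {P N : Subgroup G} {t : G} (hn : ∀ x ∈ P, ∀ y ∈ N, x * y * x⁻¹ ∈ N) (ht : t ∈ P) (tt : t * t = 1)
    (h0 : ∀ x ∈ P, x * t * x⁻¹ * t ∈ N) (M : G → Prop) (h1 : ∀ m ∈ P, M m → m ∈ N ∨ t * m ∈ N)
    (h2 : ∀ a ∈ P, ∀ b ∈ P, ¬ M a → ¬ M b → M (a⁻¹ * b)) : ∀ a ∈ P, ∀ b ∈ P, a * b * a⁻¹ * b⁻¹ ∈ N := by
  have k : ∀ x ∈ P, ∀ m ∈ P, M m → x * m * x⁻¹ * m⁻¹ ∈ N := fun x hx m hm h => by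
    rcases h1 m hm h with e | e
    · exact mul_mem (hn x hx m e) (inv_mem e)
    · obtain ⟨r, rfl⟩ : ∃ r, m = t * r := ⟨t * m, by rw [← mul_assoc, tt, one_mul]⟩
      rw [← mul_assoc, tt, one_mul] at e
      have := mul_mem (h0 x hx) (hn _ (inv_mem ht) _ (mul_mem (hn x hx r e) (inv_mem e)))
      rw [inv_inv, inv_eq_of_mul_eq_one_right tt] at this
      convert this using 1
      rw [mul_inv_rev, inv_eq_of_mul_eq_one_right tt]
      calc _ = x * t * x⁻¹ * 1 * (x * r * x⁻¹ * r⁻¹) * t := by group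
        _ = _ := by rw [← tt]; group
  intro a ha b hb
  by_cases e : M b
  · exact k a ha b hb e
  by_cases e' : M a
  · have := inv_mem (k b hb a ha e')
    convert this using 1
    group
  · have := hn a ha _ (k a ha _ (mul_mem (inv_mem ha) hb) (h2 a ha b hb e' e))
    convert this using 1
    group

namespace Cf

variable (s : Cf G)

theorem one_N (hb : s.Be) {P : Subgroup G} (hP : IsPGroup 2 P) (hT : s.T ≤ P) (hJ : P ≤ 𝐍[s.J]) (h0 : P ≤ 𝐍[s.J0]) :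
    ∃ N : Subgroup G, (∀ a ∈ P, ∀ b ∈ P, a * b * a⁻¹ * b⁻¹ ∈ N) ∧ s.t ∉ N ∧ s.J1 ≤ N := by
  have d : (∀ x ∈ s.T, x ∈ s.T0 ∨ s.t * x ∈ s.T0) ∧ (∀ x ∈ s.T0, x ∈ s.J0 ∨ s.q * x ∈ s.J0) ∧ s.J1 ≤ s.T0 ∧
      s.Q ≤ s.T0 ∧ s.J0 ≤ s.T0 ∧ s.T0 ≤ s.T ∧ ¬ s.t ∈ s.T0 ∧ s.q ∈ s.Q ∧ s.z ∈ s.J1 ∧ s.t ∈ s.T ∧
      (∀ j ∈ s.J1, s.q * j = j * s.q → j = 1 ∨ j = s.z) ∧ s.z * s.z = 1 ∧ s.z ≠ 1 ∧ s.q * s.q = 1 ∧
      (∀ j ∈ s.J1, j * s.t = s.t ∨ j * s.t = s.t * s.z ∨ j * s.t = s.t * s.z1 ∨ j * s.t = s.t * s.z1 * s.z) ∧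
      s.q * (s.t * s.z1) * s.q⁻¹ = s.t * s.z1 * s.z ∧ s.q * (s.t * s.z1 * s.z) * s.q⁻¹ = s.t * s.z1 * s.z * s.z :=
    (s.hY hb).decide (s.repY hb) (by decide +kernel)
  obtain ⟨d1, d2, d3, d4, d5, d6, d7, d8, d9, d10, d11, zz, z1, qq, d12, d13, d14⟩ := d
  have hq : s.q ∈ P := hT (d6 (d4 d8))
  have hz : ∀ x ∈ P, x * s.z = s.z * x := by
    obtain ⟨j, hj, j2, h⟩ := Cmp.exists_inv_fixed hP (hJ.trans (s.normJ hb).1) d9 (Inv.orderOf_two_of zz z1)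
    rcases d11 j hj (h _ hq) with rfl | rfl
    · simp at j2
    · exact h
  have hz' : ∀ x ∈ P, ∀ y, x * (y * s.z) * x⁻¹ = x * y * x⁻¹ * s.z := fun x hx y => by
    rw [← conj_mul, hz x hx, mul_inv_cancel_right]
  have mz : ∀ y, y * s.z * s.z = y := fun y => by rw [mul_assoc, zz, mul_one]
  obtain ⟨M, hM⟩ : ∃ M : G → Prop, ∀ x, M x ↔ x * s.t * x⁻¹ = s.t ∨ x * s.t * x⁻¹ = s.t * s.z := ⟨_, fun _ => Iff.rfl⟩
  have k1 : ∀ x ∈ P, ¬ M x → x * s.t * x⁻¹ = s.t * s.z1 ∨ x * s.t * x⁻¹ = s.t * s.z1 * s.z := fun x hx h => by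
    have := d12 _ (s.normJ_t hb (hJ hx))
    rw [mul_assoc _ s.t s.t, s.tt, mul_one, ← or_assoc, ← hM] at this
    exact this.resolve_left h
  have k2 : ∀ x ∈ P, x * s.t * x⁻¹ = s.t → x ∈ s.T := fun x hx h => s.pg_cent hP hT hx (mul_inv_eq_iff_eq_mul.1 h)
  have k3 : ∀ x ∈ P, M x → ∀ r ∈ s.T0, x * r * x⁻¹ ∈ s.T0 := fun x hx h r hr => by
    rcases d2 r hr with e | e
    · exact d5 (conj_mem_of_norm (h0 hx) e)
    · have := d5 (conj_mem_of_norm (h0 hx) e)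
      rwa [← conj_mul, mul_mem_cancel_left (d4 (conj_mem_of_norm (s.normQ (hz x hx) ((hM x).1 h)) d8))] at this
  have k4 : ∀ a ∈ P, ∀ b : G, b * s.t * b⁻¹ = a * s.t * a⁻¹ → a⁻¹ * b * s.t * (a⁻¹ * b)⁻¹ = s.t := fun a ha b e => by
    calc _ = a⁻¹ * (b * s.t * b⁻¹) * a := by group
      _ = _ := by rw [e]; group
  have k5 : ∀ a ∈ P, ∀ b ∈ P, ¬ M a → ¬ M b → M (a⁻¹ * b) := fun a ha b hb h1 h2 => by
    have k : b * s.t * b⁻¹ = a * s.t * a⁻¹ * s.z → M (a⁻¹ * b) := fun e => (hM _).2 (.inr (by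
      calc _ = a⁻¹ * (b * s.t * b⁻¹) * a := by group
        _ = _ := by rw [e, ← hz' a ha]; group))
    rcases k1 a ha h1 with e | e <;> rcases k1 b hb h2 with e' | e'
    exacts [(hM _).2 (.inl (k4 a ha b (e'.trans e.symm))), k (by rw [e, e']), k (by rw [e, e', mz]),
      (hM _).2 (.inl (k4 a ha b (e'.trans e.symm)))]
  by_cases hc : ∀ x ∈ P, M x
  · refine ⟨s.T0, OneN_ab (fun x hx => k3 x hx (hc x hx)) (hT d10) s.tt (fun x hx => d3 (s.normJ_t hb (hJ hx)))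
      (fun x => x * s.t * x⁻¹ = s.t) (fun m hm h => d1 m (k2 m hm h)) fun a ha b hb h1 h2 => k4 a ha b ?_, d7, d3⟩
    rw [((hM a).1 (hc a ha)).resolve_left h1, ((hM b).1 (hc b hb)).resolve_left h2]
  push Not at hc
  obtain ⟨x, hx, hc⟩ := hc
  have hi : ¬ M x⁻¹ := fun h => hc ((hM _).2 (((hM _).1 h).imp (fun e => by
    conv_lhs => rw [← e]
    group) fun e => by
      have : x * s.t * x⁻¹ * s.z = s.t := by rw [← hz' x hx, ← e]; group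
      rw [← mz (x * s.t * x⁻¹), this]))
  obtain ⟨w, hw⟩ : ∃ w, w = x * s.q * x⁻¹ := ⟨_, rfl⟩
  have wP : w ∈ P := hw ▸ mul_mem (mul_mem hx hq) (inv_mem hx)
  have ww : w * w = 1 := by rw [hw, conj_mul, qq, mul_one, mul_inv_cancel]
  have wt : w * s.t * w⁻¹ = s.t * s.z := by
    have e : s.q * (x⁻¹ * s.t * x⁻¹⁻¹) * s.q⁻¹ = x⁻¹ * s.t * x⁻¹⁻¹ * s.z := by
      rcases k1 _ (inv_mem hx) hi with e | e <;> rw [e]
      exacts [d13, d14]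
    calc _ = x * (s.q * (x⁻¹ * s.t * x⁻¹⁻¹) * s.q⁻¹) * x⁻¹ := by rw [hw]; group
      _ = _ := by rw [e, hz' x hx]; group
  have hN : ∀ y, y ∈ s.T0 ⊔ zpowers w ↔ y ∈ s.T0 ∨ w * y ∈ s.T0 := fun y =>
    FG.ZL.mem_ext (FB.nrm (k3 w wP ((hM w).2 (.inr wt)))) (ww ▸ one_mem _)
  have wN : w ∈ s.T0 ⊔ zpowers w := mem_sup_right (mem_zpowers w)
  have k6 : ∀ y ∈ P, ∀ r ∈ s.T0, y * r * y⁻¹ ∈ s.T0 ⊔ zpowers w := fun y hy r hr => by
    by_cases h : M y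
    · exact mem_sup_left (k3 y hy h r hr)
    rw [show y * r * y⁻¹ = x * (x⁻¹ * y * r * (x⁻¹ * y)⁻¹) * x⁻¹ by group]
    rcases d2 _ (k3 _ (mul_mem (inv_mem hx) hy) (k5 x hx y hy hc h) r hr) with e | e
    · exact mem_sup_left (d5 (conj_mem_of_norm (h0 hx) e))
    · have := d5 (conj_mem_of_norm (h0 hx) e)
      rw [← conj_mul, ← hw] at this
      exact (hN _).2 (.inr this)
  refine ⟨s.T0 ⊔ zpowers w, OneN_ab (fun y hy r hr => ?_) (hT d10) s.tt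
    (fun x hx => mem_sup_left (d3 (s.normJ_t hb (hJ hx)))) M (fun m hm h => ?_) k5, fun h => ?_, d3.trans le_sup_left⟩
  · refine ((hN r).1 hr).elim (k6 y hy r) fun e => ?_
    have h1 := k6 _ (mul_mem hy hx) _ (d4 d8)
    rw [show y * x * s.q * (y * x)⁻¹ = y * w * y⁻¹ by rw [hw]; group] at h1
    have h2 := k6 y hy _ e
    rwa [← conj_mul, mul_mem_cancel_left h1] at h2
  · rcases (hM m).1 h with e | e
    · exact (d1 m (k2 m hm e)).imp mem_sup_left mem_sup_left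
    · have h1 : w * m * s.t * (w * m)⁻¹ = s.t := by
        calc _ = w * (m * s.t * m⁻¹) * w⁻¹ := by group
          _ = _ := by rw [e, hz' w wP, wt, mz]
      refine (d1 _ (k2 _ (mul_mem wP hm) h1)).imp (fun h2 => (hN m).2 (.inr h2)) fun h2 => ?_
      have h3 : s.t * (w * m) = s.z * (w * (s.t * m)) := by
        calc _ = s.t * (w * (s.t * s.t) * m) := by rw [s.tt, mul_one]
          _ = s.t * (w * s.t * w⁻¹) * (w * (s.t * m)) := by group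
          _ = _ := by rw [wt, s.Kit1_tm]
      rw [h3, mul_mem_cancel_left (d3 d9)] at h2
      exact (hN _).2 (.inr h2)
  · refine ((hN _).1 h).elim d7 fun e => z1 ?_
    rw [(s.T_comm ((mul_mem_cancel_right d10).1 (d6 e))).1, mul_inv_cancel_right] at wt
    exact (mul_eq_left.1 wt.symm)

end Cf

end Cfsg.Agent.S38
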