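import Mathlib
import Cfsg.Agent.S38.Kit3
import Cfsg.Agent.S38.D6

/-! Orbit of length one: `J` is weakly closed. -/

set_option autoImplicit false
set_option linter.unusedSectionVars false
set_option maxRecDepth 100000
set_option synthInstance.maxSize 100000
set_option synthInstance.maxHeartbeats 1000000

namespace Cfsg.Agent.S38

open Cfsg.Agent.Rec Cfsg.Agent.Spor Cfsg.Agent.Loc.Mss Cfsg.Agent.SF6 Subgroup
open scoped commutatorElement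

variable {G : Type*} [Group G] [Finite G]

namespace OneW

/-- A map of the square preserving opposite vertices. -/
def sq (a b : Fin 4) : Fin 4 → Fin 4 := ![a, b, a + 2, b + 2]

theorem sq_mul : ∀ a b c d : Fin 4, (∀ i, sq a b (sq a b i) = i) → (∀ i, sq c d (sq c d i) = i) →
    (∀ i, sq a b (sq c d (sq a b (sq c d i))) = i) → ¬ (∀ i, sq a b i = i) → ¬ (∀ i, sq a b i + 2 = i) →
    ¬ (∀ i, sq c d i = i) → ¬ (∀ i, sq c d i + 2 = i) →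
    (∀ i, sq a b (sq c d i) = i) ∨ ∀ i, sq a b (sq c d i) = i + 2 := by decide +kernel

theorem sq_cases : ∀ a b : Fin 4, (∀ i, sq a b (sq a b i) = i) → ¬ (∀ i, sq a b i = i) →
    (sq a b 1 = 3 ∧ sq a b 3 = 1) ∨ (sq a b 0 = 2 ∧ sq a b 2 = 0) ∨
    (sq a b 0 = 1 ∧ sq a b 1 = 0 ∧ sq a b 2 = 3 ∧ sq a b 3 = 2) ∨
    (sq a b 0 = 3 ∧ sq a b 3 = 0 ∧ sq a b 1 = 2 ∧ sq a b 2 = 1) := by decide +kernel

theorem add4 : ∀ i : Fin 4, i + 2 + 2 = i := by decide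

/-- An elementary abelian group acting on a square of subgroups. -/
theorem bound {E J Z : Subgroup G} (Y : Fin 4 → Subgroup G) (inj : Function.Injective Y)
    (h2 : ∀ x ∈ E, x * x = 1) (act : ∀ x ∈ E, ∃ a b : Fin 4, ∀ i, cj(x, Y i) = Y (sq a b i))
    (ker : ∀ x ∈ E, (∀ i, cj(x, Y i) = Y i) → x ∈ J) (hJ : J ≤ 𝐍[Y 0])
    (hZ : Nat.card ↥(E ⊓ Z) ≤ 4) (op : ∀ i y, y ∈ Y i → y ∈ Y (i + 2) → y ∈ Z)
    (cov : ∀ y ∈ J, y * y = 1 → ∃ i, y ∈ Y i)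
    (key : ∀ a b : Fin 4, (∀ i, sq a b (sq a b i) = i) → ¬ (∀ i, sq a b i = i) → ∀ x ∈ J, x * x = 1 → x ∉ Z →
      (∀ i, x ∈ Y i → x ∈ Y (sq a b i)) → ∀ y ∈ J, y * y = 1 → y ∉ Z → (∀ i, y ∈ Y i → y ∈ Y (sq a b i)) →
        x * y = y * x → x * y ∈ Z)
    (hne : ¬ E ≤ J) : Nat.card E ≤ 16 := by
  choose! a b hπ using act
  have cm : ∀ {x y}, x ∈ E → y ∈ E → x * y = y * x := comm_of_sq2 h2
  have mul : ∀ x ∈ E, ∀ y ∈ E, ∀ i, sq (a (x * y)) (b (x * y)) i = sq (a x) (b x) (sq (a y) (b y) i) :=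
    fun x hx y hy i => inj (by rw [← hπ _ (mul_mem hx hy), ← cj_cj, hπ y hy, hπ x hx])
  have inv : ∀ x ∈ E, ∀ i, sq (a x) (b x) (sq (a x) (b x) i) = i := fun x hx i =>
    inj (by rw [← hπ x hx, ← hπ x hx, cj_cj, h2 x hx, cj_one])
  have fix : ∀ e ∈ E, ∀ y ∈ E, ∀ i, y ∈ Y i → y ∈ Y (sq (a e) (b e) i) := fun e he y hy i h => by
    have h1 := conj_mem_cj (g := e) h
    rwa [hπ e he, cm he hy, mul_inv_cancel_right] at h1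
  have kr : ∀ x ∈ E, (∀ i, sq (a x) (b x) i = i) → x ∈ J := fun x hx h =>
    ker x hx fun i => by rw [hπ x hx, h]
  have two : ∀ x ∈ E, ∀ y ∈ E, x ∉ J → ¬ (∀ i, sq (a x) (b x) i + 2 = i) → y ∉ J →
      ¬ (∀ i, sq (a y) (b y) i + 2 = i) → x * y ∈ J ∨ ∀ i, sq (a (x * y)) (b (x * y)) i = i + 2 :=
    fun x hx y hy h1 h3 h4 h5 => by
      refine (sq_mul _ _ _ _ (inv x hx) (inv y hy) (fun i => ?_) (mt (kr x hx) h1) h3 (mt (kr y hy) h4) h5).imp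
        (fun h => kr _ (mul_mem hx hy) fun i => ?_) fun h i => ?_
      · rw [← mul x hx y hy, ← mul x hx y hy, inv _ (mul_mem hx hy)]
      · rw [mul x hx y hy, h]
      · rw [mul x hx y hy, h]
  by_cases hr : ∃ r ∈ E, ∀ i, sq (a r) (b r) i = i + 2
  · obtain ⟨r, hr, e⟩ := hr
    have rJ : r ∉ E ⊓ J := fun h => by
      have h1 := hπ r hr 0
      rw [cj_of_norm (hJ h.2), e] at h1
      exact absurd (inj h1) (by decide)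
    obtain ⟨K, -, k2, k3⟩ := adjoin (inf_le_left : E ⊓ J ≤ E) h2 hr rJ
    have kk : ∀ x ∈ E, x ∉ K → x ∉ J ∧ ¬ ∀ i, sq (a x) (b x) i + 2 = i := fun x hx h =>
      ⟨fun h1 => h ((k3 x).2 (.inl ⟨hx, h1⟩)), fun h1 => h ((k3 x).2 (.inr ⟨mul_mem hr hx,
        kr _ (mul_mem hr hx) fun i => by rw [mul r hr x hx, e, h1]⟩))⟩
    have c1 := FB.two_le (H := E) (K := K) fun x hx y hy h1 h3 => (k3 _).2 <| by
      have hxy := mul_mem hx hy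
      refine (two x hx y hy (kk x hx h1).1 (kk x hx h1).2 (kk y hy h3).1 (kk y hy h3).2).imp (fun h => ⟨hxy, h⟩)
        fun h => ⟨mul_mem hr hxy, kr _ (mul_mem hr hxy) fun i => ?_⟩
      rw [mul r hr _ hxy, e, h, add4]
    have c2 := card_le_of_le (inf_le_right : E ⊓ K ≤ K)
    have c3 := card_le_of_le (show E ⊓ J ≤ E ⊓ Z from fun y hy => ⟨hy.1, by
      obtain ⟨i, hi⟩ := cov y hy.2 (h2 y hy.1)
      exact op i y hi (e i ▸ fix r hr y hy.1 i hi)⟩)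
    omega
  · have nr : ∀ x ∈ E, ¬ ∀ i, sq (a x) (b x) i + 2 = i := fun x hx h =>
      hr ⟨x, hx, fun i => by rw [← add4 (sq (a x) (b x) i), h]⟩
    have c1 := FB.two_le (H := E) (K := J) fun x hx y hy h1 h3 =>
      (two x hx y hy h1 (nr x hx) h3 (nr y hy)).resolve_right fun h => hr ⟨_, mul_mem hx hy, h⟩
    obtain ⟨e, he, he'⟩ := SetLike.not_le_iff_exists.1 hne
    have c2 := FB.two_le (H := E ⊓ J) (K := Z) fun x hx y hy h1 h3 =>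
      key _ _ (inv e he) (mt (kr e he) he') x hx.2 (h2 x hx.1) h1 (fix e he x hx.1) y hy.2 (h2 y hy.1) h3
        (fix e he y hy.1) (cm hx.1 hy.1)
    have c3 := card_le_of_le (inf_le_inf_right Z inf_le_left : E ⊓ J ⊓ Z ≤ E ⊓ Z)
    omega

/-- The orders of the intersections. -/
def tab (i j : Fin 4) : ℕ := if i = j then 32 else if j = i + 2 then 8 else 16

theorem tab32 : ∀ i j : Fin 4, tab i j = tab i i → i = j := by decide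
theorem tab8 : ∀ i j k : Fin 4, tab i j = tab k (k + 2) → j = i + 2 := by decide

end OneW

open OneW

namespace Cf

variable (s : Cf G)

/-- The four elementary subgroups of order 32 in cyclic order. -/
def OneW_Y : Fin 4 → Subgroup G := ![s.B, s.M1, s.F, s.M2]

theorem OneW_tab (hb : s.Be) (i j : Fin 4) : Nat.card ↥(s.OneW_Y i ⊓ s.OneW_Y j) = tab i j := by
  obtain ⟨-, -, -, -, -, -, -, -, -, e1, e2, -, -, -, -, -, c1, c2, c3, c4⟩ := s.elem4 hb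
  have d1 : Nat.card ↥(s.B ⊓ s.F) = 8 := by rw [e1, s.gZJ.2]
  have d2 : Nat.card ↥(s.M1 ⊓ s.M2) = 8 := by rw [e2, s.gZJ.2]
  have r : ∀ {A : Subgroup G}, Nat.card A = 32 → Nat.card ↥(A ⊓ A) = 32 := fun h => by rwa [inf_idem]
  have c : ∀ {A B : Subgroup G} {n : ℕ}, Nat.card ↥(A ⊓ B) = n → Nat.card ↥(B ⊓ A) = n := fun h => by
    rwa [inf_comm]
  fin_cases i <;> fin_cases j
  exacts [r s.gB.2, c1, d1, c2, c c1, r (s.gM1 hb).2, c c3, d2, c d1, c3, r (s.gF hb).2, c4, c c2, c d2, c c4,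
    r (s.gM2 hb).2]

theorem OneW_inj (hb : s.Be) : Function.Injective s.OneW_Y := fun i j h =>
  tab32 i j (by rw [← s.OneW_tab hb, ← s.OneW_tab hb, ← h])

theorem OneW_el (hb : s.Be) (i : Fin 4) :
    s.OneW_Y i ≤ s.J ∧ (∀ x ∈ s.OneW_Y i, x * x = 1) ∧ Nat.card (s.OneW_Y i) = 32 := by
  obtain ⟨a1, a2, a3, a4, a5, a6, a7, -⟩ := s.elem4 hb
  fin_cases i
  exacts [⟨a4, fun _ => s.B_sq, s.gB.2⟩, ⟨a6, a2, (s.gM1 hb).2⟩, ⟨a5, a1, (s.gF hb).2⟩, ⟨a7, a3, (s.gM2 hb).2⟩]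

theorem OneW_act (hb : s.Be) {x : G} (hx : x ∈ 𝐍[s.J]) :
    ∃ a b : Fin 4, ∀ i, cj(x, s.OneW_Y i) = s.OneW_Y (sq a b i) := by
  have h1 : ∀ i, ∃ j, cj(x, s.OneW_Y i) = s.OneW_Y j := fun i => by
    obtain ⟨k1, k2, k3⟩ := s.OneW_el hb i
    have k4 : ∀ y ∈ cj(x, s.OneW_Y i), y * y = 1 := fun y hy => by
      have h := k2 _ (mem_cj.1 hy)
      have e : y * y = x * (x⁻¹ * y * x * (x⁻¹ * y * x)) * x⁻¹ := by group
      rw [e, h, mul_one, mul_inv_cancel]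
    rcases s.elemT hb ((cj_le_of_norm k1 hx).trans (s.elem4 hb).2.2.2.2.2.2.2.1) k4 (by rw [card_cj, k3]) with
      h | h | h | h
    exacts [⟨0, h⟩, ⟨2, h⟩, ⟨1, h⟩, ⟨3, h⟩]
  choose π hπ using h1
  have h2 : ∀ i, π (i + 2) = π i + 2 := fun i => tab8 _ _ i (by
    rw [← s.OneW_tab hb, ← s.OneW_tab hb, ← hπ, ← hπ, ← cj_inf, card_cj])
  refine ⟨π 0, π 1, fun i => ?_⟩
  rw [hπ]
  fin_cases i
  exacts [rfl, rfl, congrArg _ (h2 0), congrArg _ (h2 1)]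

theorem OneW_key (hb : s.Be) (a b : Fin 4) (h1 : ∀ i, sq a b (sq a b i) = i) (h2 : ¬ ∀ i, sq a b i = i) :
    ∀ x ∈ s.J, x * x = 1 → x ∉ s.ZJ → (∀ i, x ∈ s.OneW_Y i → x ∈ s.OneW_Y (sq a b i)) →
      ∀ y ∈ s.J, y * y = 1 → y ∉ s.ZJ → (∀ i, y ∈ s.OneW_Y i → y ∈ s.OneW_Y (sq a b i)) →
        x * y = y * x → x * y ∈ s.ZJ := by
  intro x hx x2 xZ fx y hy y2 yZ fy
  rcases sq_cases a b h1 h2 with ⟨e1, e2⟩ | ⟨e1, e2⟩ | ⟨e1, e2, e3, e4⟩ | ⟨e1, e2, e3, e4⟩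
  · have k : ∀ x ∈ s.J, x * x = 1 → x ∉ s.ZJ → (x ∈ s.M1 → x ∈ s.M2) → (x ∈ s.M2 → x ∈ s.M1) →
        ∀ y ∈ s.J, y * y = 1 → y ∉ s.ZJ → (y ∈ s.M1 → y ∈ s.M2) → (y ∈ s.M2 → y ∈ s.M1) →
          x * y = y * x → x * y ∈ s.ZJ := (s.hY hb).decide (s.repY hb) (by decide +kernel)
    exact k x hx x2 xZ (e1 ▸ fx 1 :) (e2 ▸ fx 3 :) y hy y2 yZ (e1 ▸ fy 1 :) (e2 ▸ fy 3 :)
  · have k : ∀ x ∈ s.J, x * x = 1 → x ∉ s.ZJ → (x ∈ s.B → x ∈ s.F) → (x ∈ s.F → x ∈ s.B) →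
        ∀ y ∈ s.J, y * y = 1 → y ∉ s.ZJ → (y ∈ s.B → y ∈ s.F) → (y ∈ s.F → y ∈ s.B) →
          x * y = y * x → x * y ∈ s.ZJ := (s.hY hb).decide (s.repY hb) (by decide +kernel)
    exact k x hx x2 xZ (e1 ▸ fx 0 :) (e2 ▸ fx 2 :) y hy y2 yZ (e1 ▸ fy 0 :) (e2 ▸ fy 2 :)
  · have k : ∀ x ∈ s.J, x * x = 1 → x ∉ s.ZJ → (x ∈ s.B → x ∈ s.M1) → (x ∈ s.M1 → x ∈ s.B) →
        (x ∈ s.F → x ∈ s.M2) → (x ∈ s.M2 → x ∈ s.F) →
        ∀ y ∈ s.J, y * y = 1 → y ∉ s.ZJ → (y ∈ s.B → y ∈ s.M1) → (y ∈ s.M1 → y ∈ s.B) →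
          (y ∈ s.F → y ∈ s.M2) → (y ∈ s.M2 → y ∈ s.F) → x * y = y * x → x * y ∈ s.ZJ :=
      (s.hY hb).decide (s.repY hb) (by decide +kernel)
    exact k x hx x2 xZ (e1 ▸ fx 0 :) (e2 ▸ fx 1 :) (e3 ▸ fx 2 :) (e4 ▸ fx 3 :) y hy y2 yZ (e1 ▸ fy 0 :)
      (e2 ▸ fy 1 :) (e3 ▸ fy 2 :) (e4 ▸ fy 3 :)
  · have k : ∀ x ∈ s.J, x * x = 1 → x ∉ s.ZJ → (x ∈ s.B → x ∈ s.M2) → (x ∈ s.M2 → x ∈ s.B) →
        (x ∈ s.M1 → x ∈ s.F) → (x ∈ s.F → x ∈ s.M1) →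
        ∀ y ∈ s.J, y * y = 1 → y ∉ s.ZJ → (y ∈ s.B → y ∈ s.M2) → (y ∈ s.M2 → y ∈ s.B) →
          (y ∈ s.M1 → y ∈ s.F) → (y ∈ s.F → y ∈ s.M1) → x * y = y * x → x * y ∈ s.ZJ :=
      (s.hY hb).decide (s.repY hb) (by decide +kernel)
    exact k x hx x2 xZ (e1 ▸ fx 0 :) (e2 ▸ fx 3 :) (e3 ▸ fx 1 :) (e4 ▸ fx 2 :) y hy y2 yZ (e1 ▸ fy 0 :)
      (e2 ▸ fy 3 :) (e3 ▸ fy 1 :) (e4 ▸ fy 2 :)

theorem one_wc (hb : s.Be) (h : s.H1) {P E : Subgroup G} (hP : IsPGroup 2 P) (hT : s.T ≤ P) (hJ : P ≤ 𝐍[s.J])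
    (hE : E ≤ P) (h2 : ∀ x ∈ E, x * x = 1) (hc : 32 ≤ Nat.card E) : E ≤ s.J := by
  obtain ⟨-, -, -, a4, a5, a6, a7, a8, -, e1, e2, -, -, n1, -, hq, -⟩ := s.elem4 hb
  by_cases ht : s.t ∈ E
  · rcases s.elemT hb (fun x hx => s.pg_cent hP hT (hE hx) (comm_of_sq2 h2 hx ht)) h2 hc with k | k | k | k <;>
      rwa [k]
  by_contra hne
  have k : s.t ∈ s.ZJ ∧ ∀ y ∈ s.J, y * y = 1 → y ∈ s.B ∨ y ∈ s.M1 ∨ y ∈ s.F ∨ y ∈ s.M2 :=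
    (s.hY hb).decide (s.repY hb) (by decide +kernel)
  have hZ := two_mul_card_le (inf_le_right : E ⊓ s.ZJ ≤ s.ZJ)
    (fun g hg => s.B_sq (s.les.2.2.2.2.2.2.2.2.2.2.2.2.1 hg)) k.1 fun h => ht h.1
  rw [s.gZJ.2] at hZ
  have := bound (J := s.J) (Z := s.ZJ) s.OneW_Y (s.OneW_inj hb) h2 (fun x hx => s.OneW_act hb (hJ (hE hx)))
    (fun x hx hi => ?_) (a8.trans s.T_norm.1) (by omega) (fun i y h1 h3 => ?_) (fun y hy y2 => ?_)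
    (s.OneW_key hb) hne
  · omega
  · have h1 : x * s.t * x⁻¹ = s.t := h x (cj_eq_iff.1 (hi 0))
    refine ((s.memTJ hb).1 (s.pg_cent hP hT (hE hx) (mul_inv_eq_iff_eq_mul.1 h1))).resolve_right fun h3 => ?_
    have h4 : s.q ∈ 𝐍[s.M1] := (mul_mem_cancel_right (cj_eq_iff.1 (hi 1))).1 (n1 h3)
    exact absurd (s.OneW_inj hb (a₁ := 1) (a₂ := 3) ((cj_of_norm h4).symm.trans hq)) (by decide)
  · fin_cases i
    exacts [e1 ▸ ⟨h1, h3⟩, e2 ▸ ⟨h1, h3⟩, e1 ▸ ⟨h3, h1⟩, e2 ▸ ⟨h3, h1⟩]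
  · rcases k.2 y hy y2 with k | k | k | k
    exacts [⟨0, k⟩, ⟨1, k⟩, ⟨2, k⟩, ⟨3, k⟩]

end Cf

end Cfsg.Agent.S38
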