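import Mathlib
import Cfsg.Agent.S38.Kit3
import Cfsg.Agent.S38.D6
import Cfsg.Agent.FG.ZLPar

/-! The Sylow subgroup of `N(B)`. -/

set_option autoImplicit false
set_option linter.unusedSectionVars false
set_option maxRecDepth 100000
set_option synthInstance.maxSize 100000
set_option synthInstance.maxHeartbeats 1000000

namespace Cfsg.Agent.S38

open Cfsg.Agent.Rec Cfsg.Agent.Spor Cfsg.Agent.Loc.Mss Cfsg.Agent.SF6 Subgroup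
open scoped commutatorElement

variable {G : Type*} [Group G] [Finite G]

namespace Six

variable (s : Six G)

theorem Six1_dec : s.z ≠ 1 ∧ s.z * s.z = 1 ∧ s.u ∈ s.R ∧ s.v ∈ s.R ∧ s.z ∈ s.R ∧ s.t * s.a1 ∈ s.R ∧ s.t * s.a2 ∈ s.R ∧
    s.t * s.a3 ∈ s.R ∧ s.t * s.a4 ∈ s.R ∧ s.z ∈ s.U ∧ s.z ∈ s.A ∧ s.z ∈ s.Q ∧ s.u * (s.t * s.z) ∉ s.U ∧ s.t ∉ s.U ∧
    s.u * s.z ∉ s.U ∧ s.p * s.b ∈ s.Q ∧ s.p * s.b * (s.p * s.b) = s.z ∧ s.z ∈ s.T :=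
  (s.toCf.hY s.hb).decide (s.toCf.repY s.hb) (by decide +kernel)

theorem Six1_le : s.R ≤ s.T ∧ s.U ≤ s.T ∧ s.A ≤ s.T ∧ s.B ≤ s.T ∧ s.Q ≤ s.T ∧ s.J1 ≤ s.T :=
  ⟨fun _ h => (s.toCf.memTR s.hb).2 (.inl h), s.les.2.2.2.2.2.2.2.2.2.1.trans s.TU_le,
    (s.les.1.trans s.les.2.2.2.2.2.2.2.2.2.1).trans s.TU_le, s.les.2.2.2.2.2.2.2.2.1.trans s.TU_le,
    (s.les.2.1.trans s.les.2.2.2.2.2.2.2.2.2.1).trans s.TU_le,
    (((s.les.2.2.2.2.2.2.1.trans s.les.2.2.2.2.1).trans s.les.1).trans s.les.2.2.2.2.2.2.2.2.2.1).trans s.TU_le⟩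

theorem Six1_T : (∀ x ∈ s.T, s.u * (x * s.u * x⁻¹) ∈ s.U) ∧ ∀ x ∈ s.T, ∀ j ∈ s.J1, x * j * x⁻¹ ∈ s.J1 :=
  (s.toCf.hY s.hb).decide (s.toCf.repY s.hb) (by decide +kernel)

theorem Six1_wi : s.w⁻¹ = s.w := inv_eq_of_mul_eq_one_right s.ww
theorem Six1_wm (x : G) : s.w * (s.w * x) = x := by rw [← mul_assoc, s.ww, one_mul]
theorem Six1_tm (x : G) : s.t * (s.t * x) = x := by rw [← mul_assoc, s.tt, one_mul]
theorem Six1_um (x : G) : s.u * (s.u * x) = x := by rw [← mul_assoc, s.uu, one_mul]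
theorem Six1_tT : s.t ∈ s.T := s.fb_u.2.2.1
theorem Six1_uT : s.u ∈ s.T := s.fb_u.2.1
theorem Six1_tz : s.t * s.z = s.z * s.t := (s.T_comm s.Six1_tT).2

theorem Six1_nwt : s.w * s.t ≠ s.t * s.w := fun h => s.Six1_dec.1 <| by
  have h1 := s.wt
  rw [h, mul_inv_cancel_right] at h1
  exact left_eq_mul.1 h1

theorem w_nT : s.w ∉ s.T :=
  fun h => s.Six1_nwt (s.T_comm h).1

theorem w_act {y : G} (hy : y ∈ s.T) : (y ∈ s.R ∧ s.w * y * s.w⁻¹ = y) ∨ (y ∉ s.R ∧ s.w * y * s.w⁻¹ = y * s.z) := by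
  by_cases h : y ∈ s.R
  · exact .inl ⟨h, by rw [s.wR y h, mul_inv_cancel_right]⟩
  · refine .inr ⟨h, ?_⟩
    have h1 := s.wR _ (((s.toCf.memTR s.hb).1 hy).resolve_left h)
    calc s.w * y * s.w⁻¹ = s.w * s.t * s.w⁻¹ * (s.w * (s.t * y) * s.w⁻¹) := by
          nth_rewrite 1 [← s.Six1_tm y]; group
      _ = _ := by rw [s.wt, h1, mul_inv_cancel_right, s.Six1_tz, mul_assoc, s.Six1_tm, (s.T_comm hy).2]

theorem Six1_nrm {K : Subgroup G} (hK : K ≤ s.T) (hz : s.z ∈ K) : s.w ∈ 𝐍[K] :=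
  FB.nrm fun r hr => by
    rcases s.w_act (hK hr) with ⟨-, h⟩ | ⟨-, h⟩ <;> rw [h]
    exacts [hr, mul_mem hr hz]

theorem w_norm : s.w ∈ 𝐍[s.T] ∧ s.w ∈ 𝐍[s.B] ∧ s.w ∈ 𝐍[s.U] ∧ s.w ∈ 𝐍[s.T0] ∧ s.w ∈ 𝐍[s.TU] ∧ s.w ∈ 𝐍[s.A] := by
  have h := s.Six1_le
  have hz := s.Six1_dec.2.2.2.2.2.2.2.2.2
  exact ⟨s.Six1_nrm le_rfl (h.2.1 hz.1), s.Six1_nrm h.2.2.2.1 (s.les.2.2.2.2.2.2.2.1 hz.2.1), s.Six1_nrm h.2.1 hz.1,
    s.Six1_nrm (s.toCf.t_nR s.hb).2.2.2.2.2 (s.fb_u.2.2.2 hz.1),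
    s.Six1_nrm s.TU_le (s.les.2.2.2.2.2.2.2.2.2.1 hz.1), s.Six1_nrm h.2.2.1 hz.2.1⟩

theorem w_comm : s.w * s.u = s.u * s.w ∧ s.w * s.v = s.v * s.w ∧ s.w * s.z = s.z * s.w ∧ (∀ x ∈ s.Q, s.w * x = x * s.w) ∧
    ∀ d, s.P4 d → s.w * d = d * s.w := by
  obtain ⟨-, -, h1, h2, h3, h4, h5, h6, h7, -⟩ := s.Six1_dec
  refine ⟨s.wR _ h1, s.wR _ h2, s.wR _ h3, fun x hx => s.wR _ ((s.toCf.t_nR s.hb).2.2.2.1 hx), ?_⟩
  rintro d (rfl | rfl | rfl | rfl)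
  exacts [s.wR _ h4, s.wR _ h5, s.wR _ h6, s.wR _ h7]

theorem memS1 {x : G} : x ∈ s.S1 ↔ x ∈ s.T ∨ s.w * x ∈ s.T :=
  FG.ZL.mem_ext s.w_norm.1 (s.ww ▸ one_mem _)

theorem Six1_TS : s.T ≤ s.S1 := le_sup_left
theorem Six1_wS : s.w ∈ s.S1 := mem_sup_right (mem_zpowers _)

theorem Six1_le_norm {K : Subgroup G} (hT : s.T ≤ 𝐍[K]) (hw : s.w ∈ 𝐍[K]) : s.S1 ≤ 𝐍[K] :=
  sup_le hT (zpowers_le.2 hw)

theorem Six1_inT {x : G} (hx : x ∈ s.S1) (h : x * s.t = s.t * x) : x ∈ s.T := by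
  rcases s.memS1.1 hx with h1 | h1
  · exact h1
  · refine absurd ?_ s.Six1_nwt
    have h2 := (s.T_comm h1).1
    rw [mul_assoc, h, ← mul_assoc, ← mul_assoc] at h2
    exact mul_right_cancel h2

theorem Six1_t {x : G} (hx : x ∈ s.S1) : x * s.t * x⁻¹ = s.t ∨ x * s.t * x⁻¹ = s.t * s.z := by
  rcases s.memS1.1 hx with h1 | h1
  · left
    rw [(s.T_comm h1).1, mul_inv_cancel_right]
  · right
    obtain ⟨y, rfl⟩ : ∃ y, x = s.w * y := ⟨s.w * x, (s.Six1_wm x).symm⟩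
    rw [s.Six1_wm] at h1
    calc s.w * y * s.t * (s.w * y)⁻¹ = s.w * (y * s.t * y⁻¹) * s.w⁻¹ := by group
      _ = _ := by rw [(s.T_comm h1).1, mul_inv_cancel_right, s.wt]

theorem Six1_Tw {x : G} (hx : x ∈ s.T) : x * s.w * x⁻¹ = s.w ∨ x * s.w * x⁻¹ = s.w * s.z := by
  rcases s.w_act (inv_mem hx) with ⟨-, h⟩ | ⟨-, h⟩
  · left
    calc x * s.w * x⁻¹ = x * (s.w * x⁻¹ * s.w⁻¹) * s.w := by group
      _ = _ := by rw [h]; group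
  · right
    calc x * s.w * x⁻¹ = x * (s.w * x⁻¹ * s.w⁻¹) * s.w := by group
      _ = s.z * s.w := by rw [h]; group
      _ = _ := s.w_comm.2.2.1.symm

theorem cardS1 : Nat.card s.S1 = 512 :=
  (FG.ZL.card_ext s.w_norm.1 (s.ww ▸ one_mem _) s.w_nT).trans (by rw [(s.toCf.gT s.hb).2])

theorem pgS1 : IsPGroup 2 s.S1 :=
  IsPGroup.of_card (n := 9) s.cardS1

theorem S1_norm : s.S1 ≤ 𝐍[s.B] ∧ s.S1 ≤ 𝐍[s.T] ∧ s.S1 ≤ 𝐍[s.Q] ∧ s.S1 ≤ 𝐍[s.R] ∧ s.S1 ≤ 𝐍[s.J1] ∧ s.S1 ≤ 𝐍[s.U] := by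
  have h := s.Six1_le
  have hz := s.Six1_dec
  refine ⟨s.Six1_le_norm s.T_norm.1 s.w_norm.2.1, s.Six1_le_norm le_normalizer s.w_norm.1,
    s.Six1_le_norm s.T_norm.2.2.2.1 (s.Six1_nrm h.2.2.2.2.1 hz.2.2.2.2.2.2.2.2.2.2.2.1),
    s.Six1_le_norm (fun x hx => ?_) (s.Six1_nrm h.1 hz.2.2.2.2.1),
    s.Six1_le_norm (fun x hx => FB.nrm (s.Six1_T.2 x hx)) (s.Six1_nrm h.2.2.2.2.2 s.mems.2.2.2.2.2.1),
    s.Six1_le_norm s.T_norm.2.2.1 s.w_norm.2.2.1⟩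
  have ht : s.t ∈ 𝐍[s.R] := FB.nrm fun r hr => by rwa [← (s.T_comm (h.1 hr)).1, mul_inv_cancel_right]
  rcases (s.toCf.memTR s.hb).1 hx with h1 | h1
  · exact le_normalizer h1
  · exact (mul_mem_cancel_left ht).1 (le_normalizer h1)

theorem S1_z {x : G} (hx : x ∈ s.S1) : x * s.z = s.z * x := by
  rcases s.memS1.1 hx with h1 | h1
  · exact (s.T_comm h1).2
  · have h2 := (s.T_comm h1).2
    rw [← mul_assoc, ← s.w_comm.2.2.1, mul_assoc, mul_assoc] at h2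
    exact mul_left_cancel h2

theorem Z_S1 {x : G} (hx : x ∈ s.S1) (h : ∀ y ∈ s.S1, x * y = y * x) : x = 1 ∨ x = s.z := by
  have hT := s.Six1_inT hx (h _ (s.Six1_TS s.Six1_tT))
  have hw := h _ s.Six1_wS
  rcases s.memZT.1 (s.ZT_eq hT fun y hy => h y (s.Six1_TS hy)) with h1 | h1 | h1 | h1
  · exact .inl h1
  · exact absurd (h1 ▸ hw).symm s.Six1_nwt
  · exact .inr h1
  · refine absurd ?_ s.Six1_nwt
    rw [h1, mul_assoc, ← s.w_comm.2.2.1, ← mul_assoc, ← mul_assoc] at hw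
    exact (mul_right_cancel hw).symm

theorem memR {x : G} : x ∈ s.R ↔ x ∈ s.S1 ∧ x * s.t = s.t * x ∧ x * s.w = s.w * x := by
  refine ⟨fun h => ⟨s.Six1_TS (s.Six1_le.1 h), (s.T_comm (s.Six1_le.1 h)).1, (s.wR x h).symm⟩, fun ⟨h1, h2, h3⟩ => ?_⟩
  rcases s.w_act (s.Six1_inT h1 h2) with h | ⟨-, h⟩
  · exact h.1
  · rw [← h3, mul_inv_cancel_right] at h
    exact absurd (left_eq_mul.1 h) s.Six1_dec.1

theorem S1_w {x : G} (hx : x ∈ s.S1) : x * s.w * x⁻¹ = s.w ∨ x * s.w * x⁻¹ = s.w * s.z := by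
  rcases s.memS1.1 hx with h1 | h1
  · exact s.Six1_Tw h1
  · obtain ⟨y, rfl⟩ : ∃ y, x = s.w * y := ⟨s.w * x, (s.Six1_wm x).symm⟩
    rw [s.Six1_wm] at h1
    have e : s.w * y * s.w * (s.w * y)⁻¹ = s.w * (y * s.w * y⁻¹) * s.w⁻¹ := by group
    rw [e]
    rcases s.Six1_Tw h1 with h | h <;> rw [h]
    · exact .inl (mul_inv_cancel_right _ _)
    · right
      rw [s.w_comm.2.2.1, ← mul_assoc, mul_inv_cancel_right, s.w_comm.2.2.1]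

theorem Six1_nT {a b : G} (ha : a ∈ s.T) (hb : b ∈ s.T) : a * s.w * b ∉ s.U := fun h =>
  s.w_nT ((mul_mem_cancel_left ha).1 ((mul_mem_cancel_right hb).1 (s.Six1_le.2.1 h)))

theorem Six1_wu : s.w * s.u ∈ 𝐍[s.U] ∧ s.w * s.u * (s.w * s.u) ∈ s.U := by
  refine ⟨mul_mem s.w_norm.2.2.1 s.u_norm.2.2.2.1, ?_⟩
  rw [mul_assoc, s.w_comm.1, s.Six1_um, s.ww]
  exact one_mem _

theorem memS0 {x : G} : x ∈ s.S0 ↔ x ∈ s.U ∨ s.w * s.u * x ∈ s.U :=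
  FG.ZL.mem_ext s.Six1_wu.1 s.Six1_wu.2

theorem Six1_sup {K : Subgroup G} {a g : G} (hm : ∀ x, x ∈ K ⊔ zpowers a → x ∈ K ∨ a * x ∈ K) (hg : g ∈ 𝐍[K])
    (h : g * a * g⁻¹ ∈ K ⊔ zpowers a) : g ∈ 𝐍[K ⊔ zpowers a] :=
  FB.nrm fun r hr => by
    rcases hm r hr with h1 | h1
    · exact mem_sup_left (conj_mem_of_norm hg h1)
    · have e : g * r * g⁻¹ = (g * a * g⁻¹)⁻¹ * (g * (a * r) * g⁻¹) := by group
      rw [e]
      exact mul_mem (inv_mem h) (mem_sup_left (conj_mem_of_norm hg h1))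

theorem Six1_US : s.U ≤ s.S0 := le_sup_left
theorem Six1_wuS : s.w * s.u ∈ s.S0 := mem_sup_right (mem_zpowers _)

theorem Six1_nS0 : s.S1 ≤ 𝐍[s.S0] := by
  have hc := s.w_comm
  refine s.Six1_le_norm (fun x hx => ?_) ?_
  · refine Six1_sup (fun _ h => s.memS0.1 h) (s.T_norm.2.2.1 hx) ?_
    have e : x * (s.w * s.u) * x⁻¹ = x * s.w * x⁻¹ * (s.u * (s.u * (x * s.u * x⁻¹))) := by
      rw [s.Six1_um]; group
    have h1 := s.Six1_US (s.Six1_T.1 x hx)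
    rw [e]
    rcases s.Six1_Tw hx with h | h <;> rw [h, ← mul_assoc]
    · exact mul_mem s.Six1_wuS h1
    · rw [mul_assoc s.w s.z, ← s.fb_rel.2.2.1, ← mul_assoc s.w]
      exact mul_mem (mul_mem s.Six1_wuS (s.Six1_US s.Six1_dec.2.2.2.2.2.2.2.2.2.1)) h1
  · refine Six1_sup (fun _ h => s.memS0.1 h) s.w_norm.2.2.1 ?_
    rw [hc.1, ← mul_assoc, mul_inv_cancel_right]
    exact hc.1 ▸ s.Six1_wuS

theorem Six1_twt : s.t * s.w * s.t = s.z * s.w := by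
  calc s.t * s.w * s.t = s.t * (s.w * s.t * s.w⁻¹) * s.w := by group
    _ = _ := by rw [s.wt, s.Six1_tm]

theorem Six1_tw : s.t * s.w ∈ 𝐍[s.S0] ∧ s.t * s.w * (s.t * s.w) ∈ s.S0 := by
  refine ⟨s.Six1_nS0 (mul_mem (s.Six1_TS s.Six1_tT) s.Six1_wS), ?_⟩
  rw [← mul_assoc, s.Six1_twt, mul_assoc, s.ww, mul_one]
  exact s.Six1_US s.Six1_dec.2.2.2.2.2.2.2.2.2.1

theorem Six1_twS : s.t * s.w ∉ s.S0 := fun h => by
  rcases s.memS0.1 h with h | h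
  · exact s.Six1_nT s.Six1_tT (one_mem _) (by rwa [mul_one])
  · refine s.Six1_dec.2.2.2.2.2.2.2.2.2.2.2.2.1 ?_
    have e : s.w * s.u * (s.t * s.w) = s.u * (s.t * s.z) := by
      rw [← s.wt, s.w_comm.1, s.Six1_wi]; group
    rwa [e] at h

theorem memN1 {x : G} : x ∈ s.N1 ↔ x ∈ s.S0 ∨ s.t * s.w * x ∈ s.S0 :=
  FG.ZL.mem_ext s.Six1_tw.1 s.Six1_tw.2

theorem Six1_SN : s.S0 ≤ s.N1 := le_sup_left
theorem Six1_twN : s.t * s.w ∈ s.N1 := mem_sup_right (mem_zpowers _)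

theorem Six1_card : Nat.card s.S0 = 128 ∧ Nat.card s.N1 = 256 := by
  have h : Nat.card s.S0 = 128 :=
    (FG.ZL.card_ext s.Six1_wu.1 s.Six1_wu.2 (by
      have := s.Six1_nT (one_mem _) s.Six1_uT
      rwa [one_mul] at this)).trans (by rw [s.gU.2])
  exact ⟨h, (FG.ZL.card_ext s.Six1_tw.1 s.Six1_tw.2 s.Six1_twS).trans (by rw [h])⟩

theorem Six1_nN1 : s.S1 ≤ 𝐍[s.N1] := fun x hx => by
  refine Six1_sup (fun _ h => s.memN1.1 h) (s.Six1_nS0 hx) ?_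
  have hz : s.z ∈ s.N1 := s.Six1_SN (s.Six1_US s.Six1_dec.2.2.2.2.2.2.2.2.2.1)
  have e : x * (s.t * s.w) * x⁻¹ = x * s.t * x⁻¹ * (x * s.w * x⁻¹) := by group
  have e1 : s.t * s.z * s.w = s.t * s.w * s.z := by rw [mul_assoc, ← s.w_comm.2.2.1, mul_assoc]
  rw [e]
  rcases s.Six1_t hx with h | h <;> rcases s.S1_w hx with h' | h' <;> rw [h, h']
  · exact s.Six1_twN
  · rw [← mul_assoc]; exact mul_mem s.Six1_twN hz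
  · rw [e1]; exact mul_mem s.Six1_twN hz
  · rw [← mul_assoc, e1]; exact mul_mem (mul_mem s.Six1_twN hz) hz

theorem Six1_NS : s.N1 ≤ s.S1 :=
  sup_le (sup_le (s.Six1_le.2.1.trans s.Six1_TS) (zpowers_le.2 (mul_mem s.Six1_wS (s.Six1_TS s.Six1_uT))))
    (zpowers_le.2 (mul_mem (s.Six1_TS s.Six1_tT) s.Six1_wS))

theorem Six1_tN : s.t ∉ s.N1 := fun h => by
  rcases s.memN1.1 h with h | h <;> rcases s.memS0.1 h with h | h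
  · exact s.Six1_dec.2.2.2.2.2.2.2.2.2.2.2.2.2.1 h
  · refine s.Six1_nT (one_mem _) (mul_mem s.Six1_uT s.Six1_tT) ?_
    rwa [one_mul, ← mul_assoc]
  · exact s.Six1_nT s.Six1_tT s.Six1_tT h
  · refine s.Six1_dec.2.2.2.2.2.2.2.2.2.2.2.2.2.2.1 ?_
    rwa [s.Six1_twt, ← s.w_comm.2.2.1, s.w_comm.1, mul_assoc, s.Six1_wm] at h

theorem memS1' {x : G} : x ∈ s.S1 ↔ x ∈ s.N1 ∨ s.t * x ∈ s.N1 := by
  have hn := s.Six1_nN1 (s.Six1_TS s.Six1_tT)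
  have h2 : s.t * s.t ∈ s.N1 := s.tt ▸ one_mem _
  have e : s.N1 ⊔ zpowers s.t = s.S1 :=
    eq_of_le_of_card_ge (sup_le s.Six1_NS (zpowers_le.2 (s.Six1_TS s.Six1_tT)))
      (by rw [FG.ZL.card_ext hn h2 s.Six1_tN, s.Six1_card.2, s.cardS1])
  rw [← e]
  exact FG.ZL.mem_ext hn h2

theorem cardS0 : Nat.card s.S0 = 128 ∧ Nat.card s.N1 = 256 :=
  s.Six1_card

theorem S0_norm : s.S1 ≤ 𝐍[s.S0] ∧ s.S1 ≤ 𝐍[s.N1] ∧ s.S0 ≤ s.N1 ∧ s.N1 ≤ s.S1 ∧ s.U ≤ s.S0 ∧ s.T ≤ s.S1 :=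
  ⟨s.Six1_nS0, s.Six1_nN1, s.Six1_SN, s.Six1_NS, s.Six1_US, s.Six1_TS⟩

theorem nmem : s.t ∉ s.N1 ∧ s.t * s.w ∉ s.S0 ∧ s.ρ ∈ s.N1 ∧ s.ρ ∉ s.S0 ∧ s.ρ * s.ρ = 1 ∧ s.t * s.u ∈ s.N1 := by
  obtain ⟨-, zz, -, -, -, -, -, -, -, hz, -, -, -, -, -, hq, hs, -⟩ := s.Six1_dec
  have e : s.t * s.w * s.ρ = s.p * s.b := by
    rw [ρ, mul_assoc s.w, mul_assoc, s.Six1_wm, s.Six1_tm]
  have h1 : s.t * s.w * s.ρ ∈ s.S0 := e ▸ s.Six1_US (s.les.2.1 hq)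
  refine ⟨s.Six1_tN, s.Six1_twS, s.memN1.2 (.inr h1), fun h => s.Six1_twS ((mul_mem_cancel_right h).1 h1), ?_, ?_⟩
  · have c1 := s.w_comm.2.2.2.1 _ hq
    have c2 := (s.T_comm (s.Six1_le.2.2.2.2.1 hq)).1
    rw [ρ]
    generalize s.p * s.b = y at c1 c2 hs
    calc s.w * s.t * y * (s.w * s.t * y) = s.w * s.t * (y * s.w) * s.t * y := by group
      _ = s.w * (s.t * s.w * (y * s.t)) * y := by rw [← c1]; group
      _ = s.w * (s.t * s.w * s.t) * (y * y) := by rw [c2]; group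
      _ = 1 := by rw [s.Six1_twt, hs, ← s.w_comm.2.2.1, s.Six1_wm, zz]
  · refine s.memN1.2 (.inr (s.memS0.2 (.inr ?_)))
    rwa [← mul_assoc (s.t * s.w), s.Six1_twt, ← s.w_comm.2.2.1, s.w_comm.1, mul_assoc, mul_assoc, s.Six1_wm,
      ← s.fb_rel.2.2.1, s.Six1_um]

theorem Tr_w : s.Tr s.w := by
  have key : ∀ d ∈ s.Om, s.w * d ≠ d * s.w → d = s.t ∨ d = s.t * s.z := fun d hd h => by
    rcases s.memOm.1 hd with h1 | h1 | h1 | h1 | h1 | h1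
    · exact .inl h1
    · exact absurd (s.w_comm.2.2.2.2 d (.inl h1)) h
    · exact absurd (s.w_comm.2.2.2.2 d (.inr (.inl h1))) h
    · exact absurd (s.w_comm.2.2.2.2 d (.inr (.inr (.inl h1)))) h
    · exact absurd (s.w_comm.2.2.2.2 d (.inr (.inr (.inr h1)))) h
    · exact .inr h1
  refine ⟨⟨s.t, s.memOm.2 (.inl rfl), s.Six1_nwt⟩, fun d hd d' hd' d'' hd'' h h' h'' => ?_⟩
  rcases key d hd h with rfl | rfl <;> rcases key d' hd' h' with rfl | rfl <;> rcases key d'' hd'' h'' with rfl | rfl <;>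
    simp


end Six

end Cfsg.Agent.S38
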