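import Mathlib
import Cfsg.Agent.S38.Six1

/-! The transpositions are conjugate. -/

set_option autoImplicit false
set_option linter.unusedSectionVars false
set_option maxRecDepth 100000
set_option synthInstance.maxSize 100000
set_option synthInstance.maxHeartbeats 1000000

namespace Cfsg.Agent.S38

open Cfsg.Agent.Rec Cfsg.Agent.Spor Cfsg.Agent.Loc.Mss Cfsg.Agent.SF6 Subgroup
open scoped commutatorElement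

variable {G : Type*} [Group G] [Finite G]

theorem Six2_cj {n h d d' e e' : G} (h1 : n * d * n⁻¹ = e) (h2 : h * d * h⁻¹ = d') (h3 : n * d' * n⁻¹ = e') :
    n * h * n⁻¹ * e * (n * h * n⁻¹)⁻¹ = e' := by
  rw [← h1, ← h3, ← h2]; group

theorem Six2_mul {x y d d' e : G} (h1 : y * d * y⁻¹ = d') (h2 : x * d' * x⁻¹ = e) : x * y * d * (x * y)⁻¹ = e := by
  rw [← h2, ← h1]; group

theorem Six2_comm {x d : G} (h : x * d * x⁻¹ = d) : x * d = d * x := by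
  calc x * d = x * d * x⁻¹ * x := by group
    _ = d * x := by rw [h]

theorem Six2_fix {x d : G} (h : x * d = d * x) : x * d * x⁻¹ = d := by
  rw [h]; group

namespace Six

variable (s : Six G)

theorem Six2_ext {x y : G} (h0 : x * s.t * x⁻¹ = y * s.t * y⁻¹)
    (h1 : x * (s.t * s.a1) * x⁻¹ = y * (s.t * s.a1) * y⁻¹) (h2 : x * (s.t * s.a2) * x⁻¹ = y * (s.t * s.a2) * y⁻¹)
    (h3 : x * (s.t * s.a3) * x⁻¹ = y * (s.t * s.a3) * y⁻¹) (h4 : x * (s.t * s.a4) * x⁻¹ = y * (s.t * s.a4) * y⁻¹)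
    {b : G} (hb : b ∈ s.B) : x * b * x⁻¹ = y * b * y⁻¹ := by
  have k : ∀ a : G, x * (s.t * a) * x⁻¹ = y * (s.t * a) * y⁻¹ → x * a * x⁻¹ = y * a * y⁻¹ := fun a h => by
    calc x * a * x⁻¹ = (x * s.t * x⁻¹)⁻¹ * (x * (s.t * a) * x⁻¹) := by group
      _ = y * a * y⁻¹ := by rw [h0, h]; group
  have : s.B ≤ MonoidHom.eqLocus (MulAut.conj x).toMonoidHom (MulAut.conj y).toMonoidHom := by
    refine (closure_le _).2 fun a ha => ?_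
    simp only [List.mem_cons, List.not_mem_nil, or_false, Set.mem_ofPred_eq] at ha
    rcases ha with rfl | rfl | rfl | rfl | rfl
    · exact h0
    · exact k _ h1
    · exact k _ h2
    · exact k _ h3
    · exact k _ h4
  exact this hb

theorem Six2_w : s.w * s.t * s.w⁻¹ = s.t * s.z ∧ s.w * (s.t * s.a1) * s.w⁻¹ = s.t * s.a1 ∧
    s.w * (s.t * s.a2) * s.w⁻¹ = s.t * s.a2 ∧ s.w * (s.t * s.a3) * s.w⁻¹ = s.t * s.a3 ∧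
    s.w * (s.t * s.a4) * s.w⁻¹ = s.t * s.a4 ∧ s.w * (s.t * s.z) * s.w⁻¹ = s.t := by
  obtain ⟨-, -, hz, -, hP⟩ := s.w_comm
  refine ⟨s.wt, Six2_fix (hP _ (.inl rfl)), Six2_fix (hP _ (.inr (.inl rfl))), Six2_fix (hP _ (.inr (.inr (.inl rfl)))),
    Six2_fix (hP _ (.inr (.inr (.inr rfl)))), ?_⟩
  have e : s.t * s.z * s.z = s.t := s.hL.decide s.rep (by decide +kernel)
  calc s.w * (s.t * s.z) * s.w⁻¹ = s.w * s.t * s.w⁻¹ * (s.w * s.z * s.w⁻¹) := by group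
    _ = s.t := by rw [s.wt, Six2_fix hz, e]

theorem Six2_n0 : ∃ n ∈ 𝐍[s.B], n * (s.t * s.a1) * n⁻¹ = s.t ∧ n * (s.t * s.a2) * n⁻¹ = s.t * s.z ∧
    n * s.t * n⁻¹ = s.t * s.a1 ∧ n * (s.t * s.z) * n⁻¹ = s.t * s.a2 ∧ n * (s.t * s.a3) * n⁻¹ = s.t * s.a3 ∧
    n * (s.t * s.a4) * n⁻¹ = s.t * s.a4 := by
  obtain ⟨w0, w1, w2, w3, w4, w5⟩ := s.Six2_w
  obtain ⟨f0, f1, f2, f3, f4, f5, hf, hl⟩ : s.f * s.t * s.f⁻¹ = s.t ∧ s.f * (s.t * s.a1) * s.f⁻¹ = s.t * s.a2 ∧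
      s.f * (s.t * s.a2) * s.f⁻¹ = s.t * s.a3 ∧ s.f * (s.t * s.a3) * s.f⁻¹ = s.t * s.a4 ∧
      s.f * (s.t * s.a4) * s.f⁻¹ = s.t * s.z ∧ s.f * (s.t * s.z) * s.f⁻¹ = s.t * s.a1 ∧ s.f ∈ s.NA ∧
      s.h * s.h * s.c ∈ s.NA := s.hL.decide s.rep (by decide +kernel)
  have hτ : s.h * s.h * s.c * s.u * (s.h * s.h * s.c)⁻¹ ∈ 𝐍[s.B] :=
    mul_mem (mul_mem (s.NA_norm.2 hl) s.u_norm.2.2.1) (inv_mem (s.NA_norm.2 hl))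
  have hm : s.f * s.w * s.f⁻¹ ∈ 𝐍[s.B] :=
    mul_mem (mul_mem (s.NA_norm.2 hf) s.w_norm.2.1) (inv_mem (s.NA_norm.2 hf))
  have hb := s.hb
  obtain ⟨τ, hτ', t0, t1, t2, t3, t4, t5⟩ : ∃ τ ∈ 𝐍[s.B], τ * s.t * τ⁻¹ = s.t ∧ τ * (s.t * s.a1) * τ⁻¹ = s.t * s.a1 ∧
      τ * (s.t * s.a2) * τ⁻¹ = s.t * s.z ∧ τ * (s.t * s.a3) * τ⁻¹ = s.t * s.a3 ∧
      τ * (s.t * s.a4) * τ⁻¹ = s.t * s.a4 ∧ τ * (s.t * s.z) * τ⁻¹ = s.t * s.a2 :=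
    ⟨_, hτ, (s.hY hb).decide (s.repY hb) (by decide +kernel)⟩
  exact ⟨s.f * s.w * s.f⁻¹ * τ, mul_mem hm hτ', Six2_mul t1 (Six2_cj f5 w5 f0), Six2_mul t2 (Six2_cj f4 w4 f4),
    Six2_mul t0 (Six2_cj f0 w0 f5), Six2_mul t5 (Six2_cj f1 w1 f1), Six2_mul t3 (Six2_cj f2 w2 f2),
    Six2_mul t4 (Six2_cj f3 w3 f3)⟩

theorem Six2_u : s.u * s.t * s.u⁻¹ = s.t ∧ s.u * (s.t * s.a1) * s.u⁻¹ = s.t * s.a2 ∧
    s.u * (s.t * s.a2) * s.u⁻¹ = s.t * s.a1 ∧ s.u * (s.t * s.a3) * s.u⁻¹ = s.t * s.a3 ∧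
    s.u * (s.t * s.a4) * s.u⁻¹ = s.t * s.a4 ∧ s.u * (s.t * s.z) * s.u⁻¹ = s.t * s.z :=
  (s.hY s.hb).decide (s.repY s.hb) (by decide +kernel)

theorem Six2_h : s.h * s.t * s.h⁻¹ = s.t ∧ s.h * (s.t * s.a1) * s.h⁻¹ = s.t * s.a1 ∧
    s.h * (s.t * s.a2) * s.h⁻¹ = s.t * s.a2 ∧ s.h * (s.t * s.a3) * s.h⁻¹ = s.t * s.a4 ∧
    s.h * (s.t * s.a4) * s.h⁻¹ = s.t * s.z ∧ s.h * (s.t * s.z) * s.h⁻¹ = s.t * s.a3 ∧ s.h * s.u * s.h⁻¹ = s.u ∧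
    s.h ∈ s.NA :=
  (s.hY s.hb).decide (s.repY s.hb) (by decide +kernel)

theorem Six2_om : s.t ∈ s.B ∧ s.t * s.a1 ∈ s.B ∧ s.t * s.a2 ∈ s.B ∧ s.t * s.a3 ∈ s.B ∧ s.t * s.a4 ∈ s.B ∧
    s.t * s.z ∈ s.B := s.hL.decide s.rep (by decide +kernel)

theorem Six2_n1 : ∃ n ∈ 𝐍[s.B], n * (s.t * s.a1) * n⁻¹ = s.t ∧ n * (s.t * s.a2) * n⁻¹ = s.t * s.z ∧
    n * s.t * n⁻¹ = s.t * s.a1 ∧ n * (s.t * s.z) * n⁻¹ = s.t * s.a2 ∧ n * (s.t * s.a3) * n⁻¹ = s.t * s.a3 ∧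
    n * (s.t * s.a4) * n⁻¹ = s.t * s.a4 ∧ ∃ b ∈ s.B, s.w * b = b * s.w ∧ n * s.u * n⁻¹ = s.w * b := by
  obtain ⟨n, hn, n1, n2, n0, n5, n3, n4⟩ := s.Six2_n0
  obtain ⟨w0, w1, w2, w3, w4, w5⟩ := s.Six2_w
  obtain ⟨u0, u1, u2, u3, u4, u5⟩ := s.Six2_u
  obtain ⟨b0, b1, b2, b3, b4, b5⟩ := s.Six2_om
  have hw := s.w_norm.2.1
  have e : ∀ b ∈ s.B, n * s.u * n⁻¹ * b * (n * s.u * n⁻¹)⁻¹ = s.w * b * s.w⁻¹ := fun b hb =>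
    s.Six2_ext (by rw [Six2_cj n1 u1 n2, w0]) (by rw [Six2_cj n0 u0 n0, w1]) (by rw [Six2_cj n5 u5 n5, w2])
      (by rw [Six2_cj n3 u3 n3, w3]) (by rw [Six2_cj n4 u4 n4, w4]) hb
  have xx : n * s.u * n⁻¹ * (n * s.u * n⁻¹) = 1 := by
    calc n * s.u * n⁻¹ * (n * s.u * n⁻¹) = n * (s.u * s.u) * n⁻¹ := by group
      _ = 1 := by rw [s.uu]; group
  obtain ⟨b, hb, o, ho, hx⟩ := s.cent_B (x := s.w⁻¹ * (n * s.u * n⁻¹)) fun b hb => by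
    calc s.w⁻¹ * (n * s.u * n⁻¹) * b
        = s.w⁻¹ * (n * s.u * n⁻¹ * b * (n * s.u * n⁻¹)⁻¹) * (n * s.u * n⁻¹) := by group
      _ = b * (s.w⁻¹ * (n * s.u * n⁻¹)) := by rw [e b hb]; group
  have hx' : n * s.u * n⁻¹ = s.w * b * o := by rw [mul_assoc s.w, ← hx]; group
  have wi : s.w⁻¹ = s.w := inv_eq_of_mul_eq_one_right s.ww
  have hb' : s.w * b * s.w⁻¹ ∈ s.B := conj_mem_of_norm hw hb
  have ho' : s.w * o * s.w⁻¹ ∈ s.O := conj_mem_of_norm (s.norm_BO hw) ho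
  have e1 : s.w * b * s.w⁻¹ * b * (s.w * o * s.w⁻¹ * o) = 1 := by
    rw [← xx, hx']
    calc s.w * b * s.w⁻¹ * b * (s.w * o * s.w⁻¹ * o) = s.w * b * s.w⁻¹ * (b * (s.w * o * s.w⁻¹)) * o := by group
      _ = s.w * b * s.w⁻¹ * (s.w * o * s.w⁻¹ * b) * o := by rw [(s.Kit1_BO hb ho').eq]
      _ = s.w * b * o * (s.w⁻¹ * b * o) := by group
      _ = _ := by rw [wi]
  have e2 : s.w * o * s.w⁻¹ * o = 1 := by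
    refine s.O_two (mul_mem ho' ho) (n := 1) ?_
    have : s.w * o * s.w⁻¹ * o = (s.w * b * s.w⁻¹ * b)⁻¹ := (inv_eq_of_mul_eq_one_right e1).symm
    rw [pow_one, pow_two]
    exact s.B_sq (this ▸ inv_mem (mul_mem hb' hb))
  have e3 : s.w * b = b * s.w := by
    rw [e2, mul_one] at e1
    have : s.w * b * s.w⁻¹ = b := by
      rw [eq_inv_of_mul_eq_one_left e1, inv_eq_of_mul_eq_one_right (s.B_sq hb)]
    exact Six2_comm this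
  obtain ⟨k, hk⟩ := s.Kit1_half ho
  have hk' : o ^ k ∈ s.O := pow_mem ho k
  have of : ∀ d ∈ s.B, o ^ k * d * (o ^ k)⁻¹ = d := fun d hd => Six2_fix (s.Kit1_BO hd hk').eq.symm
  have e4 : s.w * o ^ k * s.w⁻¹ = (o ^ k)⁻¹ := by
    rw [← conj_pow, eq_inv_of_mul_eq_one_left e2, inv_pow]
  have e5 : o ^ k * o ^ k = o := by rw [← (Commute.refl o).mul_pow, hk]
  refine ⟨o ^ k * n, mul_mem (FB.nrm fun r hr => by rw [of r hr]; exact hr) hn, Six2_mul n1 (of _ b0),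
    Six2_mul n2 (of _ b5), Six2_mul n0 (of _ b1), Six2_mul n5 (of _ b2), Six2_mul n3 (of _ b3), Six2_mul n4 (of _ b4),
    b, hb, e3, Six2_mul hx' ?_⟩
  have e6 : o ^ k * s.w = s.w * (o ^ k)⁻¹ := by
    calc o ^ k * s.w = o ^ k * (s.w * o ^ k * s.w⁻¹) * s.w * (o ^ k)⁻¹ := by group
      _ = _ := by rw [e4, mul_inv_cancel, one_mul]
  calc o ^ k * (s.w * b * o) * (o ^ k)⁻¹ = o ^ k * s.w * b * (o ^ k * o ^ k) * (o ^ k)⁻¹ := by rw [e5]; group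
    _ = s.w * ((o ^ k)⁻¹ * (b * o ^ k)) := by rw [e6]; group
    _ = s.w * b := by rw [(s.Kit1_BO hb hk').eq]; group

theorem Six2_z {k : G} (h0 : k * s.t * k⁻¹ = s.t) (h5 : k * (s.t * s.z) * k⁻¹ = s.t * s.z) : k ∈ 𝐍[s.Q] := by
  refine s.normQ (Six2_comm ?_) (.inl h0)
  calc k * s.z * k⁻¹ = (k * s.t * k⁻¹)⁻¹ * (k * (s.t * s.z) * k⁻¹) := by group
    _ = s.z := by rw [h0, h5]; group

theorem Six2_zt {k b : G} (hb : b ∈ s.B) (hk : k ∈ 𝐍[s.B]) (hQ : k ∈ 𝐍[s.Q]) (h : k * (s.w * b) * k⁻¹ = s.w * b) :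
    b * (k * b * k⁻¹) ∈ s.ZT := by
  have hb' := conj_mem_of_norm hk hb
  refine s.T_cent_Q (s.TU_le (s.les.2.2.2.2.2.2.2.2.1 (mul_mem hb hb'))) fun y hy => ?_
  have e : b * (k * b * k⁻¹) = s.w⁻¹ * (k * s.w * k⁻¹) := by
    calc b * (k * b * k⁻¹) = s.w⁻¹ * (k * (s.w * b) * k⁻¹) * (k * b * k⁻¹) := by rw [h]; group
      _ = s.w⁻¹ * (k * s.w * (b * b) * k⁻¹) := by group
      _ = _ := by rw [s.B_sq hb, mul_one]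
  have c1 : Commute s.w y := s.w_comm.2.2.2.1 y hy
  have c2 : Commute (k * s.w * k⁻¹) y := by
    have := s.w_comm.2.2.2.1 _ (conj_mem_of_norm' hQ hy)
    calc k * s.w * k⁻¹ * y = k * (s.w * (k⁻¹ * y * k)) * k⁻¹ := by group
      _ = y * (k * s.w * k⁻¹) := by rw [this]; group
  rw [e]; exact (c1.inv_left.mul_left c2).eq

theorem exists_n : ∃ n ∈ 𝐍[s.B], n * (s.t * s.a1) * n⁻¹ = s.t ∧ n * (s.t * s.a2) * n⁻¹ = s.t * s.z ∧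
    n * s.t * n⁻¹ = s.t * s.a1 ∧ n * (s.t * s.z) * n⁻¹ = s.t * s.a2 ∧ n * (s.t * s.a3) * n⁻¹ = s.t * s.a3 ∧
    n * (s.t * s.a4) * n⁻¹ = s.t * s.a4 ∧ n * s.u * n⁻¹ = s.w := by
  obtain ⟨n, hn, n1, n2, n0, n5, n3, n4, b, hb, hw, nu⟩ := s.Six2_n1
  obtain ⟨w0, w1, w2, w3, w4, w5⟩ := s.Six2_w
  obtain ⟨u0, u1, u2, u3, u4, u5⟩ := s.Six2_u
  obtain ⟨h0, h1, h2, h3, h4, h5, hu, hh⟩ := s.Six2_h
  obtain ⟨b0, b1, b2, b3, b4, b5⟩ := s.Six2_om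
  obtain ⟨l0, l1, l2, l3, l4⟩ : s.f * s.c * s.f⁻¹ * s.t * (s.f * s.c * s.f⁻¹)⁻¹ = s.t ∧
      s.f * s.c * s.f⁻¹ * (s.t * s.a1) * (s.f * s.c * s.f⁻¹)⁻¹ = s.t * s.a1 ∧
      s.f * s.c * s.f⁻¹ * (s.t * s.a2) * (s.f * s.c * s.f⁻¹)⁻¹ = s.t * s.a3 ∧
      s.f * s.c * s.f⁻¹ * (s.t * s.a3) * (s.f * s.c * s.f⁻¹)⁻¹ = s.t * s.a4 ∧
      s.f * s.c * s.f⁻¹ * (s.t * s.a4) * (s.f * s.c * s.f⁻¹)⁻¹ = s.t * s.a2 := s.hL.decide s.rep (by decide +kernel)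
  have k1 := s.Six2_zt hb (mul_mem (mul_mem hn (s.NA_norm.2 hh)) (inv_mem hn))
    (s.Six2_z (Six2_cj n1 h1 n1) (Six2_cj n2 h2 n2)) (Six2_cj nu hu nu)
  have k2 := s.Six2_zt hb (mul_mem (mul_mem hn s.w_norm.2.1) (inv_mem hn))
    (s.Six2_z (Six2_cj n1 w1 n1) (Six2_cj n2 w2 n2)) (Six2_cj nu (Six2_fix s.w_comm.1) nu)
  rw [s.Six2_ext (y := s.f * s.c * s.f⁻¹) (by rw [Six2_cj n1 h1 n1, l0]) (by rw [Six2_cj n0 h0 n0, l1])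
    (by rw [Six2_cj n5 h5 n3, l2]) (by rw [Six2_cj n3 h3 n4, l3]) (by rw [Six2_cj n4 h4 n5, l4]) hb] at k1
  rw [s.Six2_ext (y := s.u) (by rw [Six2_cj n1 w1 n1, u0]) (by rw [Six2_cj n0 w0 n5, u1])
    (by rw [Six2_cj n5 w5 n0, u2]) (by rw [Six2_cj n3 w3 n3, u3]) (by rw [Six2_cj n4 w4 n4, u4]) hb] at k2
  have hR : b ∈ s.R := by
    rcases s.w_act (s.TU_le (s.les.2.2.2.2.2.2.2.2.1 hb)) with h | h
    · exact h.1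
    · have z1 : s.z ≠ 1 := s.hL.decide s.rep (by decide +kernel)
      rw [Six2_fix hw] at h
      exact absurd (mul_eq_left.1 h.2.symm) z1
  have key : ∀ b ∈ s.B, b ∈ s.R → b * (s.f * s.c * s.f⁻¹ * b * (s.f * s.c * s.f⁻¹)⁻¹) ∈ s.ZT →
      b * (s.u * b * s.u⁻¹) ∈ s.ZT → b = 1 ∨ b = s.z := (s.hY s.hb).decide (s.repY s.hb) (by decide +kernel)
  rcases key b hb hR k1 k2 with rfl | rfl
  · exact ⟨n, hn, n1, n2, n0, n5, n3, n4, by rw [nu, mul_one]⟩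
  · have tf : ∀ d ∈ s.B, s.t * d * s.t⁻¹ = d := fun d hd => Six2_fix (s.B_comm b0 hd)
    refine ⟨s.t * n, mul_mem (le_normalizer b0) hn, Six2_mul n1 (tf _ b0), Six2_mul n2 (tf _ b5),
      Six2_mul n0 (tf _ b1), Six2_mul n5 (tf _ b2), Six2_mul n3 (tf _ b3), Six2_mul n4 (tf _ b4), Six2_mul nu ?_⟩
    have e : s.t * (s.t * s.z) = s.z ∧ s.z * s.t⁻¹ = s.t * s.z := s.hL.decide s.rep (by decide +kernel)
    calc s.t * (s.w * s.z) * s.t⁻¹ = s.t * (s.w * (s.z * s.t⁻¹) * s.w⁻¹) * s.w := by group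
      _ = s.w := by rw [e.2, w5, s.tt, one_mul]

theorem exists_c : ∃ k ∈ 𝐍[s.B], k * s.w = s.w * k ∧ (∃ a ∈ s.A, k * s.p * k⁻¹ = s.q * a) ∧
    ∃ a ∈ s.A, k * k * s.p * (k * k)⁻¹ = s.p * s.q * a := by
  obtain ⟨n, hn, n1, n2, n0, n5, n3, n4, nu⟩ := s.exists_n
  obtain ⟨h0, h1, h2, h3, h4, h5, hu, hh⟩ := s.Six2_h
  have hQ := s.Six2_z (Six2_cj n1 h1 n1) (Six2_cj n2 h2 n2)
  have k1 := Six2_cj n0 h0 n0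
  have k2 := Six2_cj n5 h5 n3
  have k3 := Six2_cj n3 h3 n4
  obtain ⟨p1, hp, d1, d2⟩ : s.p * (s.t * s.a1) * s.p⁻¹ = s.t * s.a2 ∧ s.p ∈ s.Q ∧
      (∀ y ∈ s.Q, y * (s.t * s.a1) * y⁻¹ = s.t * s.a3 → ∃ a ∈ s.A, y = s.q * a) ∧
      ∀ y ∈ s.Q, y * (s.t * s.a1) * y⁻¹ = s.t * s.a4 → ∃ a ∈ s.A, y = s.p * s.q * a :=
    s.hL.decide s.rep (by decide +kernel)
  exact ⟨n * s.h * n⁻¹, mul_mem (mul_mem hn (s.NA_norm.2 hh)) (inv_mem hn), Six2_comm (Six2_cj nu hu nu),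
    d1 _ (conj_mem_of_norm hQ hp) (Six2_cj k1 p1 k2),
    d2 _ (conj_mem_of_norm (mul_mem hQ hQ) hp) (Six2_cj (Six2_mul k1 k1) p1 (Six2_mul k2 k3))⟩

end Six

end Cfsg.Agent.S38
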