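import Mathlib
import Cfsg.Agent.S38.Six1

/-! The conjugates of `t` in `B`. -/

set_option autoImplicit false
set_option linter.unusedSectionVars false
set_option maxRecDepth 100000
set_option synthInstance.maxSize 100000
set_option synthInstance.maxHeartbeats 1000000

namespace Cfsg.Agent.S38

open Cfsg.Agent.Rec Cfsg.Agent.Spor Cfsg.Agent.Loc.Mss Cfsg.Agent.SF6 Subgroup
open scoped commutatorElement

variable {G : Type*} [Group G] [Finite G]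

namespace Six

variable (s : Six G)

/-- A six-cycle on the six points. -/
theorem Six3_cyc : ∃ y ∈ 𝐍[s.B], y * (s.t * s.z1) * y⁻¹ = s.t * s.z1 ∧
    ∀ b ∈ s.B, y * b * y⁻¹ = b → b = 1 ∨ b = s.t * s.z1 := by
  have k : ∃ l ∈ s.A5, l * (s.t * s.z1) * l⁻¹ ∉ s.R ∧ l * (s.t * s.z1) * l⁻¹ * s.z = s.t * s.z1 ∧
      (∀ b ∈ s.B, l * b * l⁻¹ ∈ s.T ∧ ((l * b * l⁻¹ ∈ s.R ∧ l * b * l⁻¹ = b ∨ l * b * l⁻¹ ∉ s.R ∧ l * b * l⁻¹ * s.z = b) →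
        b = 1 ∨ b = s.t * s.z1)) ∧ s.t * s.z1 ∈ s.B := (s.hY s.hb).decide (s.repY s.hb) (by decide +kernel)
  obtain ⟨l, hl, k1, k2, k3, k4⟩ := k
  have e : ∀ b, s.w * l * b * (s.w * l)⁻¹ = s.w * (l * b * l⁻¹) * s.w⁻¹ := fun b => by group
  refine ⟨s.w * l, mul_mem s.w_norm.2.1 (s.NA_norm.2 (s.Kt3_NA hl)), ?_, fun b hb h => (k3 b hb).2 ?_⟩
  · rw [e]
    rcases s.w_act (k3 _ k4).1 with ⟨h, -⟩ | ⟨-, h⟩
    · exact absurd h k1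
    · rw [h, k2]
  · rw [e] at h
    rcases s.w_act (k3 _ hb).1 with ⟨h1, h2⟩ | ⟨h1, h2⟩
    · exact .inl ⟨h1, h2.symm.trans h⟩
    · exact .inr ⟨h1, h2.symm.trans h⟩

theorem Six3_fix {Y : Subgroup G} {y a b c : G} (hy : y ∈ 𝐍[Y]) (ht : y * s.t = s.t * y)
    (h : (a ∈ Y ∧ a ∈ s.K1) ∧ (b ∈ Y ∧ b ∈ s.K1) ∧ (c ∈ Y ∧ c ∈ s.K1) ∧ a ≠ b ∧ a ≠ c ∧ b ≠ c ∧
      ∀ a' ∈ Y, a' ∈ s.K1 → ∀ b' ∈ Y, b' ∈ s.K1 → a' ≠ b' → ∀ c' ∈ Y, c' ∈ s.K1 → a' ≠ c' → b' ≠ c' →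
        a' * b' * c' = a * b * c) : y * (a * b * c) * y⁻¹ = a * b * c := by
  obtain ⟨⟨a1, a2⟩, ⟨b1, b2⟩, ⟨c1, c2⟩, h1, h2, h3, h4⟩ := h
  have := h4 _ (conj_mem_of_norm hy a1) (s.C_K1 ht a2) _ (conj_mem_of_norm hy b1) (s.C_K1 ht b2) (by simpa using h1)
    _ (conj_mem_of_norm hy c1) (s.C_K1 ht c2) (by simpa using h2) (by simpa using h3)
  exact Eq.trans (by group) this

theorem Six3_e {Y : Subgroup G} (hY : Y = s.F ∨ Y = s.M1 ∨ Y = s.M2) {y : G} (hy : y ∈ 𝐍[Y])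
    (ht : y * s.t = s.t * y) : ∃ e ∈ Y, e ≠ 1 ∧ e ≠ s.t ∧ y * e * y⁻¹ = e := by
  rcases hY with rfl | rfl | rfl
  · have k : s.z ∈ s.F ∧ s.z ≠ 1 ∧ s.z ≠ s.t ∧ s.z ∈ s.K1 ∧ ∀ x ∈ s.F, x ∈ s.K1 → x = s.z :=
      (s.hY s.hb).decide (s.repY s.hb) (by decide +kernel)
    exact ⟨_, k.1, k.2.1, k.2.2.1, k.2.2.2.2 _ (conj_mem_of_norm hy k.1) (s.C_K1 ht k.2.2.2.1)⟩
  · have k : s.z * s.a1 * s.a2 ∈ s.M1 ∧ s.z * s.a1 * s.a2 ≠ 1 ∧ s.z * s.a1 * s.a2 ≠ s.t :=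
      (s.hY s.hb).decide (s.repY s.hb) (by decide +kernel)
    exact ⟨_, k.1, k.2.1, k.2.2, s.Six3_fix hy ht ((s.hY s.hb).decide (s.repY s.hb) (by decide +kernel))⟩
  · have k : s.z * s.a3 * s.a4 ∈ s.M2 ∧ s.z * s.a3 * s.a4 ≠ 1 ∧ s.z * s.a3 * s.a4 ≠ s.t :=
      (s.hY s.hb).decide (s.repY s.hb) (by decide +kernel)
    exact ⟨_, k.1, k.2.1, k.2.2, s.Six3_fix hy ht ((s.hY s.hb).decide (s.repY s.hb) (by decide +kernel))⟩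

theorem tz1_nD : s.t * s.z1 ∉ s.D := fun hd => by
  have k : s.t * s.z1 ∈ s.B ∧ s.t * s.z1 ∉ s.Om ∧ s.t ∈ s.Om := s.hL.decide s.rep (by decide +kernel)
  obtain ⟨g, hg, hT⟩ := s.toT hd (P := s.B) (IsPGroup.of_card (n := 5) (by rw [s.gB.2]; norm_num))
    fun x hx => s.B_comm hx k.1
  have hE := s.elemT s.hb hT (fun x hx => by
    have := s.B_sq (mem_cj.1 hx)
    calc x * x = g * (g⁻¹ * x * g * (g⁻¹ * x * g)) * g⁻¹ := by group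
      _ = 1 := by rw [this]; group) (by rw [card_cj, s.gB.2])
  rcases hE with hE | hE
  · refine k.2.1 ?_
    have := Cf.H6.perm s.toCf s.h6 (inv_mem (cj_eq_iff.1 hE)) k.2.2
    rwa [← hg, show g⁻¹ * (g * (s.t * s.z1) * g⁻¹) * g⁻¹⁻¹ = s.t * s.z1 by group] at this
  · obtain ⟨y, hy, h1, h2⟩ := s.Six3_cyc
    obtain ⟨e, he, e1, e2, e3⟩ := s.Six3_e hE (y := g * y * g⁻¹) (by rw [← cj_norm]; exact conj_mem_cj hy) (by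
      rw [← mul_inv_eq_iff_eq_mul]
      calc g * y * g⁻¹ * s.t * (g * y * g⁻¹)⁻¹ = g * (y * (g⁻¹ * s.t * g) * y⁻¹) * g⁻¹ := by group
        _ = s.t := by rw [← hg, show g⁻¹ * (g * (s.t * s.z1) * g⁻¹) * g = s.t * s.z1 by group, h1])
    rcases h2 _ (mem_cj.1 he) (by
      calc y * (g⁻¹ * e * g) * y⁻¹ = g⁻¹ * (g * y * g⁻¹ * e * (g * y * g⁻¹)⁻¹) * g := by group
        _ = _ := by rw [e3]) with h | h
    · exact e1 (by simpa [mul_eq_one_iff_eq_inv] using h)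
    · exact e2 (by rw [← hg, ← h]; group)

theorem D_TU {d : G} (hd : d ∈ s.D) (hB : d ∈ s.NA ∨ s.t * d ∈ s.NA) : d ∈ s.Om := by
  rcases hB with h | h
  · exact absurd (s.NA_le h) (s.D_nL hd)
  · have e := s.Kt3_tt d
    rcases s.D_tL s.tz1_nD (s.NA_le h) (e.symm ▸ hd) with h1 | h1
    · rw [← e, h1, mul_one]; exact s.memOm.2 (.inl rfl)
    · exact e ▸ (s.K1_NA h1 h).2

theorem D_B {d : G} (hd : d ∈ s.D) (hB : d ∈ s.B) : d ∈ s.Om :=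
  have h := s.les.1.trans s.les.2.2.1
  s.D_TU hd ((s.memB.1 hB).imp (@h _) (@h _))

end Six

end Cfsg.Agent.S38
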