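import Mathlib
import Cfsg.Agent.S38.Six2
import Cfsg.Agent.S38.Six3

/-! The conjugates of `t` that are transpositions. -/

set_option autoImplicit false
set_option linter.unusedSectionVars false
set_option maxRecDepth 100000
set_option synthInstance.maxSize 100000
set_option synthInstance.maxHeartbeats 1000000

namespace Cfsg.Agent.S38

open Cfsg.Agent.Rec Cfsg.Agent.Spor Cfsg.Agent.Loc.Mss Cfsg.Agent.SF6 Subgroup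
open scoped commutatorElement

variable {G : Type*} [Group G] [Finite G]

namespace Six

variable (s : Six G)

theorem Six4_cm {d g a x : G} (h1 : g * d = d * g) (h2 : a * d = d * a) (e : g * a * g⁻¹ * a⁻¹ = x) :
    x ∈ ⁅centralizer ({d} : Set G), centralizer {d}⁆ :=
  e ▸ commutator_mem_commutator (mem_centralizer_singleton_iff.2 h1) (mem_centralizer_singleton_iff.2 h2)

theorem Six4_R {y : G} (h : y ∈ s.R) : s.w * y * s.w⁻¹ = y := by rw [s.wR y h, mul_inv_cancel_right]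

theorem Six4_N {y : G} (h : y ∈ s.T ∧ y ∉ s.R) : s.w * y * s.w⁻¹ = y * s.z :=
  ((s.w_act h.1).resolve_left fun k => h.2 k.1).2

theorem tu_nD : s.t * s.u ∉ s.D := fun hd => by
  obtain ⟨⟨a1, a2, a3, a4, a5⟩, ⟨b1, b2, b3, b4, b5, b6⟩, c1, c2, c3, c4⟩ :
      (s.h * (s.t * s.u) = s.t * s.u * s.h ∧ s.a4 * s.z * (s.t * s.u) = s.t * s.u * (s.a4 * s.z) ∧
        s.a3 * s.z * (s.t * s.u) = s.t * s.u * (s.a3 * s.z) ∧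
        s.h * (s.a4 * s.z) * s.h⁻¹ * (s.a4 * s.z)⁻¹ = s.z2 ∧ s.h * (s.a3 * s.z) * s.h⁻¹ * (s.a3 * s.z)⁻¹ = s.a4 * s.z) ∧
      (s.z2 * s.z2 = 1 ∧ s.a4 * s.z * (s.a4 * s.z) = 1 ∧ s.z2 * (s.a4 * s.z) = s.a4 * s.z * s.z2 ∧ s.z2 ≠ 1 ∧
        s.a4 * s.z ≠ 1 ∧ s.z2 ≠ s.a4 * s.z) ∧
      (s.t * s.u ∈ s.T ∧ s.t * s.u ∉ s.R) ∧ s.t1 * (s.t * s.u * s.z) * s.t1⁻¹ = s.t * s.u * s.z2 ∧
        s.h * (s.t * s.u * s.z2) * s.h⁻¹ = s.t * s.u * (s.a4 * s.z) ∧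
        s.h * (s.t * s.u * (s.a4 * s.z)) * s.h⁻¹ = s.t * s.u * (s.z2 * (s.a4 * s.z)) :=
    (s.hY s.hb).decide (s.repY s.hb) (by decide +kernel)
  have d1 := c2 ▸ s.D_conj (s.Six4_N c1 ▸ s.D_conj hd s.w) s.t1
  have d2 := c3 ▸ s.D_conj d1 s.h
  exact s.pure s.tz1_nD hd (Six4_cm a1 a2 a4) (Six4_cm a1 a3 a5) b1 b2 b3 b4 b5 b6 d1 d2 (c4 ▸ s.D_conj d2 s.h)

theorem Six4_a3 : s.u * (s.a3 * s.z) ∉ s.D := fun hd => by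
  obtain ⟨⟨a1, a2, a3, a4, a5, a6, a7, a8⟩, ⟨b1, b2, b3, b4, b5, b6⟩, c1, c2, c3⟩ :
      ((s.v * (s.u * (s.a3 * s.z)) * s.v⁻¹ ∈ s.T ∧ s.v * (s.u * (s.a3 * s.z)) * s.v⁻¹ ∉ s.R) ∧
        s.t1 * (s.v * (s.u * (s.a3 * s.z)) * s.v⁻¹ * s.z) * s.t1⁻¹ = s.u * (s.a3 * s.z) ∧
        s.v * s.u * s.v⁻¹ ∈ s.R ∧ s.t1 * (s.v * s.u * s.v⁻¹) * s.t1⁻¹ * s.u⁻¹ = s.z1 ∧
        s.v * (s.t * s.a3) * s.v⁻¹ ∈ s.R ∧ s.t1 * (s.v * (s.t * s.a3) * s.v⁻¹) * s.t1⁻¹ * (s.t * s.a3)⁻¹ = s.z2 ∧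
        s.u * (s.u * (s.a3 * s.z)) = s.u * (s.a3 * s.z) * s.u ∧
        s.t * s.a3 * (s.u * (s.a3 * s.z)) = s.u * (s.a3 * s.z) * (s.t * s.a3)) ∧
      (s.z1 * s.z1 = 1 ∧ s.z2 * s.z2 = 1 ∧ s.z1 * s.z2 = s.z2 * s.z1 ∧ s.z1 ≠ 1 ∧ s.z2 ≠ 1 ∧ s.z1 ≠ s.z2) ∧
      s.t1 * (s.u * (s.a3 * s.z)) * s.t1⁻¹ = s.u * (s.a3 * s.z) * s.z1 ∧
        s.v * (s.u * (s.a3 * s.z)) * s.v⁻¹ = s.u * (s.a3 * s.z) * s.z2 ∧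
        s.t1 * (s.u * (s.a3 * s.z) * s.z2) * s.t1⁻¹ = s.u * (s.a3 * s.z) * (s.z1 * s.z2) :=
    (s.hY s.hb).decide (s.repY s.hb) (by decide +kernel)
  have e : ∀ y, s.t1 * s.w * s.v * y * (s.t1 * s.w * s.v)⁻¹ = s.t1 * (s.w * (s.v * y * s.v⁻¹) * s.w⁻¹) * s.t1⁻¹ :=
    fun y => by group
  have k : s.t1 * s.w * s.v * (s.u * (s.a3 * s.z)) = s.u * (s.a3 * s.z) * (s.t1 * s.w * s.v) := by
    rw [← mul_inv_eq_iff_eq_mul, e, s.Six4_N a1, a2]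
  have d2 := c2 ▸ s.D_conj hd s.v
  exact s.pure s.tz1_nD hd (Six4_cm k a7 (by rw [e, s.Six4_R a3, a4])) (Six4_cm k a8 (by rw [e, s.Six4_R a5, a6]))
    b1 b2 b3 b4 b5 b6 (c1 ▸ s.D_conj hd s.t1) d2 (c3 ▸ s.D_conj d2 s.t1)

theorem D_u {b : G} (hb : b ∈ s.B) (hd : s.u * b ∈ s.D) : b = 1 ∨ b = s.z1 := by
  obtain ⟨k, c1⟩ : (∀ b ∈ s.B, s.u * b * (s.u * b) = 1 → (b = 1 ∨ b = s.z1) ∨ ∃ g ∈ s.CA,
      g * (s.u * b) * g⁻¹ = s.t * s.u ∨ g * (s.u * b) * g⁻¹ = s.t * s.u * s.z ∨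
        g * (s.u * b) * g⁻¹ = s.u * (s.a3 * s.z)) ∧ (s.t * s.u ∈ s.T ∧ s.t * s.u ∉ s.R) :=
    (s.hY s.hb).decide (s.repY s.hb) (by decide +kernel)
  refine (k b hb (s.D_sq hd)).resolve_right fun ⟨g, _, e⟩ => ?_
  have := s.D_conj hd g
  rcases e with e | e | e <;> rw [e] at this
  exacts [s.tu_nD this, s.tu_nD (s.D_conj' (s.Six4_N c1 ▸ this)), s.Six4_a3 this]

theorem uz_nD : s.u * s.z2 ∉ s.D := fun hd => by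
  obtain ⟨a1, a2, a3⟩ : s.z2 ∈ s.B ∧ s.z2 ≠ 1 ∧ s.z2 ≠ s.z1 := s.hL.decide s.rep (by decide +kernel)
  exact (s.D_u a1 hd).elim a2 a3

theorem D_v {b : G} (hb : b ∈ s.B) (hd : s.v * b ∈ s.D) : b = 1 ∨ b = s.z2 := by
  obtain ⟨a1, a2, a3⟩ := ((s.hY s.hb).decide (s.repY s.hb) (by decide +kernel) : ∀ b ∈ s.B, s.q * b * s.q⁻¹ ∈ s.B ∧
    s.q * (s.v * b) * s.q⁻¹ = s.u * (s.q * b * s.q⁻¹) ∧
      (s.q * b * s.q⁻¹ = 1 ∨ s.q * b * s.q⁻¹ = s.z1 → b = 1 ∨ b = s.z2)) b hb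
  exact a3 (s.D_u a1 (a2 ▸ s.D_conj hd s.q))

theorem Six4_n : ∃ n ∈ 𝐍[s.B], n * s.u * n⁻¹ = s.w ∧ n * s.z1 * n⁻¹ = s.z := by
  obtain ⟨n, hn, e1, e2, -, -, -, -, e3⟩ := s.exists_n
  obtain ⟨a1, a2⟩ : s.z1 = s.t * s.a1 * (s.t * s.a2) ∧ s.t * (s.t * s.z) = s.z := s.hL.decide s.rep (by decide +kernel)
  exact ⟨n, hn, e3, by rw [a1, ← conj_mul, e1, e2, a2]⟩

theorem D_w {b : G} (hb : b ∈ s.B) (hd : s.w * b ∈ s.D) : b = 1 ∨ b = s.z := by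
  obtain ⟨n, hn, e1, e2⟩ := s.Six4_n
  have e : n * (n⁻¹ * b * n) * n⁻¹ = b := by group
  refine (s.D_u (conj_mem_of_norm' hn hb) (s.D_conj' (g := n) ?_)).imp (fun k => ?_) fun k => ?_
  · rwa [← conj_mul, e1, e]
  · rw [← e, k, mul_one, mul_inv_cancel]
  · rw [← e, k, e2]

theorem u_w : IsConj s.u s.w ∧ IsConj s.v s.w ∧ IsConj (s.u * s.z1) s.w ∧ IsConj (s.v * s.z2) s.w ∧
    IsConj (s.w * s.z) s.w ∧ IsConj s.z1 s.z := by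
  obtain ⟨n, -, e1, e2⟩ := s.Six4_n
  obtain ⟨a1, a2, a3⟩ : s.q * s.v * s.q⁻¹ = s.u ∧ s.t1 * (s.u * s.z1) * s.t1⁻¹ = s.u ∧
      s.t1 * s.q * (s.v * s.z2) * (s.t1 * s.q)⁻¹ = s.u := (s.hY s.hb).decide (s.repY s.hb) (by decide +kernel)
  have h1 : IsConj s.u s.w := isConj_iff.2 ⟨n, e1⟩
  refine ⟨h1, (isConj_iff.2 ⟨_, a1⟩).trans h1, (isConj_iff.2 ⟨_, a2⟩).trans h1, (isConj_iff.2 ⟨_, a3⟩).trans h1,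
    isConj_iff.2 ⟨s.t, ?_⟩, isConj_iff.2 ⟨n, e2⟩⟩
  rw [s.w_comm.2.2.1, ← mul_assoc, ← s.wt]
  group

end Six

end Cfsg.Agent.S38
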