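import Mathlib
import Cfsg.Agent.S38.Six2
import Cfsg.Agent.S38.Six3

/-! No conjugate of `t` is a product of three transpositions. -/

set_option autoImplicit false
set_option linter.unusedSectionVars false
set_option maxRecDepth 100000
set_option synthInstance.maxSize 100000
set_option synthInstance.maxHeartbeats 1000000

namespace Cfsg.Agent.S38

open Cfsg.Agent.Rec Cfsg.Agent.Spor Cfsg.Agent.Loc.Mss Cfsg.Agent.SF6 Subgroup
open scoped commutatorElement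

variable {G : Type*} [Group G] [Finite G]

namespace Six

variable (s : Six G)

theorem Six5_inv : s.w⁻¹ = s.w := inv_eq_of_mul_eq_one_right s.ww

theorem Six5_N {g : G} (hg : g ∈ s.T) (hn : g ∉ s.R) : s.w * g * s.w⁻¹ = g * s.z :=
  ((s.w_act hg).resolve_left fun h => hn h.1).2

theorem Six5_N' {g : G} (hg : g ∈ s.T) (hn : g ∉ s.R) : g * s.w = s.w * (g * s.z) := by
  rw [← s.Six5_N hg hn, s.Six5_inv, ← mul_assoc, ← mul_assoc, s.ww, one_mul]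

theorem Six5_cR {g y j : G} (hg : g ∈ s.R) (e : g * y * g⁻¹ = y * j) :
    g * (s.w * y) * g⁻¹ = s.w * y * j := by
  rw [← mul_assoc, ← s.wR g hg, mul_assoc s.w, mul_assoc s.w, e, mul_assoc]

theorem Six5_cN {g y j : G} (hg : g ∈ s.T) (hn : g ∉ s.R) (e : g * s.z * y * g⁻¹ = y * j) :
    g * (s.w * y) * g⁻¹ = s.w * y * j := by
  rw [← mul_assoc, s.Six5_N' hg hn, mul_assoc s.w, mul_assoc s.w, e, mul_assoc]

omit [Finite G] in
theorem Six5_cen {g d : G} (e : g * d * g⁻¹ = d * 1) : g ∈ centralizer ({d} : Set G) := by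
  rw [mem_centralizer_singleton_iff, ← mul_inv_eq_iff_eq_mul, e, mul_one]

theorem D_wp {b : G} (hb : b ∈ s.B) : s.w * s.p * b ∉ s.D := by
  intro hd
  rw [mul_assoc] at hd
  have k0 : s.t ∈ s.T ∧ s.t ∉ s.R ∧ s.t1 ∈ s.R ∧ s.t * s.a3 ∈ s.R ∧ s.u ∈ s.R ∧ s.u * s.t1 ∈ s.R ∧
      s.t * s.b ∈ s.T ∧ s.t * s.b ∉ s.R ∧ (s.t * s.b)⁻¹ ∈ s.T ∧ (s.t * s.b)⁻¹ ∉ s.R ∧
      s.t * s.b * ((s.t * s.b)⁻¹ * s.z) = s.z ∧
      s.t * s.b * s.u * (s.t * s.b)⁻¹ * s.u⁻¹ = s.z1 ∧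
      s.t * s.b * (s.u * s.t1) * (s.t * s.b)⁻¹ * (s.u * s.t1)⁻¹ = s.z1 ∧
      s.t * (s.t * s.b) * s.t⁻¹ = s.t * s.b ∧ s.t * s.b * s.z * (s.t * s.b)⁻¹ = s.z ∧
      s.z * s.z = 1 ∧ s.z1 * s.z1 = 1 ∧ s.z * s.z1 = s.z1 * s.z ∧ s.z ≠ 1 ∧ s.z1 ≠ 1 ∧ s.z ≠ s.z1 :=
    (s.hY s.hb).decide (s.repY s.hb) (by decide +kernel)
  have k1 : ∀ b ∈ s.B, s.p * b ∈ s.T ∧ s.t * s.z * (s.p * b) * s.t⁻¹ = s.p * b * s.z ∧
      s.t1 * (s.p * b) * s.t1⁻¹ = s.p * b * s.z1 ∧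
      s.t * s.a3 * (s.p * b) * (s.t * s.a3)⁻¹ = s.p * b * (s.z * s.z1) ∧
      s.t * s.b * s.z * (s.p * b) * (s.t * s.b)⁻¹ = s.p * b * 1 ∧
      (s.p * b ∈ s.R → s.p * b * (s.p * b) = 1 → s.u * (s.p * b) * s.u⁻¹ = s.p * b * 1) ∧
      (s.p * b ∉ s.R → s.p * b * s.z * (s.p * b) = 1 →
        s.u * s.t1 * (s.p * b) * (s.u * s.t1)⁻¹ = s.p * b * 1) ∧
      s.p * b * s.z * s.z = s.p * b :=
    (s.hY s.hb).decide (s.repY s.hb) (by decide +kernel)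
  obtain ⟨tT, tR, t1R, t3R, uR, utR, bT, bR, bT', bR', e1, e2, e3, e4, e5, zz, z1z1, zz1, z0, z10,
    zne⟩ := k0
  obtain ⟨yT, f1, f2, f3, f4, f5, f6, f7⟩ := k1 b hb
  generalize s.p * b = y at hd yT f1 f2 f3 f4 f5 f6 f7
  have hsq : s.w * y * s.w⁻¹ * y = 1 := by
    rw [s.Six5_inv, mul_assoc]; exact s.D_sq hd
  have c0 : s.t * s.b ∈ centralizer ({s.w * y} : Set G) := Six5_cen (s.Six5_cN bT bR f4)
  have d1 : s.w * y * s.z ∈ s.D := s.Six5_cN tT tR f1 ▸ s.D_conj hd s.t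
  have d2 : s.w * y * s.z1 ∈ s.D := s.Six5_cR t1R f2 ▸ s.D_conj hd s.t1
  have d3 : s.w * y * (s.z * s.z1) ∈ s.D := s.Six5_cR t3R f3 ▸ s.D_conj hd (s.t * s.a3)
  refine s.pure s.tz1_nD hd ?_ ?_ zz z1z1 zz1 z0 z10 zne d1 d2 d3
  · rcases s.w_act yT with ⟨-, h⟩ | ⟨-, h⟩
    · have cw : s.w ∈ centralizer ({s.w * y} : Set G) :=
        Six5_cen (by rw [mul_assoc s.w, mul_assoc s.w, ← mul_assoc s.w y, h, mul_one])
      have := commutator_mem_commutator c0 cw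
      rwa [commutatorElement_def, mul_assoc, mul_assoc, ← mul_assoc s.w, s.Six5_N bT' bR', e1] at this
    · have cw : s.w * s.t ∈ centralizer ({s.w * y} : Set G) := by
        refine Six5_cen ?_
        have a1 : s.w * s.t * (s.w * y) * (s.w * s.t)⁻¹ = s.w * (s.t * (s.w * y) * s.t⁻¹) * s.w⁻¹ := by
          group
        have a2 : s.w * (s.w * y * s.z) * s.w⁻¹ = s.w * (s.w * y * s.w⁻¹) * (s.w * s.z * s.w⁻¹) := by
          group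
        rw [a1, s.Six5_cN tT tR f1, a2, h, s.w_comm.2.2.1, mul_inv_cancel_right, mul_assoc, f7, mul_one]
      have := commutator_mem_commutator cw c0
      have a3 : ⁅s.w * s.t, s.t * s.b⁆ = s.w * (s.t * (s.t * s.b) * s.t⁻¹) * s.w⁻¹ * (s.t * s.b)⁻¹ := by
        rw [commutatorElement_def]; group
      rwa [a3, e4, s.Six5_N bT bR, e5] at this
  · rcases s.w_act yT with ⟨h0, h⟩ | ⟨h0, h⟩
    · rw [h] at hsq
      have := commutator_mem_commutator c0 (Six5_cen (s.Six5_cR uR (f5 h0 hsq)))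
      rwa [commutatorElement_def, e2] at this
    · rw [h] at hsq
      have := commutator_mem_commutator c0 (Six5_cen (s.Six5_cR utR (f6 h0 hsq)))
      rwa [commutatorElement_def, e3] at this

theorem Six5_tr {k x a b : G} (hk : k ∈ 𝐍[s.B]) (hw : k * s.w = s.w * k) (ha : a ∈ s.A)
    (e : k * s.p * k⁻¹ = x * a) (hb : b ∈ s.B) : s.w * x * b ∉ s.D := by
  intro hd
  have haB : a ∈ s.B := s.les.2.2.2.2.2.2.2.1 ha
  have hb' : k⁻¹ * (a⁻¹ * b) * k⁻¹⁻¹ ∈ s.B :=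
    (mem_normalizer_iff.1 (inv_mem hk) _).1 (mul_mem (inv_mem haB) hb)
  refine s.D_wp hb' (s.D_conj' (g := k) ?_)
  have a1 : k * (s.w * s.p * (k⁻¹ * (a⁻¹ * b) * k⁻¹⁻¹)) * k⁻¹ =
      k * s.w * k⁻¹ * (k * s.p * k⁻¹) * (a⁻¹ * b) := by group
  rw [a1, hw, e, mul_inv_cancel_right]
  convert hd using 1
  group

theorem D_wq {b : G} (hb : b ∈ s.B) : s.w * s.q * b ∉ s.D ∧ s.w * (s.p * s.q) * b ∉ s.D := by
  obtain ⟨k, hk, hw, ⟨a, ha, e⟩, a', ha', e'⟩ := s.exists_c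
  refine ⟨s.Six5_tr hk hw ha e hb, s.Six5_tr (mul_mem hk hk) ?_ ha' e' hb⟩
  rw [mul_assoc, hw, ← mul_assoc, hw, mul_assoc]

end Six

end Cfsg.Agent.S38
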