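import Mathlib
import Cfsg.Agent.S38.Kit3
import Cfsg.Agent.S38.D6

/-! Transpositions of the six points. -/

set_option autoImplicit false
set_option linter.unusedSectionVars false
set_option maxRecDepth 100000
set_option synthInstance.maxSize 100000
set_option synthInstance.maxHeartbeats 1000000

namespace Cfsg.Agent.S38

open Cfsg.Agent.Rec Cfsg.Agent.Spor Cfsg.Agent.Loc.Mss Cfsg.Agent.SF6 Subgroup
open scoped commutatorElement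

variable {G : Type*} [Group G] [Finite G]

namespace Cf

variable (s : Cf G)

theorem SixT_B {d : G} (hd : d ∈ s.Om) : d ∈ s.B :=
  (s.hL.decide s.rep (by decide +kernel) : ∀ d ∈ s.Om, d ∈ s.B) d hd

theorem SixT_congr {x y : G} (h : ∀ b ∈ s.B, x * b * x⁻¹ = y * b * y⁻¹) (hx : s.Tr x) : s.Tr y := by
  have k : ∀ d ∈ s.Om, (x * d ≠ d * x ↔ y * d ≠ d * y) := fun d hd => by
    rw [Ne, Ne, ← mul_inv_eq_iff_eq_mul, ← mul_inv_eq_iff_eq_mul, h d (s.SixT_B hd)]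
  obtain ⟨⟨d, hd, e⟩, h2⟩ := hx
  exact ⟨⟨d, hd, (k d hd).1 e⟩, fun a ha b hb c hc e1 e2 e3 =>
    h2 a ha b hb c hc ((k a ha).2 e1) ((k b hb).2 e2) ((k c hc).2 e3)⟩

theorem Tr_conj (h : s.H6) {n x : G} (hn : n ∈ 𝐍[s.B]) (hx : s.Tr x) : s.Tr (n * x * n⁻¹) := by
  have k : ∀ d : G, n * x * n⁻¹ * d ≠ d * (n * x * n⁻¹) ↔ x * (n⁻¹ * d * n⁻¹⁻¹) ≠ n⁻¹ * d * n⁻¹⁻¹ * x :=
    fun d => by
      rw [show n * x * n⁻¹ * d = n * (x * (n⁻¹ * d * n⁻¹⁻¹)) * n⁻¹ by group,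
        show d * (n * x * n⁻¹) = n * (n⁻¹ * d * n⁻¹⁻¹ * x) * n⁻¹ by group, Ne, Ne, mul_left_inj, mul_right_inj]
  have i : ∀ {a b : G}, n⁻¹ * a * n⁻¹⁻¹ = n⁻¹ * b * n⁻¹⁻¹ → a = b := fun e =>
    mul_left_cancel (mul_right_cancel e)
  obtain ⟨⟨d, hd, e⟩, h2⟩ := hx
  refine ⟨⟨_, H6.perm s h hn hd, (k _).2 (by simpa [mul_assoc] using e)⟩, fun a ha b hb c hc e1 e2 e3 => ?_⟩
  exact (h2 _ (H6.perm s h (inv_mem hn) ha) _ (H6.perm s h (inv_mem hn) hb) _ (H6.perm s h (inv_mem hn) hc)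
    ((k a).1 e1) ((k b).1 e2) ((k c).1 e3)).imp i (Or.imp i i)

theorem Tr_even {x l : G} (hl : l ∈ s.NA) (h : ∀ b ∈ s.B, x * b * x⁻¹ = l * b * l⁻¹) : ¬ s.Tr x := fun hx => by
  obtain ⟨⟨d, hd, e⟩, h2⟩ := s.SixT_congr h hx
  have k : ∀ l ∈ s.NA, ∀ d ∈ s.Om, l * d ≠ d * l → ∃ d' ∈ s.Om, l * d' ≠ d' * l ∧ d ≠ d' ∧
      ∃ d'' ∈ s.Om, l * d'' ≠ d'' * l ∧ d ≠ d'' ∧ d' ≠ d'' := s.hL.decide s.rep (by decide +kernel)
  obtain ⟨a, ha, e1, n1, b, hb, e2, n2, n3⟩ := k l hl d hd e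
  exact (h2 d hd a ha b hb e e1 e2).elim n1 (·.elim n2 n3)

theorem SixT_t {x b : G} (hx : x ∈ 𝐍[s.B]) (hb : b ∈ s.B) : x * b * x⁻¹ = s.t * x * b * (s.t * x)⁻¹ := by
  have := s.B_comm s.mems.1 (conj_mem_of_norm hx hb)
  rw [eq_mul_inv_of_mul_eq this.symm]
  group

theorem Tr_tL {x : G} (hx : x ∈ 𝐍[s.B]) (hl : x ∈ s.L ∨ s.t * x ∈ s.L) : ¬ s.Tr x := by
  rcases hl with hl | hl
  · exact s.Tr_even (s.norm_A hl (s.normB_A hx)) fun _ _ => rfl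
  · exact s.Tr_even (s.norm_A hl (s.normB_A (mul_mem (le_normalizer s.mems.1) hx))) fun _ => s.SixT_t hx

theorem SixT_out (hb : s.Be) {x l o : G} (hx : x ∈ 𝐍[s.B]) (h2 : x * x = 1) (hl : l ∈ s.NA) (ho : o ∈ s.O)
    (e : x = s.u * l * o) : s.Tr x := by
  have a : ∀ b ∈ s.B, s.u * l * b * (s.u * l)⁻¹ = x * b * x⁻¹ := fun b hb => by
    rw [e, mul_assoc _ o, ← (s.Kit1_BO hb ho).eq]
    group
  have c : ∀ b ∈ s.A, s.u * l * (s.u * l) * b = b * (s.u * l * (s.u * l)) := fun b hb => by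
    have hb := s.les.2.2.2.2.2.2.2.1 hb
    rw [← mul_inv_eq_iff_eq_mul]
    calc _ = s.u * l * (s.u * l * b * (s.u * l)⁻¹) * (s.u * l)⁻¹ := by group
      _ = x * x * b * (x * x)⁻¹ := by rw [a b hb, a _ (conj_mem_of_norm hx hb)]; group
      _ = b := by rw [h2, one_mul, inv_one, mul_one]
  have k : ∀ l ∈ s.NA, s.u * l * (s.u * l) * s.a1 = s.a1 * (s.u * l * (s.u * l)) →
      s.u * l * (s.u * l) * s.a2 = s.a2 * (s.u * l * (s.u * l)) →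
      s.u * l * (s.u * l) * s.a3 = s.a3 * (s.u * l * (s.u * l)) →
      (∃ d ∈ s.Om, s.u * l * d ≠ d * (s.u * l)) ∧ ∀ d ∈ s.Om, s.u * l * d ≠ d * (s.u * l) →
        ∀ d' ∈ s.Om, s.u * l * d' ≠ d' * (s.u * l) → ∀ d'' ∈ s.Om, s.u * l * d'' ≠ d'' * (s.u * l) →
          d = d' ∨ d = d'' ∨ d' = d'' := (s.hY hb).decide (s.repY hb) (by decide +kernel)
  obtain ⟨k1, k2⟩ := k l hl (c _ s.mems.2.1) (c _ s.mems.2.2.1) (c _ s.mems.2.2.2.1)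
  exact s.SixT_congr a ⟨k1, fun d hd d' hd' d'' hd'' e1 e2 e3 => k2 d hd e1 d' hd' e2 d'' hd'' e3⟩

/-- An involution of `N(B) ∩ C(t)` lies in `⟨t⟩ L` or is a transposition. -/
theorem Tr_out {x : G} (hx : x ∈ 𝐍[s.B]) (h : x * s.t = s.t * x) (h2 : x * x = 1) :
    x ∈ s.NA ∨ s.t * x ∈ s.NA ∨ s.Tr x := by
  have t2 : s.t * x * (s.t * x) = 1 := by
    rw [mul_assoc, ← mul_assoc x, h, mul_assoc, h2, mul_one, s.tt]
  obtain ⟨l, hl, o, ho, e | e | ⟨hb, e | e⟩⟩ := s.normB_t hx h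
  · rw [s.Kit1_two (s.NA_le hl) ho (n := 1) (by rw [← e, pow_one, sq, h2]), mul_one] at e
    exact .inl (e ▸ hl)
  · have e' : s.t * x = l * o := by rw [e, mul_assoc, s.Kit1_tm]
    rw [s.Kit1_two (s.NA_le hl) ho (n := 1) (by rw [← e', pow_one, sq, t2]), mul_one] at e'
    exact .inr (.inl (e' ▸ hl))
  · exact .inr (.inr (s.SixT_out hb hx h2 hl ho e))
  · refine .inr (.inr (s.SixT_congr (fun b hb => (s.SixT_t hx hb).symm)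
      (s.SixT_out hb (mul_mem (le_normalizer s.mems.1) hx) t2 hl ho ?_)))
    rw [e, mul_assoc, mul_assoc, s.Kit1_tm, mul_assoc]

end Cf

end Cfsg.Agent.S38
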