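import Mathlib
import Cfsg.Agent.S38.Six4
import Cfsg.Agent.S38.Six5
import Cfsg.Agent.S38.SixT

/-! The conjugates of `t` in `S1`. -/

set_option autoImplicit false
set_option linter.unusedSectionVars false
set_option maxRecDepth 100000
set_option synthInstance.maxSize 100000
set_option synthInstance.maxHeartbeats 1000000

namespace Cfsg.Agent.S38

open Cfsg.Agent.Rec Cfsg.Agent.Spor Cfsg.Agent.Loc.Mss Cfsg.Agent.SF6 Subgroup
open scoped commutatorElement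

variable {G : Type*} [Group G] [Finite G]

namespace Six

variable (s : Six G)

theorem s6_dec : (∀ y ∈ s.T, ¬ y ∈ s.TU → (y * y = 1 ∨ y * s.z * y = 1) →
      s.u * y ∈ s.B ∨ (s.v * y ∈ s.B ∧ s.u * (s.q * y * s.q⁻¹) ∈ s.B)) ∧
    s.t * (s.h * s.z * s.h⁻¹) = s.t * s.a3 ∧ s.u * (s.t * s.a3) = s.t * s.a3 * s.u ∧ s.v * s.v = 1 ∧ s.u ∉ s.TU ∧
    s.u * (s.t * s.a1) * s.u⁻¹ = s.t * s.a2 ∧ s.u * (s.t * s.a2) * s.u⁻¹ = s.t * s.a1 ∧ s.t * s.z ≠ s.t ∧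
    s.t ≠ s.t * s.a1 ∧ s.t ≠ s.t * s.a2 ∧ s.t * s.a1 ≠ s.t * s.a2 ∧ (∀ d ∈ s.Om, d ∈ s.B) ∧
    ∀ y ∈ s.TU, y ∈ s.B ∨ s.p⁻¹ * y ∈ s.B ∨ s.q⁻¹ * y ∈ s.B ∨ (s.p * s.q)⁻¹ * y ∈ s.B :=
  (s.hY s.hb).decide (s.repY s.hb) (by decide +kernel)

theorem s6_ub {b : G} (hb : b ∈ s.B) (h2 : s.w * (s.u * b) * (s.w * (s.u * b)) = 1) :
    ∃ m ∈ 𝐍[s.B], ∃ l ∈ s.NA, l ∉ s.A ∧ (m * (s.w * (s.u * b)) * m⁻¹ = l ∨ m * (s.w * (s.u * b)) * m⁻¹ = s.t * l) := by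
  obtain ⟨-, k1, k2, -, -, k3, k4, k5, k6, k7, k8, k9, -⟩ := s.s6_dec
  have hA : s.A ≤ s.B := s.les.2.2.2.2.2.2.2.1
  have hh : s.h ∈ s.NA := s.Kt3_NA s.mems.2.2.2.2.2.2.2.2.2.2.2.2.2.1
  have act : ∀ x ∈ s.B, s.w * (s.u * b) * x * (s.w * (s.u * b))⁻¹ = s.w * (s.u * x * s.u⁻¹) * s.w⁻¹ := fun x hx => by
    rw [mul_assoc s.w, mul_assoc s.u, s.B_comm hb hx]; group
  have o0 : s.t ∈ s.Om := s.memOm.2 (.inl rfl)
  have o1 : s.t * s.a1 ∈ s.Om := s.memOm.2 (.inr (.inl rfl))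
  have o2 : s.t * s.a2 ∈ s.Om := s.memOm.2 (.inr (.inr (.inl rfl)))
  have o3 : s.t * s.a3 ∈ s.Om := s.memOm.2 (.inr (.inr (.inr (.inl rfl))))
  have m0 : s.w * (s.u * b) * s.t ≠ s.t * (s.w * (s.u * b)) := fun e => k5 (by
    have := act _ (k9 _ o0)
    rwa [e, mul_inv_cancel_right, s.ut, mul_inv_cancel_right, s.wt, eq_comm] at this)
  have m1 : s.w * (s.u * b) * (s.t * s.a1) ≠ s.t * s.a1 * (s.w * (s.u * b)) := fun e => k8 (by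
    have := act _ (k9 _ o1)
    rwa [e, mul_inv_cancel_right, k3, s.w_comm.2.2.2.2 _ (.inr (.inl rfl)), mul_inv_cancel_right] at this)
  have m2 : s.w * (s.u * b) * (s.t * s.a2) ≠ s.t * s.a2 * (s.w * (s.u * b)) := fun e => k8 (by
    have := act _ (k9 _ o2)
    rwa [e, mul_inv_cancel_right, k4, s.w_comm.2.2.2.2 _ (.inl rfl), mul_inv_cancel_right, eq_comm] at this)
  have m3 : s.w * (s.u * b) * (s.t * s.a3) = s.t * s.a3 * (s.w * (s.u * b)) := by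
    have := act _ (k9 _ o3)
    rwa [k2, mul_inv_cancel_right, s.w_comm.2.2.2.2 _ (.inr (.inr (.inl rfl))), mul_inv_cancel_right,
      mul_inv_eq_iff_eq_mul] at this
  have hd : s.w * (s.u * b) ∈ 𝐍[s.B] := mul_mem s.w_norm.2.1 (mul_mem s.u_norm.2.2.1 (le_normalizer hb))
  generalize s.w * (s.u * b) = d at *
  have hn : s.h * s.w * s.h⁻¹ ∈ 𝐍[s.B] := mul_mem (mul_mem (s.NA_norm.2 hh) s.w_norm.2.1) (inv_mem (s.NA_norm.2 hh))
  have ht : s.h * s.w * s.h⁻¹ * s.t * (s.h * s.w * s.h⁻¹)⁻¹ = s.t * s.a3 := by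
    have c := s.t_comm (s.NA_le hh)
    have c' := s.t_comm (inv_mem (s.NA_le hh))
    calc _ = s.h * (s.w * (s.h⁻¹ * s.t * s.h) * s.w⁻¹) * s.h⁻¹ := by group
      _ = s.h * s.t * s.z * s.h⁻¹ := by rw [c', inv_mul_cancel_right, s.wt, ← mul_assoc]
      _ = _ := by rw [c, ← k1]; group
  generalize s.h * s.w * s.h⁻¹ = n at *
  have hB : n⁻¹ * d * n⁻¹⁻¹ ∉ s.B := fun e => m0 (s.B_comm (by simpa [mul_assoc] using conj_mem_of_norm hn e) (k9 _ o0))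
  have hc : n⁻¹ * d * n⁻¹⁻¹ * s.t = s.t * (n⁻¹ * d * n⁻¹⁻¹) := by
    calc _ = n⁻¹ * (d * (n * s.t * n⁻¹)) * n := by group
      _ = _ := by rw [ht, m3, ← ht]; group
  refine ⟨n⁻¹, inv_mem hn, ?_⟩
  rcases s.Tr_out (mul_mem (mul_mem (inv_mem hn) hd) (inv_mem (inv_mem hn))) hc
    (by rw [conj_mul, h2, mul_one, mul_inv_cancel]) with k | k | k
  · exact ⟨_, k, fun e => hB (hA e), .inl rfl⟩
  · exact ⟨_, k, fun e => hB (s.memB.2 (.inr e)), .inr (s.Kt3_tt _).symm⟩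
  · have k' := s.Tr_conj s.h6 hn k
    rw [show n * (n⁻¹ * d * n⁻¹⁻¹) * n⁻¹ = d by group] at k'
    rcases k'.2 _ o0 _ o1 _ o2 m0 m1 m2 with e | e | e
    exacts [absurd e k6, absurd e k7, absurd e k8]

theorem s6_L {l : G} (hl : l ∈ s.L) (h2 : l * l = 1) (h1 : l ≠ 1) : IsConj l s.z := by
  rcases s.invol hl h2 with e | e | e
  · exact absurd e h1
  · obtain ⟨g, -, e⟩ := s.K1_cj.1 e
    exact (isConj_iff.2 ⟨g, e⟩).symm
  · obtain ⟨g, -, e⟩ := s.K2_cj.1 e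
    exact (isConj_iff.2 ⟨g, e⟩).symm.trans s.u_w.2.2.2.2.2

/-- Double transpositions moving `t`. -/
theorem wub {y : G} (hy : y ∈ s.T) (hy' : y ∉ s.TU) (h2 : s.w * y * (s.w * y) = 1) :
    ∃ m ∈ 𝐍[s.B], ∃ l ∈ s.NA, l ∉ s.A ∧ (m * (s.w * y) * m⁻¹ = l ∨ m * (s.w * y) * m⁻¹ = s.t * l) := by
  have wi : s.w⁻¹ = s.w := inv_eq_of_mul_eq_one_right s.ww
  have e : s.w * y * s.w⁻¹ * y = 1 := by rw [wi, mul_assoc _ s.w, h2]
  have uy : ∀ x, s.u * (s.u * x) = x := fun x => by rw [← mul_assoc, s.uu, one_mul]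
  rcases s.s6_dec.1 y hy hy' (by
    rcases s.w_act hy with ⟨-, k⟩ | ⟨-, k⟩ <;> rw [k] at e
    exacts [.inl e, .inr e]) with k | ⟨-, k⟩
  · have := s.s6_ub k (by rwa [uy])
    rwa [uy] at this
  · have hq := s.mems.2.2.2.2.2.2.2.2.2.2.1
    have e1 : s.w * (s.q * y * s.q⁻¹) = s.q * (s.w * y) * s.q⁻¹ := by
      rw [← mul_assoc, ← mul_assoc, s.w_comm.2.2.2.1 _ hq, mul_assoc s.q]
    obtain ⟨m, hm, l, hl, h1, h3⟩ := s.s6_ub k (by rw [uy, e1, conj_mul, h2, mul_one, mul_inv_cancel])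
    rw [uy, e1, show m * (s.q * (s.w * y) * s.q⁻¹) * m⁻¹ = m * s.q * (s.w * y) * (m * s.q)⁻¹ by group] at h3
    exact ⟨_, mul_mem hm (s.NA_norm.2 (s.les.2.2.1 (s.les.2.1 hq))), l, hl, h1, h3⟩

theorem D_S1 {d : G} (hd : d ∈ s.D) (h : d ∈ s.S1) : d ∈ s.Om ∨ d = s.w ∨ d = s.w * s.z ∨ s.R4 d := by
  obtain ⟨k1, -, -, k2, -, -, -, -, -, -, -, k3, k4⟩ := s.s6_dec
  rcases s.memS1.1 h with h | h
  · by_cases hT : d ∈ s.TU
    · exact .inl (s.D_TU hd ((s.memTU.1 hT).imp (fun e => s.les.2.2.1 e) fun e => s.les.2.2.1 e))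
    have e1 : d = s.u * (s.u * d) := by rw [← mul_assoc, s.uu, one_mul]
    have e2 : d = s.v * (s.v * d) := by rw [← mul_assoc, k2, one_mul]
    refine .inr (.inr (.inr ?_))
    rcases k1 d h hT (.inl (s.D_sq hd)) with k | ⟨k, -⟩
    · rcases s.D_u k (e1 ▸ hd) with e | e <;> rw [e] at e1
      exacts [.inl (e1.trans (mul_one _)), .inr (.inl e1)]
    · rcases s.D_v k (e2 ▸ hd) with e | e <;> rw [e] at e2
      exacts [.inr (.inr (.inl (e2.trans (mul_one _)))), .inr (.inr (.inr e2))]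
  have e1 : s.w * (s.w * d) = d := by rw [← mul_assoc, s.ww, one_mul]
  by_cases hT : s.w * d ∈ s.TU
  · rcases k4 _ hT with k | k | k | k
    · rcases s.D_w k (e1.symm ▸ hd) with e | e <;> rw [e] at e1
      exacts [.inr (.inl (e1.symm.trans (mul_one _))), .inr (.inr (.inl e1.symm))]
    · exact absurd (by rwa [mul_assoc, mul_inv_cancel_left, e1]) (s.D_wp k)
    · exact absurd (by rwa [mul_assoc, mul_inv_cancel_left, e1]) (s.D_wq k).1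
    · exact absurd (by rwa [mul_assoc, mul_inv_cancel_left, e1]) (s.D_wq k).2
  · obtain ⟨m, -, l, hl, h1, h3⟩ := s.wub h hT (by rw [e1, s.D_sq hd])
    rw [e1] at h3
    have h4 := s.D_conj hd m
    refine absurd (s.B_L ?_ (s.NA_le hl)) h1
    rcases h3 with e | e <;> rw [e] at h4
    · exact k3 _ (s.D_TU h4 (.inl hl))
    · exact (mul_mem_cancel_left s.mems.1).1 (k3 _ (s.D_TU h4 (.inr (by rwa [s.Kt3_tt]))))

theorem S0_inv (ht : s.t ∉ s.X) (hX : s.S0 ≤ s.X) {e : G} (he : e ∈ s.S0) (h2 : e * e = 1) (h1 : e ≠ 1) : IsConj e s.z := by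
  rcases s.memS0.1 he with h | h
  · exact s.s6_L (s.U_le h) h2 h1
  have hU : s.U ≤ s.TU := s.les.2.2.2.2.2.2.2.2.2.1
  have e1 : s.w * (s.u * (s.w * s.u * e)) = e := by
    rw [← mul_assoc, ← mul_assoc, mul_assoc s.w, ← mul_assoc s.u, ← s.w_comm.1, mul_assoc s.w s.u, s.uu, mul_one, s.ww,
      one_mul]
  obtain ⟨m, -, l, hl, -, h3⟩ := s.wub (mul_mem s.fb_u.2.1 (s.TU_le (hU h)))
    (fun k => s.s6_dec.2.2.2.2.1 ((mul_mem_cancel_right (hU h)).1 k)) (by rwa [e1])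
  rw [e1] at h3
  have h4 := s.nX.conj_mem _ (hX he) m
  rcases h3 with k | k
  · refine (isConj_iff.2 ⟨m, k⟩).trans (s.s6_L (s.NA_le hl) ?_ fun k' => h1 (conj_eq_one_iff.1 (k.trans k')))
    rw [← k, conj_mul, h2, mul_one, mul_inv_cancel]
  · exact absurd ((mul_mem_cancel_right (s.LX (s.NA_le hl))).1 (k ▸ h4)) ht

end Six

end Cfsg.Agent.S38
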