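import Mathlib
import Cfsg.Agent.S38.Six6

/-! The case that `w` is not conjugate to `t`. -/

set_option autoImplicit false
set_option linter.unusedSectionVars false
set_option maxRecDepth 100000
set_option synthInstance.maxSize 100000
set_option synthInstance.maxHeartbeats 1000000

namespace Cfsg.Agent.S38

open Cfsg.Agent.Rec Cfsg.Agent.Spor Cfsg.Agent.Loc.Mss Cfsg.Agent.SF6 Subgroup
open scoped commutatorElement

variable {G : Type*} [Group G] [Finite G]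

theorem Six7_two {S N : Subgroup G} {t : G} (h : ∀ x ∈ S, x ∈ N ∨ t * x ∈ N) {x y : G} (hx : x ∈ S)
    (hy : y ∈ S) (h1 : x ∉ N) (h2 : y ∉ N) : x * y ∈ N := by
  have := mul_mem (inv_mem ((h _ (inv_mem hx)).resolve_left fun e => h1 (inv_mem_iff.1 e)))
    ((h y hy).resolve_left h2)
  rwa [show (t * x⁻¹)⁻¹ * (t * y) = x * y by group] at this

theorem Six7_comm {S N : Subgroup G} {t : G} (h : ∀ x ∈ S, x ∈ N ∨ t * x ∈ N) :
    ∀ a ∈ S, ∀ b ∈ S, a * b * a⁻¹ * b⁻¹ ∈ N := fun a ha b hb => by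
  have n : ∀ x ∈ S, ∀ y ∈ S, y ∈ N → x * y * x⁻¹ ∈ N := fun x hx y hy hn => by
    by_cases h1 : x ∈ N
    · exact mul_mem (mul_mem h1 hn) (inv_mem h1)
    · exact Six7_two h (mul_mem hx hy) (inv_mem hx) (fun e => h1 ((mul_mem_cancel_right hn).1 e))
        fun e => h1 (inv_mem_iff.1 e)
  by_cases h1 : b ∈ N
  · exact mul_mem (n a ha b hb h1) (inv_mem h1)
  by_cases h2 : a ∈ N
  · have := mul_mem h2 (n b hb _ (inv_mem ha) (inv_mem h2))
    rwa [← mul_assoc, ← mul_assoc] at this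
  · have := mul_mem (Six7_two h ha hb h2 h1) (Six7_two h (inv_mem ha) (inv_mem hb)
      (fun e => h2 (inv_mem_iff.1 e)) fun e => h1 (inv_mem_iff.1 e))
    rwa [← mul_assoc] at this

namespace Six

variable (s : Six G)

theorem D_om (hw : s.w ∉ s.D) {d : G} (hd : d ∈ s.D) (h : d ∈ s.S1) : d ∈ s.Om := by
  obtain ⟨h1, h2, h3, h4, h5, -⟩ := s.u_w
  have k : ¬ IsConj d s.w := fun e => hw (IsConj.trans hd e)
  rcases s.D_S1 hd h with e | rfl | rfl | rfl | rfl | rfl | rfl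
  exacts [e, (k (IsConj.refl _)).elim, (k h5).elim, (k h1).elim, (k h3).elim, (k h2).elim, (k h4).elim]

theorem Six7_Om {d : G} (hd : d ∈ s.Om) : d ∈ s.B :=
  (s.hL.decide s.rep (by decide +kernel) : ∀ d ∈ s.Om, d ∈ s.B) d hd

theorem Six7_BS : s.B ≤ s.S1 := (s.les.2.2.2.2.2.2.2.2.1.trans s.TU_le).trans s.S0_norm.2.2.2.2.2

theorem syl_S1 (hw : s.w ∉ s.D) : Syl 2 s.S1 ⊤ := by
  refine Syl.of_norm s.pgS1 le_top fun P hP h1 _ h2 => s.syl.ge_of_le hP h1 fun x hx => ?_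
  have k : ∀ d ∈ s.Om, x * d * x⁻¹ ∈ s.B := fun d hd => s.Six7_Om (s.D_om hw
    (s.D_conj (Cf.H6.omD _ s.h6 hd) x) (conj_mem_of_norm (h2 hx) (s.Six7_BS (s.Six7_Om hd))))
  have k0 := k s.t (s.memOm.2 (.inl rfl))
  have k1 : ∀ a, s.t * a ∈ s.Om → x * a * x⁻¹ ∈ s.B := fun a ha => by
    have := mul_mem (inv_mem k0) (k _ ha)
    rwa [show (x * s.t * x⁻¹)⁻¹ * (x * (s.t * a) * x⁻¹) = x * a * x⁻¹ by group] at this
  refine mem_norm_of_cj_le (map_le_iff_le_comap.2 (clos_le.2 fun a ha => ?_))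
  simp only [List.mem_cons, List.not_mem_nil, or_false] at ha
  rcases ha with rfl | rfl | rfl | rfl | rfl
  exacts [k0, k1 _ (s.memOm.2 (by simp)), k1 _ (s.memOm.2 (by simp)), k1 _ (s.memOm.2 (by simp)),
    k1 _ (s.memOm.2 (by simp))]

theorem Six7_t (hw : s.w ∉ s.D) : s.t ∉ s.X := fun ht => by
  obtain ⟨k1, k2, k3⟩ : (∀ x ∈ s.T, x ∈ s.T0 ∨ s.t * x ∈ s.T0) ∧ (∀ d ∈ s.Om, d * s.t ∈ s.T0) ∧
      ∀ x ∈ s.T0, s.t * s.z * (s.t * x) ∈ s.T0 := (s.hY s.hb).decide (s.repY s.hb) (by decide +kernel)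
  have m : ∀ {x}, x ∈ s.T0 ⊔ zpowers s.w ↔ x ∈ s.T0 ∨ s.w * x ∈ s.T0 :=
    FG.ZL.mem_ext s.w_norm.2.2.2.1 (s.ww ▸ one_mem _)
  have tT : s.t ∈ s.T := s.fb_u.2.2.1
  have h1 := ttN (C := ⊥) (N := s.T0 ⊔ zpowers s.w) (s.syl_S1 hw) (Six7_comm (t := s.t) fun x hx => by
      rcases s.memS1.1 hx with h | h
      · exact (k1 x h).imp (fun e => mem_sup_left e) fun e => mem_sup_left e
      · refine (k1 _ h).imp (fun e => m.2 (.inr e)) fun e => m.2 (.inr ?_)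
        have := k3 _ e
        rwa [s.Kit1_tm, ← s.wt, show s.w * s.t * s.w⁻¹ * (s.w * x) = s.w * (s.t * x) by group] at this)
    (s.S0_norm.2.2.2.2.2 tT) s.tt (s.X_le ht) IsPGroup.of_bot (fun x hx => by rw [mem_bot.1 hx]; simp)
    fun g hg _ => mem_sup_left (k2 _ (s.D_om hw (s.D_conj s.tD g) hg))
  rcases m.1 h1 with h | h
  · exact (s.t_nR s.hb).2.1 h
  · exact s.w_nT ((mul_mem_cancel_right tT).1 ((s.t_nR s.hb).2.2.2.2.2 h))

theorem Six7_nTr {y : G} (hy : y ∈ s.TU) : ¬ s.Tr (s.w * (s.u * y)) := fun h => by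
  obtain ⟨k1, k2, k3⟩ : (∀ y ∈ s.TU, ∃ d ∈ s.Om, (d = s.t * s.a1 ∨ d = s.t * s.a2 ∨ d = s.t * s.a3 ∨
      d = s.t * s.a4) ∧ s.u * y * d ≠ d * (s.u * y) ∧ s.t ≠ d ∧ s.t * s.z ≠ d) ∧ s.t ≠ s.t * s.z ∧
      s.t * s.z * s.z = s.t := (s.hY s.hb).decide (s.repY s.hb) (by decide +kernel)
  obtain ⟨d, hd, h1, h2, h3, h4⟩ := k1 y hy
  obtain ⟨c1, c2⟩ := s.T_comm (mul_mem s.fb_u.2.1 (s.TU_le hy))
  have wz := s.w_comm.2.2.1
  have wt : s.w * s.t = s.t * s.z * s.w := by rw [← s.wt]; group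
  set v := s.u * y
  have e1 : s.w * v * s.t = s.t * s.z * (s.w * v) := by
    rw [mul_assoc, c1, ← mul_assoc, wt, mul_assoc]
  have e2 : s.w * v * (s.t * s.z) = s.t * (s.w * v) := by
    rw [← mul_assoc, e1, mul_assoc, mul_assoc s.w, c2, ← mul_assoc s.w, wz, mul_assoc s.z, ← mul_assoc, k3]
  rcases h.2 s.t (s.memOm.2 (.inl rfl)) (s.t * s.z) (s.memOm.2 (by simp)) d hd
    (fun e => k2 (mul_right_cancel (e.symm.trans e1))) (fun e => k2 (mul_right_cancel (e2.symm.trans e)))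
    (fun e => h2 (mul_left_cancel (a := s.w) (by
      rw [← mul_assoc, e, ← mul_assoc s.w d, s.w_comm.2.2.2.2 d h1, mul_assoc]))) with e | e | e
  exacts [k2 e, h3 e, h4 e]

theorem Six7_y (hw : s.w ∉ s.D) {y : G} (hT : y ∈ s.T) (y2 : y * y = 1) (h1 : y ∉ s.L)
    (h2 : s.t * y ∉ s.L) : y ∉ s.X := fun hy => by
  have uT : s.u ∈ s.T := s.fb_u.2.1
  have wu := s.w_comm.1
  have w2 : s.w * s.u * (s.w * s.u) = 1 := by
    rw [mul_assoc, ← mul_assoc s.u, ← wu, mul_assoc, s.uu, mul_one, s.ww]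
  have m : ∀ {x}, x ∈ s.TU ⊔ zpowers (s.w * s.u) ↔ x ∈ s.TU ∨ s.w * s.u * x ∈ s.TU :=
    FG.ZL.mem_ext (mul_mem s.w_norm.2.2.2.2.1 (s.T_norm.2.2.2.2 uT)) (w2 ▸ one_mem _)
  have i2 : ∀ x ∈ s.S1, x ∈ s.TU ⊔ zpowers (s.w * s.u) ∨ s.u * x ∈ s.TU ⊔ zpowers (s.w * s.u) :=
    fun x hx => by
      rcases s.memS1.1 hx with h | h
      · exact (s.memT.1 h).imp (fun e => mem_sup_left e) fun e => mem_sup_left e
      · refine (s.memT.1 h).symm.imp (fun e => m.2 (.inr ?_)) fun e => m.2 (.inr ?_)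
        · rwa [wu, mul_assoc]
        · rwa [mul_assoc, ← mul_assoc s.u, s.uu, one_mul]
  have yS := s.S0_norm.2.2.2.2.2 hT
  have yt := (s.T_comm hT).1
  have hn : y ∉ s.TU ⊔ zpowers (s.w * s.u) := fun h => by
    rcases m.1 h with h | h
    · exact (s.memTU.1 h).elim (fun e => h1 (s.U_le e)) fun e => h2 (s.U_le e)
    · exact s.w_nT ((mul_mem_cancel_right uT).1 ((mul_mem_cancel_right hT).1 (s.TU_le h)))
  refine hn (ttN (C := zpowers s.t) (s.syl_S1 hw) (Six7_comm i2) yS y2 (s.X_le hy) (Kit2_pg s.tt)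
    (fun x hx => ?_) fun g g1 g2 => Six7_two i2 g1 yS (fun h => ?_) hn)
  · obtain ⟨n, rfl⟩ := hx
    exact ((show Commute s.t y from yt.symm).zpow_left n).eq
  obtain ⟨n, hB, e⟩ := Cf.H6.onto _ s.h6
    (s.D_om hw (s.D_conj s.tD g) (cj_le_iff.1 g2 _ (mem_zpowers _)))
  have kt : n⁻¹ * g * s.t = s.t * (n⁻¹ * g) := by
    calc _ = n⁻¹ * (g * s.t * g⁻¹) * g := by group
      _ = _ := by rw [← e]; group
  have kL := (s.C_norm kt).1
  have yB := s.S1_norm.1 g1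
  have e1 : n⁻¹ * g * y * (n⁻¹ * g)⁻¹ = n⁻¹ * (g * y * g⁻¹) * n := by group
  have tr : s.Tr (g * y * g⁻¹) := by
    rcases s.Tr_out (x := n⁻¹ * g * y * (n⁻¹ * g)⁻¹) (e1 ▸ mul_mem (mul_mem (inv_mem hB) yB) hB)
      (((show Commute _ s.t from kt).mul_left yt).mul_left (show Commute _ s.t from kt).inv_left).eq
      (by rw [conj_mul, y2]; group) with k | k | k
    · exact (h1 ((mem_normalizer_iff.1 kL y).2 (s.NA_le k))).elim
    · refine (h2 ((mem_normalizer_iff.1 kL _).2 ?_)).elim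
      rw [← mul_assoc, kt]
      simpa only [mul_assoc] using s.NA_le k
    · have := s.Tr_conj s.h6 hB k
      rwa [show n * (n⁻¹ * g * y * (n⁻¹ * g)⁻¹) * n⁻¹ = g * y * g⁻¹ by group] at this
  rcases m.1 h with k | k
  · exact s.Tr_tL yB ((s.memTU.1 k).imp (fun e => s.U_le e) fun e => s.U_le e) tr
  · refine s.Six7_nTr k ?_
    rwa [← mul_assoc, ← mul_assoc, w2, one_mul]

theorem mem_D : s.w ∈ s.D := by
  by_contra hw
  obtain ⟨h1, h2⟩ := s.u_nL s.hb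
  rcases s.GX s.u with h | h
  · exact s.Six7_y hw s.fb_u.2.1 s.uu h1 h2 h
  · refine s.Six7_y hw (mul_mem s.fb_u.2.2.1 s.fb_u.2.1) ?_ h2 (by rwa [s.Kit1_tm]) h
    rw [mul_assoc, ← mul_assoc s.u, s.ut, mul_assoc, s.uu, mul_one, s.tt]

end Six

end Cfsg.Agent.S38
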