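import Mathlib
import Cfsg.Agent.S38.Six7

/-! An element interchanging `t` and `w`. -/

set_option autoImplicit false
set_option linter.unusedSectionVars false
set_option maxRecDepth 100000
set_option synthInstance.maxSize 100000
set_option synthInstance.maxHeartbeats 1000000

namespace Cfsg.Agent.S38

open Cfsg.Agent.Rec Cfsg.Agent.Spor Cfsg.Agent.Loc.Mss Cfsg.Agent.SF6 Subgroup
open scoped commutatorElement

variable {G : Type*} [Group G] [Finite G]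

theorem Sev0_z {x z b : G} (xz : x * z = z * x) : x * (b * z) * x⁻¹ = x * b * x⁻¹ * z := by
  calc x * (b * z) * x⁻¹ = x * b * x⁻¹ * (x * z) * x⁻¹ := by group
    _ = _ := by rw [xz]; group

theorem Sev0_step {x z a b c : G} (zz : z * z = 1) (xz : x * z = z * x) (h1 : a = b ∨ a = b * z)
    (h2 : x * b * x⁻¹ = c ∨ x * b * x⁻¹ = c * z) : x * a * x⁻¹ = c ∨ x * a * x⁻¹ = c * z := by
  rcases h1 with rfl | rfl
  · exact h2
  · rw [Sev0_z xz]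
    rcases h2 with e | e
    · exact .inr (by rw [e])
    · exact .inl (by rw [e, mul_assoc, zz, mul_one])

theorem Sev0_odd {x z t w : G} (zz : z * z = 1) (xz : x * z = z * x)
    (h1 : x * t * x⁻¹ = w ∨ x * t * x⁻¹ = w * z) (h2 : x * w * x⁻¹ = t ∨ x * w * x⁻¹ = t * z) (k : ℕ) :
    x ^ (2 * k + 1) * t * (x ^ (2 * k + 1))⁻¹ = w ∨ x ^ (2 * k + 1) * t * (x ^ (2 * k + 1))⁻¹ = w * z := by
  induction k with
  | zero => simpa using h1
  | succ k ih =>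
    have e : x ^ (2 * (k + 1) + 1) * t * (x ^ (2 * (k + 1) + 1))⁻¹ =
        x * (x * (x ^ (2 * k + 1) * t * (x ^ (2 * k + 1))⁻¹) * x⁻¹) * x⁻¹ := by group
    rw [e]
    exact Sev0_step zz xz (Sev0_step zz xz ih h2) h1

namespace Six

variable (s : Six G)

theorem Sev0_facts : s.z * s.z = 1 ∧ s.z ≠ 1 ∧ s.z ∈ s.U ∧ s.z ∈ s.B ∧ s.z1 * s.z ∈ s.B ∧ s.z2 * s.z ∈ s.B ∧
    s.z ≠ s.z1 ∧ s.z ≠ s.z2 ∧ s.z1 * s.z ≠ 1 ∧ s.z1 * s.z ≠ s.z1 ∧ s.z2 * s.z ≠ 1 ∧ s.z2 * s.z ≠ s.z2 ∧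
    s.t ∈ s.TU ∧ s.z ∈ s.TU ∧ (∀ d ∈ s.Om, d * s.z ∈ s.B) ∧
    ∀ d ∈ s.Om, d * s.z ∈ s.Om → d = s.t ∨ d = s.t * s.z :=
  s.hL.decide s.rep (by decide +kernel)

theorem Sev0_nT {m : G} (hm : m ∈ 𝐍[s.T]) : m * s.t * m⁻¹ = s.t ∨ m * s.t * m⁻¹ = s.t * s.z := by
  have hD := s.D_conj s.tD m
  have h := s.ZT_eq (conj_mem_of_norm hm s.fb_u.2.2.1) fun y hy => by
    calc m * s.t * m⁻¹ * y = m * (s.t * (m⁻¹ * y * m)) * m⁻¹ := by group
      _ = _ := by rw [← (s.T_comm (conj_mem_of_norm' hm hy)).1]; group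
  rcases s.memZT.1 h with e | e | e | e
  · exact (s.D_nL hD (e ▸ one_mem _)).elim
  · exact .inl e
  · exact (s.D_nL hD (e ▸ s.U_le s.Sev0_facts.2.2.1)).elim
  · exact .inr e

theorem Sev0_syl : Syl 2 s.S1 𝐍[s.T] := by
  refine Syl.of_maximal s.pgS1 s.S1_norm.2.1 fun P hP h1 h2 x hx => ?_
  have hT := s.S0_norm.2.2.2.2.2
  rcases s.Sev0_nT (h2 hx) with e | e
  · exact hT (s.pg_cent hP (hT.trans h1) hx (mul_inv_eq_iff_eq_mul.1 e))
  · refine s.memS1.2 (.inr (s.pg_cent hP (hT.trans h1)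
      (mul_mem (h1 (mem_sup_right (mem_zpowers _))) hx) (mul_inv_eq_iff_eq_mul.1 ?_)))
    calc s.w * x * s.t * (s.w * x)⁻¹ = s.w * (x * s.t * x⁻¹) * s.w⁻¹ := by group
      _ = s.t := by rw [e, Sev0_z s.w_comm.2.2.1, s.wt, mul_assoc, s.Sev0_facts.1, mul_one]

theorem Sev0_y : ∃ y ∈ 𝐍[s.S1], y * s.w * y⁻¹ = s.t ∨ y * s.w * y⁻¹ = s.t * s.z := by
  have zz := s.Sev0_facts.1
  obtain ⟨g, e1, e2⟩ := s.toT s.mem_D (P := s.S1 ⊓ centralizer {s.w}) (s.pgS1.to_le inf_le_left)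
    fun x hx => mem_centralizer_singleton_iff.1 hx.2
  have k : ∀ x ∈ s.S1, x ∉ centralizer {s.w} → x * s.w * x⁻¹ = s.w * s.z := fun x hx hn =>
    (s.S1_w hx).resolve_left fun e => hn (mem_centralizer_singleton_iff.2 (mul_inv_eq_iff_eq_mul.1 e))
  have c1 := FB.two_le (H := s.S1) (K := centralizer {s.w}) fun x hx y hy nx ny =>
    mem_centralizer_singleton_iff.2 (mul_inv_eq_iff_eq_mul.1 (by
      calc x * y * s.w * (x * y)⁻¹ = x * (y * s.w * y⁻¹) * x⁻¹ := by group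
        _ = s.w := by rw [k y hy ny, Sev0_z (s.S1_z hx), k x hx nx, mul_assoc, zz, mul_one]))
  have e3 : cj(g, s.S1 ⊓ centralizer {s.w}) = s.T :=
    GT.PG.eq_of_le_of_card_le e2 (by rw [card_cj, (s.gT s.hb).2]; rw [s.cardS1] at c1; omega)
  have n1 : s.S1 ≤ 𝐍[s.S1 ⊓ centralizer {s.w}] := fun x hx => FB.nrm fun r hr =>
    ⟨s.S1.mul_mem (s.S1.mul_mem hx hr.1) (s.S1.inv_mem hx), mem_centralizer_singleton_iff.2 (by
      have h1 : r * s.w = s.w * r := mem_centralizer_singleton_iff.1 hr.2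
      have h2 : r * (x⁻¹ * s.w * x⁻¹⁻¹) = x⁻¹ * s.w * x⁻¹⁻¹ * r := by
        rcases s.S1_w (inv_mem hx) with e | e
        · rw [e, h1]
        · rw [e, ← mul_assoc, h1, mul_assoc, s.S1_z hr.1, mul_assoc]
      calc x * r * x⁻¹ * s.w = x * (r * (x⁻¹ * s.w * x⁻¹⁻¹)) * x⁻¹ := by group
        _ = _ := by rw [h2]; group)⟩
  obtain ⟨m, hm, e4⟩ := s.Sev0_syl.conj_le (pg_cj s.pgS1 g) (by rw [← e3, ← cj_norm]; exact cj_mono _ n1)
  rw [cj_cj] at e4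
  refine ⟨m * g, mem_norm_of_cj_le e4, ?_⟩
  have e5 : m * g * s.w * (m * g)⁻¹ = m * s.t * m⁻¹ := by rw [← e1]; group
  rw [e5]
  exact s.Sev0_nT hm

theorem Sev0_d {d : G} (hd : d ∈ s.D) (h : d ∈ s.S1) (hz : d * s.z ∈ s.D) :
    (d = s.t ∨ d = s.t * s.z) ∨ d = s.w ∨ d = s.w * s.z := by
  obtain ⟨-, z1, -, b1, b2, b3, n1, n2, n3, n4, n5, n6, -, -, k1, k2⟩ := s.Sev0_facts
  rcases s.D_S1 hd h with e | e | e | e | e | e | e
  · exact .inl (k2 d e (s.D_B hz (k1 d e)))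
  · exact .inr (.inl e)
  · exact .inr (.inr e)
  · exact ((s.D_u b1 (e ▸ hz)).elim z1 n1).elim
  · rw [e, mul_assoc] at hz
    exact ((s.D_u b2 hz).elim n3 n4).elim
  · exact ((s.D_v b1 (e ▸ hz)).elim z1 n2).elim
  · rw [e, mul_assoc] at hz
    exact ((s.D_v b3 hz).elim n5 n6).elim

include s in
theorem exists_sev : Nonempty (Sev G) := by
  obtain ⟨zz, z1, -, -, -, -, -, -, -, -, -, -, tT, zT, -⟩ := s.Sev0_facts
  obtain ⟨y, hy, e⟩ := s.Sev0_y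
  have hT := s.S0_norm.2.2.2.2.2
  have hx := inv_mem hy
  have xz : y⁻¹ * s.z = s.z * y⁻¹ := mul_inv_eq_iff_eq_mul.1
    ((s.Z_S1 (conj_mem_of_norm hx (hT (s.TU_le zT))) fun r hr => by
      calc y⁻¹ * s.z * y⁻¹⁻¹ * r = y⁻¹ * (s.z * (y * r * y⁻¹)) * y := by group
        _ = _ := by rw [← s.S1_z (conj_mem_of_norm hy hr)]; group).resolve_left
      fun e => z1 (conj_eq_one_iff.1 e))
  have xt : y⁻¹ * s.t * y⁻¹⁻¹ = s.w ∨ y⁻¹ * s.t * y⁻¹⁻¹ = s.w * s.z := by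
    refine Sev0_step (b := y * s.w * y⁻¹) zz xz ?_ (.inl (by group))
    rcases e with e | e
    · exact .inl e.symm
    · exact .inr (by rw [e, mul_assoc, zz, mul_one])
  generalize y⁻¹ = x at hx xz xt
  have xw : x * s.w * x⁻¹ = s.t ∨ x * s.w * x⁻¹ = s.t * s.z := by
    refine (s.Sev0_d (s.D_conj s.mem_D x) (conj_mem_of_norm hx (mem_sup_right (mem_zpowers _))) ?_).resolve_right
      fun h => s.w_nT ?_
    · rw [← Sev0_z xz]
      exact s.D_conj (IsConj.trans s.mem_D s.u_w.2.2.2.2.1.symm) x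
    · have h1 : x * s.w * x⁻¹ = x * s.t * x⁻¹ ∨ x * s.w * x⁻¹ = x * (s.t * s.z) * x⁻¹ := by
        rw [Sev0_z xz]
        rcases h with h | h <;> rcases xt with k | k <;> rw [h, k]
        · exact .inl rfl
        · exact .inr (by rw [mul_assoc, zz, mul_one])
        · exact .inr rfl
        · exact .inl rfl
      rcases h1 with h1 | h1 <;> rw [mul_left_cancel (mul_right_cancel h1)]
      · exact s.TU_le tT
      · exact s.TU_le (mul_mem tT zT)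
  obtain ⟨n, m, ⟨k, rfl⟩, hn⟩ := Nat.exists_eq_two_pow_mul_odd (orderOf_pos x).ne'
  exact ⟨⟨s, x ^ (2 * k + 1), s.mem_D, ⟨n, by rw [← pow_mul, mul_comm, ← hn, pow_orderOf_eq_one]⟩, pow_mem hx _,
    Sev0_odd zz xz xt xw k, Sev0_odd zz xz xw xt k, (Commute.pow_left xz _ :)⟩⟩

end Six

end Cfsg.Agent.S38
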