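import Mathlib
import Cfsg.Agent.S38.Six6

/-! The action of `x`. -/

set_option autoImplicit false
set_option linter.unusedSectionVars false
set_option maxRecDepth 100000
set_option synthInstance.maxSize 100000
set_option synthInstance.maxHeartbeats 1000000

namespace Cfsg.Agent.S38

open Cfsg.Agent.Rec Cfsg.Agent.Spor Cfsg.Agent.Loc.Mss Cfsg.Agent.SF6 Subgroup
open scoped commutatorElement

variable {G : Type*} [Group G] [Finite G]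

theorem Sev1_four {α : Type*} {a b c d e f g h y : α} (he : e = a ∨ e = b ∨ e = c ∨ e = d)
    (hf : f = a ∨ f = b ∨ f = c ∨ f = d) (hg : g = a ∨ g = b ∨ g = c ∨ g = d) (hh : h = a ∨ h = b ∨ h = c ∨ h = d)
    (n1 : e ≠ f) (n2 : e ≠ g) (n3 : e ≠ h) (n4 : f ≠ g) (n5 : f ≠ h) (n6 : g ≠ h)
    (hy : y = a ∨ y = b ∨ y = c ∨ y = d) : y = e ∨ y = f ∨ y = g ∨ y = h := by
  classical
  have k : ({e, f, g, h} : Finset α) = {a, b, c, d} := by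
    refine Finset.eq_of_subset_of_card_le (fun x hx => ?_) ?_
    · simp only [Finset.mem_insert, Finset.mem_singleton] at hx ⊢
      rcases hx with rfl | rfl | rfl | rfl <;> assumption
    · rw [Finset.card_eq_four.2 ⟨e, f, g, h, n1, n2, n3, n4, n5, n6, rfl⟩]
      exact Finset.card_le_four
  have : y ∈ ({e, f, g, h} : Finset α) := by
    rw [k]
    simpa only [Finset.mem_insert, Finset.mem_singleton] using hy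
  simpa only [Finset.mem_insert, Finset.mem_singleton] using this

namespace Six

variable (s : Six G)

/-- `y` normalises `S1` and swaps the pairs `{t, t z}` and `{w, w z}`. -/
def Sev1Sw (y : G) : Prop := y ∈ 𝐍[s.S1] ∧ (y * s.t * y⁻¹ = s.w ∨ y * s.t * y⁻¹ = s.w * s.z) ∧
  (y * s.w * y⁻¹ = s.t ∨ y * s.w * y⁻¹ = s.t * s.z) ∧ y * s.z = s.z * y

theorem Sev1_dec : s.z * s.z = 1 ∧ s.z ∈ s.B ∧ s.z ∈ s.T ∧ s.R ≤ s.T ∧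
    (s.t * s.a1 ∈ s.R ∧ s.t * s.a2 ∈ s.R ∧ s.t * s.a3 ∈ s.R ∧ s.t * s.a4 ∈ s.R) ∧
    (s.t * s.a1 ∈ s.B ∧ s.t * s.a2 ∈ s.B ∧ s.t * s.a3 ∈ s.B ∧ s.t * s.a4 ∈ s.B) ∧
    (s.u ∈ s.F ∧ s.u * s.z1 ∈ s.F ∧ s.v ∈ s.F ∧ s.v * s.z2 ∈ s.F) ∧ (∀ d ∈ s.Om, d ∈ s.B) ∧
    (s.t * s.a1 ≠ s.t * s.a2 ∧ s.t * s.a1 ≠ s.t * s.a3 ∧ s.t * s.a1 ≠ s.t * s.a4 ∧ s.t * s.a2 ≠ s.t * s.a3 ∧
      s.t * s.a2 ≠ s.t * s.a4 ∧ s.t * s.a3 ≠ s.t * s.a4) ∧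
    (∀ r ∈ s.F, ∀ p ∈ s.B, r * p * r⁻¹ * p⁻¹ ∈ s.J1) ∧
    s.z1 = s.t * s.a1 * s.u * (s.t * s.a1)⁻¹ * s.u⁻¹ ∧ s.z2 = s.t * s.a3 * s.v * (s.t * s.a3)⁻¹ * s.v⁻¹ ∧
    (∀ y ∈ s.R, y * y = 1 → y * s.z1 ≠ s.z1 * y → y ∈ s.Q) ∧ s.q ∈ s.R ∧ s.q * s.q = 1 ∧
    (∀ j ∈ s.J1, s.q * j = j * s.q → j = 1 ∨ j = s.z) ∧ s.z1 ∈ s.J1 ∧ s.z1 ≠ 1 ∧ s.z1 ≠ s.z ∧ s.t ∈ s.T := by
  have k : s.z * s.z = 1 ∧ s.z ∈ s.B ∧ s.z ∈ s.T ∧ (∀ r ∈ s.R, r ∈ s.T) ∧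
    (s.t * s.a1 ∈ s.R ∧ s.t * s.a2 ∈ s.R ∧ s.t * s.a3 ∈ s.R ∧ s.t * s.a4 ∈ s.R) ∧
    (s.t * s.a1 ∈ s.B ∧ s.t * s.a2 ∈ s.B ∧ s.t * s.a3 ∈ s.B ∧ s.t * s.a4 ∈ s.B) ∧
    (s.u ∈ s.F ∧ s.u * s.z1 ∈ s.F ∧ s.v ∈ s.F ∧ s.v * s.z2 ∈ s.F) ∧ (∀ d ∈ s.Om, d ∈ s.B) ∧
    (s.t * s.a1 ≠ s.t * s.a2 ∧ s.t * s.a1 ≠ s.t * s.a3 ∧ s.t * s.a1 ≠ s.t * s.a4 ∧ s.t * s.a2 ≠ s.t * s.a3 ∧
      s.t * s.a2 ≠ s.t * s.a4 ∧ s.t * s.a3 ≠ s.t * s.a4) ∧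
    (∀ r ∈ s.F, ∀ p ∈ s.B, r * p * r⁻¹ * p⁻¹ ∈ s.J1) ∧
    s.z1 = s.t * s.a1 * s.u * (s.t * s.a1)⁻¹ * s.u⁻¹ ∧ s.z2 = s.t * s.a3 * s.v * (s.t * s.a3)⁻¹ * s.v⁻¹ ∧
    (∀ y ∈ s.R, y * y = 1 → y * s.z1 ≠ s.z1 * y → y ∈ s.Q) ∧ s.q ∈ s.R ∧ s.q * s.q = 1 ∧
    (∀ j ∈ s.J1, s.q * j = j * s.q → j = 1 ∨ j = s.z) ∧ s.z1 ∈ s.J1 ∧ s.z1 ≠ 1 ∧ s.z1 ≠ s.z ∧ s.t ∈ s.T :=
    (s.toCf.hY s.hb).decide (s.toCf.repY s.hb) (by decide +kernel)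
  exact k

variable {s}

theorem Sev1Sw.inv {y : G} (h : s.Sev1Sw y) : s.Sev1Sw y⁻¹ := by
  obtain ⟨h1, h2, h3, h4⟩ := h
  have zz := s.Sev1_dec.1
  have hz : y⁻¹ * s.z = s.z * y⁻¹ := (show Commute y s.z from h4).inv_left.eq
  have k : ∀ a b : G, (y * a * y⁻¹ = b ∨ y * a * y⁻¹ = b * s.z) → y⁻¹ * b * y⁻¹⁻¹ = a ∨ y⁻¹ * b * y⁻¹⁻¹ = a * s.z := by
    rintro a b (e | e)
    · left; rw [← e]; group
    · right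
      have : b = y * a * y⁻¹ * s.z := by rw [e, mul_assoc, zz, mul_one]
      rw [this, mul_assoc (y * a), hz]; group
  exact ⟨inv_mem h1, k _ _ h3, k _ _ h2, hz⟩

theorem Sev1Sw.conj_R {y r : G} (h : s.Sev1Sw y) (hr : r ∈ s.R) : y * r * y⁻¹ ∈ s.R := by
  obtain ⟨h1, h2, h3, h4⟩ := h
  obtain ⟨r1, r2, r3⟩ := s.memR.1 hr
  have hS := conj_mem_of_norm h1 r1
  have hz : Commute (y * r * y⁻¹) s.z := s.S1_z hS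
  have k : ∀ a b : G, r * a = a * r → (y * a * y⁻¹ = b ∨ y * a * y⁻¹ = b * s.z) →
      y * r * y⁻¹ * b = b * (y * r * y⁻¹) := by
    intro a b c e
    have c' : Commute (y * r * y⁻¹) (y * a * y⁻¹) := (show Commute r a from c).conj y
    rcases e with e | e
    · rwa [e] at c'
    · rw [e] at c'
      simpa using (c'.mul_right hz.inv_right).eq
  exact s.memR.2 ⟨hS, k _ _ r3 h3, k _ _ r2 h2⟩

theorem Sev1_Trz : s.Tr (s.w * s.z) := by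
  obtain ⟨-, zB, -, -, -, -, -, hO, -⟩ := s.Sev1_dec
  have k : ∀ d ∈ s.Om, (s.w * s.z * d ≠ d * (s.w * s.z) ↔ s.w * d ≠ d * s.w) := fun d hd => by
    rw [mul_assoc, s.B_comm zB (hO d hd), ← mul_assoc, ← mul_assoc, ne_eq, ne_eq, mul_left_inj]
  obtain ⟨⟨d, hd, h1⟩, h2⟩ := s.Tr_w
  exact ⟨⟨d, hd, (k d hd).2 h1⟩, fun d hd d' hd' d'' hd'' a b c =>
    h2 d hd d' hd' d'' hd'' ((k _ hd).1 a) ((k _ hd').1 b) ((k _ hd'').1 c)⟩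

theorem Sev1_P4 {d : G} (hd : s.P4 d) : d ∈ s.R ∧ d ∈ s.B ∧ d ∈ s.Om := by
  obtain ⟨-, -, -, -, ⟨a1, a2, a3, a4⟩, ⟨b1, b2, b3, b4⟩, -⟩ := s.Sev1_dec
  rw [s.memOm]
  rcases hd with rfl | rfl | rfl | rfl <;> simp [*]

theorem Sev1Sw.p4 {y d : G} (h : s.Sev1Sw y) (hd : s.P4 d) : s.R4 (y * d * y⁻¹) := by
  obtain ⟨dR, -, dO⟩ := Sev1_P4 hd
  obtain ⟨-, zB, zT, RT, -⟩ := s.Sev1_dec
  have hR := h.conj_R dR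
  rcases s.D_S1 (s.D_conj (Cf.H6.omD _ s.h6 dO) y) (s.memR.1 hR).1 with e | e | e | e
  · exfalso
    obtain ⟨m1, n1, e1⟩ := Cf.H6.onto _ s.h6 dO
    obtain ⟨m2, n2, e2⟩ := Cf.H6.onto _ s.h6 e
    have kt : m2⁻¹ * y * m1 * s.t = s.t * (m2⁻¹ * y * m1) := by
      calc _ = m2⁻¹ * (y * (m1 * s.t * m1⁻¹) * y⁻¹) * (y * m1) := by group
        _ = _ := by rw [e1, ← e2]; group
    have kN := (s.C_norm kt).1
    have hb : m1⁻¹ * s.t * m1⁻¹⁻¹ ∈ s.B := conj_mem_of_norm (inv_mem n1) s.mems.1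
    have ew : m2⁻¹ * (y * s.t * y⁻¹) * m2⁻¹⁻¹ = m2⁻¹ * y * m1 * (m1⁻¹ * s.t * m1⁻¹⁻¹) * (m2⁻¹ * y * m1)⁻¹ := by group
    have hT : y * s.t * y⁻¹ ∈ 𝐍[s.B] ∧ s.Tr (y * s.t * y⁻¹) := by
      rcases h.2.1 with e | e <;> rw [e]
      exacts [⟨s.w_norm.2.1, s.Tr_w⟩, ⟨mul_mem s.w_norm.2.1 (le_normalizer zB), Sev1_Trz⟩]
    refine s.Tr_tL (mul_mem (mul_mem (inv_mem n2) hT.1) (inv_mem (inv_mem n2))) ?_
      (s.Tr_conj s.h6 (inv_mem n2) hT.2)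
    rw [ew]
    rcases s.memB.1 hb with a | a
    · exact .inl (conj_mem_of_norm kN (s.A_le a))
    · refine .inr ?_
      have := conj_mem_of_norm kN (s.A_le a)
      rwa [← mul_assoc, kt, mul_assoc s.t, mul_assoc s.t] at this
  · exact absurd (e ▸ RT hR) s.w_nT
  · exact absurd ((mul_mem_cancel_right zT).1 (e ▸ RT hR)) s.w_nT
  · exact e

theorem Sev1Sw.r4 {y d : G} (h : s.Sev1Sw y) (hd : s.R4 d) : s.P4 (y * d * y⁻¹) := by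
  obtain ⟨-, -, -, -, -, -, -, -, ⟨n1, n2, n3, n4, n5, n6⟩, -⟩ := s.Sev1_dec
  have i : ∀ {a b : G}, a ≠ b → y⁻¹ * a * y⁻¹⁻¹ ≠ y⁻¹ * b * y⁻¹⁻¹ := fun n e =>
    n (mul_left_cancel (mul_right_cancel e))
  have k := Sev1_four (h.inv.p4 (.inl rfl)) (h.inv.p4 (.inr (.inl rfl))) (h.inv.p4 (.inr (.inr (.inl rfl))))
    (h.inv.p4 (.inr (.inr (.inr rfl)))) (i n1) (i n2) (i n3) (i n4) (i n5) (i n6) hd
  have j : ∀ a : G, y * (y⁻¹ * a * y⁻¹⁻¹) * y⁻¹ = a := fun a => by group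
  rcases k with rfl | rfl | rfl | rfl <;> rw [j]
  exacts [.inl rfl, .inr (.inl rfl), .inr (.inr (.inl rfl)), .inr (.inr (.inr rfl))]

theorem Sev1Sw.j1 {y : G} (h : s.Sev1Sw y) : y ∈ 𝐍[s.J1] := by
  obtain ⟨-, -, -, -, -, -, ⟨f1, f2, f3, f4⟩, -, -, hc, e1, e2, -⟩ := s.Sev1_dec
  have k : ∀ a b : G, s.P4 a → s.R4 b → y * (a * b * a⁻¹ * b⁻¹) * y⁻¹ ∈ s.J1 := fun a b ha hb => by
    have hF : y * a * y⁻¹ ∈ s.F := by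
      rcases h.p4 ha with e | e | e | e <;> rw [e] <;> assumption
    have := hc _ hF _ (Sev1_P4 (h.r4 hb)).2.1
    convert this using 1
    group
  refine FB.nrm (conj_clos_mem ?_)
  simp only [List.forall_mem_cons, List.not_mem_nil, false_imp_iff, implies_true, and_true]
  exact ⟨e1 ▸ k _ _ (.inl rfl) (.inl rfl), e2 ▸ k _ _ (.inr (.inr (.inl rfl))) (.inr (.inr (.inl rfl)))⟩

end Six

namespace Sev

variable (s : Sev G)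

theorem Sev1_sw : s.Sev1Sw s.x := ⟨s.xS, s.xt, s.xw, s.xz⟩

theorem x_R : s.x ∈ 𝐍[s.R] := FB.nrm fun _ hr => s.Sev1_sw.conj_R hr
theorem x_P4 {d : G} (hd : s.P4 d) : s.R4 (s.x * d * s.x⁻¹) := s.Sev1_sw.p4 hd
theorem x_R4 {d : G} (hd : s.R4 d) : s.P4 (s.x * d * s.x⁻¹) := s.Sev1_sw.r4 hd
theorem x_J1 : s.x ∈ 𝐍[s.J1] := s.Sev1_sw.j1

theorem x_q : s.x * s.q * s.x⁻¹ ∈ s.Q := by
  obtain ⟨-, -, -, -, -, -, -, -, -, -, -, -, hQ, qR, qq, hj, zJ, n1, n2, -⟩ := s.Sev1_dec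
  refine hQ _ (s.Sev1_sw.conj_R qR) (by rw [conj_mul, qq]; group) fun e => ?_
  have c : s.q * (s.x⁻¹ * s.z1 * s.x⁻¹⁻¹) = s.x⁻¹ * s.z1 * s.x⁻¹⁻¹ * s.q := by
    calc _ = s.x⁻¹ * (s.x * s.q * s.x⁻¹ * s.z1) * s.x := by group
      _ = _ := by rw [e]; group
  rcases hj _ (conj_mem_of_norm (inv_mem s.x_J1) zJ) c with h | h
  · refine n1 ?_
    calc _ = s.x * (s.x⁻¹ * s.z1 * s.x⁻¹⁻¹) * s.x⁻¹ := by group
      _ = _ := by rw [h]; group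
  · refine n2 ?_
    calc _ = s.x * (s.x⁻¹ * s.z1 * s.x⁻¹⁻¹) * s.x⁻¹ := by group
      _ = _ := by rw [h, s.xz]; group

theorem x_nS : s.x ∉ s.S1 := fun h => by
  obtain ⟨-, -, zT, -, -, -, -, -, -, -, -, -, -, -, -, -, -, -, -, tT⟩ := s.Sev1_dec
  have := conj_mem_of_norm (s.S1_norm.2.1 h) tT
  rcases s.xt with e | e <;> rw [e] at this
  exacts [s.w_nT this, s.w_nT ((mul_mem_cancel_right zT).1 this)]

theorem pgS2 : IsPGroup 2 s.S2 := by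
  refine s.pgS1.to_sup_of_normal_left' ?_ (zpowers_le.2 s.xS)
  obtain ⟨n, hn⟩ := s.x2
  rintro ⟨_, i, rfl⟩
  refine ⟨n, Subtype.ext ?_⟩
  simp only [SubgroupClass.coe_pow, OneMemClass.coe_one]
  rw [← zpow_natCast, ← zpow_mul, mul_comm, zpow_mul, zpow_natCast, hn, one_zpow]

theorem xx : s.x * s.x ∈ s.S1 := by
  have zz := s.Sev1_dec.1
  have TS : s.T ≤ s.S1 := le_sup_left
  have wS : s.w ∈ s.S1 := mem_sup_right (mem_zpowers _)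
  have xS : s.x ∈ s.S2 := mem_sup_right (mem_zpowers _)
  have SS : s.S1 ≤ s.S2 := le_sup_left
  have ez : s.x * s.z * s.x⁻¹ = s.z := by rw [s.xz]; group
  have k : s.x * s.x * s.t * (s.x * s.x)⁻¹ = s.t ∨ s.x * s.x * s.t * (s.x * s.x)⁻¹ = s.t * s.z := by
    rw [show s.x * s.x * s.t * (s.x * s.x)⁻¹ = s.x * (s.x * s.t * s.x⁻¹) * s.x⁻¹ by group]
    rcases s.xt with e | e <;> rw [e]
    · exact s.xw
    · rw [← conj_mul, ez]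
      rcases s.xw with e | e <;> rw [e]
      exacts [.inr rfl, .inl (by rw [mul_assoc, zz, mul_one])]
  rcases k with e | e
  · exact TS (s.pg_cent s.pgS2 (TS.trans SS) (mul_mem xS xS) (mul_inv_eq_iff_eq_mul.1 e))
  · refine (mul_mem_cancel_left wS).1 (TS (s.pg_cent s.pgS2 (TS.trans SS) (mul_mem (SS wS) (mul_mem xS xS))
      (mul_inv_eq_iff_eq_mul.1 ?_)))
    calc _ = s.w * (s.x * s.x * s.t * (s.x * s.x)⁻¹) * s.w⁻¹ := by group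
      _ = s.w * s.t * s.w⁻¹ * (s.w * s.z * s.w⁻¹) := by rw [e]; group
      _ = _ := by rw [s.wt, s.w_comm.2.2.1, mul_inv_cancel_right, mul_assoc, zz, mul_one]

theorem memS2 {y : G} : y ∈ s.S2 ↔ y ∈ s.S1 ∨ s.x * y ∈ s.S1 := FG.ZL.mem_ext s.xS s.xx

theorem cardS2 : Nat.card s.S2 = 1024 := by
  rw [Sev.S2, FG.ZL.card_ext s.xS s.xx s.x_nS, s.cardS1]

theorem S2_z {y : G} (hy : y ∈ s.S2) : y * s.z = s.z * y := by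
  rcases s.memS2.1 hy with h | h
  · exact s.S1_z h
  · refine mul_left_cancel (a := s.x) ?_
    rw [← mul_assoc, s.S1_z h, ← mul_assoc, ← mul_assoc, s.xz]

end Sev

end Cfsg.Agent.S38
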