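import Mathlib
import Cfsg.Agent.S38.Sev1

/-! Normal subgroups of `S2`. -/

set_option autoImplicit false
set_option linter.unusedSectionVars false
set_option maxRecDepth 100000
set_option synthInstance.maxSize 100000
set_option synthInstance.maxHeartbeats 1000000

namespace Cfsg.Agent.S38

open Cfsg.Agent.Rec Cfsg.Agent.Spor Cfsg.Agent.Loc.Mss Cfsg.Agent.SF6 Subgroup
open scoped commutatorElement

variable {G : Type*} [Group G] [Finite G]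

theorem Sev2_sup {K R : Subgroup G} {g y : G} (h : ∀ r ∈ K, g * r * g⁻¹ ∈ R) (hy : g * y * g⁻¹ ∈ R) :
    ∀ r ∈ K ⊔ zpowers y, g * r * g⁻¹ ∈ R := fun _ hr =>
  (sup_le (c := R.comap (MulAut.conj g).toMonoidHom) h (zpowers_le.2 hy)) hr

/-- The elements that normalise `J` and fix `ρ` modulo `J`. -/
def Sev2_fix (J : Subgroup G) (ρ : G) : Subgroup G where
  carrier := {y | y ∈ 𝐍[J] ∧ y * ρ * y⁻¹ * ρ⁻¹ ∈ J}
  one_mem' := ⟨one_mem _, by simp⟩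
  mul_mem' := fun {a b} ha hb => ⟨mul_mem ha.1 hb.1, by
    rw [show a * b * ρ * (a * b)⁻¹ * ρ⁻¹ = a * (b * ρ * b⁻¹ * ρ⁻¹) * a⁻¹ * (a * ρ * a⁻¹ * ρ⁻¹) by group]
    exact mul_mem (conj_mem_of_norm ha.1 hb.2) ha.2⟩
  inv_mem' := fun {a} ha => ⟨inv_mem ha.1, by
    rw [show a⁻¹ * ρ * a⁻¹⁻¹ * ρ⁻¹ = a⁻¹ * (a * ρ * a⁻¹ * ρ⁻¹)⁻¹ * a by group]
    exact conj_mem_of_norm' ha.1 (inv_mem ha.2)⟩

namespace Cf

variable (s : Cf G)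

theorem Sev2_a (hb : s.Be) : (∀ j ∈ s.J1, s.u * (s.u * j) ∈ s.U ∧ s.u * (s.v * j) ∈ s.U ∧
      s.u * (s.z * (s.u * j)) ∈ s.U ∧ s.u * (s.z * (s.v * j)) ∈ s.U) ∧
    (∀ d ∈ s.Om, ∀ e ∈ s.Om, d * e ∈ s.U) ∧ s.a1 = s.t * (s.t * s.a1) ∧ s.p = s.u * s.v ∧ s.z ∈ s.U ∧
    s.p * s.b = s.u * s.v * (s.t * s.a1) * (s.t * s.a3) ∧ s.u * (s.t * s.a1) ≠ s.t * s.a1 * s.u ∧
    s.v * (s.t * s.a3) ≠ s.t * s.a3 * s.v ∧ s.t * s.a1 * (s.t * s.a3) ∉ s.J1 ∧ s.t * (s.p * s.b) ∈ s.T :=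
  (s.hY hb).decide (s.repY hb) (by decide +kernel)

theorem Sev2_b (hb : s.Be) : (∀ y ∈ s.T, y * (s.t * (s.p * s.b)) * y⁻¹ * (s.t * (s.p * s.b))⁻¹ ∈ s.J1) ∧
    (∀ i ∈ s.J1, ∀ j ∈ s.J1, s.u * i * (s.u * j) ∈ s.J1 ∧ s.v * i * (s.v * j) ∈ s.J1) ∧
    ∀ d ∈ s.Om, ∀ e ∈ s.Om, ∀ i ∈ s.J1, ∀ j ∈ s.J1,
      (d * (s.u * i) ≠ s.u * i * d → e * (s.v * j) ≠ s.v * j * e →
        d * e * (s.u * i) * (s.v * j) * (s.p * s.b)⁻¹ ∈ s.J1) ∧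
      (d * (s.v * i) ≠ s.v * i * d → e * (s.u * j) ≠ s.u * j * e →
        d * e * (s.v * i) * (s.u * j) * (s.p * s.b)⁻¹ ∈ s.J1) :=
  (s.hY hb).decide (s.repY hb) (by decide +kernel)

end Cf

namespace Sev

variable (s : Sev G)

theorem Sev2_P {d : G} (hd : s.P4 d) : d ∈ s.Om := s.memOm.2 (by
  rcases hd with h | h | h | h <;> simp only [h, true_or, or_true])

theorem Sev2_R {d : G} (hd : s.R4 d) : ∃ j ∈ s.J1, d = s.u * j ∨ d = s.v * j := by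
  obtain ⟨-, -, -, -, -, -, m1, m2, -⟩ := s.mems
  rcases hd with h | h | h | h
  · exact ⟨1, one_mem _, .inl (by rw [h, mul_one])⟩
  · exact ⟨_, m1, .inl h⟩
  · exact ⟨1, one_mem _, .inr (by rw [h, mul_one])⟩
  · exact ⟨_, m2, .inr h⟩

theorem Sev2_cj (a b : G) : s.x * (a * b) * s.x⁻¹ = s.x * a * s.x⁻¹ * (s.x * b * s.x⁻¹) := by group

theorem Sev2_xw : s.x * s.w * s.x⁻¹ ∈ s.Om := s.memOm.2 (by
  rcases s.xw with h | h <;> simp only [h, true_or, or_true])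

theorem Sev2_tw : ∃ j ∈ s.J1, j ∈ s.U ∧ s.x * (s.w * s.t) * s.x⁻¹ = j * (s.w * s.t) := by
  obtain ⟨-, -, -, -, hz, -⟩ := s.Sev2_a s.hb
  have m : s.z ∈ s.J1 := s.mems.2.2.2.2.2.1
  have c1 : s.w * s.z = s.z * s.w := s.w_comm.2.2.1
  have c2 : s.t * s.z = s.z * s.t := (s.T_comm s.fb_u.2.2.1).2
  have zz : s.z * s.z = 1 := s.B_sq (s.les.2.2.2.2.2.2.2.2.2.2.2.2.1 (s.les.2.2.2.2.2.2.2.2.2.2.2.1 m))
  have e : s.t * s.w = s.z * (s.w * s.t) := by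
    have : s.w * s.t = s.t * s.z * s.w := by rw [← s.wt, inv_mul_cancel_right]
    rw [this, c2, ← mul_assoc, ← mul_assoc, zz, one_mul]
  rw [s.Sev2_cj]
  rcases s.xw with h | h <;> rcases s.xt with k | k <;> rw [h, k]
  · exact ⟨_, m, hz, e⟩
  · exact ⟨1, one_mem _, one_mem _, by rw [c1, ← mul_assoc, c2, mul_assoc, e, ← mul_assoc, zz]⟩
  · exact ⟨1, one_mem _, one_mem _, by rw [c2, mul_assoc, e, ← mul_assoc, zz]⟩
  · refine ⟨_, m, hz, ?_⟩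
    rw [c1, ← mul_assoc, mul_assoc s.t, zz, mul_one, e]

theorem x_S0 : s.x ∈ 𝐍[s.S0] ∧ s.x ∈ 𝐍[s.N1] := by
  obtain ⟨h1, h2, e1, e2, -⟩ := s.Sev2_a s.hb
  obtain ⟨-, -, l1, -, l2, -⟩ := s.S0_norm
  have wu : s.w * s.u ∈ s.S0 := mem_sup_right (mem_zpowers _)
  have k : ∀ y, s.u * y ∈ s.U → s.w * y ∈ s.S0 := fun y hy => by
    have := mul_mem wu (l2 hy)
    rwa [mul_assoc, ← mul_assoc s.u, s.uu, one_mul] at this
  have xu := s.Sev2_P (s.x_R4 (.inl rfl))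
  have xv := s.Sev2_P (s.x_R4 (.inr (.inr (.inl rfl))))
  have k0 : ∀ r ∈ s.S0, s.x * r * s.x⁻¹ ∈ s.S0 := by
    refine Sev2_sup (conj_clos_mem ?_) ?_
    · simp only [List.forall_mem_cons, List.not_mem_nil, false_imp_iff, implies_true, and_true]
      refine ⟨?_, ?_, l2 (s.les.2.1 s.x_q)⟩
      · obtain ⟨j, hj, f⟩ := s.Sev2_R (s.x_P4 (.inl rfl))
        obtain ⟨a1, a2, a3, a4⟩ := h1 j hj
        rw [e1, s.Sev2_cj]
        rcases s.xt with g | g <;> rcases f with f | f <;> rw [g, f]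
        · exact k _ a1
        · exact k _ a2
        · rw [mul_assoc]; exact k _ a3
        · rw [mul_assoc]; exact k _ a4
      · rw [e2, s.Sev2_cj]
        exact l2 (h2 _ xu _ xv)
    · rw [s.Sev2_cj]
      exact l2 (h2 _ s.Sev2_xw _ xu)
  refine ⟨mem_normalizer_fintype k0, mem_normalizer_fintype (Sev2_sup (fun r hr => l1 (k0 r hr)) ?_)⟩
  obtain ⟨j, -, hj, e⟩ := s.Sev2_tw
  have i : (s.t * s.w)⁻¹ = s.w * s.t := by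
    rw [mul_inv_rev, inv_eq_of_mul_eq_one_right s.ww, inv_eq_of_mul_eq_one_right s.tt]
  have m : s.w * s.t ∈ s.N1 := i ▸ inv_mem (mem_sup_right (mem_zpowers _))
  rw [← inv_mem_iff, show (s.x * (s.t * s.w) * s.x⁻¹)⁻¹ = s.x * (s.t * s.w)⁻¹ * s.x⁻¹ by group, i, e]
  exact mul_mem (l1 (l2 hj)) m

theorem S2_norm : s.S2 ≤ 𝐍[s.S0] ∧ s.S2 ≤ 𝐍[s.N1] ∧ s.S2 ≤ 𝐍[s.S1] ∧ s.S2 ≤ 𝐍[s.J1] :=
  ⟨sup_le s.S0_norm.1 (zpowers_le.2 s.x_S0.1), sup_le s.S0_norm.2.1 (zpowers_le.2 s.x_S0.2),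
    sup_le le_normalizer (zpowers_le.2 s.xS), sup_le s.S1_norm.2.2.2.2.1 (zpowers_le.2 s.x_J1)⟩

theorem S2_comm : ∀ a ∈ s.S2, ∀ b ∈ s.S2, a * b * a⁻¹ * b⁻¹ ∈ s.N1 := fun a ha b hb => by
  have := normal_subgroupOf_of_le_normalizer s.S2_norm.2.1
  have hle : s.N1 ≤ s.S2 := s.S0_norm.2.2.2.1.trans le_sup_left
  have h1 := card_eq_card_quotient_mul_card_subgroup (s.N1.subgroupOf s.S2)
  rw [s.cardS2, Nat.card_congr (subgroupOfEquivOfLe hle).toEquiv, s.cardS0.2] at h1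
  have h2 := (IsPGroup.isMulCommutative_of_card_eq_prime_sq (p := 2) (G := s.S2 ⧸ s.N1.subgroupOf s.S2)
    (by omega)).is_comm.comm
  have h3 : (QuotientGroup.mk' (s.N1.subgroupOf s.S2)) (⟨a, ha⟩ * ⟨b, hb⟩ * ⟨a, ha⟩⁻¹ * ⟨b, hb⟩⁻¹) = 1 := by
    simp only [map_mul, map_inv]
    rw [h2 (QuotientGroup.mk' _ ⟨a, ha⟩)]
    group
  exact (QuotientGroup.eq_one_iff (N := s.N1.subgroupOf s.S2) _).1 h3

theorem Sev2_x : s.x * s.ρ * s.x⁻¹ * s.ρ⁻¹ ∈ s.J1 := by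
  obtain ⟨-, -, -, -, -, e, n1, n2, n3, -⟩ := s.Sev2_a s.hb
  obtain ⟨-, b1, b2⟩ := s.Sev2_b s.hb
  have nc : ∀ {a b : G}, a * b ≠ b * a →
      s.x * a * s.x⁻¹ * (s.x * b * s.x⁻¹) ≠ s.x * b * s.x⁻¹ * (s.x * a * s.x⁻¹) := fun h f => h (by
    rw [← s.Sev2_cj, ← s.Sev2_cj] at f
    simpa using f)
  have n4 : s.x * (s.t * s.a1) * s.x⁻¹ * (s.x * (s.t * s.a3) * s.x⁻¹) ∉ s.J1 := fun h => n3 (by
    rw [← s.Sev2_cj] at h
    simpa [mul_assoc] using conj_mem_of_norm' s.x_J1 h)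
  have k : s.x * (s.p * s.b) * s.x⁻¹ * (s.p * s.b)⁻¹ ∈ s.J1 := by
    have xu := s.Sev2_P (s.x_R4 (.inl rfl))
    have xv := s.Sev2_P (s.x_R4 (.inr (.inr (.inl rfl))))
    obtain ⟨i, hi, f⟩ := s.Sev2_R (s.x_P4 (.inl rfl))
    obtain ⟨j, hj, g⟩ := s.Sev2_R (s.x_P4 (.inr (.inr (.inl rfl))))
    have m1 := nc n1
    have m2 := nc n2
    rw [congrArg (fun y => s.x * y * s.x⁻¹) e, s.Sev2_cj, s.Sev2_cj, s.Sev2_cj]
    rcases f with f | f <;> rcases g with g | g <;> rw [f, g] at n4 ⊢ <;> rw [f] at m1 <;> rw [g] at m2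
    · exact (n4 (b1 i hi j hj).1).elim
    · exact (b2 _ xu _ xv i hi j hj).1 m1 m2
    · exact (b2 _ xu _ xv i hi j hj).2 m1 m2
    · exact (n4 (b1 i hi j hj).2).elim
  obtain ⟨j, hj, -, f⟩ := s.Sev2_tw
  have n : s.w * s.t ∈ 𝐍[s.J1] :=
    s.S1_norm.2.2.2.2.1 (mul_mem (mem_sup_right (mem_zpowers _)) (mem_sup_left s.fb_u.2.2.1))
  rw [Six.ρ, s.Sev2_cj (s.w * s.t), f, show ∀ a b c : G, j * a * b * (a * c)⁻¹ = j * (a * (b * c⁻¹) * a⁻¹) from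
    fun _ _ _ => by group]
  exact mul_mem hj (conj_mem_of_norm n k)

theorem Sev2_le : s.S2 ≤ Sev2_fix s.J1 s.ρ := by
  have hm := (s.Sev2_a s.hb).2.2.2.2.2.2.2.2.2
  have hz : s.z ∈ s.J1 := s.mems.2.2.2.2.2.1
  have nJ := s.S1_norm.2.2.2.2.1
  have hw : s.w ∈ s.S1 := mem_sup_right (mem_zpowers _)
  have e : s.ρ = s.w * (s.t * (s.p * s.b)) := mul_assoc _ _ _
  refine sup_le (sup_le (fun y hy => ⟨nJ (mem_sup_left hy), ?_⟩) (zpowers_le.2 ⟨nJ hw, ?_⟩))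
    (zpowers_le.2 ⟨s.x_J1, s.Sev2_x⟩)
  · have k := (s.Sev2_b s.hb).1 y hy
    rw [e, show ∀ m : G, y * (s.w * m) * y⁻¹ * (s.w * m)⁻¹ = y * s.w * y⁻¹ * (y * m * y⁻¹ * m⁻¹) * s.w⁻¹ from
      fun _ => by group]
    rcases s.S1_w (mem_sup_left hy) with f | f <;> rw [f]
    · exact conj_mem_of_norm (nJ hw) k
    · rw [mul_assoc s.w]
      exact conj_mem_of_norm (nJ hw) (mul_mem hz k)
  · rw [e, show ∀ m : G, s.w * (s.w * m) * s.w⁻¹ * (s.w * m)⁻¹ = s.w * (s.w * m * s.w⁻¹ * m⁻¹) * s.w⁻¹ from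
      fun _ => by group]
    refine conj_mem_of_norm (nJ hw) ?_
    rcases s.w_act hm with f | f <;> rw [f.2]
    · rw [mul_inv_cancel]; exact one_mem _
    · exact conj_mem_of_norm (nJ (mem_sup_left hm)) hz

theorem S2_ρ {y : G} (hy : y ∈ s.S2) : y * s.ρ * y⁻¹ * s.ρ ∈ s.J1 := by
  have := (s.Sev2_le hy).2
  rwa [inv_eq_of_mul_eq_one_right s.nmem.2.2.2.2.1] at this

theorem card_Cρ {H : Subgroup G} (hH : H ≤ s.S2) : Nat.card H ≤ 4 * Nat.card ↥(H ⊓ centralizer {s.ρ}) := by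
  have h1 : (centralizer {s.ρ}).relIndex H ≤ 4 := by
    rw [← Kt3_orb, ← s.gJ1.2, ← SetLike.coe_sort_coe, Nat.card_coe_set_eq]
    refine (Set.ncard_le_ncard ?_).trans (Set.ncard_image_le (f := (· * s.ρ)))
    rintro _ ⟨g, hg, rfl⟩
    exact ⟨_, (s.Sev2_le (hH hg)).2, inv_mul_cancel_right _ _⟩
  have h2 := ((centralizer {s.ρ}).subgroupOf H).index_mul_card
  rw [← h2, ← inf_subgroupOf_left, Nat.card_congr (subgroupOfEquivOfLe inf_le_left).toEquiv, inf_subgroupOf_left]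
  exact Nat.mul_le_mul_right _ h1

end Sev

end Cfsg.Agent.S38
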