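import Mathlib
import Cfsg.Agent.S38.Sev1

/-! Elements of `S2` outside `S1` have small centralisers. -/

set_option autoImplicit false
set_option linter.unusedSectionVars false
set_option maxRecDepth 100000
set_option synthInstance.maxSize 100000
set_option synthInstance.maxHeartbeats 1000000

namespace Cfsg.Agent.S38

open Cfsg.Agent.Rec Cfsg.Agent.Spor Cfsg.Agent.Loc.Mss Cfsg.Agent.SF6 Subgroup
open scoped commutatorElement

variable {G : Type*} [Group G] [Finite G]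

theorem Sev3_prod {H K S : Subgroup G} (hH : H ≤ S) (hK : K ≤ S) :
    Nat.card H * Nat.card K ≤ Nat.card S * Nat.card ↥(H ⊓ K) := by
  have h1 := Inv.Fz.card_mul_relIndex hH
  have h2 := Inv.Fz.card_mul_relIndex (inf_le_right : H ⊓ K ≤ K)
  rw [inf_relIndex_right] at h2
  have h3 : H.relIndex K ≤ H.relIndex S := relIndex_le_of_le_right hK index_ne_zero_of_finite
  rw [← h1, ← h2]
  calc _ = Nat.card H * Nat.card ↥(H ⊓ K) * H.relIndex K := by ring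
    _ ≤ Nat.card H * Nat.card ↥(H ⊓ K) * H.relIndex S := Nat.mul_le_mul_left _ h3
    _ = _ := by ring

theorem Sev3_half {M J : Subgroup G} (h : M ≤ J) (hc : Nat.card J = 4) {a : G} (ha : a ∈ J) (ha' : a ∉ M) :
    Nat.card M ≤ 2 := by
  have h1 := card_dvd_of_le h
  have h2 : Nat.card M ≠ 4 := fun e => ha' ((eq_of_le_of_card_ge h (by omega)).symm ▸ ha)
  rw [hc] at h1
  have h3 := Nat.le_of_dvd (by norm_num) h1
  have h4 : Nat.card M ≠ 3 := fun e => by rw [e] at h1; norm_num at h1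
  omega

namespace Sev

variable (s : Sev G)

theorem Sev3_dec : (∀ y ∈ s.B, y ∈ s.R → y ∈ s.A0 ∨ s.t1 * y ∈ s.A0) ∧
    (∀ y ∈ s.B, y ∈ s.F → y ∈ s.R → y ∈ s.J1) ∧
    (s.u ∈ s.F ∧ s.u * s.z1 ∈ s.F ∧ s.v ∈ s.F ∧ s.v * s.z2 ∈ s.F) ∧
    (s.z1 = s.t * s.a1 * (s.t * s.a2) ∧ s.z2 = s.t * s.a3 * (s.t * s.a4) ∧ s.b = s.t * s.a1 * (s.t * s.a3) ∧
      s.t1 = s.t * s.a1) ∧ s.z ≠ 1 ∧ s.z ∈ s.A ∧ s.z * s.z = 1 ∧ s.z ∈ s.R :=
  (s.hY s.hb).decide (s.repY s.hb) (by decide +kernel)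

theorem Sev3_BT : s.B ≤ s.T := s.les.2.2.2.2.2.2.2.2.1.trans s.TU_le

theorem Sev3_TS : s.T ≤ s.S1 := s.S0_norm.2.2.2.2.2

theorem Sev3_ex {e : G} (he : e ∈ s.S2) (he' : e ∉ s.S1) : ∃ y ∈ s.S1, e = s.x * y :=
  ⟨(s.x * s.x)⁻¹ * (s.x * e), mul_mem (inv_mem s.xx) ((s.memS2.1 he).resolve_left he'), by group⟩

theorem Sev3_x {b : G} (hb : b ∈ s.B) (h : s.x * b * s.x⁻¹ ∈ s.B) : b ∈ s.J1 := by
  obtain ⟨k1, k2, ⟨f1, f2, f3, f4⟩, ⟨r1, r2, r3, r4⟩, -, -, -, zR⟩ := s.Sev3_dec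
  have RT : s.R ≤ s.T := fun y hy => (s.memTR s.hb).2 (Or.inl hy)
  have bR : b ∈ s.R := by
    refine ((s.memTR s.hb).1 (s.Sev3_BT hb)).resolve_right fun h1 => s.w_nT ?_
    have h2 := RT (conj_mem_of_norm s.x_R h1)
    rw [← conj_mul, mul_mem_cancel_right (s.Sev3_BT h)] at h2
    rcases s.xt with e | e
    · exact e ▸ h2
    · rwa [e, mul_mem_cancel_right (RT zR)] at h2
  have hP : ∀ d, s.P4 d → d ∈ cj(s.x⁻¹, s.F) := fun d hd => by
    rw [mem_cj, inv_inv]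
    rcases s.x_P4 hd with e | e | e | e <;> rw [e] <;> assumption
  have p1 := hP _ (Or.inl rfl)
  have p2 := hP _ (Or.inr (Or.inl rfl))
  have p3 := hP _ (Or.inr (Or.inr (Or.inl rfl)))
  have p4 := hP _ (Or.inr (Or.inr (Or.inr rfl)))
  have hA : s.A0 ≤ cj(s.x⁻¹, s.F) := clos_le.2 fun y hy => by
    simp only [List.mem_cons, List.not_mem_nil, or_false] at hy
    rcases hy with e | e | e
    · rw [e, r1]; exact mul_mem p1 p2
    · rw [e, r2]; exact mul_mem p3 p4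
    · rw [e, r3]; exact mul_mem p1 p3
  have hF : b ∈ cj(s.x⁻¹, s.F) := by
    rcases k1 b hb bR with e | e
    · exact hA e
    · have := hA e
      rwa [r4, mul_mem_cancel_left p1] at this
  rw [mem_cj, inv_inv] at hF
  exact (mem_normalizer_iff.1 s.x_J1 b).2 (k2 _ h hF (conj_mem_of_norm s.x_R bR))

theorem far_B {e b : G} (he : e ∈ s.S2) (he' : e ∉ s.S1) (hb : b ∈ s.B) (h : e * b * e⁻¹ ∈ s.B) : b ∈ s.J1 := by
  obtain ⟨y, hy, rfl⟩ := s.Sev3_ex he he'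
  refine (mem_normalizer_iff.1 (s.S1_norm.2.2.2.2.1 hy) b).2
    (s.Sev3_x (conj_mem_of_norm (s.S1_norm.1 hy) hb) ?_)
  rwa [show s.x * (y * b * y⁻¹) * s.x⁻¹ = s.x * y * b * (s.x * y)⁻¹ by group]

theorem far_tw {e : G} (he : e ∈ s.S2) (he' : e ∉ s.S1) (h2 : e * e = 1) :
    e * (s.t * s.w) * e⁻¹ = s.t * s.w * s.z := by
  obtain ⟨-, -, -, -, -, -, zz, -⟩ := s.Sev3_dec
  have ez : e * s.z * e⁻¹ = s.z := by rw [s.S2_z he]; group
  have tz : s.t * s.z = s.z * s.t := (s.T_comm s.fb_u.2.2.1).2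
  have wz : s.w * s.z = s.z * s.w := s.w_comm.2.2.1
  have wt : s.w * s.t = s.t * s.w * s.z := by
    rw [mul_assoc, wz, ← mul_assoc, ← s.wt]; group
  have h1 : e * s.t * e⁻¹ = s.w ∨ e * s.t * e⁻¹ = s.w * s.z := by
    obtain ⟨y, hy, rfl⟩ := s.Sev3_ex he he'
    have xz : s.x * s.z * s.x⁻¹ = s.z := by rw [s.xz]; group
    rw [show s.x * y * s.t * (s.x * y)⁻¹ = s.x * (y * s.t * y⁻¹) * s.x⁻¹ by group]
    rcases (s.h6.two s.toCf s.pgS1 s.Sev3_TS s.S1_norm.1 hy).2 with k | k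
    · rw [k]; exact s.xt
    · rw [k, ← conj_mul, xz]
      rcases s.xt with k | k <;> rw [k]
      · exact Or.inr rfl
      · exact Or.inl (by rw [mul_assoc, zz, mul_one])
  have back : ∀ y, e * (e * y * e⁻¹) * e⁻¹ = y := fun y => by
    rw [show e * (e * y * e⁻¹) * e⁻¹ = e * e * y * (e * e)⁻¹ by group, h2]; group
  rw [← conj_mul]
  rcases h1 with k | k
  · rw [k, ← k, back, k, wt]
  · have k' : s.w = e * s.t * e⁻¹ * s.z := by rw [k, mul_assoc, zz, mul_one]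
    have k2 : e * s.w * e⁻¹ = s.t * s.z := by
      conv_lhs => rw [k', ← conj_mul, back, ez]
    rw [k, k2, tz, mul_assoc, ← mul_assoc s.z, zz, one_mul, wt]

theorem far1 {e : G} (he : e ∈ s.S2) (he' : e ∉ s.S1) {H : Subgroup G} (hH : H ≤ s.S2) (h : ∀ y ∈ H, y * e = e * y) :
    Nat.card H ≤ 128 := by
  have h1 := Sev3_prod hH (s.Sev3_BT.trans (s.Sev3_TS.trans (le_sup_left : s.S1 ≤ s.S2)))
  have h2 : H ⊓ s.B ≤ s.J1 := fun y hy => s.far_B he he' hy.2 (by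
    rw [← h y hy.1, mul_inv_cancel_right]; exact hy.2)
  have h3 := card_le_of_le h2
  rw [s.gJ1.2] at h3
  rw [s.gB.2, s.cardS2] at h1
  omega

theorem far2 {e : G} (he : e ∈ s.S2) (he' : e ∉ s.S1) (h2 : e * e = 1) {K H : Subgroup G} (hK : K ≤ s.S2)
    (hN : s.N1 ≤ K) (hc : Nat.card K = 512) (hH : H ≤ K) (h : ∀ y ∈ H, y * e = e * y) : Nat.card H ≤ 64 := by
  obtain ⟨-, -, -, -, z1, zA, -, -⟩ := s.Sev3_dec
  have AB : s.A ≤ s.B := s.les.2.2.2.2.2.2.2.1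
  have tT : s.t ∈ s.T := s.fb_u.2.2.1
  have hn : s.t * s.w ∈ 𝐍[s.A] := mul_mem (s.T_norm.2.1 tT) s.w_norm.2.2.2.2.2
  have hs : s.t * s.w * (s.t * s.w) ∈ s.A := by
    rw [show s.t * s.w * (s.t * s.w) = s.t * (s.w * s.t * s.w⁻¹) * (s.w * s.w) by group, s.wt, s.ww, mul_one,
      ← mul_assoc, s.tt, one_mul]
    exact zA
  have hm : s.t * s.w ∉ s.A := fun k => s.w_nT ((mul_mem_cancel_left tT).1 (s.Sev3_BT (AB k)))
  have hle : s.A ⊔ zpowers (s.t * s.w) ≤ K :=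
    (sup_le (s.les.1.trans (s.S0_norm.2.2.2.2.1.trans s.S0_norm.2.2.1)) (le_sup_right : _ ≤ s.N1)).trans hN
  have h1 := Sev3_prod hH hle
  rw [FG.ZL.card_ext hn hs hm, s.gA.2, hc] at h1
  have hJ : ∀ y ∈ H, y ∈ s.A → y ∈ s.J1 := fun y hy hA => s.far_B he he' (AB hA) (by
    rw [← h y hy, mul_inv_cancel_right]; exact AB hA)
  have h4 : Nat.card ↥(H ⊓ (s.A ⊔ zpowers (s.t * s.w))) ≤ 4 := by
    by_cases hM : H ⊓ (s.A ⊔ zpowers (s.t * s.w)) ≤ s.A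
    · exact s.gJ1.2 ▸ card_le_of_le fun y hy => hJ y hy.1 (hM hy)
    obtain ⟨m, hm1, hm2⟩ := SetLike.not_le_iff_exists.1 hM
    have ha := ((FG.ZL.mem_ext hn hs).1 hm1.2).resolve_left hm2
    have em : e * m * e⁻¹ = m := by rw [← h m hm1.1, mul_inv_cancel_right]
    have ea : e * (s.t * s.w * m) * e⁻¹ = s.t * s.w * m * s.z := by
      rw [← conj_mul, s.far_tw he he' h2, em, mul_assoc, ← s.S2_z (hK (hH hm1.1)), ← mul_assoc]
    have aJ := s.far_B he he' (AB ha) (by rw [ea]; exact AB (mul_mem ha zA))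
    have h5 := FB.two_le (H := H ⊓ (s.A ⊔ zpowers (s.t * s.w))) (K := s.A) fun x hx y hy x1 y1 => by
      have x2 := ((FG.ZL.mem_ext hn hs).1 hx.2).resolve_left x1
      have y2 := ((FG.ZL.mem_ext hn hs).1 hy.2).resolve_left y1
      have := mul_mem (mul_mem (conj_mem_of_norm' hn x2) (inv_mem hs)) y2
      rwa [show (s.t * s.w)⁻¹ * (s.t * s.w * x) * (s.t * s.w) * (s.t * s.w * (s.t * s.w))⁻¹ * (s.t * s.w * y) = x * y by
        group] at this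
    have h6 : Nat.card ↥(H ⊓ (s.A ⊔ zpowers (s.t * s.w)) ⊓ s.A) ≤ 2 :=
      Sev3_half (fun y hy => hJ y hy.1.1 hy.2) s.gJ1.2 aJ fun k => z1 (by
        rw [← h _ k.1.1, mul_inv_cancel_right] at ea
        exact (left_eq_mul.1 ea))
    omega
  omega

end Sev

end Cfsg.Agent.S38
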