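import Mathlib
import Cfsg.Agent.S38.Sev2
import Cfsg.Agent.S38.Sev3

/-! `S2` is a Sylow subgroup and `t` is not in `X`. -/

set_option autoImplicit false
set_option linter.unusedSectionVars false
set_option maxRecDepth 100000
set_option synthInstance.maxSize 100000
set_option synthInstance.maxHeartbeats 1000000

namespace Cfsg.Agent.S38

open Cfsg.Agent.Rec Cfsg.Agent.Spor Cfsg.Agent.Loc.Mss Cfsg.Agent.SF6 Subgroup
open scoped commutatorElement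

variable {G : Type*} [Group G] [Finite G]

/-- The elements normalising `U` and commuting with `a` modulo `U`. -/
def sev4M (U : Subgroup G) (a : G) : Subgroup G where
  carrier := {v | v ∈ 𝐍[U] ∧ v * a * v⁻¹ * a⁻¹ ∈ U}
  one_mem' := ⟨one_mem _, by simp⟩
  mul_mem' := fun {x y} hx hy => ⟨mul_mem hx.1 hy.1, by
    rw [show x * y * a * (x * y)⁻¹ * a⁻¹ = x * (y * a * y⁻¹ * a⁻¹) * x⁻¹ * (x * a * x⁻¹ * a⁻¹) by group]
    exact mul_mem (conj_mem_of_norm hx.1 hy.2) hx.2⟩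
  inv_mem' := fun {x} hx => ⟨inv_mem hx.1, by
    rw [show x⁻¹ * a * x⁻¹⁻¹ * a⁻¹ = x⁻¹ * (x * a * x⁻¹ * a⁻¹)⁻¹ * x by group]
    exact conj_mem_of_norm' hx.1 (inv_mem hx.2)⟩

theorem sev4M_symm {U : Subgroup G} {a b : G} (h : a ∈ sev4M U b) (hb : b ∈ 𝐍[U]) : b ∈ sev4M U a :=
  ⟨hb, by
    rw [show b * a * b⁻¹ * a⁻¹ = (a * b * a⁻¹ * b⁻¹)⁻¹ by group]
    exact inv_mem h.2⟩

theorem sev4M_le {U : Subgroup G} {a : G} (ha : a ∈ 𝐍[U]) : U ≤ sev4M U a := fun v hv =>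
  ⟨le_normalizer hv, by
    rw [show v * a * v⁻¹ * a⁻¹ = v * (a * v⁻¹ * a⁻¹) by group]
    exact mul_mem hv (conj_mem_of_norm ha (inv_mem hv))⟩

theorem sev4M_self {U : Subgroup G} {a : G} (ha : a ∈ 𝐍[U]) : a ∈ sev4M U a := ⟨ha, by simp⟩

theorem sev4_comm {U : Subgroup G} {a b : G} (ha : a ∈ 𝐍[U]) (hb : b ∈ 𝐍[U]) (h : b ∈ sev4M U a) :
    ⁅U ⊔ zpowers a ⊔ zpowers b, U ⊔ zpowers a ⊔ zpowers b⁆ ≤ U := by
  have h1 : U ⊔ zpowers a ⊔ zpowers b ≤ sev4M U a :=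
    sup_le (sup_le (sev4M_le ha) (zpowers_le.2 (sev4M_self ha))) (zpowers_le.2 h)
  have h2 : U ⊔ zpowers a ⊔ zpowers b ≤ sev4M U b :=
    sup_le (sup_le (sev4M_le hb) (zpowers_le.2 (sev4M_symm h ha))) (zpowers_le.2 (sev4M_self hb))
  refine commutator_le.2 fun x hx y hy => ?_
  have n := (h1 hy).1
  have h3 : U ⊔ zpowers a ⊔ zpowers b ≤ sev4M U y :=
    sup_le (sup_le (sev4M_le n) (zpowers_le.2 (sev4M_symm (h1 hy) ha))) (zpowers_le.2 (sev4M_symm (h2 hy) hb))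
  exact (h3 hx).2

namespace Sev

variable (s : Sev G)

theorem sev4_mem : s.T ≤ s.S2 ∧ s.S1 ≤ s.S2 ∧ s.t ∈ s.S1 ∧ s.w ∈ s.S1 ∧ s.x ∈ s.S2 ∧ s.z ∈ s.S0 ∧
    s.t * s.w ∈ s.N1 := by
  obtain ⟨-, -, -, -, l1, l2⟩ := s.S0_norm
  have k : s.z ∈ s.U := s.hL.decide s.rep (by decide +kernel)
  exact ⟨l2.trans le_sup_left, le_sup_left, l2 s.fb_u.2.2.1, mem_sup_right (mem_zpowers _),
    mem_sup_right (mem_zpowers _), l1 k, mem_sup_right (mem_zpowers _)⟩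

theorem sev4_key {g : G} (h : cj(g, s.T) ≤ s.S2) : g * s.t * g⁻¹ ∈ s.S1 := by
  by_contra hn
  have := s.far1 (h (conj_mem_cj s.fb_u.2.2.1)) hn h fun y hy => by
    have e := (s.T_comm (mem_cj.1 hy)).1
    calc y * (g * s.t * g⁻¹) = g * (g⁻¹ * y * g * s.t) * g⁻¹ := by group
      _ = _ := by rw [e]; group
  rw [card_cj, (s.gT s.hb).2] at this
  omega

theorem sev4_four {d : G} (hd : d ∈ s.D) (h : d ∈ s.S1) (hz : d * s.z ∈ s.D) :
    d = s.t ∨ d = s.t * s.z ∨ d = s.w ∨ d = s.w * s.z := by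
  have k : (∀ d ∈ s.Om, d * s.z ∈ s.B ∧ (d * s.z ∈ s.Om → d = s.t ∨ d = s.t * s.z)) ∧ s.z ∈ s.B ∧
      s.z1 * s.z ∈ s.B ∧ s.z2 * s.z ∈ s.B ∧ s.z ≠ 1 ∧ s.z ≠ s.z1 ∧ s.z ≠ s.z2 ∧ s.z1 * s.z ≠ 1 ∧
      s.z1 * s.z ≠ s.z1 ∧ s.z2 * s.z ≠ 1 ∧ s.z2 * s.z ≠ s.z2 := s.hL.decide s.rep (by decide +kernel)
  obtain ⟨k0, k1, k2, k3, n1, n2, n3, n4, n5, n6, n7⟩ := k
  rcases s.D_S1 hd h with h | h | h | rfl | rfl | rfl | rfl
  · rcases (k0 d h).2 (s.D_B hz (k0 d h).1) with e | e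
    · exact .inl e
    · exact .inr (.inl e)
  · exact .inr (.inr (.inl h))
  · exact .inr (.inr (.inr h))
  · exact ((s.D_u k1 hz).elim n1 n2).elim
  · exact ((s.D_u k2 (by rwa [← mul_assoc])).elim n4 n5).elim
  · exact ((s.D_v k1 hz).elim n1 n3).elim
  · exact ((s.D_v k3 (by rwa [← mul_assoc])).elim n6 n7).elim

theorem sev4_move {d : G} (h : d = s.t ∨ d = s.t * s.z ∨ d = s.w ∨ d = s.w * s.z) :
    ∃ m ∈ s.S2, m * d * m⁻¹ = s.t := by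
  obtain ⟨-, l, -, hw, hx, -⟩ := s.sev4_mem
  have zz : s.z * s.z = 1 := s.hL.decide s.rep (by decide +kernel)
  have k : ∀ {d : G}, d = s.t ∨ d = s.t * s.z → ∃ m ∈ s.S2, m * d * m⁻¹ = s.t := by
    rintro _ (rfl | rfl)
    · exact ⟨1, one_mem _, by simp⟩
    · exact ⟨s.w⁻¹, inv_mem (l hw), by rw [← s.wt]; group⟩
  have k2 : ∀ {d : G}, s.x * d * s.x⁻¹ = s.t ∨ s.x * d * s.x⁻¹ = s.t * s.z → ∃ m ∈ s.S2, m * d * m⁻¹ = s.t := by
    intro d h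
    obtain ⟨m, hm, e⟩ := k h
    exact ⟨m * s.x, mul_mem hm hx, by rw [← e]; group⟩
  rcases h with h | h | rfl | rfl
  · exact k (.inl h)
  · exact k (.inr h)
  · exact k2 s.xw
  · have e : s.x * (s.w * s.z) * s.x⁻¹ = s.x * s.w * s.x⁻¹ * s.z := by
      rw [← conj_mul, s.xz, mul_inv_cancel_right]
    refine k2 ?_
    rw [e]
    rcases s.xw with h | h
    · exact .inr (by rw [h])
    · exact .inl (by rw [h, mul_assoc, zz, mul_one])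

theorem syl_S2 : Syl 2 s.S2 ⊤ := by
  obtain ⟨lT, l1, -, -, -, hz, -⟩ := s.sev4_mem
  obtain ⟨-, -, l2, l3, -, -⟩ := s.S0_norm
  refine Syl.of_norm s.pgS2 le_top fun P hP hS _ hn y hy => ?_
  have hy' := hn hy
  have z2 : y * s.z * y⁻¹ ∈ s.S2 := conj_mem_of_norm hy' (l1 (l3 (l2 hz)))
  have zc : ∀ a ∈ s.S2, a * (y * s.z * y⁻¹) = y * s.z * y⁻¹ * a := fun a ha => by
    have e := s.S2_z (conj_mem_of_norm' hy' ha)
    calc a * (y * s.z * y⁻¹) = y * (y⁻¹ * a * y * s.z) * y⁻¹ := by group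
      _ = _ := by rw [e]; group
  have z1 : y * s.z * y⁻¹ ∈ s.S1 := by
    by_contra hn
    have := s.far1 z2 hn le_rfl zc
    rw [s.cardS2] at this
    omega
  have n1 : s.z ≠ 1 := s.hL.decide s.rep (by decide +kernel)
  have yz : y * s.z * y⁻¹ = s.z :=
    (s.Z_S1 z1 fun a ha => (zc a (l1 ha)).symm).resolve_left fun e => n1 (conj_eq_one_iff.1 e)
  have hd : y * s.t * y⁻¹ * s.z ∈ s.D := by
    have := s.D_conj (s.D_conj s.tD s.w) y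
    rwa [s.wt, ← conj_mul, yz] at this
  obtain ⟨m, hm, e⟩ := s.sev4_move (s.sev4_four (s.D_conj s.tD y) (s.sev4_key (cj_le_of_norm lT hy')) hd)
  have := s.pg_cent hP (lT.trans hS) (mul_mem (hS hm) hy) (mul_inv_eq_iff_eq_mul.1 (Eq.trans (by group) e))
  exact (mul_mem_cancel_left hm).1 (lT this)

theorem t_nX : s.t ∉ s.X := by
  intro ht
  obtain ⟨lT, l1, h1, -, -, hz, hr⟩ := s.sev4_mem
  obtain ⟨-, -, l2, l3, l4, -⟩ := s.S0_norm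
  obtain ⟨n1, -, -, -, -, n2⟩ := s.nmem
  refine n1 (ttN s.syl_S2 s.S2_comm (l1 h1) s.tt (s.X_le ht) s.pgT (fun x hx => (s.T_comm hx).1) fun g _ h => ?_)
  have k : (∀ d ∈ s.Om, d * s.t ∈ s.U) ∧ s.t * s.u * (s.u * s.t) ∈ s.U ∧ s.t * s.u * (s.u * s.z1 * s.t) ∈ s.U ∧
      s.t * s.u * (s.v * s.t) ∈ s.U ∧ s.t * s.u * (s.v * s.z2 * s.t) ∈ s.U ∧ s.z * s.t = s.t * s.z :=
    (s.hY s.hb).decide (s.repY s.hb) (by decide +kernel)
  obtain ⟨k0, k1, k2, k3, k4, k5⟩ := k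
  have wt : s.w * s.t ∈ s.N1 := by
    have := inv_mem hr
    rwa [mul_inv_rev, inv_eq_of_mul_eq_one_right s.ww, inv_eq_of_mul_eq_one_right s.tt] at this
  rcases s.D_S1 (s.D_conj s.tD g) (s.sev4_key h) with h | h | h | h | h | h | h
  · exact l2 (l4 (k0 _ h))
  · rw [h]; exact wt
  · rw [h, mul_assoc, k5, ← mul_assoc]; exact mul_mem wt (l2 hz)
  · rw [h]; exact (mul_mem_cancel_left n2).1 (l2 (l4 k1))
  · rw [h]; exact (mul_mem_cancel_left n2).1 (l2 (l4 k2))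
  · rw [h]; exact (mul_mem_cancel_left n2).1 (l2 (l4 k3))
  · rw [h]; exact (mul_mem_cancel_left n2).1 (l2 (l4 k4))

theorem sev4_two {a b : G} (ha : a ∉ s.X) (hb : b ∉ s.X) : a * b ∈ s.X := by
  have h1 := s.nX.conj_mem' _ ((s.GX a).resolve_left ha) s.t
  have h2 := mul_mem h1 ((s.GX b).resolve_left hb)
  rwa [show s.t⁻¹ * (s.t * a) * s.t * (s.t * b) = a * (s.t * s.t) * b by group, s.tt, mul_one] at h2

theorem N1_X : s.N1 ≤ s.X := by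
  have hw := s.D_X s.t_nX s.hw
  have hu : s.u ∈ s.D := IsConj.trans s.hw s.u_w.1.symm
  exact sup_le (sup_le (s.U_le.trans s.LX) (zpowers_le.2 (s.sev4_two hw (s.D_X s.t_nX hu))))
    (zpowers_le.2 (s.sev4_two s.t_nX hw))

theorem S1_X {y : G} (hy : y ∈ s.S1) (hX : y ∈ s.X) : y ∈ s.N1 :=
  (s.memS1'.1 hy).resolve_right fun h => s.t_nX ((mul_mem_cancel_right hX).1 (s.N1_X h))

theorem card_SX : Nat.card ↥(s.S2 ⊓ s.X) = 512 := by
  obtain ⟨-, l1, h1, -⟩ := s.sev4_mem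
  have h : (s.X.subgroupOf s.S2).index = 2 := index_eq_two_iff'.2 ⟨⟨s.t, l1 h1⟩, fun b => by
    simp only [mem_subgroupOf, coe_mul]
    by_cases hb : (b : G) ∈ s.X
    · exact .inr ⟨hb, fun h => s.t_nX ((mul_mem_cancel_right hb).1 h)⟩
    · exact .inl ⟨s.sev4_two s.t_nX hb, hb⟩⟩
  have h2 := (s.X.subgroupOf s.S2).card_mul_index
  rw [h, s.cardS2, ← inf_subgroupOf_left, Nat.card_congr (subgroupOfEquivOfLe inf_le_left).toEquiv] at h2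
  omega

theorem SX_comm : ⁅s.S2 ⊓ s.X, s.S2 ⊓ s.X⁆ ≤ s.S0 := by
  obtain ⟨-, l1, h1, hw, hx, hz, hr⟩ := s.sev4_mem
  have n := s.S2_norm.1
  have k : s.z * s.z = 1 ∧ s.z * s.t = s.t * s.z := s.hL.decide s.rep (by decide +kernel)
  have wz := s.w_comm.2.2.1
  have wt : s.w * s.t = s.t * s.w * s.z := by
    rw [mul_assoc, wz, ← mul_assoc, ← s.wt, inv_mul_cancel_right]
  have rz : s.t * s.w * s.z = s.z * (s.t * s.w) := by rw [mul_assoc, wz, ← mul_assoc, ← k.2, mul_assoc]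
  have c1 : s.t ∈ sev4M s.S0 (s.t * s.w) := ⟨n (l1 h1), by
    rw [show s.t * (s.t * s.w) * s.t⁻¹ * (s.t * s.w)⁻¹ = s.t * s.t * (s.w * s.t * s.w⁻¹)⁻¹ * s.t⁻¹ by group,
      s.wt, show s.t * s.t * (s.t * s.z)⁻¹ * s.t⁻¹ = s.t * s.t * s.z⁻¹ * (s.t * s.t)⁻¹ by group, s.tt]
    simpa using hz⟩
  have c2 : s.x ∈ sev4M s.S0 (s.t * s.w) := ⟨n hx, by
    have e : s.x * (s.t * s.w) * s.x⁻¹ = s.t * s.w ∨ s.x * (s.t * s.w) * s.x⁻¹ = s.z * (s.t * s.w) := by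
      rw [← conj_mul, ← rz]
      have e1 : s.w * s.z * s.t = s.t * s.w := by
        rw [mul_assoc, k.2, ← mul_assoc, wt, mul_assoc, k.1, mul_one]
      rcases s.xt with a | a <;> rcases s.xw with b | b <;> rw [a, b]
      · exact .inr wt
      · exact .inl (by rw [← mul_assoc, wt, mul_assoc, k.1, mul_one])
      · exact .inl e1
      · exact .inr (by rw [← mul_assoc, e1])
    rcases e with e | e <;> rw [e]
    · simp
    · rwa [mul_inv_cancel_right]⟩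
  obtain ⟨x', hx', c, m⟩ : ∃ x' ∈ s.X, x' ∈ sev4M s.S0 (s.t * s.w) ∧ ∀ y, s.x * y ∈ s.S1 → x' * y ∈ s.S1 := by
    rcases s.GX s.x with h | h
    · exact ⟨_, h, c2, fun _ h => h⟩
    · exact ⟨_, h, mul_mem c1 c2, fun y h => by rw [mul_assoc]; exact mul_mem h1 h⟩
  have hle : s.S2 ⊓ s.X ≤ s.S0 ⊔ zpowers (s.t * s.w) ⊔ zpowers x' := fun y hy => by
    rcases s.memS2.1 hy.1 with h | h
    · exact mem_sup_left (s.S1_X h hy.2)
    · exact (mul_mem_cancel_left (mem_sup_right (mem_zpowers x'))).1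
        (mem_sup_left (s.S1_X (m y h) (mul_mem hx' hy.2)))
  exact (commutator_mono hle hle).trans (sev4_comm (n (l1 (mul_mem h1 hw))) c.1 c)

end Sev

end Cfsg.Agent.S38
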