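import Mathlib
import Cfsg.Agent.S38.Six1
import Cfsg.Agent.GT.CoprimeProd

/-! Large subgroups of `N1` have `z` in their derived group. -/

set_option autoImplicit false
set_option linter.unusedSectionVars false
set_option maxRecDepth 100000
set_option synthInstance.maxSize 100000
set_option synthInstance.maxHeartbeats 1000000

namespace Cfsg.Agent.S38

open Cfsg.Agent.Rec Cfsg.Agent.Spor Cfsg.Agent.Loc.Mss Cfsg.Agent.SF6 Subgroup
open scoped commutatorElement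

variable {G : Type*} [Group G] [Finite G]

namespace Six

variable (s : Six G)

theorem z_comm {P : Subgroup G} (hP : P ≤ s.N1) (hc : 64 ≤ Nat.card P) : s.z ∈ ⁅P, P⁆ := by
  by_contra hz
  obtain ⟨-, -, SN, NS, US, TS⟩ := s.S0_norm
  have QU : s.Q ≤ s.U := s.les.2.1
  obtain ⟨qq, zQ, m1, e1, z1⟩ : (∀ x ∈ s.Q, ∀ y ∈ s.Q, ⁅x, y⁆ = 1 ∨ ⁅x, y⁆ = s.z) ∧ s.z ∈ s.Q ∧ s.a1 ∈ s.U ∧
      s.t * s.z * (s.t * (s.t * s.a1)) ≠ s.t * s.a1 ∧ s.t * s.t * s.z = s.z := s.hL.decide s.rep (by decide +kernel)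
  have wi : s.w⁻¹ = s.w := inv_eq_of_mul_eq_one_right s.ww
  have rQ : ∀ x ∈ s.Q, Commute (s.t * s.w) x := fun x hx =>
    Commute.mul_left (s.t_comm (s.Q_le hx)).symm (s.w_comm.2.2.2.1 x hx)
  have r2 : s.t * s.w * (s.t * s.w) = s.z := by
    rw [← z1, mul_assoc s.t s.t, ← s.wt, wi]; group
  have rN : s.t * s.w ∈ s.N1 := mem_sup_right (mem_zpowers _)
  have rS : s.t * s.w ∉ s.Q := fun h => s.nmem.2.1 (US (QU h))
  have rc : ∀ x ∈ s.N1, ⁅x, s.t * s.w⁆ = 1 ∨ ⁅x, s.t * s.w⁆ = s.z := fun x hx => by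
    have ct : Commute s.z s.t := s.t_comm (s.Q_le zQ)
    have cw : Commute s.z s.w := s.w_comm.2.2.1.symm
    have zz : s.z * s.z = 1 := s.hL.decide s.rep (by decide +kernel)
    rw [commutatorElement_def, ← conj_mul]
    rcases (Cf.H6.two s.toCf s.h6 s.pgS1 TS s.S1_norm.1 (NS hx)).2 with e | e <;> rcases s.S1_w (NS hx) with f | f <;>
      rw [e, f]
    · exact .inl (mul_inv_cancel _)
    · exact .inr (by rw [← mul_assoc, ← (ct.mul_right cw).eq, mul_inv_cancel_right])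
    · exact .inr (by rw [← ct.eq, mul_assoc s.z, mul_inv_cancel_right])
    · exact .inl (by rw [← cw.eq, mul_assoc s.t, ← mul_assoc s.z, zz, one_mul, mul_inv_cancel])
  have na : ¬ Commute s.a1 (s.t * s.w) := fun h => e1 (by
    have ca : Commute s.a1 s.t := s.t_comm (s.U_le m1)
    have cw : Commute s.a1 s.w := by simpa using ca.inv_right.mul_right h
    have h1 := s.w_comm.2.2.2.2 _ (.inl rfl)
    rw [← mul_assoc s.t s.t, s.tt, one_mul, ← s.wt, mul_assoc, cw.inv_right.symm.eq, ← mul_assoc, mul_assoc s.w, h1,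
      mul_inv_cancel_right])
  generalize s.t * s.w = r at *
  have hn : r ∈ 𝐍[s.Q] := cent_le_norm _ (mem_cent.2 fun x hx => (rQ x hx).symm)
  have mem : ∀ {x}, x ∈ s.Q ⊔ zpowers r ↔ x ∈ s.Q ∨ r * x ∈ s.Q := FG.ZL.mem_ext hn (r2 ▸ zQ)
  have card : Nat.card ↥(s.Q ⊔ zpowers r) = 64 := by rw [FG.ZL.card_ext hn (r2 ▸ zQ) rS, s.gQ.2]
  have HN : s.Q ⊔ zpowers r ≤ s.N1 := sup_le (QU.trans (US.trans SN)) (zpowers_le.2 rN)
  have Hr : s.Q ⊔ zpowers r ≤ 𝐂[zpowers r] := sup_le (fun x hx => mem_cent.2 fun y hy => by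
    obtain ⟨k, rfl⟩ := mem_zpowers_iff.1 hy
    exact (rQ x hx).zpow_left k) fun x hx => mem_cent.2 fun y hy => setLike_mul_comm hy hx
  have red : ∀ x ∈ s.Q ⊔ zpowers r, ∃ q ∈ s.Q, ∀ y ∈ s.Q ⊔ zpowers r, ⁅x, y⁆ = ⁅q, y⁆ ∧ ⁅y, x⁆ = ⁅y, q⁆ := fun x hx => by
    rcases mem.1 hx with h | h
    · exact ⟨x, h, fun _ _ => ⟨rfl, rfl⟩⟩
    · have k : ∀ y ∈ s.Q ⊔ zpowers r, ⁅x, y⁆ = ⁅r * x, y⁆ := fun y hy => by
        have c : r * (x * y * x⁻¹) = x * y * x⁻¹ * r :=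
          mem_cent.1 (Hr (mul_mem (mul_mem hx hy) (inv_mem hx))) r (mem_zpowers r)
        rw [commutatorElement_def, commutatorElement_def]
        calc _ = x * y * x⁻¹ * r * r⁻¹ * y⁻¹ := by group
          _ = _ := by rw [← c]; group
      exact ⟨_, h, fun y hy => ⟨k y hy, by rw [← commutatorElement_inv, k y hy, commutatorElement_inv]⟩⟩
  have ab : ∀ x ∈ P ⊓ (s.Q ⊔ zpowers r), ∀ y ∈ P ⊓ (s.Q ⊔ zpowers r), x * y = y * x := fun x hx y hy => by
    obtain ⟨q, hq, e⟩ := red x hx.2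
    obtain ⟨q', hq', e'⟩ := red y hy.2
    have k := qq q hq q' hq'
    rw [← (e' q (mem_sup_left hq)).2, ← (e y hy.2).1] at k
    exact commutatorElement_eq_one_iff_mul_comm.1 (k.resolve_right fun e => hz (e ▸ commutator_mem_commutator hx.1 hy.1))
  have A2 : P ⊓ (s.Q ⊔ zpowers r) ⊔ zpowers r ≤ s.Q ⊔ zpowers r := sup_le inf_le_right le_sup_right
  have ab2 : P ⊓ (s.Q ⊔ zpowers r) ⊔ zpowers r ≤ 𝐂[P ⊓ (s.Q ⊔ zpowers r) ⊔ zpowers r] := by
    rw [cent_sup]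
    exact le_inf (sup_le (fun x hx => mem_cent.2 fun y hy => ab y hy x hx)
      (le_centralizer_iff.1 (inf_le_right.trans Hr))) (A2.trans Hr)
  have c8 := s.Q_ab (E := (P ⊓ (s.Q ⊔ zpowers r) ⊔ zpowers r) ⊓ s.Q) inf_le_right
    fun x hx y hy => mem_cent.1 (ab2 hy.1) x hx.1
  have c16 := GT.CopAct.card_mul_card_le_of_le A2 le_sup_left
  have c1 := GT.CopAct.card_mul_card_le_of_le hP HN
  rw [card, s.gQ.2] at c16
  rw [card, s.cardS0.2] at c1
  have rP : r ∈ P := ((eq_of_le_of_card_ge (le_sup_left (a := P ⊓ (s.Q ⊔ zpowers r)) (b := zpowers r)) (by omega)).ge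
    (mem_sup_right (mem_zpowers r))).1
  have PC : P ≤ s.N1 ⊓ 𝐂[zpowers r] := fun x hx => ⟨hP hx, mem_cent.2 fun y hy => by
    obtain ⟨k, rfl⟩ := mem_zpowers_iff.1 hy
    have : Commute x r := commutatorElement_eq_one_iff_mul_comm.1
      ((rc x (hP hx)).resolve_right fun e => hz (e ▸ commutator_mem_commutator hx rP))
    exact this.symm.zpow_left k⟩
  have c2 := GT.CopAct.card_mul_card_le_of_le PC (le_inf HN Hr)
  have c3 := card_le_of_le (le_sup_left (a := P ⊓ (s.Q ⊔ zpowers r)) (b := zpowers r))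
  have c4 : 256 ≤ Nat.card ↥(s.N1 ⊓ 𝐂[zpowers r]) := by
    rw [card] at c2
    nlinarith
  have := (eq_of_le_of_card_ge (inf_le_left (a := s.N1) (b := 𝐂[zpowers r])) (s.cardS0.2 ▸ c4)).ge (SN (US m1))
  exact na (mem_cent.1 this.2 r (mem_zpowers r)).symm

end Six

end Cfsg.Agent.S38
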