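import Mathlib
import Cfsg.Agent.S38.Sev4
import Cfsg.Agent.S38.Sev5

/-! The final contradiction. -/

set_option autoImplicit false
set_option linter.unusedSectionVars false
set_option maxRecDepth 100000
set_option synthInstance.maxSize 100000
set_option synthInstance.maxHeartbeats 1000000

namespace Cfsg.Agent.S38

open Cfsg.Agent.Rec Cfsg.Agent.Spor Cfsg.Agent.Loc.Mss Cfsg.Agent.SF6 Subgroup
open scoped commutatorElement

variable {G : Type*} [Group G] [Finite G]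

theorem Cf.Sev6_perf (s : Cf G) : ⁅s.X, s.X⁆ = s.X := by
  have := s.sX
  obtain ⟨m1, -, m2, -, m3, m4⟩ := s.Kit1_mem
  have le : ⁅s.X, s.X⁆ ≤ s.X := comm_le_left le_normalizer
  have nm : ((⁅s.X, s.X⁆).subgroupOf s.X).Normal :=
    (normal_subgroupOf_iff_le_normalizer le).2 (norm_comm le_normalizer le_normalizer)
  rcases nm.eq_bot_or_eq_top with h | h
  · have k : (⟨⁅s.z, s.f⁆, le (commutator_mem_commutator (s.LX (m2 m1)) (s.LX m3))⟩ : s.X) ∈
        (⁅s.X, s.X⁆).subgroupOf s.X := mem_subgroupOf.2 (commutator_mem_commutator (s.LX (m2 m1)) (s.LX m3))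
    rw [h, mem_bot] at k
    exact (m4 (commutatorElement_eq_one_iff_mul_comm.1 (congrArg Subtype.val k))).elim
  · exact le_antisymm le (subgroupOf_eq_top.1 h)

namespace Sev

variable (s : Sev G)

theorem Sev6_card : 128 ≤ Nat.card ↥(s.S2 ⊓ s.X ⊓ centralizer {s.ρ}) := by
  have := s.card_Cρ (H := s.S2 ⊓ s.X) inf_le_left
  rw [s.card_SX] at this
  omega

theorem Sev6_N1 : s.N1 ≤ s.S2 ⊓ s.X := le_inf (s.S0_norm.2.2.2.1.trans le_sup_left) s.N1_X

theorem Sev6_x : ∃ y ∈ s.S2 ⊓ s.X, y ∉ s.S1 ∧ ∀ a ∈ s.S2 ⊓ s.X, a ∈ s.N1 ∨ y * a ∈ s.N1 := by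
  have ht : s.t ∈ s.S1 := s.memS1'.2 (Or.inr (by rw [s.tt]; exact one_mem _))
  have hx : s.x ∈ s.S2 := mem_sup_right (mem_zpowers _)
  rcases s.GX s.x with h | h
  · exact ⟨s.x, mem_inf.2 ⟨hx, h⟩, s.x_nS, fun a ha => (s.memS2.1 ha.1).imp (fun k => s.S1_X k ha.2)
      fun k => s.S1_X k (mul_mem h ha.2)⟩
  · exact ⟨s.t * s.x, mem_inf.2 ⟨mul_mem (mem_sup_left ht) hx, h⟩, fun k => s.x_nS ((mul_mem_cancel_left ht).1 k),
      fun a ha => (s.memS2.1 ha.1).imp (fun k => s.S1_X k ha.2)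
        fun k => s.S1_X (mul_assoc s.t s.x a ▸ mul_mem ht k) (mul_mem h ha.2)⟩

theorem ρ_conj : IsConj s.ρ s.z := by
  obtain ⟨y, hy, y1, y2⟩ := s.Sev6_x
  obtain ⟨-, -, s01, n1, -, -⟩ := s.S0_norm
  obtain ⟨-, -, r1, r2, r3, -⟩ := s.nmem
  have := s.nX
  have hS : Syl 2 (s.S2 ⊓ s.X) s.X := s.syl_S2.inf le_top (norm_normal _ _)
  have s0 : s.S0 ≤ s.S2 ⊓ s.X := s01.trans s.Sev6_N1
  have tr := fun {N : Subgroup G} (h0 : s.S0 ≤ N) (hN : N ≤ s.S2 ⊓ s.X) {x : G} (hx : x ∈ s.S2 ⊓ s.X)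
      (hc : ∀ a ∈ s.S2 ⊓ s.X, ∃ n : ℕ, x ^ n * a ∈ N) =>
    ttX (C := s.S2 ⊓ s.X ⊓ centralizer {s.ρ}) s.Sev6_perf hS hN (norm_of_comm_le hN (s.SX_comm.trans h0)) hx hc
      (s.N1_X r1) r3 s.pgS2.to_inf_left.to_inf_left (inf_le_left.trans inf_le_right)
      fun a ha => mem_centralizer_singleton_iff.1 ha.2
  have key : ∃ g, g * s.ρ * g⁻¹ ∈ s.S0 := by
    by_cases h2 : y * y ∈ s.S0
    · have hN : s.S0 ⊔ zpowers y ≤ s.S2 ⊓ s.X := sup_le s0 (zpowers_le.2 hy)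
      have r0 : s.t * s.w ∈ s.S2 ⊓ s.X := s.Sev6_N1 (mem_sup_right (mem_zpowers _))
      have yN : y ∈ s.S0 ⊔ zpowers y := mem_sup_right (mem_zpowers _)
      obtain ⟨g, -, g1, g2⟩ := tr le_sup_left hN r0 fun a ha => by
        rcases y2 a ha with k | k <;> rcases s.memN1.1 k with k | k
        · exact ⟨0, by simpa using mem_sup_left k⟩
        · exact ⟨1, by rw [pow_one]; exact mem_sup_left k⟩
        · exact ⟨0, by rw [pow_zero, one_mul]; exact (mul_mem_cancel_left yN).1 (mem_sup_left k)⟩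
        · refine ⟨1, ?_⟩
          have := mul_mem (conj_mem_of_norm (norm_of_comm_le hN (s.SX_comm.trans le_sup_left) r0) (inv_mem yN))
            (mem_sup_left k)
          convert this using 1
          group
      have e1 : g * s.ρ * g⁻¹ ∈ s.S1 := by
        by_contra e1
        have := s.far2 (hN g1).1 e1 (by rw [conj_mul, r3]; group) inf_le_left s.Sev6_N1 s.card_SX g2 (by
          rintro _ ⟨a, ha, rfl⟩
          change g * a * g⁻¹ * _ = _ * (g * a * g⁻¹)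
          rw [conj_mul, conj_mul, mem_centralizer_singleton_iff.1 ha.2])
        rw [card_cj] at this
        have := s.Sev6_card
        omega
      refine ⟨g, ((FG.ZL.mem_ext (s.S2_norm.1 hy.1) h2).1 g1).resolve_right fun k => y1 ?_⟩
      exact (mul_mem_cancel_right e1).1 (n1 (s01 k))
    · have yy : y * y ∈ s.N1 := (y2 y hy).resolve_left fun k => y1 (n1 k)
      have half : ∀ a ∈ s.N1, a ∈ s.S0 ∨ y * y * a ∈ s.S0 := fun a ha => by
        by_cases k : a ∈ s.S0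
        · exact Or.inl k
        · exact Or.inr (Fact.mul_mem_half s01 (by rw [s.cardS0.1, s.cardS0.2]) yy ha h2 k)
      obtain ⟨g, -, g1, -⟩ := tr le_rfl s0 hy fun a ha => by
        rcases y2 a ha with k | k <;> rcases half _ k with k | k
        · exact ⟨0, by simpa using k⟩
        · exact ⟨2, by rw [pow_two]; exact k⟩
        · exact ⟨1, by rw [pow_one]; exact k⟩
        · exact ⟨3, by simpa only [pow_succ, pow_zero, one_mul, mul_assoc] using k⟩
      exact ⟨g, g1⟩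
  obtain ⟨g, g1⟩ := key
  exact (isConj_iff.2 ⟨g, rfl⟩).trans (s.S0_inv s.t_nX (s01.trans s.N1_X) g1 (by rw [conj_mul, r3]; group)
    fun e => r2 (conj_eq_one_iff.1 e ▸ one_mem _))

include s in
theorem false : False := by
  obtain ⟨g, hg⟩ := isConj_iff.1 s.ρ_conj
  have hS : Syl 2 s.S2 (centralizer {s.z}) :=
    s.syl_S2.mono (fun y hy => mem_centralizer_singleton_iff.2 (s.S2_z hy)) le_top
  obtain ⟨k, hk, h1⟩ := hS.conj_le (pg_cj (s.pgS2.to_inf_left.to_inf_left :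
      IsPGroup 2 ↥(s.S2 ⊓ s.X ⊓ centralizer {s.ρ})) g) (cj_le_iff.2 fun a ha => mem_centralizer_singleton_iff.2 (by
    rw [← hg, conj_mul, conj_mul, mem_centralizer_singleton_iff.1 ha.2]))
  rw [cj_cj] at h1
  have h2 : cj(k * g, s.S2 ⊓ s.X ⊓ centralizer {s.ρ}) ≤ s.S2 ⊓ s.X :=
    le_inf h1 (cj_le_iff.2 fun a ha => s.nX.conj_mem _ ha.1.2 _)
  have c1 := GT.PG.card_sup_mul_card_inf (h1.trans s.S2_norm.2.1)
  have c2 := card_le_of_le (sup_le h2 s.Sev6_N1)
  have c3 := s.Sev6_card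
  rw [card_cj, s.cardS0.2] at c1
  rw [s.card_SX] at c2
  have c4 : 64 ≤ Nat.card ↥(cj(k * g, s.S2 ⊓ s.X ⊓ centralizer {s.ρ}) ⊓ s.N1) := by
    by_contra c4
    nlinarith
  have h3 := commutator_mono inf_le_left inf_le_left (s.z_comm inf_le_right c4)
  rw [← cj_comm, mem_cj] at h3
  have e : (k * g)⁻¹ * s.z * (k * g) = s.ρ := by
    have : k⁻¹ * s.z * k = s.z := by
      rw [mul_assoc, ← mem_centralizer_singleton_iff.1 hk, inv_mul_cancel_left]
    calc _ = g⁻¹ * (k⁻¹ * s.z * k) * g := by group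
      _ = _ := by rw [this, ← hg]; group
  rw [e] at h3
  exact s.nmem.2.2.2.1 (s.SX_comm (commutator_mono inf_le_left inf_le_left h3))

end Sev

end Cfsg.Agent.S38
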