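import Mathlib
import Cfsg.Agent.S38.Kit3
import Cfsg.Agent.S38.D6

/-! Orbit of length six, case α. -/

set_option autoImplicit false
set_option linter.unusedSectionVars false
set_option maxRecDepth 100000
set_option synthInstance.maxSize 100000
set_option synthInstance.maxHeartbeats 1000000

namespace Cfsg.Agent.S38

open Cfsg.Agent.Rec Cfsg.Agent.Spor Cfsg.Agent.Loc.Mss Cfsg.Agent.SF6 Subgroup
open scoped commutatorElement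

variable {G : Type*} [Group G] [Finite G]

theorem SixA_cj {g e x y x' y' : G} (h : e * x * e⁻¹ = y) (h1 : g * x * g⁻¹ = x') (h2 : g * y * g⁻¹ = y') :
    g * e * g⁻¹ * x' * (g * e * g⁻¹)⁻¹ = y' := by
  rw [← h1, ← h2, ← h]; group

theorem SixA_mul {e x y x' y' : G} (h : e * x * e⁻¹ = x') (h1 : e * y * e⁻¹ = y') :
    e * (x * y) * e⁻¹ = x' * y' := by
  rw [← h, ← h1]; group

namespace Cf

variable (s : Cf G)

theorem six_notr (ha : s.u = 1) (h : s.H6) {e : G} (he : e ∈ 𝐍[s.B]) (ht : e * s.t * e⁻¹ = s.t * s.z)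
    (h1 : e * (s.t * s.a1) = s.t * s.a1 * e) (h2 : e * (s.t * s.a2) = s.t * s.a2 * e)
    (h3 : e * (s.t * s.a3) = s.t * s.a3 * e) (h4 : e * (s.t * s.a4) = s.t * s.a4 * e) : False := by
  have _h := h
  obtain ⟨⟨f0, f1, f2, f3, f4, f5⟩, ⟨ez, tz, r1, r2, r3, r4, r5⟩, fN, no⟩ :
      (s.f * s.t * s.f⁻¹ = s.t ∧ s.f * (s.t * s.a1) * s.f⁻¹ = s.t * s.a2 ∧
        s.f * (s.t * s.a2) * s.f⁻¹ = s.t * s.a3 ∧ s.f * (s.t * s.a3) * s.f⁻¹ = s.t * s.a4 ∧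
        s.f * (s.t * s.a4) * s.f⁻¹ = s.t * s.z ∧ s.f * (s.t * s.z) * s.f⁻¹ = s.t * s.a1) ∧
      (s.t * s.a1 * (s.t * s.a2) * (s.t * s.a3 * (s.t * s.a4)) = s.z ∧ s.t * s.z * s.z = s.t ∧
        s.t * (s.t * s.a1) = s.a1 ∧ s.t * (s.t * s.a2) = s.a2 ∧ s.t * (s.t * s.a3) = s.a3 ∧
        s.t * (s.t * s.a4) = s.a4 ∧ s.t * (s.t * s.z) = s.z) ∧ s.f ∈ s.NA ∧
      ∀ l ∈ s.NA, l * s.a2 * l⁻¹ = s.a2 → l * s.a3 * l⁻¹ = s.a3 → l * s.a4 * l⁻¹ = s.a4 →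
        l * s.a1 * l⁻¹ ≠ s.z := s.hL.decide s.rep (by decide +kernel)
  have k1 := mul_inv_eq_iff_eq_mul.2 h1
  have k2 := mul_inv_eq_iff_eq_mul.2 h2
  have k3 := mul_inv_eq_iff_eq_mul.2 h3
  have k4 := mul_inv_eq_iff_eq_mul.2 h4
  have kz := SixA_mul (SixA_mul k1 k2) (SixA_mul k3 k4)
  rw [ez] at kz
  have k5 := SixA_mul ht kz
  rw [tz] at k5
  have m0 := SixA_cj ht f0 f5
  have m1 := SixA_cj k5 f5 f0
  have m2 := SixA_cj k1 f1 f1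
  have m3 := SixA_cj k2 f2 f2
  have m4 := SixA_cj k3 f3 f3
  have m5 := SixA_cj k4 f4 f4
  have mN : s.f * e * s.f⁻¹ ∈ 𝐍[s.B] :=
    mul_mem (mul_mem (s.NA_norm.2 fN) he) (inv_mem (s.NA_norm.2 fN))
  generalize s.f * e * s.f⁻¹ = e1 at m0 m1 m2 m3 m4 m5 mN
  have n0 := SixA_cj k1 m1 m1
  have n1 := SixA_cj ht m0 m5
  have n2 := SixA_cj k2 m2 m2
  have n3 := SixA_cj k3 m3 m3
  have n4 := SixA_cj k4 m4 m4
  have nN : e1 * e * e1⁻¹ ∈ 𝐍[s.B] := mul_mem (mul_mem mN he) (inv_mem mN)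
  generalize e1 * e * e1⁻¹ = x at n0 n1 n2 n3 n4 nN
  have p1 := SixA_mul n0 n1
  have p2 := SixA_mul n0 n2
  have p3 := SixA_mul n0 n3
  have p4 := SixA_mul n0 n4
  rw [r1, r5] at p1
  rw [r2] at p2
  rw [r3] at p3
  rw [r4] at p4
  obtain ⟨l, hl, o, ho, hx⟩ := s.normB_t nN (mul_inv_eq_iff_eq_mul.1 n0)
  have act : ∀ y ∈ s.L, x * y * x⁻¹ = l * y * l⁻¹ := by
    intro y hy
    rcases hx with hx | hx | hx
    · have := s.Kit1_act (e := 1) (w := 1) (.inl rfl) (.inl rfl) (s.NA_le hl) ho hy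
      simpa only [one_mul, ← hx] using this
    · have := s.Kit1_act (e := s.t) (w := 1) (.inr rfl) (.inl rfl) (s.NA_le hl) ho hy
      simpa only [one_mul, ← hx] using this
    · exact ((s.u_nL hx.1).1 (ha ▸ one_mem _)).elim
  obtain ⟨-, a1, a2, a3, a4, -⟩ := s.mems
  exact no l hl (act _ (s.A_le a2) ▸ p2) (act _ (s.A_le a3) ▸ p3) (act _ (s.A_le a4) ▸ p4)
    (act _ (s.A_le a1) ▸ p1)

theorem six_now (ha : s.u = 1) (h : s.H6) {w : G} (hq : ∀ x ∈ s.Q, w * x = x * w) : w * s.t * w⁻¹ ≠ s.t * s.z := by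
  intro ht
  have hN := s.normB_of_Q (fun a ha => hq a (s.les.2.2.2.2.2.1 ha)) ht
  obtain ⟨⟨q1, q2, q3⟩, ⟨o1, o2, o3⟩, ⟨e2, e3, e4⟩, key⟩ :
      (s.z1 ∈ s.Q ∧ s.b ∈ s.Q ∧ s.z2 ∈ s.Q) ∧
      (s.t * s.a1 ∈ s.Om ∧ s.t * s.a2 ∈ s.Om ∧ s.t * s.a3 ∈ s.Om) ∧
      (s.t * s.a1 * s.z1 = s.t * s.a2 ∧ s.t * s.a1 * s.b = s.t * s.a3 ∧ s.t * s.a3 * s.z2 = s.t * s.a4) ∧
      ∀ d ∈ s.Om, d * s.z1 ∈ s.Om → d * s.b ∈ s.Om → d = s.t * s.a1 :=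
    s.hL.decide s.rep (by decide +kernel)
  have c1 := mul_inv_eq_iff_eq_mul.2 (hq _ q1)
  have c2 := mul_inv_eq_iff_eq_mul.2 (hq _ q2)
  have c3 := mul_inv_eq_iff_eq_mul.2 (hq _ q3)
  have d1 := H6.perm s h hN o1
  have d2 := H6.perm s h hN o2
  have d3 := H6.perm s h hN o3
  rw [← e2, SixA_mul rfl c1] at d2
  rw [← e3, SixA_mul rfl c2] at d3
  have k1 := key _ d1 d2 d3
  have k2 := SixA_mul k1 c1
  have k3 := SixA_mul k1 c2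
  rw [e2] at k2
  rw [e3] at k3
  have k4 := SixA_mul k3 c3
  rw [e4] at k4
  exact s.six_notr ha h hN ht (mul_inv_eq_iff_eq_mul.1 k1) (mul_inv_eq_iff_eq_mul.1 k2)
    (mul_inv_eq_iff_eq_mul.1 k3) (mul_inv_eq_iff_eq_mul.1 k4)

theorem six_wc (ha : s.u = 1) (h : s.H6) {P E : Subgroup G} (hP : IsPGroup 2 P) (hT : s.T ≤ P) (hB : P ≤ 𝐍[s.B])
    (hE : E ≤ P) (h2 : ∀ x ∈ E, x * x = 1) (hc : 32 ≤ Nat.card E) : E = s.B := by
  have hTU := s.T_al ha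
  have inT : ∀ x ∈ E, x * s.t * x⁻¹ = s.t → x ∈ s.TU := fun x hx e =>
    hTU ▸ s.pg_cent hP hT (hE hx) (mul_inv_eq_iff_eq_mul.1 e)
  by_cases hle : E ≤ s.TU
  · exact s.elemTU hle h2 hc
  exfalso
  obtain ⟨e, he, he'⟩ := SetLike.not_le_iff_exists.1 hle
  have mv : ∀ x ∈ E, x ∉ s.TU → x * s.t * x⁻¹ = s.t * s.z := fun x hx hx' =>
    (H6.two s h hP hT hB (hE hx)).2.resolve_left fun k => hx' (inT x hx k)
  obtain ⟨tz, tT, ⟨b1, b2, b3, b4⟩, ⟨o1, o2, o3, o4⟩, n1, n2, n3, n4⟩ : s.t * s.z * s.z = s.t ∧ s.t ∈ s.TU ∧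
      (s.t * s.a1 ∈ s.B ∧ s.t * s.a2 ∈ s.B ∧ s.t * s.a3 ∈ s.B ∧ s.t * s.a4 ∈ s.B) ∧
      (s.t * s.a1 ∈ s.Om ∧ s.t * s.a2 ∈ s.Om ∧ s.t * s.a3 ∈ s.Om ∧ s.t * s.a4 ∈ s.Om) ∧
      ¬ s.t * s.z * (s.t * (s.t * s.a1)) ∈ s.Om ∧ ¬ s.t * s.z * (s.t * (s.t * s.a2)) ∈ s.Om ∧
      ¬ s.t * s.z * (s.t * (s.t * s.a3)) ∈ s.Om ∧ ¬ s.t * s.z * (s.t * (s.t * s.a4)) ∈ s.Om :=
    s.hL.decide s.rep (by decide +kernel)
  have c1 := FB.two_le (H := E) (K := s.TU) fun x hx y hy a b => inT _ (mul_mem hx hy) (by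
    have k := SixA_mul (mv x hx a) (mul_inv_eq_iff_eq_mul.2 (H6.two s h hP hT hB (hE hx)).1)
    rw [tz, ← mv y hy b] at k
    exact Eq.trans (by group) k)
  have ct : ∀ x ∈ s.TU, x * s.t = s.t * x := fun x hx => (s.T_comm (s.TU_le hx)).1
  have tE : s.t ∉ E ⊓ s.TU := fun k =>
    he' (inT e he (mul_inv_eq_iff_eq_mul.2 (comm_of_sq2 h2 he k.1)))
  have hn : s.t ∈ 𝐍[(E ⊓ s.TU : Subgroup G)] := cent_le_norm _ (mem_cent.2 fun a ha => ct a ha.2)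
  have ht2 : s.t * s.t ∈ E ⊓ s.TU := by rw [s.tt]; exact one_mem _
  have hB' : (E ⊓ s.TU) ⊔ zpowers s.t = s.B := by
    refine s.elemTU (sup_le inf_le_right (zpowers_le.2 tT)) (fun x hx => ?_)
      (by rw [FG.ZL.card_ext hn ht2 tE]; omega)
    rcases (FG.ZL.mem_ext hn ht2).1 hx with k | k
    · exact h2 x k.1
    · have k1 := h2 _ k.1
      have k2 := ct _ k.2
      have k3 : x = s.t * (s.t * x) := (s.Kt3_tt x).symm
      generalize s.t * x = y at k1 k2 k3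
      rw [k3]
      calc s.t * y * (s.t * y) = s.t * (y * s.t) * y := by group
        _ = s.t * s.t * (y * y) := by rw [k2]; group
        _ = 1 := by rw [s.tt, k1, one_mul]
  have fx : ∀ d, d ∈ s.B → d ∈ s.Om → ¬ s.t * s.z * (s.t * d) ∈ s.Om → e * d = d * e := by
    intro d hd ho hno
    rw [← hB'] at hd
    rcases (FG.ZL.mem_ext hn ht2).1 hd with k | k
    · exact comm_of_sq2 h2 he k.1
    · have k1 := SixA_mul (mv e he he') (mul_inv_eq_iff_eq_mul.2 (comm_of_sq2 h2 he k.1))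
      rw [s.Kt3_tt] at k1
      exact (hno (k1 ▸ H6.perm s h (hB (hE he)) ho)).elim
  exact s.six_notr ha h (hB (hE he)) (mv e he he') (fx _ b1 o1 n1) (fx _ b2 o2 n2) (fx _ b3 o3 n3)
    (fx _ b4 o4 n4)

end Cf

end Cfsg.Agent.S38
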