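import Mathlib
import Cfsg.Agent.S38.SixA
import Cfsg.Agent.Inv.SylowTools

/-! Orbit of length six, case α: transfer. -/

set_option autoImplicit false
set_option linter.unusedSectionVars false
set_option maxRecDepth 100000
set_option synthInstance.maxSize 100000
set_option synthInstance.maxHeartbeats 1000000

namespace Cfsg.Agent.S38

open Cfsg.Agent.Rec Cfsg.Agent.Spor Cfsg.Agent.Loc.Mss Cfsg.Agent.SF6 Subgroup
open scoped commutatorElement

variable {G : Type*} [Group G] [Finite G]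

namespace Cf

variable (s : Cf G)

theorem SixB_wc (ha : s.u = 1) (h : s.H6) {P : Subgroup G} (hP : IsPGroup 2 P) (hT : s.T ≤ P) (hB : P ≤ 𝐍[s.B])
    {g : G} (hg : cj(g, s.B) ≤ P) : g ∈ 𝐍[s.B] :=
  cj_eq_iff.1 (s.six_wc ha h hP hT hB hg (fun x hx => by
    have := s.B_sq (mem_cj.1 hx)
    rwa [show g⁻¹ * x * g * (g⁻¹ * x * g) = g⁻¹ * (x * x) * g⁻¹⁻¹ by group, conj_eq_one_iff] at this)
    (by rw [card_cj, s.gB.2]))

theorem SixB_U : s.U = s.A ⊔ s.Q := le_antisymm (clos_le.2 (by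
  simp only [List.forall_mem_cons, List.not_mem_nil, false_imp_iff, implies_true, and_true]
  exact ⟨mem_sup_left s.mems.2.1, mem_sup_right s.mems.2.2.2.2.2.2.2.2.2.1,
    mem_sup_right s.mems.2.2.2.2.2.2.2.2.2.2.1⟩)) (sup_le s.les.1 s.les.2.1)

theorem six_al (ha : s.u = 1) (h : s.H6) : s.t ∉ s.X := fun ht => by
  have := Fact.mk Nat.prime_two
  obtain ⟨S, hT, hS⟩ := Syl.exists_ge s.pgT le_top
  have BT : s.B ≤ s.T := s.les.2.2.2.2.2.2.2.2.1.trans s.TU_le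
  have UT : s.U ≤ s.T := s.les.2.2.2.2.2.2.2.2.2.1.trans s.TU_le
  have tT : s.t ∈ s.T := BT s.mems.1
  have zU : s.z ∈ s.U := s.les.1 (s.les.2.2.2.2.1 s.Kit1_mem.1)
  have hB : S ≤ 𝐍[s.B] := by
    by_contra k
    obtain ⟨y, hy, h1, h2⟩ := Inv.ST.exists_mem_normalizer_of_lt (D := S ⊓ 𝐍[s.B]) hS.pg inf_le_left
      fun e => k (e.trans inf_le_right)
    have h3 : s.T ≤ S ⊓ 𝐍[s.B] := le_inf hT s.T_norm.1
    exact h1 ⟨hy, s.SixB_wc ha h (hS.pg.to_le inf_le_left) h3 inf_le_right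
      (cj_le_iff.2 fun b hb => conj_mem_of_norm h2 (h3 (BT hb)))⟩
  have two := fun x (hx : x ∈ S) => H6.two s h hS.pg hT hB hx
  have nU : S ≤ 𝐍[s.U] := s.SixB_U ▸ norm_sup (hB.trans s.normB_A) fun x hx => s.normQ (two x hx).1 (two x hx).2
  have k0 : ∀ c ∈ s.U, ∀ b ∈ S, b * c * b⁻¹ * c⁻¹ ∈ s.U := fun c hc b hb =>
    mul_mem (conj_mem_of_norm (nU hb) hc) (inv_mem hc)
  have k1 : ∀ c ∈ s.T, ∀ b ∈ S, b * c * b⁻¹ * c⁻¹ ∈ s.U := fun c hc b hb => by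
    rcases s.memTU.1 (s.T_al ha ▸ hc) with e | e
    · exact k0 c e b hb
    · have e1 : b * c * b⁻¹ * c⁻¹ = b * s.t * b⁻¹ * (b * (s.t * c) * b⁻¹ * (s.t * c)⁻¹) * s.t := by
        rw [← mul_assoc, conj_mul, s.Kt3_tt]; group
      rw [e1]
      nth_rewrite 4 [← inv_eq_of_mul_eq_one_right s.tt]
      rcases (two b hb).2 with e2 | e2 <;> rw [e2]
      · exact conj_mem_of_norm (nU (hT tT)) (k0 _ e b hb)
      · rw [mul_assoc s.t]
        exact conj_mem_of_norm (nU (hT tT)) (mul_mem zU (k0 _ e b hb))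
  refine s.t_nL (s.U_le (ttN (C := s.T) hS (fun a ha' b hb => ?_) (hT tT) s.tt (s.X_le ht) s.pgT
    (fun x hx => (s.T_comm hx).1) fun g _ hg => ?_))
  · rcases (two b hb).2 with e | e
    · exact k1 b (s.pg_cent hS.pg hT hb (mul_inv_eq_iff_eq_mul.1 e)) a ha'
    rcases (two a ha').2 with e' | e'
    · rw [show a * b * a⁻¹ * b⁻¹ = (b * a * b⁻¹ * a⁻¹)⁻¹ by group]
      exact inv_mem (k1 a (s.pg_cent hS.pg hT ha' (mul_inv_eq_iff_eq_mul.1 e')) b hb)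
    · have m : a⁻¹ * b ∈ s.T := s.pg_cent hS.pg hT (mul_mem (inv_mem ha') hb) (by
        calc _ = a⁻¹ * (b * s.t * b⁻¹) * b := by group
          _ = _ := by rw [e, ← e']; group)
      rw [show a * b * a⁻¹ * b⁻¹ = a * (a * (a⁻¹ * b) * a⁻¹ * (a⁻¹ * b)⁻¹) * a⁻¹ by group]
      exact conj_mem_of_norm (nU ha') (k1 _ m a ha')
  · have := inv_mem (s.orb_tA (s.SixB_wc ha h hS.pg hT hB ((cj_mono g BT).trans hg)))
    rw [mul_inv_rev, conj_inv, inv_eq_of_mul_eq_one_right s.tt] at this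
    exact s.les.1 this

end Cf

end Cfsg.Agent.S38
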